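import Groth.Prelude.Def_EGA4b
import Mathlib.RingTheory.IntegralClosure.IntegrallyClosed
import Mathlib.RingTheory.Localization.Integral
import Mathlib.RingTheory.Localization.AtPrime.Basic
import Mathlib.RingTheory.Ideal.MinimalPrime.Localization
import Mathlib.RingTheory.Nilpotent.Lemmas
import Mathlib.RingTheory.LocalProperties.Reduced

/-! Normal rings (all localizations at primes are integrally closed domains) versus rings
integrally closed in their total ring of fractions (helper13). -/

set_option autoImplicit false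

namespace Groth.Agent.Lib.Helper13

open Polynomial

universe u

/-- A normal ring `B` is integrally closed in any localization `K` of `B` at a submonoid of
non-zero-divisors. -/
theorem mem_range_of_isIntegral_of_isNormalRing {B : Type u} {K : Type*} [CommRing B] [CommRing K]
    [Algebra B K] (T : Submonoid B) (hT : T ≤ nonZeroDivisors B) [IsLocalization T K]
    (hB : EGA4.IsNormalRing B) (x : K) (hx : IsIntegral B x) :
    x ∈ (algebraMap B K).range := by
  classical
  -- the ideal of denominators
  let I : Ideal B :=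
    { carrier := {b | algebraMap B K b * x ∈ (algebraMap B K).range}
      add_mem' := by
        intro a b ha hb
        simp only [Set.mem_setOf_eq, map_add, add_mul] at *
        exact add_mem ha hb
      zero_mem' := by simp only [Set.mem_setOf_eq, map_zero, zero_mul]; exact zero_mem _
      smul_mem' := by
        intro c a ha
        simp only [Set.mem_setOf_eq, smul_eq_mul, map_mul, mul_assoc] at *
        exact mul_mem (RingHom.mem_range_self _ _) ha }
  by_contra hx'
  have hI : I ≠ ⊤ := by
    intro h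
    have : (1 : B) ∈ I := h ▸ Submodule.mem_top
    apply hx'
    simpa [I] using this
  obtain ⟨q, hq, hIq⟩ := Ideal.exists_le_maximal I hI
  have : q.IsPrime := hq.isPrime
  obtain ⟨hdom, hic⟩ := hB q
  let Bq := Localization.AtPrime q
  let L := FractionRing Bq
  let φ : B →+* L := (algebraMap Bq L).comp (algebraMap B Bq)
  have hφT : ∀ t : T, IsUnit (φ t) := by
    intro t
    have h1 : algebraMap B Bq t ∈ nonZeroDivisors Bq :=
      IsLocalization.map_nonZeroDivisors_le q.primeCompl Bq ⟨t, hT t.2, rfl⟩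
    have h2 : algebraMap B Bq t ≠ 0 := nonZeroDivisors.ne_zero h1
    have h3 : φ t ≠ 0 := by
      simp only [φ, RingHom.comp_apply]
      rw [Ne, IsFractionRing.to_map_eq_zero_iff]
      exact h2
    exact h3.isUnit
  let ψ : K →+* L := IsLocalization.lift (M := T) (g := φ) hφT
  have hψ : ∀ b : B, ψ (algebraMap B K b) = φ b := fun b => IsLocalization.lift_eq hφT b
  -- ψ x is integral over Bq
  have hint : IsIntegral Bq (ψ x) := by
    obtain ⟨p, hp, hpx⟩ := hx
    refine ⟨p.map (algebraMap B Bq), hp.map _, ?_⟩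
    rw [Polynomial.eval₂_map]
    have := congrArg ψ hpx
    rw [Polynomial.hom_eval₂, map_zero] at this
    have hcomp : ψ.comp (algebraMap B K) = (algebraMap Bq L).comp (algebraMap B Bq) := by
      ext b
      exact hψ b
    rw [hcomp] at this
    exact this
  obtain ⟨y, hy⟩ := (isIntegrallyClosed_iff L).mp hic hint
  obtain ⟨β, s, rfl⟩ := IsLocalization.exists_mk'_eq q.primeCompl y
  obtain ⟨b, t, rfl⟩ := IsLocalization.exists_mk'_eq T x
  have hψx : ψ (IsLocalization.mk' K b t) * φ t = φ b := by
    rw [← hψ, ← map_mul, IsLocalization.mk'_spec, hψ]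
  have hy' : algebraMap Bq L (IsLocalization.mk' Bq β s) * φ s = φ β := by
    simp only [φ, RingHom.comp_apply]
    rw [← map_mul, IsLocalization.mk'_spec]
  have hkey : φ (b * s) = φ (β * t) := by
    rw [map_mul, map_mul, ← hψx, ← hy', hy]
    ring
  have hkey' : algebraMap B Bq (b * s) = algebraMap B Bq (β * t) :=
    IsFractionRing.injective Bq L hkey
  obtain ⟨s', hs'⟩ := (IsLocalization.eq_iff_exists q.primeCompl Bq).mp hkey'
  have hmem : (s' : B) * s ∈ I := by
    change algebraMap B K (s' * s) * IsLocalization.mk' K b t ∈ (algebraMap B K).range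
    refine ⟨s' * β, ?_⟩
    have hu : IsUnit (algebraMap B K t) := IsLocalization.map_units K t
    apply hu.mul_right_cancel
    rw [mul_assoc, IsLocalization.mk'_spec, ← map_mul, ← map_mul]
    congr 1
    calc (s' : B) * β * t = s' * (β * t) := by ring
      _ = s' * (b * s) := hs'.symm
      _ = s' * s * b := by ring
  have : (s' : B) * s ∈ q := hIq hmem
  rcases hq.isPrime.mem_or_mem this with h | h
  · exact s'.2 h
  · exact s.2 h


/-- In a reduced ring, an element killed by... lying in all minimal primes is zero. -/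
theorem eq_zero_of_forall_mem_minimalPrimes {A : Type*} [CommRing A] [IsReduced A] {x : A}
    (hx : ∀ p ∈ minimalPrimes A, x ∈ p) : x = 0 := by
  have h1 : x ∈ sInf (minimalPrimes A) := by
    rw [Ideal.mem_sInf]
    intro p hp
    exact hx p hp
  rw [minimalPrimes, Ideal.sInf_minimalPrimes] at h1
  have h2 : IsNilpotent x := by
    rw [← mem_nilradical, nilradical]
    exact h1
  exact h2.eq_zero

/-- In a reduced ring, an element outside all minimal primes is a non-zero-divisor. -/
theorem mem_nonZeroDivisors_of_forall_notMem_minimalPrimes {A : Type*} [CommRing A] [IsReduced A]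
    {x : A} (hx : ∀ p ∈ minimalPrimes A, x ∉ p) : x ∈ nonZeroDivisors A := by
  rw [mem_nonZeroDivisors_iff_right]
  intro y hy
  apply eq_zero_of_forall_mem_minimalPrimes
  intro p hp
  have hp' : p.IsPrime := hp.1.1
  have : y * x ∈ p := hy ▸ p.zero_mem
  rcases hp'.mem_or_mem this with h | h
  · exact h
  · exact absurd h (hx p hp)

/-- Key idempotent: in a reduced ring with finitely many minimal primes which is integrally closed
in its total ring of fractions, for each minimal prime `p₁` there is `e` with `1 - e ∈ p₁` and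
`e` in all other minimal primes. -/
theorem exists_idempotent_of_isIntegrallyClosed {A : Type*} [CommRing A] [IsReduced A]
    (hfin : (minimalPrimes A).Finite) (K : Type*) [CommRing K] [Algebra A K] [IsFractionRing A K]
    (hic : ∀ x : K, IsIntegral A x → x ∈ (algebraMap A K).range)
    (p₁ : Ideal A) (hp₁ : p₁ ∈ minimalPrimes A) :
    ∃ e : A, 1 - e ∈ p₁ ∧ ∀ q ∈ minimalPrimes A, q ≠ p₁ → e ∈ q := by
  classical
  have hp₁' : p₁.IsPrime := hp₁.1.1
  let s : Finset (Ideal A) := hfin.toFinset.erase p₁
  have hs : ∀ q, q ∈ s ↔ q ∈ minimalPrimes A ∧ q ≠ p₁ := by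
    intro q
    simp only [s, Finset.mem_erase, Set.Finite.mem_toFinset]
    tauto
  -- a in all other minimal primes but not in p₁
  have h1 : ¬ (s.inf id ≤ p₁) := by
    rw [Ideal.IsPrime.inf_le' hp₁']
    rintro ⟨q, hq, hqp⟩
    obtain ⟨hq1, hq2⟩ := (hs q).mp hq
    apply hq2
    exact le_antisymm hqp (hp₁.2 hq1.1 hqp)
  obtain ⟨a, ha, hap⟩ := SetLike.not_le_iff_exists.mp h1
  have ha' : ∀ q ∈ minimalPrimes A, q ≠ p₁ → a ∈ q := by
    intro q hq hne
    have : s.inf id ≤ q := Finset.inf_le (f := id) ((hs q).mpr ⟨hq, hne⟩)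
    exact this ha
  -- b in p₁ but in no other minimal prime
  have h2 : ¬ ((p₁ : Set A) ⊆ ⋃ q ∈ (s : Set (Ideal A)), (id q : Ideal A)) := by
    rw [Ideal.subset_union_prime (f := id) p₁ p₁]
    · rintro ⟨q, hq, hpq⟩
      obtain ⟨hq1, hq2⟩ := (hs q).mp hq
      apply hq2
      exact le_antisymm (hq1.2 hp₁.1 hpq) hpq
    · intro q hq _ _
      exact ((hs q).mp hq).1.1.1
  obtain ⟨b, hb, hbq⟩ := Set.not_subset.mp h2
  have hb' : ∀ q ∈ minimalPrimes A, q ≠ p₁ → b ∉ q := by
    intro q hq hne hbq'
    apply hbq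
    simp only [Set.mem_iUnion]
    exact ⟨q, (hs q).mpr ⟨hq, hne⟩, hbq'⟩
  have hab : a * b = 0 := by
    apply eq_zero_of_forall_mem_minimalPrimes
    intro q hq
    by_cases hq1 : q = p₁
    · subst hq1
      exact Ideal.mul_mem_left _ _ hb
    · exact Ideal.mul_mem_right _ _ (ha' q hq hq1)
  have hnzd : a + b ∈ nonZeroDivisors A := by
    apply mem_nonZeroDivisors_of_forall_notMem_minimalPrimes
    intro q hq hmem
    by_cases hq1 : q = p₁
    · subst hq1
      exact hap ((Ideal.add_mem_iff_left _ hb).mp hmem)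
    · exact hb' q hq hq1 ((Ideal.add_mem_iff_right _ (ha' q hq hq1)).mp hmem)
  -- the idempotent a/(a+b) of K
  let k : K := IsLocalization.mk' K a (⟨a + b, hnzd⟩ : nonZeroDivisors A)
  have hu : IsUnit (algebraMap A K (a + b)) :=
    IsLocalization.map_units K (⟨a + b, hnzd⟩ : nonZeroDivisors A)
  have hk : k * algebraMap A K (a + b) = algebraMap A K a :=
    IsLocalization.mk'_spec K a (⟨a + b, hnzd⟩ : nonZeroDivisors A)
  have hkk : k * k = k := by
    apply (hu.mul hu).mul_right_cancel
    have e1 : k * k * (algebraMap A K (a + b) * algebraMap A K (a + b))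
        = algebraMap A K (a * a) := by
      rw [map_mul, ← hk]; ring
    have e2 : k * (algebraMap A K (a + b) * algebraMap A K (a + b))
        = algebraMap A K (a * (a + b)) := by
      rw [map_mul (algebraMap A K) a (a + b), ← hk]; ring
    rw [e1, e2]
    congr 1
    rw [mul_add, hab, add_zero]
  have hkint : IsIntegral A k := by
    refine ⟨X ^ 2 - X, monic_X_pow_sub (lt_of_le_of_lt degree_X_le (by norm_num)), ?_⟩
    simp [pow_two, hkk]
  obtain ⟨e, he⟩ := hic k hkint
  have hinj : Function.Injective (algebraMap A K) := IsFractionRing.injective A K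
  have hee : e * (a + b) = a := by
    apply hinj
    rw [map_mul, he, hk]
  refine ⟨e, ?_, ?_⟩
  · -- (1 - e) * a = e * b ∈ p₁
    have h3 : (1 - e) * a = e * b := by linear_combination -hee
    have h4 : (1 - e) * a ∈ p₁ := h3 ▸ Ideal.mul_mem_left _ _ hb
    rcases hp₁'.mem_or_mem h4 with h | h
    · exact h
    · exact absurd h hap
  · intro q hq hne
    have hq' : q.IsPrime := hq.1.1
    have h3 : e * b = (1 - e) * a := by linear_combination hee
    have h4 : e * b ∈ q := h3 ▸ Ideal.mul_mem_left _ _ (ha' q hq hne)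
    rcases hq'.mem_or_mem h4 with h | h
    · exact h
    · exact absurd h (hb' q hq hne)


/-- A reduced ring with finitely many minimal primes which is integrally closed in its total ring
of fractions is a normal ring (Stacks 030C, one direction). -/
theorem isNormalRing_of_isIntegrallyClosedIn {A : Type u} [CommRing A] [IsReduced A]
    (hfin : (minimalPrimes A).Finite) (K : Type*) [CommRing K] [Algebra A K] [IsFractionRing A K]
    (hic : ∀ x : K, IsIntegral A x → x ∈ (algebraMap A K).range) : EGA4.IsNormalRing A := by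
  classical
  intro p hp
  obtain ⟨p₁, hp₁, hp₁p⟩ := Ideal.exists_minimalPrimes_le (bot_le : (⊥ : Ideal A) ≤ p)
  have hp₁m : p₁ ∈ minimalPrimes A := hp₁
  have hp₁' : p₁.IsPrime := hp₁.1.1
  obtain ⟨e, he1, he2⟩ := exists_idempotent_of_isIntegrallyClosed hfin K hic p₁ hp₁m
  have hep₁ : e ∉ p₁ := by
    intro h
    apply hp₁'.ne_top
    rw [Ideal.eq_top_iff_one]
    have : 1 - e + e ∈ p₁ := add_mem he1 h
    simpa using this
  have hep : e ∉ p := by
    intro h
    apply hp.ne_top
    rw [Ideal.eq_top_iff_one]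
    have : 1 - e + e ∈ p := add_mem (hp₁p he1) h
    simpa using this
  have hkill : ∀ x ∈ p₁, e * x = 0 := by
    intro x hx
    apply eq_zero_of_forall_mem_minimalPrimes
    intro q hq
    by_cases hq1 : q = p₁
    · subst hq1
      exact Ideal.mul_mem_left _ _ hx
    · exact Ideal.mul_mem_right _ _ (he2 q hq hq1)
  let Ap := Localization.AtPrime p
  have hzero : ∀ x : A, algebraMap A Ap x = 0 ↔ x ∈ p₁ := by
    intro x
    rw [IsLocalization.map_eq_zero_iff p.primeCompl Ap x]
    constructor
    · rintro ⟨m, hm⟩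
      have : (m : A) * x ∈ p₁ := hm ▸ p₁.zero_mem
      rcases hp₁'.mem_or_mem this with h | h
      · exact absurd (hp₁p h) m.2
      · exact h
    · intro hx
      exact ⟨⟨e, hep⟩, hkill x hx⟩
  have hzero' : ∀ (x : A) (s : p.primeCompl), IsLocalization.mk' Ap x s = 0 ↔ x ∈ p₁ := by
    intro x s
    rw [← hzero x, IsLocalization.mk'_eq_zero_iff, IsLocalization.map_eq_zero_iff p.primeCompl Ap x]
  have hdom : IsDomain Ap := by
    have h1 : NoZeroDivisors Ap := by
      refine ⟨fun {α β} hαβ => ?_⟩
      obtain ⟨x, s, rfl⟩ := IsLocalization.exists_mk'_eq p.primeCompl α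
      obtain ⟨y, s', rfl⟩ := IsLocalization.exists_mk'_eq p.primeCompl β
      rw [← IsLocalization.mk'_mul, hzero'] at hαβ
      rcases hp₁'.mem_or_mem hαβ with h | h
      · exact Or.inl ((hzero' x s).mpr h)
      · exact Or.inr ((hzero' y s').mpr h)
    exact NoZeroDivisors.to_isDomain Ap
  refine ⟨hdom, ?_⟩
  let L := FractionRing Ap
  rw [isIntegrallyClosed_iff L]
  intro z hz
  obtain ⟨m, hm⟩ := IsIntegral.exists_multiple_integral_of_isLocalization p.primeCompl z hz
  obtain ⟨α, β, hαβ⟩ := IsLocalization.exists_mk'_eq (nonZeroDivisors Ap) (m • z)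
  obtain ⟨x, s, hx⟩ := IsLocalization.exists_mk'_eq p.primeCompl α
  obtain ⟨y, s', hy⟩ := IsLocalization.exists_mk'_eq p.primeCompl (β : Ap)
  have hy1 : y ∉ p₁ := by
    intro h
    have : (β : Ap) = 0 := by rw [← hy]; exact (hzero' y s').mpr h
    exact nonZeroDivisors.ne_zero β.2 this
  let t' : A := e * y + (1 - e)
  have ht' : t' ∈ nonZeroDivisors A := by
    apply mem_nonZeroDivisors_of_forall_notMem_minimalPrimes
    intro q hq hmem
    have hq' : q.IsPrime := hq.1.1
    by_cases hq1 : q = p₁
    · subst hq1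
      have h1 : e * y ∈ q := (Ideal.add_mem_iff_left _ he1).mp hmem
      rcases hq'.mem_or_mem h1 with h | h
      · exact hep₁ h
      · exact hy1 h
    · have h1 : e * y ∈ q := Ideal.mul_mem_right _ _ (he2 q hq hq1)
      have h2 : 1 - e ∈ q := (Ideal.add_mem_iff_right _ h1).mp hmem
      apply hq'.ne_top
      rw [Ideal.eq_top_iff_one]
      have : 1 - e + e ∈ q := add_mem h2 (he2 q hq hq1)
      simpa using this
  let ι : A →+* L := algebraMap A L
  have hι : ∀ a : A, ι a = algebraMap Ap L (algebraMap A Ap a) := fun a =>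
    IsScalarTower.algebraMap_apply A Ap L a
  have hιzero : ∀ a : A, ι a = 0 ↔ a ∈ p₁ := by
    intro a
    rw [hι, IsFractionRing.to_map_eq_zero_iff, hzero]
  have hιunit : ∀ a : A, a ∉ p₁ → IsUnit (ι a) := by
    intro a ha
    exact (Ne.isUnit (mt (hιzero a).mp ha))
  have hιe : ι e = 1 := by
    have h1 : ι e * ι (1 - e) = 0 := by
      rw [← map_mul, hιzero]
      exact Ideal.mul_mem_left _ _ he1
    have h2 : ι (1 - e) = 0 := by
      rcases mul_eq_zero.mp h1 with h | h
      · exact absurd ((hιzero e).mp h) hep₁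
      · exact h
    rw [map_sub, map_one, sub_eq_zero] at h2
    exact h2.symm
  have hιt' : ι t' = ι y := by
    simp only [t', map_add, map_mul, map_sub, map_one, hιe]
    ring
  have hunits : ∀ t : nonZeroDivisors A, IsUnit (ι t) := by
    intro t
    apply hιunit
    intro h
    have h1 : e * (t : A) = 0 := hkill _ h
    have h2 : e = 0 := by
      have := (mem_nonZeroDivisors_iff_right.mp t.2) e h1
      exact this
    exact hep₁ (h2 ▸ p₁.zero_mem)
  let ψ : K →+* L := IsLocalization.lift (M := nonZeroDivisors A) (g := ι) hunits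
  have hψ : ∀ a : A, ψ (algebraMap A K a) = ι a := fun a => IsLocalization.lift_eq hunits a
  let k : K := IsLocalization.mk' K (x * s') (⟨t', ht'⟩ : nonZeroDivisors A)
  have hk : ψ k * ι t' = ι (x * s') := by
    rw [← hψ t', ← map_mul]
    change ψ (IsLocalization.mk' K (x * s') (⟨t', ht'⟩ : nonZeroDivisors A) *
      algebraMap A K ((⟨t', ht'⟩ : nonZeroDivisors A) : A)) = _
    rw [IsLocalization.mk'_spec, hψ]
  -- relation between ψ k and m • z
  have hα : algebraMap Ap L α * ι s = ι x := by
    rw [hι, hι, ← map_mul, ← hx, IsLocalization.mk'_spec]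
  have hβ : algebraMap Ap L β * ι s' = ι y := by
    rw [hι, hι, ← map_mul, ← hy, IsLocalization.mk'_spec]
  have hz1 : (m • z) * algebraMap Ap L β = algebraMap Ap L α := by
    rw [← hαβ, IsLocalization.mk'_spec]
  have hιy : ι y ≠ 0 := fun h => hy1 ((hιzero y).mp h)
  have hψk : ψ k = ι s * (m • z) := by
    apply mul_right_cancel₀ hιy
    rw [← hιt', hk, map_mul, ← hα, ← hz1, hιt', ← hβ]
    ring
  have hint : IsIntegral A (ψ k) := by
    rw [hψk]
    exact IsIntegral.mul isIntegral_algebraMap hm
  obtain ⟨P, hP, hPz⟩ := hint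
  have hw : ψ (P.eval₂ (algebraMap A K) k) = 0 := by
    rw [Polynomial.hom_eval₂]
    have hcomp : ψ.comp (algebraMap A K) = algebraMap A L := by
      ext a
      exact hψ a
    rw [hcomp]
    exact hPz
  have hew : algebraMap A K e * P.eval₂ (algebraMap A K) k = 0 := by
    obtain ⟨a, t, hat⟩ := IsLocalization.exists_mk'_eq (nonZeroDivisors A)
      (P.eval₂ (algebraMap A K) k)
    rw [← hat] at hw ⊢
    have h1 : ψ (IsLocalization.mk' K a t) * ι t = ι a := by
      rw [← hψ, ← map_mul, IsLocalization.mk'_spec, hψ]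
    rw [hw, zero_mul] at h1
    have h2 : a ∈ p₁ := (hιzero a).mp h1.symm
    rw [IsLocalization.mul_mk'_eq_mk'_of_mul, hkill a h2, IsLocalization.mk'_zero]
  have hint2 : IsIntegral A (algebraMap A K e * k) := by
    have h1 : (C e * P).eval₂ (algebraMap A K) k = 0 := by
      rw [Polynomial.eval₂_mul, Polynomial.eval₂_C, hew]
    have h2 := RingHom.isIntegralElem_leadingCoeff_mul (algebraMap A K) (C e * P) k h1
    rw [Polynomial.leadingCoeff_mul_monic hP, Polynomial.leadingCoeff_C] at h2
    exact h2
  obtain ⟨a₀, ha₀⟩ := hic _ hint2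
  have hfinal : ι a₀ = z * ι (s * m) := by
    rw [← hψ, ha₀, map_mul, hψ, hιe, one_mul, hψk, map_mul, Submonoid.smul_def, Algebra.smul_def]
    change ι s * (ι m * z) = _
    ring
  refine ⟨IsLocalization.mk' Ap a₀ (s * m), ?_⟩
  have hu : ι ((s * m : p.primeCompl) : A) ≠ 0 := by
    intro h
    exact (s * m).2 (hp₁p ((hιzero _).mp h))
  apply mul_right_cancel₀ hu
  rw [hι, ← map_mul, IsLocalization.mk'_spec, ← hι, hfinal]
  rfl


/-- Local version of `mem_range_of_isIntegral_of_isNormalRing`: if `B_q` is an integrally closed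
domain and `x ∈ K = T⁻¹B` (with `T` consisting of non-zero-divisors) is integral over `B`, then
`s x ∈ B` for some `s ∉ q`. -/
theorem exists_mul_mem_range_of_isIntegral {B : Type u} {K : Type*} [CommRing B] [CommRing K]
    [Algebra B K] (T : Submonoid B) (hT : T ≤ nonZeroDivisors B) [IsLocalization T K]
    (q : Ideal B) [q.IsPrime]
    (hq : IsDomain (Localization.AtPrime q) ∧ IsIntegrallyClosed (Localization.AtPrime q))
    (x : K) (hx : IsIntegral B x) :
    ∃ s : B, s ∉ q ∧ algebraMap B K s * x ∈ (algebraMap B K).range := by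
  classical
  obtain ⟨hdom, hic⟩ := hq
  let Bq := Localization.AtPrime q
  let L := FractionRing Bq
  let φ : B →+* L := (algebraMap Bq L).comp (algebraMap B Bq)
  have hφT : ∀ t : T, IsUnit (φ t) := by
    intro t
    have h1 : algebraMap B Bq t ∈ nonZeroDivisors Bq :=
      IsLocalization.map_nonZeroDivisors_le q.primeCompl Bq ⟨t, hT t.2, rfl⟩
    have h2 : algebraMap B Bq t ≠ 0 := nonZeroDivisors.ne_zero h1
    have h3 : φ t ≠ 0 := by
      simp only [φ, RingHom.comp_apply]
      rw [Ne, IsFractionRing.to_map_eq_zero_iff]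
      exact h2
    exact h3.isUnit
  let ψ : K →+* L := IsLocalization.lift (M := T) (g := φ) hφT
  have hψ : ∀ b : B, ψ (algebraMap B K b) = φ b := fun b => IsLocalization.lift_eq hφT b
  have hint : IsIntegral Bq (ψ x) := by
    obtain ⟨p, hp, hpx⟩ := hx
    refine ⟨p.map (algebraMap B Bq), hp.map _, ?_⟩
    rw [Polynomial.eval₂_map]
    have := congrArg ψ hpx
    rw [Polynomial.hom_eval₂, map_zero] at this
    have hcomp : ψ.comp (algebraMap B K) = (algebraMap Bq L).comp (algebraMap B Bq) := by
      ext b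
      exact hψ b
    rw [hcomp] at this
    exact this
  obtain ⟨y, hy⟩ := (isIntegrallyClosed_iff L).mp hic hint
  obtain ⟨β, s, rfl⟩ := IsLocalization.exists_mk'_eq q.primeCompl y
  obtain ⟨b, t, rfl⟩ := IsLocalization.exists_mk'_eq T x
  have hψx : ψ (IsLocalization.mk' K b t) * φ t = φ b := by
    rw [← hψ, ← map_mul, IsLocalization.mk'_spec, hψ]
  have hy' : algebraMap Bq L (IsLocalization.mk' Bq β s) * φ s = φ β := by
    simp only [φ, RingHom.comp_apply]
    rw [← map_mul, IsLocalization.mk'_spec]
  have hkey : φ (b * s) = φ (β * t) := by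
    rw [map_mul, map_mul, ← hψx, ← hy', hy]
    ring
  have hkey' : algebraMap B Bq (b * s) = algebraMap B Bq (β * t) :=
    IsFractionRing.injective Bq L hkey
  obtain ⟨s', hs'⟩ := (IsLocalization.eq_iff_exists q.primeCompl Bq).mp hkey'
  refine ⟨s' * s, ?_, s' * β, ?_⟩
  · intro h
    rcases (inferInstance : q.IsPrime).mem_or_mem h with h | h
    · exact s'.2 h
    · exact s.2 h
  · have hu : IsUnit (algebraMap B K t) := IsLocalization.map_units K t
    apply hu.mul_right_cancel
    rw [mul_assoc, IsLocalization.mk'_spec, ← map_mul, ← map_mul]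
    congr 1
    calc (s' : B) * β * t = s' * (β * t) := by ring
      _ = s' * (b * s) := hs'.symm
      _ = s' * s * b := by ring

/-- Reduced ring with finitely many minimal primes, `p` a prime: every element `y` of `A` whose
image in `A_p` is a non-zero-divisor agrees in `A_p`, up to a unit `c ∉ p`, with a
non-zero-divisor `t` of `A`. -/
theorem exists_nonZeroDivisor_map_eq {A : Type*} [CommRing A] [IsReduced A]
    (hfin : (minimalPrimes A).Finite) (p : Ideal A) [p.IsPrime] (y : A)
    (hy : algebraMap A (Localization.AtPrime p) y ∈ nonZeroDivisors (Localization.AtPrime p)) :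
    ∃ t ∈ nonZeroDivisors A, ∃ c : A, c ∉ p ∧
      algebraMap A (Localization.AtPrime p) t = algebraMap A (Localization.AtPrime p) (c * y) := by
  classical
  let Ap := Localization.AtPrime p
  let s₁ : Finset (Ideal A) := hfin.toFinset.filter (fun q => q ≤ p)
  let s₂ : Finset (Ideal A) := hfin.toFinset.filter (fun q => ¬ q ≤ p)
  have hs₁ : ∀ q, q ∈ s₁ ↔ q ∈ minimalPrimes A ∧ q ≤ p := by
    intro q; simp [s₁]
  have hs₂ : ∀ q, q ∈ s₂ ↔ q ∈ minimalPrimes A ∧ ¬ q ≤ p := by
    intro q; simp [s₂]
  -- y lies in no minimal prime contained in p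
  have hy₁ : ∀ q ∈ minimalPrimes A, q ≤ p → y ∉ q := by
    intro q hq hqp hyq
    have hq' : q.IsPrime := hq.1.1
    let s : Finset (Ideal A) := hfin.toFinset.erase q
    have h1 : ¬ (s.inf id ≤ q) := by
      rw [Ideal.IsPrime.inf_le' hq']
      rintro ⟨q', hq'1, hq'q⟩
      simp only [s, Finset.mem_erase, Set.Finite.mem_toFinset] at hq'1
      exact hq'1.1 (le_antisymm hq'q (hq.2 hq'1.2.1 hq'q))
    obtain ⟨w, hw, hwq⟩ := SetLike.not_le_iff_exists.mp h1
    have hyw : y * w = 0 := by
      apply eq_zero_of_forall_mem_minimalPrimes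
      intro q' hq'm
      by_cases h : q' = q
      · subst h; exact Ideal.mul_mem_right _ _ hyq
      · have : s.inf id ≤ q' := Finset.inf_le (f := id)
          (by simp only [s, Finset.mem_erase, Set.Finite.mem_toFinset]; exact ⟨h, hq'm⟩)
        exact Ideal.mul_mem_left _ _ (this hw)
    have h2 : algebraMap A Ap y * algebraMap A Ap w = 0 := by
      rw [← map_mul, hyw, map_zero]
    have h3 : algebraMap A Ap w = 0 := (mem_nonZeroDivisors_iff_left.mp hy) _ h2
    obtain ⟨u, hu⟩ := (IsLocalization.map_eq_zero_iff p.primeCompl Ap w).mp h3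
    have : (u : A) * w ∈ q := hu ▸ q.zero_mem
    rcases hq'.mem_or_mem this with h | h
    · exact u.2 (hqp h)
    · exact hwq h
  -- c in all minimal primes not contained in p, but not in p
  have h1 : ¬ (s₂.inf id ≤ p) := by
    rw [Ideal.IsPrime.inf_le' (inferInstance : p.IsPrime)]
    rintro ⟨q, hq, hqp⟩
    exact ((hs₂ q).mp hq).2 hqp
  obtain ⟨c, hc, hcp⟩ := SetLike.not_le_iff_exists.mp h1
  have hc' : ∀ q ∈ minimalPrimes A, ¬ q ≤ p → c ∈ q := by
    intro q hq hqp
    have : s₂.inf id ≤ q := Finset.inf_le (f := id) ((hs₂ q).mpr ⟨hq, hqp⟩)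
    exact this hc
  -- b in all minimal primes contained in p, in no other minimal prime
  have h2 : ¬ (((s₁.inf id : Ideal A) : Set A) ⊆ ⋃ q ∈ (s₂ : Set (Ideal A)), (id q : Ideal A)) := by
    rw [Ideal.subset_union_prime (f := id) p p]
    · rintro ⟨q, hq, hle⟩
      obtain ⟨hq1, hq2⟩ := (hs₂ q).mp hq
      have hq' : q.IsPrime := hq1.1.1
      obtain ⟨q', hq'1, hq'q⟩ := (Ideal.IsPrime.inf_le' hq').mp hle
      obtain ⟨hq'm, hq'p⟩ := (hs₁ q').mp hq'1
      have : q' = q := le_antisymm hq'q (hq1.2 hq'm.1 hq'q)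
      exact hq2 (this ▸ hq'p)
    · intro q hq _ _
      exact ((hs₂ q).mp hq).1.1.1
  obtain ⟨b, hb, hbq⟩ := Set.not_subset.mp h2
  have hb₁ : ∀ q ∈ minimalPrimes A, q ≤ p → b ∈ q := by
    intro q hq hqp
    have : s₁.inf id ≤ q := Finset.inf_le (f := id) ((hs₁ q).mpr ⟨hq, hqp⟩)
    exact this hb
  have hb₂ : ∀ q ∈ minimalPrimes A, ¬ q ≤ p → b ∉ q := by
    intro q hq hqp hbq'
    apply hbq
    simp only [Set.mem_iUnion]
    exact ⟨q, (hs₂ q).mpr ⟨hq, hqp⟩, hbq'⟩
  have hcb : c * b = 0 := by
    apply eq_zero_of_forall_mem_minimalPrimes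
    intro q hq
    by_cases hqp : q ≤ p
    · exact Ideal.mul_mem_left _ _ (hb₁ q hq hqp)
    · exact Ideal.mul_mem_right _ _ (hc' q hq hqp)
  refine ⟨c * y + b, ?_, c, hcp, ?_⟩
  · apply mem_nonZeroDivisors_of_forall_notMem_minimalPrimes
    intro q hq hmem
    have hq' : q.IsPrime := hq.1.1
    by_cases hqp : q ≤ p
    · have h3 : c * y ∈ q := (Ideal.add_mem_iff_left _ (hb₁ q hq hqp)).mp hmem
      rcases hq'.mem_or_mem h3 with h | h
      · exact hcp (hqp h)
      · exact hy₁ q hq hqp h
    · have h3 : b ∈ q :=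
        (Ideal.add_mem_iff_right _ (Ideal.mul_mem_right _ _ (hc' q hq hqp))).mp hmem
      exact hb₂ q hq hqp h3
  · have hb0 : algebraMap A Ap b = 0 := by
      rw [IsLocalization.map_eq_zero_iff p.primeCompl Ap b]
      exact ⟨⟨c, hcp⟩, hcb⟩
    rw [map_add, hb0, add_zero]


/-- A localization of a ring with finitely many minimal primes has finitely many minimal primes. -/
theorem finite_minimalPrimes_of_isLocalization {A : Type*} [CommRing A]
    (hfin : (minimalPrimes A).Finite) (M : Submonoid A) (S : Type*) [CommRing S] [Algebra A S]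
    [IsLocalization M S] : (minimalPrimes S).Finite := by
  have h := IsLocalization.minimalPrimes_map M S (⊥ : Ideal A)
  rw [Ideal.map_bot] at h
  change ((⊥ : Ideal S).minimalPrimes).Finite
  rw [h]
  apply Set.Finite.preimage _ hfin
  intro I _ I' _ hII'
  rw [← IsLocalization.map_under M S I, ← IsLocalization.map_under M S I', hII']

/-- Let `A` be a reduced ring with finitely many minimal primes, `K` its total ring of fractions
and `p` a prime such that every element of `K` integral over `A` has a multiple by some `s ∉ p`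
lying in `A`. Then `A_p` is integrally closed in its total ring of fractions. -/
theorem mem_range_of_isIntegral_localization {A : Type*} [CommRing A] [IsReduced A]
    (hfin : (minimalPrimes A).Finite) (K : Type*) [CommRing K] [Algebra A K] [IsFractionRing A K]
    (p : Ideal A) [p.IsPrime]
    (hgood : ∀ x : K, IsIntegral A x →
      ∃ s : A, s ∉ p ∧ algebraMap A K s * x ∈ (algebraMap A K).range)
    (z : FractionRing (Localization.AtPrime p)) (hz : IsIntegral (Localization.AtPrime p) z) :
    z ∈ (algebraMap (Localization.AtPrime p) (FractionRing (Localization.AtPrime p))).range := by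
  classical
  let Ap := Localization.AtPrime p
  let L := FractionRing Ap
  let ι : A →+* L := algebraMap A L
  have hι : ∀ a : A, ι a = algebraMap Ap L (algebraMap A Ap a) := fun a =>
    IsScalarTower.algebraMap_apply A Ap L a
  have hunits : ∀ t : nonZeroDivisors A, IsUnit (ι t) := by
    intro t
    have h1 : algebraMap A Ap t ∈ nonZeroDivisors Ap :=
      IsLocalization.map_nonZeroDivisors_le p.primeCompl Ap ⟨t, t.2, rfl⟩
    rw [hι]
    exact IsLocalization.map_units L (⟨_, h1⟩ : nonZeroDivisors Ap)
  have hunits' : ∀ s : p.primeCompl, IsUnit (ι s) := by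
    intro s
    rw [hι]
    exact (IsLocalization.map_units Ap s).map _
  let ψ : K →+* L := IsLocalization.lift (M := nonZeroDivisors A) (g := ι) hunits
  have hψ : ∀ a : A, ψ (algebraMap A K a) = ι a := fun a => IsLocalization.lift_eq hunits a
  obtain ⟨m, hm⟩ := IsIntegral.exists_multiple_integral_of_isLocalization p.primeCompl z hz
  obtain ⟨α, β, hαβ⟩ := IsLocalization.exists_mk'_eq (nonZeroDivisors Ap) z
  obtain ⟨x, s, hx⟩ := IsLocalization.exists_mk'_eq p.primeCompl α
  obtain ⟨y, s', hy⟩ := IsLocalization.exists_mk'_eq p.primeCompl (β : Ap)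
  have hynzd : algebraMap A Ap y ∈ nonZeroDivisors Ap := by
    have h1 : algebraMap A Ap y = β * algebraMap A Ap s' := by
      rw [← hy, IsLocalization.mk'_spec]
    rw [h1]
    exact mul_mem β.2 (IsLocalization.map_units Ap s').mem_nonZeroDivisors
  obtain ⟨t, ht, c, hcp, htc⟩ := exists_nonZeroDivisor_map_eq hfin p y hynzd
  have hιt : ι t = ι c * ι y := by
    rw [hι, htc, ← hι, map_mul]
  let k : K := IsLocalization.mk' K (c * x * s') (⟨t, ht⟩ : nonZeroDivisors A)
  have hk : ψ k * ι t = ι (c * x * s') := by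
    rw [← hψ t, ← map_mul]
    change ψ (IsLocalization.mk' K (c * x * s') (⟨t, ht⟩ : nonZeroDivisors A) *
      algebraMap A K ((⟨t, ht⟩ : nonZeroDivisors A) : A)) = _
    rw [IsLocalization.mk'_spec, hψ]
  have hα : algebraMap Ap L α * ι s = ι x := by
    rw [hι, hι, ← map_mul, ← hx, IsLocalization.mk'_spec]
  have hβ : algebraMap Ap L β * ι s' = ι y := by
    rw [hι, hι, ← map_mul, ← hy, IsLocalization.mk'_spec]
  have hz1 : z * algebraMap Ap L β = algebraMap Ap L α := by
    rw [← hαβ, IsLocalization.mk'_spec]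
  have hψk : ψ k = ι s * z := by
    apply (hunits ⟨t, ht⟩).mul_right_cancel
    change ψ k * ι t = ι s * z * ι t
    rw [hk, hιt, map_mul, map_mul, ← hα, ← hz1, ← hβ]
    ring
  -- ψ (m k) is integral over A
  have hint : IsIntegral A (ψ (algebraMap A K m * k)) := by
    have h1 : ψ (algebraMap A K m * k) = ι s * (m • z) := by
      rw [map_mul, hψ, hψk, Submonoid.smul_def, Algebra.smul_def]
      change ι m * (ι s * z) = ι s * (ι m * z)
      ring
    rw [h1]
    exact IsIntegral.mul isIntegral_algebraMap hm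
  obtain ⟨P, hP, hPz⟩ := hint
  have hw : ψ (P.eval₂ (algebraMap A K) (algebraMap A K m * k)) = 0 := by
    rw [Polynomial.hom_eval₂]
    have hcomp : ψ.comp (algebraMap A K) = algebraMap A L := by
      ext a
      exact hψ a
    rw [hcomp]
    exact hPz
  obtain ⟨u, hup, hu⟩ : ∃ u : A, u ∉ p ∧
      algebraMap A K u * P.eval₂ (algebraMap A K) (algebraMap A K m * k) = 0 := by
    obtain ⟨a, t₁, hat⟩ := IsLocalization.exists_mk'_eq (nonZeroDivisors A)
      (P.eval₂ (algebraMap A K) (algebraMap A K m * k))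
    rw [← hat] at hw ⊢
    have h1 : ψ (IsLocalization.mk' K a t₁) * ι t₁ = ι a := by
      rw [← hψ, ← map_mul, IsLocalization.mk'_spec, hψ]
    rw [hw, zero_mul] at h1
    have h2 : algebraMap A Ap a = 0 := by
      have := h1.symm
      rw [hι, IsFractionRing.to_map_eq_zero_iff] at this
      exact this
    obtain ⟨u, hu⟩ := (IsLocalization.map_eq_zero_iff p.primeCompl Ap a).mp h2
    refine ⟨u, u.2, ?_⟩
    rw [IsLocalization.mul_mk'_eq_mk'_of_mul, hu, IsLocalization.mk'_zero]
  have hint2 : IsIntegral A (algebraMap A K u * (algebraMap A K m * k)) := by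
    have h1 : (C u * P).eval₂ (algebraMap A K) (algebraMap A K m * k) = 0 := by
      rw [Polynomial.eval₂_mul, Polynomial.eval₂_C, hu]
    have h2 := RingHom.isIntegralElem_leadingCoeff_mul (algebraMap A K) (C u * P) _ h1
    rw [Polynomial.leadingCoeff_mul_monic hP, Polynomial.leadingCoeff_C] at h2
    exact h2
  obtain ⟨s₁, hs₁p, a₀, ha₀⟩ := hgood _ hint2
  -- conclusion
  have hden : s₁ * u * m * s ∈ p.primeCompl :=
    mul_mem (mul_mem (mul_mem hs₁p hup) m.2) s.2
  have hfinal : ι a₀ = z * ι (s₁ * u * m * s) := by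
    rw [← hψ, ha₀]
    simp only [map_mul, hψ, hψk]
    ring
  refine ⟨IsLocalization.mk' Ap a₀ (⟨_, hden⟩ : p.primeCompl), ?_⟩
  apply (hunits' ⟨_, hden⟩).mul_right_cancel
  change _ * ι (s₁ * u * m * s) = z * ι (s₁ * u * m * s)
  rw [hι (s₁ * u * m * s), ← map_mul]
  have := IsLocalization.mk'_spec Ap a₀ (⟨_, hden⟩ : p.primeCompl)
  change IsLocalization.mk' Ap a₀ (⟨_, hden⟩ : p.primeCompl) *
    algebraMap A Ap (s₁ * u * m * s) = _ at this
  rw [this, ← hι, hfinal, hι (s₁ * u * m * s)]

/-- Under the hypotheses of `mem_range_of_isIntegral_localization`, the local ring `A_p` is an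
integrally closed domain. -/
theorem isIntegrallyClosed_localization_of_good {A : Type u} [CommRing A] [IsReduced A]
    (hfin : (minimalPrimes A).Finite) (K : Type*) [CommRing K] [Algebra A K] [IsFractionRing A K]
    (p : Ideal A) [p.IsPrime]
    (hgood : ∀ x : K, IsIntegral A x →
      ∃ s : A, s ∉ p ∧ algebraMap A K s * x ∈ (algebraMap A K).range) :
    IsDomain (Localization.AtPrime p) ∧ IsIntegrallyClosed (Localization.AtPrime p) := by
  let Ap := Localization.AtPrime p
  have hfin' : (minimalPrimes Ap).Finite :=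
    finite_minimalPrimes_of_isLocalization hfin p.primeCompl Ap
  have hnor : EGA4.IsNormalRing Ap :=
    isNormalRing_of_isIntegrallyClosedIn hfin' (FractionRing Ap)
      (mem_range_of_isIntegral_localization hfin K p hgood)
  obtain ⟨h1, h2⟩ := hnor (IsLocalRing.maximalIdeal Ap)
  let e : Ap ≃ₐ[Ap] Localization.AtPrime (IsLocalRing.maximalIdeal Ap) :=
    IsLocalization.atUnits Ap (IsLocalRing.maximalIdeal Ap).primeCompl (by
      intro x hx
      have : x ∉ IsLocalRing.maximalIdeal Ap := hx
      rw [IsLocalRing.mem_maximalIdeal, mem_nonunits_iff, not_not] at this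
      exact this)
  exact ⟨e.toRingEquiv.toMulEquiv.isDomain _, IsIntegrallyClosed.of_equiv e.symm.toRingEquiv⟩

end Groth.Agent.Lib.Helper13
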