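import Mathlib.RingTheory.Flat.FaithfullyFlat.Algebra
import Mathlib.RingTheory.IntegralClosure.IntegrallyClosed
import Mathlib.RingTheory.Localization.FractionRing

/-!
# Descent of "integrally closed domain" along faithfully flat ring maps
-/

set_option autoImplicit false

namespace Groth.Agent.Lib.Helper13

/-- If `R → S` is faithfully flat and `S` is a domain, then `R` is a domain. -/
theorem isDomain_of_faithfullyFlat (R S : Type*) [CommRing R] [CommRing S] [Algebra R S]
    [Module.FaithfullyFlat R S] [IsDomain S] : IsDomain R :=
  (FaithfulSMul.algebraMap_injective R S).isDomain (algebraMap R S)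

/-- If `R → S` is faithfully flat and `S` is an integrally closed domain, then so is `R`. -/
theorem isIntegrallyClosed_of_faithfullyFlat (R S : Type*) [CommRing R] [CommRing S] [Algebra R S]
    [Module.FaithfullyFlat R S] [IsDomain S] [IsIntegrallyClosed S] :
    IsDomain R ∧ IsIntegrallyClosed R := by
  have hinj : Function.Injective (algebraMap R S) := FaithfulSMul.algebraMap_injective R S
  have hdom : IsDomain R := isDomain_of_faithfullyFlat R S
  refine ⟨hdom, ?_⟩
  let K := FractionRing R
  let L := FractionRing S
  have hg : Function.Injective ((algebraMap S L).comp (algebraMap R S)) :=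
    (IsFractionRing.injective S L).comp hinj
  let j : K →+* L := IsFractionRing.lift hg
  have hj : ∀ r : R, j (algebraMap R K r) = algebraMap S L (algebraMap R S r) := by
    intro r
    exact IsFractionRing.lift_algebraMap hg r
  rw [isIntegrallyClosed_iff K]
  intro x hx
  -- `j x` is integral over `S`
  have hjx : IsIntegral S (j x) := by
    obtain ⟨p, hp, hpx⟩ := hx
    refine ⟨p.map (algebraMap R S), hp.map _, ?_⟩
    rw [Polynomial.eval₂_map]
    have : (algebraMap S L).comp (algebraMap R S) = j.comp (algebraMap R K) := by
      ext r; exact (hj r).symm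
    rw [this, ← Polynomial.hom_eval₂, hpx, map_zero]
  obtain ⟨s, hs⟩ := (isIntegrallyClosed_iff L).mp inferInstance hjx
  -- write `x = a / b`
  obtain ⟨a, b, hab⟩ := IsLocalization.exists_mk'_eq (nonZeroDivisors R) x
  have hspec : x * algebraMap R K b = algebraMap R K a := by
    rw [← hab]; exact IsLocalization.mk'_spec K a b
  have hb : (b : R) ≠ 0 := nonZeroDivisors.coe_ne_zero b
  -- in `S`: `s * b = a`
  have hS : s * algebraMap R S b = algebraMap R S a := by
    apply IsFractionRing.injective S L
    rw [map_mul, hs, ← hj, ← hj, ← map_mul, hspec]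
  -- so `a ∈ (b) S ∩ R = (b)`
  have hmem : (a : R) ∈ Ideal.span {(b : R)} := by
    rw [← Ideal.comap_map_eq_self_of_faithfullyFlat (B := S) (Ideal.span {(b : R)}),
      Ideal.mem_comap, Ideal.map_span, Set.image_singleton, Ideal.mem_span_singleton']
    exact ⟨s, hS⟩
  obtain ⟨r, hr⟩ := Ideal.mem_span_singleton'.mp hmem
  refine ⟨r, ?_⟩
  have hbK : algebraMap R K b ≠ 0 := by
    intro h
    exact hb ((IsFractionRing.injective R K) (by rw [h, map_zero]))
  apply mul_right_cancel₀ hbK
  rw [hspec, ← map_mul, hr]

end Groth.Agent.Lib.Helper13
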