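import Groth.Agent.Lib.Helper13.ChevalleyRetro
import Groth.Agent.Lib.Helper55.LocalDimTop

/-!
# Chevalley's theorem in commutative-algebra form (helper13)
-/

set_option autoImplicit false

namespace Groth.Agent.Lib.Helper13.Chevalley

open AlgebraicGeometry CategoryTheory CategoryTheory.Limits TensorProduct

universe u

section Alg

variable (R S : Type u) [CommRing R] [CommRing S] [Algebra R S]

open Groth.Agent.Lib.Helper13.GenFibre in
set_option backward.isDefEq.respectTransparency false in
theorem specFiberIso_hom_includeRight (p : PrimeSpectrum R) :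
    (specFiberIso R S p).hom ≫ Spec.map (CommRingCat.ofHom (R := S) (S := p.asIdeal.Fiber S)
      (RingHomClass.toRingHom Algebra.TensorProduct.includeRight)) =
      pullback.fst (Spec.map (CommRingCat.ofHom (algebraMap R S)))
        ((Spec (.of R)).fromSpecResidueField p) := by
  simp [specFiberIso, Spec.fiberToSpecResidueFieldIso]

open Groth.Agent.Lib.Helper13.GenFibre in
/-- The ring-level local dimension of a fibre at a prime equals `fibreDimAt` of `Spec S → Spec R`. -/
theorem localDim_fiber_eq_fibreDimAt_SpecMap (q : Spec (.of S))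
    (Q : PrimeSpectrum ((q.asIdeal.under R).Fiber S))
    (hQ : Q.asIdeal.comap (Algebra.TensorProduct.includeRight.toRingHom) = q.asIdeal) :
    FlatMor.localDim (PrimeSpectrum ((q.asIdeal.under R).Fiber S)) Q =
      FlatMor.fibreDimAt (Spec.map (CommRingCat.ofHom (algebraMap R S))) q := by
  set f := Spec.map (CommRingCat.ofHom (algebraMap R S)) with hf
  set y : Spec (.of R) := f q with hy
  let e := specFiberIso R S y
  let Q' : Spec (.of (y.asIdeal.Fiber S)) := Q
  let ζ : ↥(f.fiber y) := e.inv Q'
  have hζ : f.fiberι y ζ = q := by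
    have h1 : e.inv ≫ pullback.fst f ((Spec (.of R)).fromSpecResidueField y) =
        Spec.map (CommRingCat.ofHom (R := S) (S := y.asIdeal.Fiber S)
          (RingHomClass.toRingHom Algebra.TensorProduct.includeRight)) := by
      rw [Iso.inv_comp_eq]
      exact (specFiberIso_hom_includeRight R S y).symm
    have h2 := congr(($h1) Q')
    rw [Scheme.Hom.comp_apply] at h2
    refine h2.trans ?_
    exact PrimeSpectrum.ext hQ
  have h1 : FlatMor.localDim ↥(f.fiber y) ζ = FlatMor.fibreDimAt f q :=
    Groth.Agent.Lib.Helper55.localDim_fiber_eq_fibreDimAt' f y q rfl ζ hζ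
  rw [← h1]
  exact Groth.Agent.Lib.Helper55.localDim_eq_of_isOpenEmbedding e.inv e.inv.isOpenEmbedding Q'

/-- The ring-level locus of fibre dimension `≤ n` agrees with the scheme-level one. -/
theorem setOf_localDim_fiber_le_eq (n : ℕ) :
    {q : PrimeSpectrum S | ∀ Q : PrimeSpectrum ((q.asIdeal.under R).Fiber S),
        Q.asIdeal.comap (Algebra.TensorProduct.includeRight.toRingHom) = q.asIdeal →
          FlatMor.localDim (PrimeSpectrum ((q.asIdeal.under R).Fiber S)) Q ≤ (n : WithBot ℕ∞)} =
      {q : Spec (.of S) |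
        FlatMor.fibreDimAt (Spec.map (CommRingCat.ofHom (algebraMap R S))) q ≤ n} := by
  ext q
  show (∀ Q : PrimeSpectrum ((q.asIdeal.under R).Fiber S),
        Q.asIdeal.comap (Algebra.TensorProduct.includeRight.toRingHom) = q.asIdeal →
          FlatMor.localDim (PrimeSpectrum ((q.asIdeal.under R).Fiber S)) Q ≤ (n : WithBot ℕ∞)) ↔
      FlatMor.fibreDimAt (Spec.map (CommRingCat.ofHom (algebraMap R S))) q ≤ n
  constructor
  · intro h
    let Q := PrimeSpectrum.preimageEquivFiber R S ⟨q.asIdeal.under R, inferInstance⟩ ⟨q, rfl⟩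
    have hQ : Q.asIdeal.comap (Algebra.TensorProduct.includeRight.toRingHom) = q.asIdeal := by
      have := (PrimeSpectrum.preimageEquivFiber R S
        ⟨q.asIdeal.under R, inferInstance⟩).symm_apply_apply ⟨q, rfl⟩
      exact congr(($this).1.asIdeal)
    have h2 := localDim_fiber_eq_fibreDimAt_SpecMap R S q Q hQ
    rw [← h2]
    exact h Q hQ
  · intro h Q hQ
    rw [localDim_fiber_eq_fibreDimAt_SpecMap R S q Q hQ]
    exact h

/-- **Chevalley's theorem, commutative algebra form** (Stacks 00QK + quasi-compactness). -/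
theorem isOpen_and_isCompact_setOf_localDim_fiber_le [Algebra.FinitePresentation R S] (n : ℕ) :
    IsOpen {q : PrimeSpectrum S | ∀ Q : PrimeSpectrum ((q.asIdeal.under R).Fiber S),
        Q.asIdeal.comap (Algebra.TensorProduct.includeRight.toRingHom) = q.asIdeal →
          FlatMor.localDim (PrimeSpectrum ((q.asIdeal.under R).Fiber S)) Q ≤ (n : WithBot ℕ∞)} ∧
      IsCompact {q : PrimeSpectrum S | ∀ Q : PrimeSpectrum ((q.asIdeal.under R).Fiber S),
        Q.asIdeal.comap (Algebra.TensorProduct.includeRight.toRingHom) = q.asIdeal →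
          FlatMor.localDim (PrimeSpectrum ((q.asIdeal.under R).Fiber S)) Q ≤ (n : WithBot ℕ∞)} := by
  rw [setOf_localDim_fiber_le_eq R S n]
  haveI : LocallyOfFiniteType (Spec.map (CommRingCat.ofHom (algebraMap R S))) := by
    rw [HasRingHomProperty.Spec_iff (P := @LocallyOfFiniteType)]
    exact (RingHom.finiteType_algebraMap (A := R) (B := S)).mpr
      (Algebra.FiniteType.of_finitePresentation)
  exact ⟨isOpen_fibreDimAt_le _ n, isCompact_fibreDimAt_le_of_affine R S n⟩

end Alg

end Groth.Agent.Lib.Helper13.Chevalley
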