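import Mathlib.AlgebraicGeometry.AffineTransitionLimit
import Mathlib.AlgebraicGeometry.Morphisms.Separated

/-!
# Relative descent through cofiltered limits of schemes with affine transition maps (helper13)

Setting: `E : J ⥤ Scheme` a cofiltered diagram with affine transition maps and limit cone `cE`,
an index `j₀ : J` and a morphism `h₀ : U₀ ⟶ E.obj j₀`.  `sys E j₀ h₀ : Over j₀ ⥤ Scheme` is the system
of base changes `pullback (E.map k.hom) h₀`, with limit cone `sysCone` whose point is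
`pullback (cE.π.app j₀) h₀`.
-/

set_option autoImplicit false
universe u

open CategoryTheory Limits AlgebraicGeometry

namespace Groth.Agent.Lib.Helper13.LimDescent

variable {J : Type u} [SmallCategory J] (E : J ⥤ Scheme.{u}) (cE : Cone E)
  (j₀ : J) {U₀ : Scheme.{u}} (h₀ : U₀ ⟶ E.obj j₀)

/-- The system of base changes of `h₀ : U₀ ⟶ E.obj j₀` to the stages over `j₀`. -/
noncomputable def sys : Over j₀ ⥤ Scheme.{u} := Over.post E ⋙ Over.pullback h₀ ⋙ Over.forget _

/-- The cone over `sys` with point `pullback (cE.π.app j₀) h₀`. -/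
noncomputable def sysCone : Cone (sys E j₀ h₀) :=
  (Over.pullback h₀ ⋙ Over.forget _).mapCone ((Over.conePost E j₀).obj cE)

attribute [local instance] IsCofiltered.isConnected

/-- `sysCone` is a limit cone. -/
noncomputable def isLimitSysCone [IsCofiltered J] (hcE : IsLimit cE) :
    IsLimit (sysCone E cE j₀ h₀) :=
  isLimitOfPreserves (Over.pullback h₀ ⋙ Over.forget _) (Over.isLimitConePost _ hcE)

@[simp] lemma sys_obj (k : Over j₀) : (sys E j₀ h₀).obj k = pullback (E.map k.hom) h₀ := rfl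

@[simp] lemma sysCone_pt : (sysCone E cE j₀ h₀).pt = pullback (cE.π.app j₀) h₀ := rfl

lemma sys_map_fst {k k' : Over j₀} (a : k ⟶ k') :
    (sys E j₀ h₀).map a ≫ pullback.fst (E.map k'.hom) h₀ =
      pullback.fst (E.map k.hom) h₀ ≫ E.map a.left := by
  simp only [sys, Functor.comp_map, Over.forget_map, Over.pullback_map_left]
  exact pullback.lift_fst _ _ _

lemma sys_map_snd {k k' : Over j₀} (a : k ⟶ k') :
    (sys E j₀ h₀).map a ≫ pullback.snd (E.map k'.hom) h₀ = pullback.snd (E.map k.hom) h₀ := by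
  simp only [sys, Functor.comp_map, Over.forget_map, Over.pullback_map_left]
  exact pullback.lift_snd _ _ _

lemma sysCone_π_fst (k : Over j₀) :
    (sysCone E cE j₀ h₀).π.app k ≫ pullback.fst (E.map k.hom) h₀ =
      pullback.fst (cE.π.app j₀) h₀ ≫ cE.π.app k.left := by
  simp only [sysCone, Functor.mapCone_π_app, Functor.comp_map, Over.forget_map,
    Over.pullback_map_left]
  exact pullback.lift_fst _ _ _

lemma sysCone_π_snd (k : Over j₀) :
    (sysCone E cE j₀ h₀).π.app k ≫ pullback.snd (E.map k.hom) h₀ =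
      pullback.snd (cE.π.app j₀) h₀ := by
  simp only [sysCone, Functor.mapCone_π_app, Functor.comp_map, Over.forget_map,
    Over.pullback_map_left]
  exact pullback.lift_snd _ _ _


section Instances

variable [hE : ∀ {i j : J} (f : i ⟶ j), IsAffineHom (E.map f)]

/-- Base change of an affine morphism (second projection). -/
scoped instance isAffineHom_pullback_snd {X Z U : Scheme.{u}} (f : X ⟶ Z) (h : U ⟶ Z)
    [IsAffineHom f] : IsAffineHom (pullback.snd f h) :=
  MorphismProperty.pullback_snd _ _ inferInstance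

/-- Base change of an affine morphism (first projection). -/
scoped instance isAffineHom_pullback_fst {X Z U : Scheme.{u}} (f : X ⟶ Z) (h : U ⟶ Z)
    [IsAffineHom h] : IsAffineHom (pullback.fst f h) :=
  MorphismProperty.pullback_fst _ _ inferInstance

scoped instance quasiSeparatedSpace_pullback {X Z U : Scheme.{u}} (f : X ⟶ Z) (h : U ⟶ Z)
    [QuasiSeparated f] [QuasiSeparatedSpace U] : QuasiSeparatedSpace ↥(pullback f h) :=
  have : QuasiSeparated (pullback.snd f h) := MorphismProperty.pullback_snd _ _ inferInstance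
  quasiSeparatedSpace_of_quasiSeparated (pullback.snd f h)

set_option backward.isDefEq.respectTransparency false in
instance sys_map_isAffineHom {k k' : Over j₀} (a : k ⟶ k') :
    IsAffineHom ((sys E j₀ h₀).map a) := by
  have : IsAffineHom ((sys E j₀ h₀).map a ≫ pullback.snd (E.map k'.hom) h₀) := by
    rw [sys_map_snd]; infer_instance
  exact IsAffineHom.of_comp _ (pullback.snd (E.map k'.hom) h₀)

set_option backward.isDefEq.respectTransparency false in
instance sys_obj_compactSpace [CompactSpace U₀] (k : Over j₀) :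
    CompactSpace ((sys E j₀ h₀).obj k) := by
  dsimp only [sys_obj]; infer_instance

set_option backward.isDefEq.respectTransparency false in
instance sys_obj_quasiSeparatedSpace [QuasiSeparatedSpace U₀] (k : Over j₀) :
    QuasiSeparatedSpace ((sys E j₀ h₀).obj k) := by
  dsimp only [sys_obj]; infer_instance

/-- If the base change of `U₀` to the limit is affine, so is the base change to some stage. -/
theorem exists_isAffine_pullback [IsCofiltered J] (hcE : IsLimit cE) [CompactSpace U₀]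
    [QuasiSeparatedSpace U₀] [IsAffine (pullback (cE.π.app j₀) h₀)] :
    ∃ k : Over j₀, IsAffine (pullback (E.map k.hom) h₀) := by
  have : IsAffine (sysCone E cE j₀ h₀).pt := by dsimp only [sysCone_pt]; infer_instance
  exact Scheme.exists_isAffine_of_isLimit (sys E j₀ h₀) (sysCone E cE j₀ h₀)
    (isLimitSysCone E cE j₀ h₀ hcE)

/-- If the base change of `U₀` to the limit is quasi-affine, so is the base change to some
stage. -/
theorem exists_isQuasiAffine_pullback [IsCofiltered J] (hcE : IsLimit cE) [CompactSpace U₀]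
    [QuasiSeparatedSpace U₀] [Scheme.IsQuasiAffine (pullback (cE.π.app j₀) h₀)] :
    ∃ k : Over j₀, Scheme.IsQuasiAffine (pullback (E.map k.hom) h₀) := by
  have : Scheme.IsQuasiAffine (sysCone E cE j₀ h₀).pt := by dsimp only [sysCone_pt]; infer_instance
  exact Scheme.exists_isQuasiAffine_of_isLimit (sys E j₀ h₀) (sysCone E cE j₀ h₀)
    (isLimitSysCone E cE j₀ h₀ hcE)

set_option backward.isDefEq.respectTransparency false in
/-- Affineness of a stage passes to all further stages. -/
theorem isAffine_pullback_of_hom {k k' : Over j₀} (a : k ⟶ k')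
    [h : IsAffine (pullback (E.map k'.hom) h₀)] : IsAffine (pullback (E.map k.hom) h₀) :=
  have : IsAffine ((sys E j₀ h₀).obj k') := h
  isAffine_of_isAffineHom ((sys E j₀ h₀).map a)

end Instances


section Restrict

variable {T S V₀ : Scheme.{u}} (g : T ⟶ S) (h : V₀ ⟶ S) (U : V₀.Opens)

/-- The open immersion `T ×_S U ⟶ T ×_S V₀` for an open `U ⊆ V₀`. -/
noncomputable def restrictMap : pullback g (U.ι ≫ h) ⟶ pullback g h :=
  pullback.map g (U.ι ≫ h) g h (𝟙 T) U.ι (𝟙 S) (by simp) (by simp)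

instance : IsOpenImmersion (restrictMap g h U) := by
  delta restrictMap; infer_instance

@[reassoc (attr := simp)]
lemma restrictMap_fst : restrictMap g h U ≫ pullback.fst g h = pullback.fst g (U.ι ≫ h) := by
  unfold restrictMap pullback.map
  exact (pullback.lift_fst _ _ _).trans (Category.comp_id _)

@[reassoc (attr := simp)]
lemma restrictMap_snd :
    restrictMap g h U ≫ pullback.snd g h = pullback.snd g (U.ι ≫ h) ≫ U.ι := by
  unfold restrictMap pullback.map
  exact pullback.lift_snd _ _ _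

lemma opensRange_restrictMap :
    (restrictMap g h U).opensRange = pullback.snd g h ⁻¹ᵁ U := by
  apply TopologicalSpace.Opens.ext
  simp only [Scheme.Hom.coe_opensRange, restrictMap, Scheme.Pullback.range_map]
  simp

/-- `T ×_S U` is affine iff the preimage of `U` in `T ×_S V₀` is an affine open. -/
lemma isAffine_pullback_restrict_iff :
    IsAffine (pullback g (U.ι ≫ h)) ↔ IsAffineOpen (pullback.snd g h ⁻¹ᵁ U) := by
  rw [← opensRange_restrictMap]
  constructor
  · intro _
    exact isAffineOpen_opensRange (restrictMap g h U)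
  · intro hU
    have : IsAffine ((restrictMap g h U).opensRange : Scheme) := hU
    exact IsAffine.of_isIso (restrictMap g h U).isoOpensRange.hom

end Restrict


section Affine

variable [hE : ∀ {i j : J} (f : i ⟶ j), IsAffineHom (E.map f)]

lemma snd_preimage_preimage {T S V₀ : Scheme.{u}} (g : T ⟶ S) (h : V₀ ⟶ S) (V : S.Opens) :
    pullback.snd g h ⁻¹ᵁ (h ⁻¹ᵁ V) = pullback.fst g h ⁻¹ᵁ (g ⁻¹ᵁ V) := by
  rw [← Scheme.Hom.comp_preimage, ← Scheme.Hom.comp_preimage, pullback.condition]

set_option backward.isDefEq.respectTransparency false in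
/-- **Descent of affineness of a morphism** (one-step form): if the base change of `f₀` to the
limit is affine then so is its base change to some stage. -/
theorem exists_isAffineHom_pullback_fst [IsCofiltered J] (hcE : IsLimit cE)
    [CompactSpace (E.obj j₀)] {X₀ : Scheme.{u}} (f₀ : X₀ ⟶ E.obj j₀) [QuasiCompact f₀]
    [QuasiSeparatedSpace X₀] [IsAffineHom (pullback.fst (cE.π.app j₀) f₀)] :
    ∃ k : Over j₀, IsAffineHom (pullback.fst (E.map k.hom) f₀) := by
  classical
  have hπ : ∀ i, IsAffineHom (cE.π.app i) := isAffineHom_π_app E cE hcE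
  -- finite affine cover of `E.obj j₀`
  have hbasis := (E.obj j₀).isBasis_affineOpens
  have hex : ∀ y : E.obj j₀, ∃ V : (E.obj j₀).Opens, IsAffineOpen V ∧ y ∈ V := by
    intro y
    obtain ⟨_, ⟨V, hV, rfl⟩, hyV, -⟩ := hbasis.exists_subset_of_mem_open
      (Set.mem_univ y) isOpen_univ
    exact ⟨V, hV, hyV⟩
  choose V hV hyV using hex
  obtain ⟨t, ht⟩ := CompactSpace.elim_nhds_subcover (fun y => ((V y : (E.obj j₀).Opens) : Set _))
    (fun y => (V y).2.mem_nhds (hyV y))
  -- for each member of the cover, affineness descends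
  have hstage : ∀ y : E.obj j₀, ∃ k : Over j₀,
      IsAffine (pullback (E.map k.hom) ((f₀ ⁻¹ᵁ V y).ι ≫ f₀)) := by
    intro y
    have h1 : IsAffineOpen (pullback.snd (cE.π.app j₀) f₀ ⁻¹ᵁ (f₀ ⁻¹ᵁ V y)) := by
      rw [snd_preimage_preimage]
      exact ((hV y).preimage (cE.π.app j₀)).preimage _
    have h2 : IsAffine (pullback (cE.π.app j₀) ((f₀ ⁻¹ᵁ V y).ι ≫ f₀)) :=
      (isAffine_pullback_restrict_iff _ _ _).mpr h1
    have h3 : CompactSpace (f₀ ⁻¹ᵁ V y).toScheme :=
      isCompact_iff_compactSpace.mp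
        (QuasiCompact.isCompact_preimage (f := f₀) _ (V y).2 (hV y).isCompact)
    have h3' : QuasiSeparatedSpace (f₀ ⁻¹ᵁ V y).toScheme :=
      quasiSeparatedSpace_of_quasiSeparated (f₀ ⁻¹ᵁ V y).ι
    exact exists_isAffine_pullback E cE j₀ ((f₀ ⁻¹ᵁ V y).ι ≫ f₀) hcE
  choose k hk using hstage
  obtain ⟨m, hm⟩ := IsCofiltered.inf_objs_exists (t.image k)
  refine ⟨m, isAffineHom_of_forall_exists_isAffineOpen _ fun x => ?_⟩
  have hx : (E.map m.hom) x ∈ ⋃ y ∈ t, ((V y : (E.obj j₀).Opens) : Set _) := by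
    rw [ht]; exact Set.mem_univ _
  simp only [Set.mem_iUnion] at hx
  obtain ⟨y, hyt, hxy⟩ := hx
  obtain ⟨a⟩ := hm (Finset.mem_image_of_mem k hyt)
  refine ⟨E.map m.hom ⁻¹ᵁ V y, hxy, (hV y).preimage _, ?_⟩
  have h4 : IsAffine (pullback (E.map (k y).hom) ((f₀ ⁻¹ᵁ V y).ι ≫ f₀)) := hk y
  have h5 : IsAffine (pullback (E.map m.hom) ((f₀ ⁻¹ᵁ V y).ι ≫ f₀)) :=
    isAffine_pullback_of_hom E j₀ _ a
  have h6 := (isAffine_pullback_restrict_iff (E.map m.hom) f₀ (f₀ ⁻¹ᵁ V y)).mp h5
  rwa [snd_preimage_preimage] at h6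

end Affine


section TwoStep

variable {I : Type u} [SmallCategory I] (D : I ⥤ Scheme.{u}) (c : Cone D) (i₀ : I)
  {X₀ Y₀ : Scheme.{u}} (f₀ : X₀ ⟶ Y₀) (g₀ : Y₀ ⟶ D.obj i₀)

/-- The terminal object of `Over i₀`. -/
abbrev top : Over i₀ := Over.mk (𝟙 i₀)

/-- `f₀ : X₀ ⟶ Y₀` seen as a morphism to the stage `D i₀ ×_{D i₀} Y₀` of the system of `g₀`. -/
noncomputable def liftTop : X₀ ⟶ pullback (D.map (𝟙 i₀)) g₀ :=
  pullback.lift (f₀ ≫ g₀) f₀ (by simp)

@[reassoc (attr := simp)]
lemma liftTop_snd : liftTop D i₀ f₀ g₀ ≫ pullback.snd (D.map (𝟙 i₀)) g₀ = f₀ :=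
  pullback.lift_snd _ _ _

instance : IsIso (pullback.snd (D.map (𝟙 i₀)) g₀) := by
  rw [D.map_id]; infer_instance

set_option backward.isDefEq.respectTransparency false in
/-- Reduction of the two-step descent statements (EGA IV 8.10.5 shape) to a one-step statement
for the system `sys D i₀ g₀` over `Over i₀`. -/
theorem twoStep {X Y : Scheme.{u}} (f : X ⟶ Y) (g : Y ⟶ c.pt) (qY : Y ⟶ Y₀) (qX : X ⟶ X₀)
    (hY : IsPullback qY g g₀ (c.π.app i₀)) (hX : IsPullback qX f f₀ qY)
    (P : MorphismProperty Scheme.{u}) [P.RespectsIso] (hf : P f)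
    (H : ∀ f₀' : X₀ ⟶ (sys D i₀ g₀).obj (top i₀), f₀' = liftTop D i₀ f₀ g₀ →
      P (pullback.fst ((sysCone D c i₀ g₀).π.app (top i₀)) f₀') →
      ∃ k : Over (top i₀), P (pullback.fst ((sys D i₀ g₀).map k.hom) f₀')) :
    ∃ (i : I) (φ : i ⟶ i₀) (Xi Yi : Scheme.{u}) (fi : Xi ⟶ Yi) (gi : Yi ⟶ D.obj i)
      (pY : Yi ⟶ Y₀) (pX : Xi ⟶ X₀),
      IsPullback pY gi g₀ (D.map φ) ∧ IsPullback pX fi f₀ pY ∧ P fi := by
  -- names for the relevant morphisms, with convenient types
  let T : Scheme.{u} := (sys D i₀ g₀).obj (top i₀)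
  let sT : T ⟶ Y₀ := pullback.snd (D.map (𝟙 i₀)) g₀
  have : IsIso sT := inferInstanceAs (IsIso (pullback.snd (D.map (𝟙 i₀)) g₀))
  let m : T ≅ Y₀ := asIso sT
  let f₀' : X₀ ⟶ T := liftTop D i₀ f₀ g₀
  have hf₀' : f₀' ≫ sT = f₀ := liftTop_snd D i₀ f₀ g₀
  let πT : (sysCone D c i₀ g₀).pt ⟶ T := (sysCone D c i₀ g₀).π.app (top i₀)
  have hπT : πT ≫ sT = pullback.snd (c.π.app i₀) g₀ := sysCone_π_snd D c i₀ g₀ (top i₀)
  let eY : Y ≅ (sysCone D c i₀ g₀).pt := hY.flip.isoPullback
  have heY₂ : eY.hom ≫ pullback.snd (c.π.app i₀) g₀ = qY := hY.flip.isoPullback_hom_snd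
  -- the base change of `f₀'` to the limit is isomorphic to `f`
  have hsq : IsPullback (f ≫ eY.hom) qX πT f₀' := by
    refine hX.flip.of_iso (Iso.refl X) eY (Iso.refl X₀) m.symm ?_ ?_ ?_ ?_
    · simp
    · simp
    · rw [Iso.symm_hom, Iso.comp_inv_eq, Category.assoc]
      change qY = eY.hom ≫ πT ≫ sT
      rw [hπT, heY₂]
    · rw [Iso.symm_hom, Iso.comp_inv_eq, Category.assoc]
      change f₀ = (Iso.refl X₀).hom ≫ f₀' ≫ sT
      rw [hf₀']; simp
  have hPf : P (pullback.fst πT f₀') := by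
    have e : Arrow.mk f ≅ Arrow.mk (pullback.fst πT f₀') :=
      Arrow.isoMk hsq.isoPullback eY (by simp)
    exact (P.arrow_mk_iso_iff e).mp hf
  obtain ⟨k, hk⟩ := H f₀' rfl hPf
  let Yi : Scheme.{u} := (sys D i₀ g₀).obj k.left
  let tr : Yi ⟶ T := (sys D i₀ g₀).map k.hom
  have htr : tr ≫ sT = pullback.snd (D.map k.left.hom) g₀ := sys_map_snd D i₀ g₀ k.hom
  refine ⟨k.left.left, k.left.hom, pullback tr f₀', Yi, pullback.fst tr f₀',
    pullback.fst (D.map k.left.hom) g₀, pullback.snd (D.map k.left.hom) g₀, pullback.snd tr f₀',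
    (IsPullback.of_hasPullback (D.map k.left.hom) g₀).flip, ?_, hk⟩
  refine (IsPullback.of_hasPullback tr f₀').flip.of_iso
    (Iso.refl _) (Iso.refl _) (Iso.refl _) m ?_ ?_ ?_ ?_
  · simp
  · simp
  · change f₀' ≫ sT = (Iso.refl X₀).hom ≫ f₀
    rw [hf₀']; simp
  · change tr ≫ sT = (Iso.refl Yi).hom ≫ pullback.snd (D.map k.left.hom) g₀
    rw [htr]; simp

end TwoStep

end Groth.Agent.Lib.Helper13.LimDescent
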