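import Groth.Agent.Lib.Helper13.LimDescent3

/-!
# Relative descent through cofiltered limits, part 4 (helper13)

`exists_isIso_pullback_fst` (descent of isomorphisms), `exists_mono_pullback_fst`.
-/

set_option autoImplicit false
universe v u

open CategoryTheory Limits AlgebraicGeometry Topology

namespace Groth.Agent.Lib.Helper13.LimDescent

section Iso

variable {J : Type u} [SmallCategory J] (E : J ⥤ Scheme.{u}) (cE : Cone E) (j₀ : J)
  {X₀ : Scheme.{u}}
variable [hE : ∀ {i j : J} (f : i ⟶ j), IsAffineHom (E.map f)]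

set_option backward.isDefEq.respectTransparency false in
/-- **Descent of isomorphisms**. -/
theorem exists_isIso_pullback_fst [IsCofiltered J] (hcE : IsLimit cE)
    [∀ j, CompactSpace (E.obj j)] [∀ j, QuasiSeparatedSpace (E.obj j)] [CompactSpace X₀]
    [QuasiSeparatedSpace X₀] (f₀ : X₀ ⟶ E.obj j₀) [LocallyOfFinitePresentation f₀]
    (h : IsIso (pullback.fst (cE.π.app j₀) f₀)) :
    ∃ k : Over j₀, IsIso (pullback.fst (E.map k.hom) f₀) := by
  -- Step 1: the inverse of `f` descends to a section `g` at some stage.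
  let D₁ : Over j₀ ⥤ Scheme.{u} := Over.forget j₀ ⋙ E
  let t₁ : D₁ ⟶ (Functor.const (Over j₀)).obj (E.obj j₀) :=
    { app := fun k => E.map k.hom
      naturality := fun k k' a => by
        change E.map a.left ≫ E.map k'.hom = E.map k.hom ≫ 𝟙 _
        rw [← E.map_comp, Over.w a, Category.comp_id] }
  let c₁ : Cone D₁ := cE.whisker (Over.forget j₀)
  have hc₁ : IsLimit c₁ := (Functor.Initial.isLimitWhiskerEquiv (Over.forget j₀) cE).symm hcE
  have i1 : ∀ {k k' : Over j₀} (a : k ⟶ k'), IsAffineHom (D₁.map a) := fun a => hE a.left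
  have i2 : ∀ k, CompactSpace (D₁.obj k) := fun k => inferInstanceAs (CompactSpace (E.obj k.left))
  have i3 : ∀ k, QuasiSeparatedSpace (D₁.obj k) :=
    fun k => inferInstanceAs (QuasiSeparatedSpace (E.obj k.left))
  let a : cE.pt ⟶ X₀ := inv (pullback.fst (cE.π.app j₀) f₀) ≫ pullback.snd (cE.π.app j₀) f₀
  have haf : a ≫ f₀ = cE.π.app j₀ := by
    simp only [a, Category.assoc]
    rw [← pullback.condition, IsIso.inv_hom_id_assoc]
  have ha : c₁.π ≫ t₁ = (Functor.const _).map (a ≫ f₀) := by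
    ext k
    change cE.π.app k.left ≫ E.map k.hom = a ≫ f₀
    rw [haf, cE.w]
  obtain ⟨k, g, hg₁, hg₂⟩ := Scheme.exists_π_app_comp_eq_of_locallyOfFinitePresentation
    D₁ t₁ f₀ c₁ hc₁ a ha
  replace hg₁ : cE.π.app k.left ≫ g = a := hg₁
  replace hg₂ : g ≫ f₀ = E.map k.hom := hg₂
  -- Step 2: the two maps `X_k ⟶ X₀` agree at a later stage.
  let D₂ : Over j₀ ⥤ Scheme.{u} := sys E j₀ f₀
  let t₂ : D₂ ⟶ (Functor.const (Over j₀)).obj (E.obj j₀) :=
    { app := fun k' => pullback.snd (E.map k'.hom) f₀ ≫ f₀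
      naturality := fun k₁ k₂ b => by
        change (sys E j₀ f₀).map b ≫ pullback.snd (E.map k₂.hom) f₀ ≫ f₀ =
          (pullback.snd (E.map k₁.hom) f₀ ≫ f₀) ≫ 𝟙 _
        rw [← Category.assoc, sys_map_snd, Category.comp_id] }
  let α : D₂.obj k ⟶ X₀ := pullback.snd (E.map k.hom) f₀
  let β : D₂.obj k ⟶ X₀ := pullback.fst (E.map k.hom) f₀ ≫ g
  have hα : t₂.app k = α ≫ f₀ := rfl
  have hβ : t₂.app k = β ≫ f₀ := by
    change pullback.snd (E.map k.hom) f₀ ≫ f₀ = (pullback.fst (E.map k.hom) f₀ ≫ g) ≫ f₀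
    rw [Category.assoc, hg₂, pullback.condition]
  have hαβ : (sysCone E cE j₀ f₀).π.app k ≫ α = (sysCone E cE j₀ f₀).π.app k ≫ β := by
    change (sysCone E cE j₀ f₀).π.app k ≫ pullback.snd (E.map k.hom) f₀ =
      (sysCone E cE j₀ f₀).π.app k ≫ pullback.fst (E.map k.hom) f₀ ≫ g
    rw [sysCone_π_snd, ← Category.assoc, sysCone_π_fst, Category.assoc, hg₁]
    simp only [a]
    rw [IsIso.hom_inv_id_assoc]
  have i4 : ∀ k', CompactSpace (D₂.obj k') := fun k' => inferInstance
  obtain ⟨k', b, hb⟩ := Scheme.exists_hom_comp_eq_comp_of_locallyOfFiniteType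
    D₂ t₂ f₀ (sysCone E cE j₀ f₀) (isLimitSysCone E cE j₀ f₀ hcE) α β hα hβ hαβ
  replace hb : (sys E j₀ f₀).map b ≫ pullback.snd (E.map k.hom) f₀ =
      (sys E j₀ f₀).map b ≫ pullback.fst (E.map k.hom) f₀ ≫ g := hb
  rw [sys_map_snd, ← Category.assoc, sys_map_fst, Category.assoc] at hb
  -- Step 3: the section at stage `k'` is an inverse.
  refine ⟨k', ?_⟩
  have hg' : (E.map b.left ≫ g) ≫ f₀ = E.map k'.hom := by
    rw [Category.assoc, hg₂, ← E.map_comp, Over.w b]
  let σ : E.obj k'.left ⟶ pullback (E.map k'.hom) f₀ :=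
    pullback.lift (𝟙 _) (E.map b.left ≫ g) (by rw [Category.id_comp, hg'])
  have hσ₁ : σ ≫ pullback.fst (E.map k'.hom) f₀ = 𝟙 _ := pullback.lift_fst _ _ _
  have hσ₂ : σ ≫ pullback.snd (E.map k'.hom) f₀ = E.map b.left ≫ g := pullback.lift_snd _ _ _
  refine ⟨σ, ?_, hσ₁⟩
  apply pullback.hom_ext
  · rw [Category.assoc, hσ₁, Category.comp_id, Category.id_comp]
  · rw [Category.assoc, hσ₂, Category.id_comp, ← hb]

end Iso


section Mono

variable {J : Type u} [SmallCategory J] (E : J ⥤ Scheme.{u}) (cE : Cone E) (j₀ : J)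
  {X₀ : Scheme.{u}}
variable [hE : ∀ {i j : J} (f : i ⟶ j), IsAffineHom (E.map f)]

set_option backward.isDefEq.respectTransparency false in
/-- **Descent of monomorphisms**. -/
theorem exists_mono_pullback_fst [IsCofiltered J] (hcE : IsLimit cE)
    [CompactSpace (E.obj j₀)] [QuasiSeparatedSpace (E.obj j₀)] [CompactSpace X₀]
    [QuasiSeparatedSpace X₀] (f₀ : X₀ ⟶ E.obj j₀) [LocallyOfFiniteType f₀]
    (h : Mono (pullback.fst (cE.π.app j₀) f₀)) :
    ∃ k : Over j₀, Mono (pullback.fst (E.map k.hom) f₀) := by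
  simp only [← pullback.isIso_diagonal_iff, ← MorphismProperty.isomorphisms.iff] at h ⊢
  refine diagonal_step E cE j₀ f₀ (MorphismProperty.isomorphisms Scheme.{u}) ?_ h
  refine relStep E cE j₀ (pullback.diagonal f₀) (pullback.fst f₀ f₀ ≫ f₀)
    (MorphismProperty.isomorphisms Scheme.{u}) ?_
  intro f₀' hf₀' hP
  have : LocallyOfFinitePresentation f₀' := by
    rw [hf₀']
    exact (liftTop_prop_iff E j₀ _ _ @LocallyOfFinitePresentation).mpr inferInstance
  simp only [MorphismProperty.isomorphisms.iff] at hP ⊢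
  exact exists_isIso_pullback_fst (sys E j₀ (pullback.fst f₀ f₀ ≫ f₀))
    (sysCone E cE j₀ _) (top j₀) (isLimitSysCone E cE j₀ _ hcE) f₀' hP

end Mono

end Groth.Agent.Lib.Helper13.LimDescent
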