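import Groth.Agent.Lib.Helper13.LimDescent4

/-!
# Relative descent through cofiltered limits, part 5 (helper13)

`exists_isOpenImmersion_pullback_fst` (descent of open immersions).
-/

set_option autoImplicit false
universe v u

open CategoryTheory Limits AlgebraicGeometry Topology

namespace Groth.Agent.Lib.Helper13.LimDescent

section Cat5

variable {C : Type u} [Category.{v} C] [HasPullbacks C]

lemma prop_fst_fst_symm (P : MorphismProperty C) [P.RespectsIso] {B Y V X : C} (b : B ⟶ Y)
    (v : V ⟶ Y) (f : X ⟶ Y) :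
    P (pullback.fst (pullback.fst b v) (pullback.fst b f)) ↔
      P (pullback.fst (pullback.snd b v) (pullback.fst v f)) := by
  rw [prop_fst_fst_iff P (pullback.fst b v) b f rfl,
    prop_fst_fst_iff P (pullback.snd b v) v f pullback.condition.symm]

lemma prop_fst_fst_of_comp (P : MorphismProperty C) [P.IsStableUnderBaseChange] {B' B Y V X : C}
    (a : B' ⟶ B) (b : B ⟶ Y) {b' : B' ⟶ Y} (hb : a ≫ b = b') (v : V ⟶ Y) (f : X ⟶ Y)
    (h : P (pullback.fst (pullback.fst b v) (pullback.fst b f))) :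
    P (pullback.fst (pullback.fst b' v) (pullback.fst b' f)) := by
  rw [prop_fst_fst_iff P (pullback.fst b v) b f rfl] at h
  rw [prop_fst_fst_iff P (pullback.fst b' v) b' f rfl]
  let c : pullback b' v ⟶ pullback b v :=
    pullback.map b' v b v a (𝟙 V) (𝟙 Y) (by simp [hb]) (by simp)
  have hc : c ≫ pullback.fst b v ≫ b = pullback.fst b' v ≫ b' := by
    have e : c ≫ pullback.fst b v = pullback.fst b' v ≫ a := pullback.lift_fst _ _ _
    rw [← Category.assoc, e, Category.assoc, hb]
  exact prop_fst_of_comp P c (pullback.fst b v ≫ b) f hc h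

end Cat5

section OpenImmersion

/-- An open-immersion criterion: `F = fst b f` is an open immersion if its base change to the
open `b⁻¹ V` is an isomorphism and its range lies in `b⁻¹ V`. -/
lemma isOpenImmersion_fst_of_isIso {B Y X : Scheme.{u}} (b : B ⟶ Y) (f : X ⟶ Y) (V : Y.Opens)
    (h₁ : IsIso (pullback.fst (pullback.fst b V.ι) (pullback.fst b f)))
    (h₂ : pullback.fst b f ⁻¹ᵁ (b ⁻¹ᵁ V) = ⊤) : IsOpenImmersion (pullback.fst b f) := by
  let F := pullback.fst b f
  let o := pullback.fst b V.ι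
  have ho : Set.range o = b ⁻¹' V := by
    rw [Scheme.Pullback.range_fst, Scheme.Opens.range_ι]
  have : IsIso (pullback.snd o F) := by
    apply isIso_of_isOpenImmersion_of_opensRange_eq_top
    apply TopologicalSpace.Opens.ext
    rw [Scheme.Hom.coe_opensRange, Scheme.Pullback.range_snd, ho]
    exact congrArg SetLike.coe h₂
  have e : F = inv (pullback.snd o F) ≫ pullback.fst o F ≫ o := by
    rw [IsIso.eq_inv_comp, pullback.condition]
  rw [show pullback.fst b f = F from rfl, e]
  infer_instance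

/-- Converse at the level of ranges. -/
lemma isIso_fst_fst_of_isOpenImmersion {B Y X : Scheme.{u}} (b : B ⟶ Y) (f : X ⟶ Y) (V : Y.Opens)
    [IsOpenImmersion (pullback.fst b f)]
    (h : b ⁻¹' V ⊆ Set.range (pullback.fst b f)) :
    IsIso (pullback.fst (pullback.fst b V.ι) (pullback.fst b f)) := by
  apply isIso_of_isOpenImmersion_of_opensRange_eq_top
  apply TopologicalSpace.Opens.ext
  rw [Scheme.Hom.coe_opensRange, Scheme.Pullback.range_fst]
  rw [TopologicalSpace.Opens.coe_top, Set.eq_univ_iff_forall]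
  intro z
  apply h
  have : (pullback.fst b V.ι ≫ b) z = (pullback.snd b V.ι ≫ V.ι) z := by rw [pullback.condition]
  simp only [Scheme.Hom.comp_apply] at this
  simp only [Set.mem_preimage, this]
  exact (pullback.snd b V.ι z).2

end OpenImmersion


section OIDescent

variable {J : Type u} [SmallCategory J] (E : J ⥤ Scheme.{u}) (cE : Cone E) (j₀ : J)
  {X₀ : Scheme.{u}}
variable [hE : ∀ {i j : J} (f : i ⟶ j), IsAffineHom (E.map f)]

set_option backward.isDefEq.respectTransparency false in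
theorem exists_isOpenImmersion_pullback_fst_aux [IsCofiltered J] (hcE : IsLimit cE)
    [∀ j, CompactSpace (E.obj j)] [∀ j, QuasiSeparatedSpace (E.obj j)] [CompactSpace X₀]
    [QuasiSeparatedSpace X₀] (f₀ : X₀ ⟶ E.obj j₀) [LocallyOfFinitePresentation f₀]
    (V : (E.obj j₀).Opens) (hV : IsCompact (V : Set (E.obj j₀)))
    (hVU : (cE.π.app j₀) ⁻¹' V = Set.range (pullback.fst (cE.π.app j₀) f₀))
    (h : IsOpenImmersion (pullback.fst (cE.π.app j₀) f₀)) :
    ∃ k : Over j₀, IsOpenImmersion (pullback.fst (E.map k.hom) f₀) := by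
  -- (a) the iso part
  have hV₁ : CompactSpace V.toScheme := isCompact_iff_compactSpace.mp hV
  have hV₂ : QuasiSeparatedSpace V.toScheme := quasiSeparatedSpace_of_quasiSeparated V.ι
  have ha : ∃ k : Over j₀, IsIso (pullback.fst (pullback.fst (E.map k.hom) V.ι)
      (pullback.fst (E.map k.hom) f₀)) := by
    have h0 : IsIso (pullback.fst (pullback.fst (cE.π.app j₀) V.ι)
        (pullback.fst (cE.π.app j₀) f₀)) :=
      isIso_fst_fst_of_isOpenImmersion _ _ V hVU.le
    simp only [← MorphismProperty.isomorphisms.iff] at h0 ⊢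
    have h0' := (prop_fst_fst_symm (MorphismProperty.isomorphisms Scheme.{u}) (cE.π.app j₀) V.ι
      f₀).mp h0
    refine Exists.imp (fun k hk => ?_) (relStep E cE j₀ (pullback.fst V.ι f₀) V.ι
      (MorphismProperty.isomorphisms Scheme.{u}) ?_ h0')
    · exact (prop_fst_fst_symm _ _ _ _).mpr hk
    · intro f₀' hf₀' hP
      have : LocallyOfFinitePresentation f₀' := by
        rw [hf₀']
        exact (liftTop_prop_iff E j₀ _ _ @LocallyOfFinitePresentation).mpr inferInstance
      have : CompactSpace ↥(pullback V.ι f₀) :=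
        QuasiCompact.compactSpace_of_compactSpace (pullback.fst V.ι f₀)
      have : QuasiSeparatedSpace ↥(pullback V.ι f₀) :=
        quasiSeparatedSpace_of_quasiSeparated (pullback.snd V.ι f₀)
      simp only [MorphismProperty.isomorphisms.iff] at hP ⊢
      exact exists_isIso_pullback_fst (sys E j₀ V.ι) (sysCone E cE j₀ _) (top j₀)
        (isLimitSysCone E cE j₀ _ hcE) f₀' hP
  obtain ⟨k₂, hk₂⟩ := ha
  -- (b) the range part
  let W : ((sys E j₀ f₀).obj k₂).Opens :=
    pullback.fst (E.map k₂.hom) f₀ ⁻¹ᵁ (E.map k₂.hom ⁻¹ᵁ V)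
  have hW : (sysCone E cE j₀ f₀).π.app k₂ ⁻¹ᵁ W = ⊤ := by
    have e : ((sysCone E cE j₀ f₀).π.app k₂ ≫ pullback.fst (E.map k₂.hom) f₀) ≫ E.map k₂.hom =
        pullback.fst (cE.π.app j₀) f₀ ≫ cE.π.app j₀ := by
      rw [sysCone_π_fst, Category.assoc, cE.w]
    simp only [W]
    rw [← Scheme.Hom.comp_preimage, ← Scheme.Hom.comp_preimage, e, Scheme.Hom.comp_preimage]
    apply TopologicalSpace.Opens.ext
    ext x
    simp only [TopologicalSpace.Opens.map_coe, Set.mem_preimage, TopologicalSpace.Opens.coe_top,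
      Set.mem_univ, iff_true]
    have : pullback.fst (cE.π.app j₀) f₀ x ∈ (cE.π.app j₀) ⁻¹' V := by
      rw [hVU]; exact ⟨x, rfl⟩
    exact this
  obtain ⟨k₃, a, hk₃⟩ := exists_map_eq_top (sys E j₀ f₀) (sysCone E cE j₀ f₀)
    (isLimitSysCone E cE j₀ f₀ hcE) W hW
  refine ⟨k₃, isOpenImmersion_fst_of_isIso (E.map k₃.hom) f₀ V ?_ ?_⟩
  · simp only [← MorphismProperty.isomorphisms.iff] at hk₂ ⊢
    exact prop_fst_fst_of_comp (MorphismProperty.isomorphisms Scheme.{u}) (E.map a.left)
      (E.map k₂.hom) (b' := E.map k₃.hom) (by rw [← E.map_comp, Over.w a]) V.ι f₀ hk₂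
  · have e : ((sys E j₀ f₀).map a ≫ pullback.fst (E.map k₂.hom) f₀) ≫ E.map k₂.hom =
        pullback.fst (E.map k₃.hom) f₀ ≫ E.map k₃.hom := by
      rw [sys_map_fst, Category.assoc, ← E.map_comp, Over.w a]
    simp only [W] at hk₃
    rw [← Scheme.Hom.comp_preimage, ← Scheme.Hom.comp_preimage, e, Scheme.Hom.comp_preimage]
      at hk₃
    exact hk₃


set_option backward.isDefEq.respectTransparency false in
/-- **Descent of open immersions**. -/
theorem exists_isOpenImmersion_pullback_fst [IsCofiltered J] (hcE : IsLimit cE)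
    [∀ j, CompactSpace (E.obj j)] [∀ j, QuasiSeparatedSpace (E.obj j)] [CompactSpace X₀]
    [QuasiSeparatedSpace X₀] (f₀ : X₀ ⟶ E.obj j₀) [LocallyOfFinitePresentation f₀]
    (h : IsOpenImmersion (pullback.fst (cE.π.app j₀) f₀)) :
    ∃ k : Over j₀, IsOpenImmersion (pullback.fst (E.map k.hom) f₀) := by
  have hπ : ∀ i, IsAffineHom (cE.π.app i) := isAffineHom_π_app E cE hcE
  have hXc : CompactSpace ↥(pullback (cE.π.app j₀) f₀) :=
    QuasiCompact.compactSpace_of_compactSpace (pullback.snd (cE.π.app j₀) f₀)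
  let U : cE.pt.Opens := (pullback.fst (cE.π.app j₀) f₀).opensRange
  have hU : IsCompact (U : Set cE.pt) := by
    simpa [U] using isCompact_range (pullback.fst (cE.π.app j₀) f₀).continuous
  obtain ⟨i, V', hV', hV'U⟩ := exists_preimage_eq E cE hcE U hU
  let m := IsCofiltered.min i j₀
  let a : m ⟶ i := IsCofiltered.minToLeft i j₀
  let b : m ⟶ j₀ := IsCofiltered.minToRight i j₀
  let k₁ : Over j₀ := Over.mk b
  let V : (E.obj m).Opens := E.map a ⁻¹ᵁ V'
  have hV : IsCompact (V : Set (E.obj m)) :=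
    QuasiCompact.isCompact_preimage (f := E.map a) _ V'.2 hV'
  have hVU : (cE.π.app m) ⁻¹' V =
      Set.range (pullback.fst (cE.π.app m) (pullback.fst (E.map b) f₀)) := by
    have e1 : (cE.π.app m) ⁻¹' (V : Set (E.obj m)) = (cE.π.app i) ⁻¹' (V' : Set (E.obj i)) := by
      rw [← cE.w a]; rfl
    have e2 : (cE.π.app i) ⁻¹' (V' : Set (E.obj i)) =
        Set.range (pullback.fst (cE.π.app j₀) f₀) := congrArg SetLike.coe hV'U
    have e3 : (cE.π.app m) ⁻¹' ((E.map b) ⁻¹' Set.range f₀) = (cE.π.app j₀) ⁻¹' Set.range f₀ := by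
      rw [← cE.w b]; rfl
    rw [e1, e2, Scheme.Pullback.range_fst, Scheme.Pullback.range_fst, Scheme.Pullback.range_fst,
      e3]
  have h₁ : IsOpenImmersion (pullback.fst (cE.π.app m) (pullback.fst (E.map b) f₀)) :=
    (rebase_limit_iff E cE j₀ f₀ @IsOpenImmersion k₁).mpr h
  obtain ⟨k', hk'⟩ := exists_isOpenImmersion_pullback_fst_aux E cE m hcE
    (pullback.fst (E.map b) f₀) V hV hVU h₁
  exact ⟨Over.mk (k'.hom ≫ b), (rebase_stage_iff E j₀ f₀ @IsOpenImmersion k₁ k').mp hk'⟩

end OIDescent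

end Groth.Agent.Lib.Helper13.LimDescent
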