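import Groth.Agent.Lib.Helper13.LimDescent
import Mathlib.AlgebraicGeometry.Morphisms.FinitePresentation
import Mathlib.AlgebraicGeometry.Morphisms.UniversallyInjective

/-!
# Relative descent through cofiltered limits, part 2 (helper13)

* categorical lemmas on diagonals of base changes (`isPullback_diagonal`, `isPullback_diagMap`),
  `prop_iff_of_isPullback`;
* `locallyOfFinitePresentation_of_comp`;
* stage lemmas `stage_of_hom`, `limit_of_stage`, `rebase_limit_iff`, `rebase_stage_iff`;
* normal form `NF` of constructible sets, `exists_preimage_eq_empty`;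
* `exists_surjective_pullback_fst`: descent of surjectivity.
-/

set_option autoImplicit false
universe v u

open CategoryTheory Limits AlgebraicGeometry Topology

namespace Groth.Agent.Lib.Helper13.LimDescent

section Cat

variable {C : Type u} [Category.{v} C] [HasPullbacks C]
  {Xk Yk X₀ Y₀ : C} {p : Xk ⟶ X₀} {fk : Xk ⟶ Yk} {f₀ : X₀ ⟶ Y₀} {b : Yk ⟶ Y₀}

/-- The map `X_k ×_{Y_k} X_k ⟶ X₀ ×_{Y₀} X₀` induced by a commutative square. -/
noncomputable abbrev diagMap (h : IsPullback p fk f₀ b) : pullback fk fk ⟶ pullback f₀ f₀ :=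
  pullback.map fk fk f₀ f₀ p p b h.w.symm h.w.symm

lemma isPullback_diagMap_fst (h : IsPullback p fk f₀ b) :
    IsPullback (diagMap h) (pullback.fst fk fk) (pullback.fst f₀ f₀) p := by
  have h1 : IsPullback (pullback.snd fk fk ≫ p) (pullback.fst fk fk) f₀ (fk ≫ b) :=
    (IsPullback.of_hasPullback fk fk).flip.paste_horiz h
  have h2 : IsPullback (pullback.snd f₀ f₀) (pullback.fst f₀ f₀) f₀ f₀ :=
    (IsPullback.of_hasPullback f₀ f₀).flip
  refine IsPullback.of_right (h₁₂ := pullback.snd f₀ f₀) (h₂₂ := f₀) ?_ ?_ h2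
  · have e : diagMap h ≫ pullback.snd f₀ f₀ = pullback.snd fk fk ≫ p := pullback.lift_snd _ _ _
    rw [e, h.w]
    exact h1
  · exact pullback.lift_fst _ _ _

/-- The diagonal of a base change is the base change of the diagonal. -/
lemma isPullback_diagonal (h : IsPullback p fk f₀ b) :
    IsPullback p (pullback.diagonal fk) (pullback.diagonal f₀) (diagMap h) := by
  refine IsPullback.of_bot (v₂₁ := pullback.fst fk fk) (v₂₂ := pullback.fst f₀ f₀)
    (h₃₁ := p) ?_ ?_ (isPullback_diagMap_fst h)
  · rw [pullback.diagonal_fst, pullback.diagonal_fst]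
    exact IsPullback.of_vert_isIso ⟨by simp⟩
  · apply pullback.hom_ext
    · have e : diagMap h ≫ pullback.fst f₀ f₀ = pullback.fst fk fk ≫ p := pullback.lift_fst _ _ _
      rw [Category.assoc, Category.assoc, pullback.diagonal_fst, e,
        pullback.diagonal_fst_assoc, Category.comp_id]
    · have e : diagMap h ≫ pullback.snd f₀ f₀ = pullback.snd fk fk ≫ p := pullback.lift_snd _ _ _
      rw [Category.assoc, Category.assoc, pullback.diagonal_snd, e,
        pullback.diagonal_snd_assoc, Category.comp_id]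

/-- The diagonal object of a base change is the base change of the diagonal object. -/
lemma isPullback_diagMap (h : IsPullback p fk f₀ b) :
    IsPullback (diagMap h) (pullback.fst fk fk ≫ fk) (pullback.fst f₀ f₀ ≫ f₀) b :=
  (isPullback_diagMap_fst h).paste_vert h

/-- For an iso-invariant property, all base changes along a given map are equivalent. -/
lemma prop_iff_of_isPullback (P : MorphismProperty C) [P.RespectsIso]
    (h : IsPullback p fk f₀ b) : P fk ↔ P (pullback.fst b f₀) := by
  have e : Arrow.mk fk ≅ Arrow.mk (pullback.fst b f₀) :=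
    Arrow.isoMk h.flip.isoPullback (Iso.refl _) (by simp)
  exact P.arrow_mk_iso_iff e

lemma prop_iff_of_isPullback' (P : MorphismProperty C) [P.RespectsIso]
    {Xk' : C} {p' : Xk' ⟶ X₀} {fk' : Xk' ⟶ Yk}
    (h : IsPullback p fk f₀ b) (h' : IsPullback p' fk' f₀ b) : P fk ↔ P fk' :=
  (prop_iff_of_isPullback P h).trans (prop_iff_of_isPullback P h').symm

lemma isPullback_fst_fst {A B Y₀ X₀ : C} (a : A ⟶ B) (b : B ⟶ Y₀) (f₀ : X₀ ⟶ Y₀) :
    IsPullback (pullback.snd a (pullback.fst b f₀) ≫ pullback.snd b f₀)
      (pullback.fst a (pullback.fst b f₀)) f₀ (a ≫ b) :=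
  (IsPullback.of_hasPullback a (pullback.fst b f₀)).flip.paste_horiz
    (IsPullback.of_hasPullback b f₀).flip

/-- Base change along a composite, in two steps. -/
lemma prop_fst_fst_iff (P : MorphismProperty C) [P.RespectsIso] {A B Y₀ X₀ : C} (a : A ⟶ B)
    (b : B ⟶ Y₀) (f₀ : X₀ ⟶ Y₀) {ab : A ⟶ Y₀} (hab : a ≫ b = ab) :
    P (pullback.fst a (pullback.fst b f₀)) ↔ P (pullback.fst ab f₀) := by
  subst hab
  exact prop_iff_of_isPullback P (isPullback_fst_fst a b f₀)

lemma prop_fst_of_comp (P : MorphismProperty C) [P.IsStableUnderBaseChange] {A B Y₀ X₀ : C}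
    (a : A ⟶ B) (b : B ⟶ Y₀) (f₀ : X₀ ⟶ Y₀) {ab : A ⟶ Y₀} (hab : a ≫ b = ab)
    (h : P (pullback.fst b f₀)) : P (pullback.fst ab f₀) :=
  (prop_fst_fst_iff P a b f₀ hab).mp (P.pullback_fst _ _ h)

end Cat

/-- If `f ≫ g` is locally of finite presentation and `g` is locally of finite type, then `f` is
locally of finite presentation. -/
theorem locallyOfFinitePresentation_of_comp {X Y Z : Scheme.{u}} (f : X ⟶ Y) (g : Y ⟶ Z)
    (h : LocallyOfFinitePresentation (f ≫ g)) (hg : LocallyOfFiniteType g) :
    LocallyOfFinitePresentation f := by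
  wlog hZ : IsAffine Z generalizing X Y Z
  · rw [IsZariskiLocalAtTarget.iff_of_iSup_eq_top (P := @LocallyOfFinitePresentation) _
      (g.iSup_preimage_eq_top (iSup_affineOpens_eq_top Z))]
    intro U
    have H := IsZariskiLocalAtTarget.restrict h U.1
    rw [morphismRestrict_comp] at H
    exact this _ _ H (IsZariskiLocalAtTarget.restrict hg U.1) inferInstance
  wlog hY : IsAffine Y generalizing X Y
  · rw [IsZariskiLocalAtTarget.iff_of_iSup_eq_top (P := @LocallyOfFinitePresentation) _
      (iSup_affineOpens_eq_top Y)]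
    intro U
    have H := HasRingHomProperty.comp_of_isOpenImmersion @LocallyOfFinitePresentation
      (f ⁻¹ᵁ U.1).ι (f ≫ g) h
    rw [← morphismRestrict_ι_assoc] at H
    have hg' : LocallyOfFiniteType (U.1.ι ≫ g) := inferInstance
    exact this _ _ H hg' inferInstance
  wlog hX : IsAffine X generalizing X
  · rw [IsZariskiLocalAtSource.iff_of_iSup_eq_top (P := @LocallyOfFinitePresentation) _
      (iSup_affineOpens_eq_top X)]
    intro U
    have H := HasRingHomProperty.comp_of_isOpenImmersion @LocallyOfFinitePresentation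
      U.1.ι (f ≫ g) h
    rw [← Category.assoc] at H
    exact this _ H inferInstance
  rw [HasRingHomProperty.iff_of_isAffine (P := @LocallyOfFinitePresentation)] at h ⊢
  rw [HasRingHomProperty.iff_of_isAffine (P := @LocallyOfFiniteType)] at hg
  rw [Scheme.Hom.comp_appTop, CommRingCat.hom_comp] at h
  exact RingHom.FinitePresentation.of_comp_finiteType _ h hg


section Stage

variable {J : Type u} [SmallCategory J] (E : J ⥤ Scheme.{u}) (cE : Cone E)
  (j₀ : J) {X₀ : Scheme.{u}} (f₀ : X₀ ⟶ E.obj j₀)

set_option backward.isDefEq.respectTransparency false in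
/-- A base-change-stable property which holds at a stage holds at all later stages. -/
lemma stage_of_hom (P : MorphismProperty Scheme.{u}) [P.IsStableUnderBaseChange]
    {k k' : Over j₀} (a : k' ⟶ k) (h : P (pullback.fst (E.map k.hom) f₀)) :
    P (pullback.fst (E.map k'.hom) f₀) :=
  prop_fst_of_comp P (E.map a.left) (E.map k.hom) f₀ (by rw [← E.map_comp, Over.w a]) h

set_option backward.isDefEq.respectTransparency false in
/-- A base-change-stable property which holds at a stage holds at the limit. -/
lemma limit_of_stage (P : MorphismProperty Scheme.{u}) [P.IsStableUnderBaseChange]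
    (k : Over j₀) (h : P (pullback.fst (E.map k.hom) f₀)) :
    P (pullback.fst (cE.π.app j₀) f₀) :=
  prop_fst_of_comp P (cE.π.app k.left) (E.map k.hom) f₀ (cE.w k.hom) h

set_option backward.isDefEq.respectTransparency false in
/-- Re-basing at a later stage: the limit. -/
lemma rebase_limit_iff (P : MorphismProperty Scheme.{u}) [P.RespectsIso] (k : Over j₀) :
    P (pullback.fst (cE.π.app k.left) (pullback.fst (E.map k.hom) f₀)) ↔
      P (pullback.fst (cE.π.app j₀) f₀) :=
  prop_fst_fst_iff P (cE.π.app k.left) (E.map k.hom) f₀ (cE.w k.hom)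

set_option backward.isDefEq.respectTransparency false in
/-- Re-basing at a later stage: the stages. -/
lemma rebase_stage_iff (P : MorphismProperty Scheme.{u}) [P.RespectsIso] (k : Over j₀)
    (k' : Over k.left) :
    P (pullback.fst (E.map k'.hom) (pullback.fst (E.map k.hom) f₀)) ↔
      P (pullback.fst (E.map (k'.hom ≫ k.hom)) f₀) :=
  prop_fst_fst_iff P (E.map k'.hom) (E.map k.hom) f₀ (E.map_comp _ _).symm

end Stage

section Topology

variable {X : Type*} [TopologicalSpace X]

/-- Normal form of a constructible subset of a qcqs space: finite union of differences of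
compact opens. -/
inductive NF : Set X → Prop
  | piece (U V : Set X) (hU : IsOpen U) (hU' : IsCompact U) (hV : IsOpen V) (hV' : IsCompact V) :
      NF (U \ V)
  | union {s t : Set X} : NF s → NF t → NF (s ∪ t)

lemma NF.empty : NF (∅ : Set X) := by
  simpa using NF.piece (∅ : Set X) ∅ isOpen_empty isCompact_empty isOpen_empty isCompact_empty

lemma NF.inter [QuasiSeparatedSpace X] {s t : Set X} (hs : NF s) (ht : NF t) : NF (s ∩ t) := by
  induction hs with
  | piece U V hU hU' hV hV' =>
    induction ht with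
    | piece U₂ V₂ hU₂ hU₂' hV₂ hV₂' =>
      have : U \ V ∩ (U₂ \ V₂) = (U ∩ U₂) \ (V ∪ V₂) := by
        ext x; simp only [Set.mem_inter_iff, Set.mem_diff, Set.mem_union]; tauto
      rw [this]
      exact NF.piece _ _ (hU.inter hU₂)
        (QuasiSeparatedSpace.inter_isCompact _ _ hU hU' hU₂ hU₂') (hV.union hV₂) (hV'.union hV₂')
    | union _ _ ih₁ ih₂ =>
      rw [Set.inter_union_distrib_left]
      exact NF.union ih₁ ih₂
  | union _ _ ih₁ ih₂ =>
    rw [Set.union_inter_distrib_right]
    exact NF.union ih₁ ih₂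

lemma NF.compl [CompactSpace X] [QuasiSeparatedSpace X] {s : Set X} (hs : NF s) : NF sᶜ := by
  induction hs with
  | piece U V hU hU' hV hV' =>
    have : (U \ V)ᶜ = (Set.univ \ U) ∪ (V \ ∅) := by
      ext x; simp only [Set.mem_compl_iff, Set.mem_diff, Set.mem_union, Set.mem_univ,
        Set.mem_empty_iff_false]; tauto
    rw [this]
    exact NF.union (NF.piece _ _ isOpen_univ isCompact_univ hU hU')
      (NF.piece _ _ hV hV' isOpen_empty isCompact_empty)
  | union _ _ ih₁ ih₂ =>
    rw [Set.compl_union]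
    exact ih₁.inter ih₂

lemma NF.of_isConstructible [CompactSpace X] [QuasiSeparatedSpace X] {s : Set X}
    (hs : IsConstructible s) : NF s := by
  induction hs using IsConstructible.empty_union_induction with
  | open_retrocompact U hUopen hUcomp =>
    have : U = U \ ∅ := by simp
    rw [this]
    exact NF.piece _ _ hUopen (by simpa using hUcomp isCompact_univ isOpen_univ)
      isOpen_empty isCompact_empty
  | union s hs t ht hs' ht' => exact NF.union hs' ht'
  | compl s hs hs' => exact hs'.compl

end Topology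

section Constructible

variable {J : Type u} [SmallCategory J] (E : J ⥤ Scheme.{u}) (cE : Cone E)
  (j₀ : J) {X₀ : Scheme.{u}}
variable [hE : ∀ {i j : J} (f : i ⟶ j), IsAffineHom (E.map f)]

set_option backward.isDefEq.respectTransparency false in
/-- A constructible subset of a stage whose preimage in the limit is empty has empty preimage in
some stage. -/
theorem exists_preimage_eq_empty [IsCofiltered J] (hcE : IsLimit cE)
    [CompactSpace (E.obj j₀)] [QuasiSeparatedSpace (E.obj j₀)] {s : Set (E.obj j₀)}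
    (hs : IsConstructible s) (h : (cE.π.app j₀) ⁻¹' s = ∅) :
    ∃ k : Over j₀, (E.map k.hom) ⁻¹' s = ∅ := by
  have hnf := NF.of_isConstructible hs
  clear hs
  induction hnf with
  | piece U V hU hU' hV hV' =>
    have H : cE.π.app j₀ ⁻¹ᵁ ⟨U, hU⟩ ≤ cE.π.app j₀ ⁻¹ᵁ ⟨V, hV⟩ := by
      intro x hx
      by_contra hxV
      have : x ∈ (cE.π.app j₀) ⁻¹' (U \ V) := ⟨hx, hxV⟩
      rw [h] at this
      exact this
    obtain ⟨j, fji, hj⟩ := exists_map_preimage_le_map_preimage E cE hcE
      (U := ⟨U, hU⟩) (V := ⟨V, hV⟩) hU' H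
    refine ⟨Over.mk fji, ?_⟩
    ext x
    simp only [Set.mem_preimage, Set.mem_diff, Set.mem_empty_iff_false, iff_false, not_and,
      not_not]
    intro hx
    exact hj hx
  | @union s t _ _ ih₁ ih₂ =>
    rw [Set.preimage_union, Set.union_empty_iff] at h
    obtain ⟨k₁, hk₁⟩ := ih₁ h.1
    obtain ⟨k₂, hk₂⟩ := ih₂ h.2
    refine ⟨IsCofiltered.min k₁ k₂, ?_⟩
    have e₁ : E.map (IsCofiltered.min k₁ k₂).hom =
        E.map (IsCofiltered.minToLeft k₁ k₂).left ≫ E.map k₁.hom := by
      rw [← E.map_comp, Over.w]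
    have e₂ : E.map (IsCofiltered.min k₁ k₂).hom =
        E.map (IsCofiltered.minToRight k₁ k₂).left ≫ E.map k₂.hom := by
      rw [← E.map_comp, Over.w]
    rw [Set.preimage_union, Set.union_empty_iff]
    constructor
    · rw [e₁, Scheme.Hom.comp_base, TopCat.coe_comp, Set.preimage_comp, hk₁, Set.preimage_empty]
    · rw [e₂, Scheme.Hom.comp_base, TopCat.coe_comp, Set.preimage_comp, hk₂, Set.preimage_empty]

set_option backward.isDefEq.respectTransparency false in
/-- **Descent of surjectivity**. -/
theorem exists_surjective_pullback_fst [IsCofiltered J] (hcE : IsLimit cE)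
    [CompactSpace (E.obj j₀)] [QuasiSeparatedSpace (E.obj j₀)] (f₀ : X₀ ⟶ E.obj j₀)
    [LocallyOfFinitePresentation f₀] [QuasiCompact f₀]
    (h : Surjective (pullback.fst (cE.π.app j₀) f₀)) :
    ∃ k : Over j₀, Surjective (pullback.fst (E.map k.hom) f₀) := by
  have hC : IsConstructible (Set.range f₀)ᶜ := by
    rw [← Set.image_univ]
    exact (f₀.isConstructible_image IsConstructible.univ).compl
  have h0 : (cE.π.app j₀) ⁻¹' (Set.range f₀)ᶜ = ∅ := by
    rw [Set.preimage_compl, ← Scheme.Pullback.range_fst, Set.compl_empty_iff]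
    exact Set.range_eq_univ.mpr h.surj
  obtain ⟨k, hk⟩ := exists_preimage_eq_empty E cE j₀ hcE hC h0
  refine ⟨k, ⟨?_⟩⟩
  rw [← Set.range_eq_univ, Scheme.Pullback.range_fst, ← Set.compl_empty_iff, ← Set.preimage_compl]
  exact hk

end Constructible

section LiftTop

variable {I : Type u} [SmallCategory I] (D : I ⥤ Scheme.{u}) (i₀ : I)
  {X₀ Y₀ : Scheme.{u}} (f₀ : X₀ ⟶ Y₀) (g₀ : Y₀ ⟶ D.obj i₀)

/-- `liftTop` has the same iso-invariant properties as `f₀`. -/
lemma liftTop_prop_iff (P : MorphismProperty Scheme.{u}) [P.RespectsIso] :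
    P (liftTop D i₀ f₀ g₀) ↔ P f₀ := by
  rw [← P.cancel_right_of_respectsIso (liftTop D i₀ f₀ g₀) (pullback.snd (D.map (𝟙 i₀)) g₀),
    liftTop_snd]

end LiftTop

end Groth.Agent.Lib.Helper13.LimDescent
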