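import Groth.Agent.Lib.Helper13.LimDescent2
import Mathlib.AlgebraicGeometry.ZariskisMainTheorem

/-!
# Descent of quasi-finiteness through cofiltered limits (helper13)

`exists_locallyQuasiFinite_pullback_fst`.
-/

set_option autoImplicit false
universe v u

open CategoryTheory Limits AlgebraicGeometry Topology

namespace Groth.Agent.Lib.Helper13.LimDescent

section QuasiFinite

/-- A morphism locally of finite type is quasi-finite at all points of a finite fibre. -/
lemma quasiFiniteAt_of_finite_preimage {X Y : Scheme.{u}} (f : X ⟶ Y) [LocallyOfFiniteType f]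
    (x : X) (hx : (f ⁻¹' {f x}).Finite) : f.QuasiFiniteAt x := by
  have : Finite (f.fiber (f x)) := (f.fiberHomeo (f x)).finite_iff.mpr hx
  exact Scheme.Hom.quasiFiniteAt_iff_isOpen_singleton_asFiber.mpr (isOpen_discrete _)

variable {J : Type u} [SmallCategory J] (E : J ⥤ Scheme.{u}) (cE : Cone E) (j₀ : J)
  {X₀ : Scheme.{u}}
variable [hE : ∀ {i j : J} (f : i ⟶ j), IsAffineHom (E.map f)]

set_option backward.isDefEq.respectTransparency false in
/-- **Descent of quasi-finiteness**. -/
theorem exists_locallyQuasiFinite_pullback_fst [IsCofiltered J] (hcE : IsLimit cE)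
    [CompactSpace X₀] (f₀ : X₀ ⟶ E.obj j₀) [LocallyOfFiniteType f₀] [QuasiCompact f₀]
    (h : LocallyQuasiFinite (pullback.fst (cE.π.app j₀) f₀)) :
    ∃ k : Over j₀, LocallyQuasiFinite (pullback.fst (E.map k.hom) f₀) := by
  let Q : X₀.Opens := f₀.quasiFiniteLocus
  -- the preimage of `Q` in the limit is everything
  have hQ : pullback.snd (cE.π.app j₀) f₀ ⁻¹ᵁ Q = ⊤ := by
    rw [← top_le_iff]
    intro z _
    change f₀.QuasiFiniteAt (pullback.snd (cE.π.app j₀) f₀ z)
    apply quasiFiniteAt_of_finite_preimage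
    have hfin := (pullback.fst (cE.π.app j₀) f₀).finite_preimage_singleton
      (pullback.fst (cE.π.app j₀) f₀ z)
    refine (hfin.image (pullback.snd (cE.π.app j₀) f₀)).subset ?_
    intro x' hx'
    have e : (cE.π.app j₀) (pullback.fst (cE.π.app j₀) f₀ z) = f₀ x' := by
      rw [Set.mem_preimage, Set.mem_singleton_iff] at hx'
      rw [hx', ← Scheme.Hom.comp_apply, ← Scheme.Hom.comp_apply, pullback.condition]
    obtain ⟨z', hz'₁, hz'₂⟩ := Scheme.Pullback.exists_preimage_pullback _ _ e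
    exact ⟨z', hz'₁, hz'₂⟩
  -- hence the preimage at some stage is everything
  let W : ((sys E j₀ f₀).obj (top j₀)).Opens := pullback.snd (E.map (𝟙 j₀)) f₀ ⁻¹ᵁ Q
  have hW : (sysCone E cE j₀ f₀).π.app (top j₀) ⁻¹ᵁ W = ⊤ := by
    have e : (sysCone E cE j₀ f₀).π.app (top j₀) ≫ pullback.snd (E.map (𝟙 j₀)) f₀ =
        pullback.snd (cE.π.app j₀) f₀ := sysCone_π_snd E cE j₀ f₀ (top j₀)
    simp only [W]
    rw [← Scheme.Hom.comp_preimage, e]
    exact hQ
  obtain ⟨k, a, hk⟩ := exists_map_eq_top (sys E j₀ f₀) (sysCone E cE j₀ f₀)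
    (isLimitSysCone E cE j₀ f₀ hcE) W hW
  have e2 : (sys E j₀ f₀).map a ≫ pullback.snd (E.map (𝟙 j₀)) f₀ =
      pullback.snd (E.map k.hom) f₀ := sys_map_snd E j₀ f₀ a
  simp only [W] at hk
  rw [← Scheme.Hom.comp_preimage, e2] at hk
  refine ⟨k, ?_⟩
  have : IsIso (restrictMap (E.map k.hom) f₀ Q) := by
    apply isIso_of_isOpenImmersion_of_opensRange_eq_top
    rw [opensRange_restrictMap, hk]
  have e : pullback.fst (E.map k.hom) f₀ =
      inv (restrictMap (E.map k.hom) f₀ Q) ≫ pullback.fst (E.map k.hom) (Q.ι ≫ f₀) := by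
    rw [IsIso.eq_inv_comp, restrictMap_fst]
  rw [e]
  infer_instance

end QuasiFinite

end Groth.Agent.Lib.Helper13.LimDescent
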