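import Groth.Agent.Lib.Helper13.LimDescent7
import Mathlib.AlgebraicGeometry.Morphisms.Immersion

/-!
# Relative descent through cofiltered limits, part 8 (helper13)

Generic `retarget` lemma and descent of immersions `exists_isImmersion_pullback_fst`.
-/

set_option autoImplicit false
universe v u

open CategoryTheory Limits AlgebraicGeometry Topology

namespace Groth.Agent.Lib.Helper13.LimDescent

section Retarget

/-- Generic criterion: `F = fst b f` has `Q` if its base change to the open `b⁻¹ V` has `P` and its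
range lies in `b⁻¹ V`. -/
lemma prop_fst_of_restrict (P Q : MorphismProperty Scheme.{u}) [Q.RespectsIso]
    (hPQ : ∀ {A B C : Scheme.{u}} (g : A ⟶ B) (o : B ⟶ C), P g → IsOpenImmersion o → Q (g ≫ o))
    {B Y X : Scheme.{u}} (b : B ⟶ Y) (f : X ⟶ Y) (V : Y.Opens)
    (h₁ : P (pullback.fst (pullback.fst b V.ι) (pullback.fst b f)))
    (h₂ : pullback.fst b f ⁻¹ᵁ (b ⁻¹ᵁ V) = ⊤) : Q (pullback.fst b f) := by
  let F := pullback.fst b f
  let o := pullback.fst b V.ι
  have ho : Set.range o = b ⁻¹' V := by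
    rw [Scheme.Pullback.range_fst, Scheme.Opens.range_ι]
  have : IsIso (pullback.snd o F) := by
    apply isIso_of_isOpenImmersion_of_opensRange_eq_top
    apply TopologicalSpace.Opens.ext
    rw [Scheme.Hom.coe_opensRange, Scheme.Pullback.range_snd, ho]
    exact congrArg SetLike.coe h₂
  have e : F = inv (pullback.snd o F) ≫ pullback.fst o F ≫ o := by
    rw [IsIso.eq_inv_comp, pullback.condition]
  rw [show pullback.fst b f = F from rfl, e, Q.cancel_left_of_respectsIso]
  exact hPQ _ _ h₁ inferInstance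

variable {J : Type u} [SmallCategory J] (E : J ⥤ Scheme.{u}) (cE : Cone E) (j₀ : J)
  {X₀ : Scheme.{u}}
variable [hE : ∀ {i j : J} (f : i ⟶ j), IsAffineHom (E.map f)]

set_option backward.isDefEq.respectTransparency false in
/-- Descent of `Q` from descent of `P` over an open `V` of the stage containing the range. -/
theorem retarget (P Q : MorphismProperty Scheme.{u}) [P.IsStableUnderBaseChange] [Q.RespectsIso]
    (hPQ : ∀ {A B C : Scheme.{u}} (g : A ⟶ B) (o : B ⟶ C), P g → IsOpenImmersion o → Q (g ≫ o))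
    [IsCofiltered J] (hcE : IsLimit cE) [CompactSpace X₀] (f₀ : X₀ ⟶ E.obj j₀)
    (V : (E.obj j₀).Opens)
    (hVU : Set.range (pullback.fst (cE.π.app j₀) f₀) ⊆ (cE.π.app j₀) ⁻¹' V)
    (HP : P (pullback.fst (pullback.fst (cE.π.app j₀) V.ι) (pullback.fst (cE.π.app j₀) f₀)) →
      ∃ k : Over j₀, P (pullback.fst (pullback.fst (E.map k.hom) V.ι)
        (pullback.fst (E.map k.hom) f₀)))
    (h : P (pullback.fst (pullback.fst (cE.π.app j₀) V.ι) (pullback.fst (cE.π.app j₀) f₀))) :
    ∃ k : Over j₀, Q (pullback.fst (E.map k.hom) f₀) := by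
  obtain ⟨k₂, hk₂⟩ := HP h
  let W : ((sys E j₀ f₀).obj k₂).Opens :=
    pullback.fst (E.map k₂.hom) f₀ ⁻¹ᵁ (E.map k₂.hom ⁻¹ᵁ V)
  have hW : (sysCone E cE j₀ f₀).π.app k₂ ⁻¹ᵁ W = ⊤ := by
    have e : ((sysCone E cE j₀ f₀).π.app k₂ ≫ pullback.fst (E.map k₂.hom) f₀) ≫ E.map k₂.hom =
        pullback.fst (cE.π.app j₀) f₀ ≫ cE.π.app j₀ := by
      rw [sysCone_π_fst, Category.assoc, cE.w]
    simp only [W]
    rw [← Scheme.Hom.comp_preimage, ← Scheme.Hom.comp_preimage, e, Scheme.Hom.comp_preimage]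
    apply TopologicalSpace.Opens.ext
    ext x
    simp only [TopologicalSpace.Opens.map_coe, Set.mem_preimage, TopologicalSpace.Opens.coe_top,
      Set.mem_univ, iff_true]
    exact hVU ⟨x, rfl⟩
  obtain ⟨k₃, a, hk₃⟩ := exists_map_eq_top (sys E j₀ f₀) (sysCone E cE j₀ f₀)
    (isLimitSysCone E cE j₀ f₀ hcE) W hW
  refine ⟨k₃, prop_fst_of_restrict P Q hPQ (E.map k₃.hom) f₀ V ?_ ?_⟩
  · exact prop_fst_fst_of_comp P (E.map a.left)
      (E.map k₂.hom) (b' := E.map k₃.hom) (by rw [← E.map_comp, Over.w a]) V.ι f₀ hk₂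
  · have e : ((sys E j₀ f₀).map a ≫ pullback.fst (E.map k₂.hom) f₀) ≫ E.map k₂.hom =
        pullback.fst (E.map k₃.hom) f₀ ≫ E.map k₃.hom := by
      rw [sys_map_fst, Category.assoc, ← E.map_comp, Over.w a]
    simp only [W] at hk₃
    rw [← Scheme.Hom.comp_preimage, ← Scheme.Hom.comp_preimage, e, Scheme.Hom.comp_preimage]
      at hk₃
    exact hk₃

end Retarget

section ImmersionLemmas

/-- The base change of an immersion along an open immersion into its coborder is a closed
immersion. -/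
lemma isClosedImmersion_fst_of_range_subset_coborder {X Y B : Scheme.{u}} (F : X ⟶ Y)
    [IsImmersion F] (o : B ⟶ Y) [IsOpenImmersion o]
    (ho : Set.range o ⊆ (F.coborderRange : Set Y)) : IsClosedImmersion (pullback.fst o F) := by
  let ι := F.coborderRange.ι
  let F' := F.liftCoborder
  have hF : F' ≫ ι = F := F.liftCoborder_ι
  let o' : B ⟶ F.coborderRange := IsOpenImmersion.lift ι o (by simpa [ι] using ho)
  have ho' : o' ≫ ι = o := IsOpenImmersion.lift_fac _ _ _
  have h1 : IsPullback (𝟙 X) F' F ι := by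
    have := (IsPullback.id_horiz F').paste_vert (IsKernelPair.id_of_mono ι)
    simpa [hF] using this
  have h2 : IsPullback (pullback.snd o' F') (pullback.fst o' F') F' o' :=
    (IsPullback.of_hasPullback o' F').flip
  have h3 := h2.paste_horiz h1
  rw [ho', Category.comp_id] at h3
  exact (prop_iff_of_isPullback @IsClosedImmersion h3).mp inferInstance

/-- A compact subset of an open subset of a scheme is contained in a compact open subset. -/
lemma exists_isCompact_opens_between {Y : Scheme.{u}} {K : Set Y} (hK : IsCompact K)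
    (U₀ : Y.Opens) (hKU : K ⊆ U₀) :
    ∃ U : Y.Opens, IsCompact (U : Set Y) ∧ K ⊆ U ∧ U ≤ U₀ := by
  classical
  have hex : ∀ x : Y, x ∈ K → ∃ W : Y.Opens, IsAffineOpen W ∧ x ∈ W ∧ W ≤ U₀ := by
    intro x hx
    obtain ⟨_, ⟨W, hW, rfl⟩, hxW, hWU⟩ := Y.isBasis_affineOpens.exists_subset_of_mem_open
      (hKU hx) U₀.2
    exact ⟨W, hW, hxW, hWU⟩
  choose! W hW hxW hWU using hex
  obtain ⟨t, ht⟩ := hK.elim_nhds_subcover' (fun x hx => ((W x : Y.Opens) : Set Y))
    (fun x hx => (W x).2.mem_nhds (hxW x hx))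
  refine ⟨⨆ x ∈ t, W x.1, ?_, ?_, ?_⟩
  · simp only [TopologicalSpace.Opens.coe_iSup]
    exact t.isCompact_biUnion fun x _ => (hW x.1 x.2).isCompact
  · intro y hy
    obtain ⟨x, hxt, hyx⟩ := Set.mem_iUnion₂.mp (ht hy)
    simp only [TopologicalSpace.Opens.coe_iSup, Set.mem_iUnion]
    exact ⟨x, hxt, hyx⟩
  · exact iSup₂_le fun x _ => hWU x.1 x.2

end ImmersionLemmas


section ImmersionDescent

variable {J : Type u} [SmallCategory J] (E : J ⥤ Scheme.{u}) (cE : Cone E) (j₀ : J)
  {X₀ : Scheme.{u}}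
variable [hE : ∀ {i j : J} (f : i ⟶ j), IsAffineHom (E.map f)]

set_option backward.isDefEq.respectTransparency false in
theorem exists_isImmersion_pullback_fst_aux [IsCofiltered J] (hcE : IsLimit cE)
    [∀ j, CompactSpace (E.obj j)] [∀ j, QuasiSeparatedSpace (E.obj j)] [CompactSpace X₀]
    [QuasiSeparatedSpace X₀] (f₀ : X₀ ⟶ E.obj j₀) [LocallyOfFiniteType f₀]
    (V : (E.obj j₀).Opens) (hV : IsCompact (V : Set (E.obj j₀)))
    [h : IsImmersion (pullback.fst (cE.π.app j₀) f₀)]
    (hVU : Set.range (pullback.fst (cE.π.app j₀) f₀) ⊆ (cE.π.app j₀) ⁻¹' V)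
    (hVU' : (cE.π.app j₀) ⁻¹' V ⊆ coborder (Set.range (pullback.fst (cE.π.app j₀) f₀))) :
    ∃ k : Over j₀, IsImmersion (pullback.fst (E.map k.hom) f₀) := by
  have hV₁ : CompactSpace V.toScheme := isCompact_iff_compactSpace.mp hV
  have hV₂ : QuasiSeparatedSpace V.toScheme := quasiSeparatedSpace_of_quasiSeparated V.ι
  refine retarget E cE j₀ @IsClosedImmersion @IsImmersion
    (fun g o hg ho => by have := hg; have := ho; infer_instance) hcE f₀ V hVU ?_ ?_
  · intro h0
    have h0' := (prop_fst_fst_symm @IsClosedImmersion (cE.π.app j₀) V.ι f₀).mp h0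
    refine Exists.imp
      (fun k hk => (prop_fst_fst_symm @IsClosedImmersion (E.map k.hom) V.ι f₀).mpr hk)
      (relStep E cE j₀ (pullback.fst V.ι f₀) V.ι @IsClosedImmersion ?_ h0')
    intro f₀' hf₀' hP
    have : LocallyOfFiniteType f₀' := by
      rw [hf₀']
      exact (liftTop_prop_iff E j₀ _ _ @LocallyOfFiniteType).mpr inferInstance
    have : CompactSpace ↥(pullback V.ι f₀) :=
      QuasiCompact.compactSpace_of_compactSpace (pullback.fst V.ι f₀)
    have : QuasiSeparatedSpace ↥(pullback V.ι f₀) :=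
      quasiSeparatedSpace_of_quasiSeparated (pullback.snd V.ι f₀)
    exact exists_isClosedImmersion_pullback_fst (sys E j₀ V.ι) (sysCone E cE j₀ _) (top j₀)
      (isLimitSysCone E cE j₀ _ hcE) f₀' hP
  · apply isClosedImmersion_fst_of_range_subset_coborder
    rw [Scheme.Pullback.range_fst, Scheme.Opens.range_ι]
    exact hVU'

set_option backward.isDefEq.respectTransparency false in
/-- **Descent of immersions**. -/
theorem exists_isImmersion_pullback_fst [IsCofiltered J] (hcE : IsLimit cE)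
    [∀ j, CompactSpace (E.obj j)] [∀ j, QuasiSeparatedSpace (E.obj j)] [CompactSpace X₀]
    [QuasiSeparatedSpace X₀] (f₀ : X₀ ⟶ E.obj j₀) [LocallyOfFiniteType f₀]
    (h : IsImmersion (pullback.fst (cE.π.app j₀) f₀)) :
    ∃ k : Over j₀, IsImmersion (pullback.fst (E.map k.hom) f₀) := by
  have hπ : ∀ i, IsAffineHom (cE.π.app i) := isAffineHom_π_app E cE hcE
  have hXc : CompactSpace ↥(pullback (cE.π.app j₀) f₀) :=
    QuasiCompact.compactSpace_of_compactSpace (pullback.snd (cE.π.app j₀) f₀)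
  have hK : IsCompact (Set.range (pullback.fst (cE.π.app j₀) f₀)) :=
    isCompact_range (pullback.fst (cE.π.app j₀) f₀).continuous
  let U₀ : cE.pt.Opens := (pullback.fst (cE.π.app j₀) f₀).coborderRange
  have hKU : Set.range (pullback.fst (cE.π.app j₀) f₀) ⊆ (U₀ : Set cE.pt) := subset_coborder
  obtain ⟨U, hUc, hKU', hUU₀⟩ := exists_isCompact_opens_between (Y := cE.pt) hK U₀ hKU
  obtain ⟨i, V', hV', hV'U⟩ := exists_preimage_eq E cE hcE U hUc
  let m := IsCofiltered.min i j₀
  let a : m ⟶ i := IsCofiltered.minToLeft i j₀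
  let b : m ⟶ j₀ := IsCofiltered.minToRight i j₀
  let k₁ : Over j₀ := Over.mk b
  let V : (E.obj m).Opens := E.map a ⁻¹ᵁ V'
  have hV : IsCompact (V : Set (E.obj m)) :=
    QuasiCompact.isCompact_preimage (f := E.map a) _ V'.2 hV'
  have e1 : (cE.π.app m) ⁻¹' (V : Set (E.obj m)) = (U : Set cE.pt) := by
    have e1' : (cE.π.app m) ⁻¹' (V : Set (E.obj m)) = (cE.π.app i) ⁻¹' (V' : Set (E.obj i)) := by
      rw [← cE.w a]; rfl
    rw [e1']
    exact congrArg SetLike.coe hV'U
  have h₁ : IsImmersion (pullback.fst (cE.π.app m) (pullback.fst (E.map b) f₀)) :=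
    (rebase_limit_iff E cE j₀ f₀ @IsImmersion k₁).mpr h
  have hr : Set.range (pullback.fst (cE.π.app m) (pullback.fst (E.map b) f₀)) =
      Set.range (pullback.fst (cE.π.app j₀) f₀) := by
    have e3 : (cE.π.app m) ⁻¹' ((E.map b) ⁻¹' Set.range f₀) = (cE.π.app j₀) ⁻¹' Set.range f₀ := by
      rw [← cE.w b]; rfl
    rw [Scheme.Pullback.range_fst, Scheme.Pullback.range_fst, Scheme.Pullback.range_fst, e3]
  obtain ⟨k', hk'⟩ := exists_isImmersion_pullback_fst_aux E cE m hcE
    (pullback.fst (E.map b) f₀) V hV (by rw [hr, e1]; exact hKU') (by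
      rw [e1, hr]
      exact hUU₀)
  exact ⟨Over.mk (k'.hom ≫ b), (rebase_stage_iff E j₀ f₀ @IsImmersion k₁ k').mp hk'⟩

end ImmersionDescent

end Groth.Agent.Lib.Helper13.LimDescent
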