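import Groth.Agent.Lib.Helper13.LimDescent2

/-!
# Relative descent through cofiltered limits, part 3 (helper13)

`relStep` (relative one-step descent), `prop_diagonal_fst_iff`, `diagonal_step`,
`exists_universallyInjective_pullback_fst`.
-/


set_option autoImplicit false
universe v u

open CategoryTheory Limits AlgebraicGeometry Topology

namespace Groth.Agent.Lib.Helper13.LimDescent

section Cat3

variable {C : Type u} [Category.{v} C] [HasPullbacks C]

/-- Base change is insensitive to composing both maps with an isomorphism. -/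
lemma prop_fst_comp_iso_iff (P : MorphismProperty C) [P.RespectsIso] {A T Y₀ X₀ : C}
    (π : A ⟶ T) (f₀' : X₀ ⟶ T) (s : T ⟶ Y₀) [IsIso s] {π' : A ⟶ Y₀} {f₀ : X₀ ⟶ Y₀}
    (hπ : π ≫ s = π') (hf : f₀' ≫ s = f₀) :
    P (pullback.fst π f₀') ↔ P (pullback.fst π' f₀) := by
  subst hπ hf
  have h1 : IsPullback (pullback.snd π f₀') (pullback.fst π f₀') f₀' π :=
    (IsPullback.of_hasPullback π f₀').flip
  have h2 : IsPullback (𝟙 X₀) f₀' (f₀' ≫ s) s := IsPullback.of_horiz_isIso ⟨by simp⟩
  exact prop_iff_of_isPullback P (h1.paste_horiz h2)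

/-- The diagonal of the base change of `f₀` along `b` is a base change of the diagonal of `f₀`
along the projection `Y_k ×_{Y₀} (X₀ ×_{Y₀} X₀) ⟶ X₀ ×_{Y₀} X₀`. -/
lemma prop_diagonal_fst_iff (P : MorphismProperty C) [P.RespectsIso] {Yk Y₀ X₀ : C}
    (b : Yk ⟶ Y₀) (f₀ : X₀ ⟶ Y₀) :
    P (pullback.diagonal (pullback.fst b f₀)) ↔
      P (pullback.fst (pullback.snd b (pullback.fst f₀ f₀ ≫ f₀)) (pullback.diagonal f₀)) := by
  have h : IsPullback (pullback.snd b f₀) (pullback.fst b f₀) f₀ b :=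
    (IsPullback.of_hasPullback b f₀).flip
  have hA := isPullback_diagonal h
  have hB := isPullback_diagMap h
  let e : pullback (pullback.fst b f₀) (pullback.fst b f₀) ≅
      pullback b (pullback.fst f₀ f₀ ≫ f₀) := hB.flip.isoPullback
  have he : e.hom ≫ pullback.snd b (pullback.fst f₀ f₀ ≫ f₀) = diagMap h :=
    hB.flip.isoPullback_hom_snd
  have hA' : IsPullback (pullback.snd b f₀) (pullback.diagonal (pullback.fst b f₀) ≫ e.hom)
      (pullback.diagonal f₀) (pullback.snd b (pullback.fst f₀ f₀ ≫ f₀)) := by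
    refine hA.of_iso (Iso.refl _) (Iso.refl _) e (Iso.refl _) ?_ ?_ ?_ ?_
    · simp
    · simp
    · simp
    · simp [he]
  rw [← prop_iff_of_isPullback P hA', P.cancel_right_of_respectsIso]

end Cat3

section RelStep

variable {J : Type u} [SmallCategory J] (E : J ⥤ Scheme.{u}) (cE : Cone E) (j₀ : J)
  {X₀ Y₀ : Scheme.{u}} (f₀ : X₀ ⟶ Y₀) (g₀ : Y₀ ⟶ E.obj j₀)

set_option backward.isDefEq.respectTransparency false in
/-- Relative one-step descent: reduction to the one-step statement for the system `sys E j₀ g₀`. -/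
theorem relStep (P : MorphismProperty Scheme.{u}) [P.RespectsIso]
    (H : ∀ f₀' : X₀ ⟶ (sys E j₀ g₀).obj (top j₀), f₀' = liftTop E j₀ f₀ g₀ →
      P (pullback.fst ((sysCone E cE j₀ g₀).π.app (top j₀)) f₀') →
      ∃ k : Over (top j₀), P (pullback.fst ((sys E j₀ g₀).map k.hom) f₀'))
    (hf : P (pullback.fst (pullback.snd (cE.π.app j₀) g₀) f₀)) :
    ∃ k : Over j₀, P (pullback.fst (pullback.snd (E.map k.hom) g₀) f₀) := by
  let T : Scheme.{u} := (sys E j₀ g₀).obj (top j₀)
  let sT : T ⟶ Y₀ := pullback.snd (E.map (𝟙 j₀)) g₀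
  have : IsIso sT := inferInstanceAs (IsIso (pullback.snd (E.map (𝟙 j₀)) g₀))
  let f₀' : X₀ ⟶ T := liftTop E j₀ f₀ g₀
  have hf₀' : f₀' ≫ sT = f₀ := liftTop_snd E j₀ f₀ g₀
  let πT : (sysCone E cE j₀ g₀).pt ⟶ T := (sysCone E cE j₀ g₀).π.app (top j₀)
  have hπT : πT ≫ sT = pullback.snd (cE.π.app j₀) g₀ := sysCone_π_snd E cE j₀ g₀ (top j₀)
  have hPf : P (pullback.fst πT f₀') := by
    rw [prop_fst_comp_iso_iff P πT f₀' sT hπT hf₀']
    exact hf
  obtain ⟨k, hk⟩ := H f₀' rfl hPf
  let tr : (sys E j₀ g₀).obj k.left ⟶ T := (sys E j₀ g₀).map k.hom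
  have htr : tr ≫ sT = pullback.snd (E.map k.left.hom) g₀ := sys_map_snd E j₀ g₀ k.hom
  refine ⟨k.left, ?_⟩
  have hk' : P (pullback.fst tr f₀') := hk
  rw [prop_fst_comp_iso_iff P tr f₀' sT htr hf₀'] at hk'
  exact hk'

end RelStep


section Diagonal

variable {J : Type u} [SmallCategory J] (E : J ⥤ Scheme.{u}) (cE : Cone E) (j₀ : J)
  {X₀ : Scheme.{u}} (f₀ : X₀ ⟶ E.obj j₀)

/-- Descent for the diagonal of the base changes, from relative descent applied to the diagonal
of `f₀`. -/
theorem diagonal_step (P : MorphismProperty Scheme.{u}) [P.RespectsIso]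
    (H : P (pullback.fst (pullback.snd (cE.π.app j₀) (pullback.fst f₀ f₀ ≫ f₀))
        (pullback.diagonal f₀)) →
      ∃ k : Over j₀, P (pullback.fst (pullback.snd (E.map k.hom) (pullback.fst f₀ f₀ ≫ f₀))
        (pullback.diagonal f₀)))
    (hf : P (pullback.diagonal (pullback.fst (cE.π.app j₀) f₀))) :
    ∃ k : Over j₀, P (pullback.diagonal (pullback.fst (E.map k.hom) f₀)) := by
  obtain ⟨k, hk⟩ := H ((prop_diagonal_fst_iff P _ f₀).mp hf)
  exact ⟨k, (prop_diagonal_fst_iff P _ f₀).mpr hk⟩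

/-- The diagonal of a morphism locally of finite type is locally of finite presentation. -/
instance locallyOfFinitePresentation_diagonal {X Y : Scheme.{u}} (f : X ⟶ Y)
    [LocallyOfFiniteType f] : LocallyOfFinitePresentation (pullback.diagonal f) := by
  refine locallyOfFinitePresentation_of_comp (pullback.diagonal f) (pullback.fst f f) ?_
    inferInstance
  rw [pullback.diagonal_fst]
  infer_instance

variable [hE : ∀ {i j : J} (f : i ⟶ j), IsAffineHom (E.map f)]

set_option backward.isDefEq.respectTransparency false in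
/-- **Descent of universal injectivity**. -/
theorem exists_universallyInjective_pullback_fst [IsCofiltered J] (hcE : IsLimit cE)
    [CompactSpace (E.obj j₀)] [QuasiSeparatedSpace (E.obj j₀)] [CompactSpace X₀]
    [QuasiSeparatedSpace X₀] (f₀ : X₀ ⟶ E.obj j₀) [LocallyOfFiniteType f₀]
    (h : UniversallyInjective (pullback.fst (cE.π.app j₀) f₀)) :
    ∃ k : Over j₀, UniversallyInjective (pullback.fst (E.map k.hom) f₀) := by
  simp only [UniversallyInjective.iff_diagonal] at h ⊢
  refine diagonal_step E cE j₀ f₀ @Surjective ?_ h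
  refine relStep E cE j₀ (pullback.diagonal f₀) (pullback.fst f₀ f₀ ≫ f₀) @Surjective ?_
  intro f₀' hf₀' hP
  have : LocallyOfFinitePresentation f₀' := by
    rw [hf₀']
    exact (liftTop_prop_iff E j₀ _ _ @LocallyOfFinitePresentation).mpr inferInstance
  have : QuasiCompact f₀' := by
    rw [hf₀']
    exact (liftTop_prop_iff E j₀ _ _ @QuasiCompact).mpr inferInstance
  exact exists_surjective_pullback_fst (sys E j₀ (pullback.fst f₀ f₀ ≫ f₀))
    (sysCone E cE j₀ _) (top j₀) (isLimitSysCone E cE j₀ _ hcE) f₀' hP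

end Diagonal

end Groth.Agent.Lib.Helper13.LimDescent
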