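import Groth.Agent.Lib.Helper13.LimDescent2
import Mathlib.AlgebraicGeometry.QuasiAffine
import Groth.Prelude.Def_Mor2

/-!
# Descent of quasi-affine morphisms through cofiltered limits (helper13)

`isQuasiAffine_preimage_of_forall_exists` (quasi-affineness is local on the target),
`quasiAffineProp`, `exists_isQuasiAffine_pullback_fst`.
-/

set_option autoImplicit false
universe v u

open CategoryTheory Limits AlgebraicGeometry Topology

namespace Groth.Agent.Lib.Helper13.LimDescent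

section QuasiAffine

/-- Intrinsic criterion for an open subscheme to be quasi-affine. -/
lemma isQuasiAffine_opens_of_forall_exists {X : Scheme.{u}} (U : X.Opens)
    (hU : IsCompact (U : Set X))
    (H : ∀ x ∈ U, ∃ r : Γ(X, U), IsAffineOpen (X.basicOpen r) ∧ x ∈ X.basicOpen r) :
    Scheme.IsQuasiAffine U.toScheme := by
  have : CompactSpace U.toScheme := isCompact_iff_compactSpace.mp hU
  apply Scheme.IsQuasiAffine.of_forall_exists_mem_basicOpen
  intro z
  obtain ⟨r, hr, hz⟩ := H z.1 z.2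
  refine ⟨U.topIso.inv r, ?_, ?_⟩
  · rw [← Scheme.Hom.isAffineOpen_iff_of_isOpenImmersion U.ι,
      Scheme.Opens.ι_image_basicOpen_topIso_inv]
    exact hr
  · have hz' : z.1 ∈ U.ι ''ᵁ U.toScheme.basicOpen (U.topIso.inv r) := by
      rw [Scheme.Opens.ι_image_basicOpen_topIso_inv]; exact hz
    obtain ⟨w, hw, hwz⟩ := hz'
    have : w = z := Subtype.ext hwz
    exact this ▸ hw

/-- Converse: a quasi-affine open subscheme has enough affine basic opens. -/
lemma exists_basicOpen_of_isQuasiAffine_opens {X : Scheme.{u}} (U : X.Opens)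
    [Scheme.IsQuasiAffine U.toScheme] (x : X) (hx : x ∈ U) :
    ∃ r : Γ(X, U), IsAffineOpen (X.basicOpen r) ∧ x ∈ X.basicOpen r := by
  obtain ⟨_, ⟨_, ⟨s, hs, rfl⟩, rfl⟩, hxs, -⟩ :=
    (Scheme.IsQuasiAffine.isBasis_basicOpen U.toScheme).exists_subset_of_mem_open
      (Set.mem_univ (⟨x, hx⟩ : U.toScheme)) isOpen_univ
  have e : U.topIso.inv (U.topIso.hom s) = s := by
    rw [← CommRingCat.comp_apply, Iso.hom_inv_id]; rfl
  have key := Scheme.Opens.ι_image_basicOpen_topIso_inv U (U.topIso.hom s)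
  rw [e] at key
  refine ⟨U.topIso.hom s, ?_, ?_⟩
  · rw [← key, Scheme.Hom.isAffineOpen_iff_of_isOpenImmersion]
    exact hs
  · rw [← key]
    exact ⟨⟨x, hx⟩, hxs, rfl⟩


/-- Quasi-affineness of a quasi-compact morphism is local on the target. -/
lemma isQuasiAffine_preimage_of_forall_exists {X Y : Scheme.{u}} (f : X ⟶ Y) [QuasiCompact f]
    [QuasiSeparatedSpace X]
    (hcov : ∀ y : Y, ∃ W : Y.Opens, y ∈ W ∧ Scheme.IsQuasiAffine (f ⁻¹ᵁ W).toScheme)
    (V : Y.Opens) (hV : IsAffineOpen V) : Scheme.IsQuasiAffine (f ⁻¹ᵁ V).toScheme := by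
  have hVc : IsCompact ((f ⁻¹ᵁ V : X.Opens) : Set X) :=
    QuasiCompact.isCompact_preimage (f := f) _ V.2 hV.isCompact
  apply isQuasiAffine_opens_of_forall_exists _ hVc
  intro z hz
  obtain ⟨W, hyW, hW⟩ := hcov (f z)
  obtain ⟨g, hgW, hzg⟩ := hV.exists_basicOpen_le (V := W) ⟨f z, hyW⟩ hz
  let g' : Γ(X, f ⁻¹ᵁ V) := f.app V g
  have hD : X.basicOpen g' = f ⁻¹ᵁ Y.basicOpen g := (Scheme.preimage_basicOpen f g).symm
  have hDc : IsCompact ((X.basicOpen g' : X.Opens) : Set X) := by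
    rw [hD]
    exact QuasiCompact.isCompact_preimage (f := f) _ (Y.basicOpen g).2 (hV.basicOpen g).isCompact
  have hDW : X.basicOpen g' ≤ f ⁻¹ᵁ W := by rw [hD]; exact f.preimage_mono hgW
  have : CompactSpace (X.basicOpen g').toScheme := isCompact_iff_compactSpace.mp hDc
  have hDq : Scheme.IsQuasiAffine (X.basicOpen g').toScheme :=
    Scheme.IsQuasiAffine.of_isImmersion (X.homOfLE hDW)
  have hzD : z ∈ X.basicOpen g' := by rw [hD]; exact hzg
  obtain ⟨s₁, hs₁, hzs₁⟩ := exists_basicOpen_of_isQuasiAffine_opens (X.basicOpen g') z hzD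
  obtain ⟨n, r, hr⟩ := exists_eq_pow_mul_of_isCompact_of_isQuasiSeparated X (f ⁻¹ᵁ V) hVc
    (IsQuasiSeparated.of_quasiSeparatedSpace _) g' s₁
  have hunit : IsUnit (g' |_ X.basicOpen g') := RingedSpace.isUnit_res_basicOpen _ g'
  have key : X.basicOpen (r * g') = X.basicOpen s₁ := by
    have h1 : X.basicOpen (r |_ X.basicOpen g') = X.basicOpen g' ⊓ X.basicOpen r :=
      Scheme.basicOpen_res _ _ _
    have h2 : X.basicOpen ((g' |_ X.basicOpen g') ^ n * s₁) = X.basicOpen s₁ := by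
      rw [Scheme.basicOpen_mul, X.basicOpen_of_isUnit (hunit.pow n)]
      exact inf_eq_right.mpr (X.basicOpen_le s₁)
    rw [Scheme.basicOpen_mul, inf_comm, ← h1, hr, h2]
  refine ⟨r * g', ?_, ?_⟩
  · rw [key]; exact hs₁
  · rw [key]; exact hzs₁

end QuasiAffine


/-- `Mor2.IsQuasiAffine` as a morphism property. -/
def quasiAffineProp : MorphismProperty Scheme.{u} := fun _ _ f => Mor2.IsQuasiAffine f

instance : (quasiAffineProp.{u}).RespectsIso := by
  apply MorphismProperty.RespectsIso.mk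
  · intro X' X Y e f hf
    have : QuasiCompact f := hf.1
    refine ⟨inferInstance, fun V hV => ?_⟩
    have h1 : Scheme.IsQuasiAffine (f ⁻¹ᵁ V).toScheme := hf.2 V hV
    have : IsAffineHom (e.hom ∣_ (f ⁻¹ᵁ V)) :=
      IsZariskiLocalAtTarget.restrict (P := @IsAffineHom) inferInstance _
    have h2 : Scheme.IsQuasiAffine (e.hom ⁻¹ᵁ (f ⁻¹ᵁ V)).toScheme :=
      Scheme.IsQuasiAffine.of_isAffineHom (e.hom ∣_ (f ⁻¹ᵁ V))
    exact h2
  · intro X Y Y' e f hf
    have : QuasiCompact f := hf.1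
    refine ⟨inferInstance, fun V hV => ?_⟩
    exact hf.2 (e.hom ⁻¹ᵁ V) (hV.preimage_of_isIso e.hom)

section QADescent

variable {J : Type u} [SmallCategory J] (E : J ⥤ Scheme.{u}) (cE : Cone E) (j₀ : J)
variable [hE : ∀ {i j : J} (f : i ⟶ j), IsAffineHom (E.map f)]

/-- `T ×_S U` is quasi-affine iff the preimage of `U` in `T ×_S V₀` is. -/
lemma isQuasiAffine_pullback_restrict_iff {T S V₀ : Scheme.{u}} (g : T ⟶ S) (h : V₀ ⟶ S)
    (U : V₀.Opens) :
    Scheme.IsQuasiAffine (pullback g (U.ι ≫ h)) ↔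
      Scheme.IsQuasiAffine (pullback.snd g h ⁻¹ᵁ U).toScheme := by
  rw [← opensRange_restrictMap]
  constructor
  · intro _
    exact Scheme.IsQuasiAffine.of_isAffineHom (restrictMap g h U).isoOpensRange.inv
  · intro hU
    exact Scheme.IsQuasiAffine.of_isAffineHom (restrictMap g h U).isoOpensRange.hom

set_option backward.isDefEq.respectTransparency false in
/-- **Descent of quasi-affineness of a morphism**. -/
theorem exists_isQuasiAffine_pullback_fst [IsCofiltered J] (hcE : IsLimit cE)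
    [CompactSpace (E.obj j₀)] {X₀ : Scheme.{u}} (f₀ : X₀ ⟶ E.obj j₀) [QuasiCompact f₀]
    [QuasiSeparatedSpace X₀] (h : Mor2.IsQuasiAffine (pullback.fst (cE.π.app j₀) f₀)) :
    ∃ k : Over j₀, Mor2.IsQuasiAffine (pullback.fst (E.map k.hom) f₀) := by
  classical
  have hπ : ∀ i, IsAffineHom (cE.π.app i) := isAffineHom_π_app E cE hcE
  have hbasis := (E.obj j₀).isBasis_affineOpens
  have hex : ∀ y : E.obj j₀, ∃ V : (E.obj j₀).Opens, IsAffineOpen V ∧ y ∈ V := by
    intro y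
    obtain ⟨_, ⟨V, hV, rfl⟩, hyV, -⟩ := hbasis.exists_subset_of_mem_open
      (Set.mem_univ y) isOpen_univ
    exact ⟨V, hV, hyV⟩
  choose V hV hyV using hex
  obtain ⟨t, ht⟩ := CompactSpace.elim_nhds_subcover (fun y => ((V y : (E.obj j₀).Opens) : Set _))
    (fun y => (V y).2.mem_nhds (hyV y))
  have hstage : ∀ y : E.obj j₀, ∃ k : Over j₀,
      Scheme.IsQuasiAffine (pullback (E.map k.hom) ((f₀ ⁻¹ᵁ V y).ι ≫ f₀)) := by
    intro y
    have h1 : Scheme.IsQuasiAffine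
        (pullback.snd (cE.π.app j₀) f₀ ⁻¹ᵁ (f₀ ⁻¹ᵁ V y)).toScheme := by
      rw [snd_preimage_preimage]
      exact h.2 _ ((hV y).preimage (cE.π.app j₀))
    have h2 : Scheme.IsQuasiAffine (pullback (cE.π.app j₀) ((f₀ ⁻¹ᵁ V y).ι ≫ f₀)) :=
      (isQuasiAffine_pullback_restrict_iff _ _ _).mpr h1
    have h3 : CompactSpace (f₀ ⁻¹ᵁ V y).toScheme :=
      isCompact_iff_compactSpace.mp
        (QuasiCompact.isCompact_preimage (f := f₀) _ (V y).2 (hV y).isCompact)
    have h3' : QuasiSeparatedSpace (f₀ ⁻¹ᵁ V y).toScheme :=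
      quasiSeparatedSpace_of_quasiSeparated (f₀ ⁻¹ᵁ V y).ι
    exact exists_isQuasiAffine_pullback E cE j₀ ((f₀ ⁻¹ᵁ V y).ι ≫ f₀) hcE
  choose k hk using hstage
  obtain ⟨m, hm⟩ := IsCofiltered.inf_objs_exists (t.image k)
  refine ⟨m, inferInstance, fun V' hV' => ?_⟩
  refine isQuasiAffine_preimage_of_forall_exists (pullback.fst (E.map m.hom) f₀) (fun x => ?_) V' hV'
  have hx : (E.map m.hom) x ∈ ⋃ y ∈ t, ((V y : (E.obj j₀).Opens) : Set _) := by
    rw [ht]; exact Set.mem_univ _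
  simp only [Set.mem_iUnion] at hx
  obtain ⟨y, hyt, hxy⟩ := hx
  obtain ⟨a⟩ := hm (Finset.mem_image_of_mem k hyt)
  refine ⟨E.map m.hom ⁻¹ᵁ V y, hxy, ?_⟩
  have h4 : Scheme.IsQuasiAffine (pullback (E.map (k y).hom) ((f₀ ⁻¹ᵁ V y).ι ≫ f₀)) := hk y
  have h4' : Scheme.IsQuasiAffine ((sys E j₀ ((f₀ ⁻¹ᵁ V y).ι ≫ f₀)).obj (k y)) := h4
  have h5 : Scheme.IsQuasiAffine (pullback (E.map m.hom) ((f₀ ⁻¹ᵁ V y).ι ≫ f₀)) :=
    Scheme.IsQuasiAffine.of_isAffineHom ((sys E j₀ ((f₀ ⁻¹ᵁ V y).ι ≫ f₀)).map a)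
  have h6 := (isQuasiAffine_pullback_restrict_iff (E.map m.hom) f₀ (f₀ ⁻¹ᵁ V y)).mp h5
  rwa [snd_preimage_preimage] at h6

end QADescent

end Groth.Agent.Lib.Helper13.LimDescent
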