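import Groth.Agent.Lib.Helper13.LimDescent6
import Mathlib.AlgebraicGeometry.Morphisms.Finite

/-!
# Relative descent through cofiltered limits, part 7 (helper13)

Ring-level descent of integrality (`exists_isIntegralElem`, all-affine
`exists_isIntegralHom_pullback_fst_of_isAffine`), the `localize` lemma, and descent of integral /
finite morphisms, closed immersions and separated morphisms.
-/

set_option autoImplicit false
universe v u

open CategoryTheory Limits AlgebraicGeometry Topology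

namespace Groth.Agent.Lib.Helper13.LimDescent

section RingLemmas

open Polynomial

lemma isIntegralElem_map {A B A' B' : Type*} [CommRing A] [CommRing B] [CommRing A']
    [CommRing B'] (φ : A →+* B) (φ' : A' →+* B') (α : A →+* A') (τ : B →+* B')
    (h : τ.comp φ = φ'.comp α) {x : B} (hx : φ.IsIntegralElem x) : φ'.IsIntegralElem (τ x) := by
  obtain ⟨p, hp, hpx⟩ := hx
  refine ⟨p.map α, hp.map α, ?_⟩
  rw [eval₂_map, ← h, ← hom_eval₂, hpx, map_zero]

end RingLemmas

section AffineIntegral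

open Polynomial

variable {J : Type u} [SmallCategory J] (E : J ⥤ Scheme.{u}) (cE : Cone E) (j₀ : J)
  {X₀ : Scheme.{u}} (f₀ : X₀ ⟶ E.obj j₀)
variable [hE : ∀ {i j : J} (f : i ⟶ j), IsAffineHom (E.map f)]

omit hE in
set_option backward.isDefEq.respectTransparency false in
/-- Integrality passes to later stages. -/
lemma isIntegralElem_of_hom {k k' : Over j₀} (a : k' ⟶ k) (x : Γ(X₀, ⊤))
    (hx : (pullback.fst (E.map k.hom) f₀).appTop.hom.IsIntegralElem
      ((pullback.snd (E.map k.hom) f₀).appTop.hom x)) :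
    (pullback.fst (E.map k'.hom) f₀).appTop.hom.IsIntegralElem
      ((pullback.snd (E.map k'.hom) f₀).appTop.hom x) := by
  have e' : ((sys E j₀ f₀).map a).appTop.hom.comp (pullback.snd (E.map k.hom) f₀).appTop.hom =
      (pullback.snd (E.map k'.hom) f₀).appTop.hom := by
    rw [← CommRingCat.hom_comp, ← Scheme.Hom.comp_appTop, sys_map_snd]
  have e'' : ((sys E j₀ f₀).map a).appTop.hom.comp (pullback.fst (E.map k.hom) f₀).appTop.hom =
      (pullback.fst (E.map k'.hom) f₀).appTop.hom.comp (E.map a.left).appTop.hom := by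
    rw [← CommRingCat.hom_comp, ← CommRingCat.hom_comp, ← Scheme.Hom.comp_appTop,
      ← Scheme.Hom.comp_appTop, sys_map_fst]
  have h1 := isIntegralElem_map (pullback.fst (E.map k.hom) f₀).appTop.hom
    (pullback.fst (E.map k'.hom) f₀).appTop.hom (E.map a.left).appTop.hom
    ((sys E j₀ f₀).map a).appTop.hom e'' hx
  have e : ((sys E j₀ f₀).map a).appTop.hom ((pullback.snd (E.map k.hom) f₀).appTop.hom x) =
      (pullback.snd (E.map k'.hom) f₀).appTop.hom x := RingHom.congr_fun e' x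
  exact (congrArg (pullback.fst (E.map k'.hom) f₀).appTop.hom.IsIntegralElem e).mp h1


set_option backward.isDefEq.respectTransparency false in
/-- Integrality of an element at the limit descends to some stage (all-affine case). -/
lemma exists_isIntegralElem [IsCofiltered J] (hcE : IsLimit cE) [∀ j, IsAffine (E.obj j)]
    [IsAffine X₀] (x : Γ(X₀, ⊤))
    (hx : (pullback.fst (cE.π.app j₀) f₀).appTop.hom.IsIntegralElem
      ((pullback.snd (cE.π.app j₀) f₀).appTop.hom x)) :
    ∃ k : Over j₀, (pullback.fst (E.map k.hom) f₀).appTop.hom.IsIntegralElem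
      ((pullback.snd (E.map k.hom) f₀).appTop.hom x) := by
  classical
  obtain ⟨p, hp, hpx⟩ := hx
  have hc : ∀ n, ∃ (i : J) (t : Γ(E.obj i, ⊤)), (cE.π.app i).appTop t = p.coeff n :=
    fun n => exists_appTop_π_eq_of_isAffine_of_isLimit E cE hcE (p.coeff n)
  choose i t ht using hc
  obtain ⟨m, hm⟩ := IsCofiltered.inf_objs_exists
    (insert j₀ ((Finset.range (p.natDegree + 1)).image i))
  let k₁ : Over j₀ := Over.mk (hm (Finset.mem_insert_self _ _)).some
  have hlift : p ∈ Polynomial.lifts (cE.π.app m).appTop.hom := by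
    rw [Polynomial.lifts_iff_coeff_lifts]
    intro n
    by_cases hn : n ≤ p.natDegree
    · have hmem : i n ∈ insert j₀ ((Finset.range (p.natDegree + 1)).image i) :=
        Finset.mem_insert_of_mem
          (Finset.mem_image_of_mem i (Finset.mem_range.mpr (Nat.lt_succ_of_le hn)))
      obtain ⟨a⟩ := hm hmem
      refine ⟨(E.map a).appTop.hom (t n), ?_⟩
      have e : (cE.π.app m).appTop.hom.comp (E.map a).appTop.hom = (cE.π.app (i n)).appTop.hom := by
        rw [← CommRingCat.hom_comp, ← Scheme.Hom.comp_appTop, cE.w a]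
      exact (RingHom.congr_fun e (t n)).trans (ht n)
    · refine ⟨0, ?_⟩
      rw [map_zero, Polynomial.coeff_eq_zero_of_natDegree_lt (not_le.mp hn)]
  obtain ⟨q, hq, -, hqm⟩ := Polynomial.lifts_and_natDegree_eq_and_monic hlift hp
  have haff : ∀ k, IsAffine ((sys E j₀ f₀).obj k) := fun k => by
    dsimp only [sys_obj]
    exact isAffine_of_isAffineHom (pullback.snd (E.map k.hom) f₀)
  let φ₁ := (pullback.fst (E.map k₁.hom) f₀).appTop.hom
  let ψ₁ := (pullback.snd (E.map k₁.hom) f₀).appTop.hom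
  let σ := ((sysCone E cE j₀ f₀).π.app k₁).appTop.hom
  let y : Γ((sys E j₀ f₀).obj k₁, ⊤) := q.eval₂ φ₁ (ψ₁ x)
  have e1 : σ.comp φ₁ =
      (pullback.fst (cE.π.app j₀) f₀).appTop.hom.comp (cE.π.app m).appTop.hom := by
    simp only [σ, φ₁]
    rw [← CommRingCat.hom_comp, ← CommRingCat.hom_comp, ← Scheme.Hom.comp_appTop,
      ← Scheme.Hom.comp_appTop, sysCone_π_fst]
    rfl
  have e2 : σ.comp ψ₁ = (pullback.snd (cE.π.app j₀) f₀).appTop.hom := by
    simp only [σ, ψ₁]
    rw [← CommRingCat.hom_comp, ← Scheme.Hom.comp_appTop, sysCone_π_snd]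
  have hy : ((sysCone E cE j₀ f₀).π.app k₁).appTop y = 0 := by
    change σ (q.eval₂ φ₁ (ψ₁ x)) = 0
    rw [Polynomial.hom_eval₂, e1, ← Polynomial.eval₂_map, hq]
    have : σ (ψ₁ x) = (pullback.snd (cE.π.app j₀) f₀).appTop.hom x := RingHom.congr_fun e2 x
    rw [this]
    exact hpx
  obtain ⟨k₂, a, ha⟩ := exists_appTop_map_eq_zero_of_isAffine_of_isLimit (sys E j₀ f₀)
    (sysCone E cE j₀ f₀) (isLimitSysCone E cE j₀ f₀ hcE) k₁ y hy
  let τ := ((sys E j₀ f₀).map a).appTop.hom
  have e3 : τ.comp φ₁ =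
      (pullback.fst (E.map k₂.hom) f₀).appTop.hom.comp (E.map a.left).appTop.hom := by
    simp only [τ, φ₁]
    rw [← CommRingCat.hom_comp, ← CommRingCat.hom_comp, ← Scheme.Hom.comp_appTop,
      ← Scheme.Hom.comp_appTop, sys_map_fst]
  have e4 : τ.comp ψ₁ = (pullback.snd (E.map k₂.hom) f₀).appTop.hom := by
    simp only [τ, ψ₁]
    rw [← CommRingCat.hom_comp, ← Scheme.Hom.comp_appTop, sys_map_snd]
  refine ⟨k₂, q.map (E.map a.left).appTop.hom, hqm.map _, ?_⟩
  rw [Polynomial.eval₂_map, ← e3]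
  have : τ (ψ₁ x) = (pullback.snd (E.map k₂.hom) f₀).appTop.hom x := RingHom.congr_fun e4 x
  rw [← this]
  exact (Polynomial.hom_eval₂ q φ₁ τ (ψ₁ x)).symm.trans ha


set_option backward.isDefEq.respectTransparency false in
/-- **Descent of integral morphisms**, all-affine case. -/
theorem exists_isIntegralHom_pullback_fst_of_isAffine [IsCofiltered J] (hcE : IsLimit cE)
    [∀ j, IsAffine (E.obj j)] [IsAffine X₀] [LocallyOfFiniteType f₀]
    (h : IsIntegralHom (pullback.fst (cE.π.app j₀) f₀)) :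
    ∃ k : Over j₀, IsIntegralHom (pullback.fst (E.map k.hom) f₀) := by
  classical
  have hft : f₀.appTop.hom.FiniteType :=
    (HasRingHomProperty.iff_of_isAffine (P := @LocallyOfFiniteType)).mp ‹_›
  have hpt : IsAffine cE.pt := Scheme.isAffine_of_isLimit cE hcE
  have hpt' : IsAffine (((Functor.const J).obj cE.pt).obj j₀) := hpt
  have hI : RingHom.IsIntegral (pullback.fst (cE.π.app j₀) f₀).appTop.hom :=
    ((HasAffineProperty.iff_of_isAffine (P := @IsIntegralHom)).mp h).2
  choose k hk using fun x : Γ(X₀, ⊤) => exists_isIntegralElem E cE j₀ f₀ hcE x (hI _)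
  -- generators
  obtain ⟨s, hs⟩ : ∃ s : Finset Γ(X₀, ⊤),
      @Algebra.adjoin Γ(E.obj j₀, ⊤) Γ(X₀, ⊤) _ _ f₀.appTop.hom.toAlgebra (s : Set Γ(X₀, ⊤)) = ⊤ :=
    (@Algebra.FiniteType.out _ _ _ _ f₀.appTop.hom.toAlgebra hft)
  obtain ⟨m, hm⟩ := IsCofiltered.inf_objs_exists (s.image k)
  refine ⟨m, ?_⟩
  have hXm : IsAffine (pullback (E.map m.hom) f₀) :=
    isAffine_of_isAffineHom (pullback.snd (E.map m.hom) f₀)
  rw [HasAffineProperty.iff_of_isAffine (P := @IsIntegralHom)]
  refine ⟨hXm, ?_⟩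
  let φ := (pullback.fst (E.map m.hom) f₀).appTop.hom
  let ψ := (pullback.snd (E.map m.hom) f₀).appTop.hom
  have hgen : ∀ x ∈ s, φ.IsIntegralElem (ψ x) := fun x hx => by
    obtain ⟨a⟩ := hm (Finset.mem_image_of_mem k hx)
    exact isIntegralElem_of_hom E j₀ f₀ a x (hk x)
  have hpo := isPushout_appTop_of_isPullback (IsPullback.of_hasPullback (E.map m.hom) f₀)
  have hcl := CommRingCat.closure_range_union_range_eq_top_of_isPushout hpo
  have hcomm : ψ.comp f₀.appTop.hom = φ.comp (E.map m.hom).appTop.hom := by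
    simp only [φ, ψ]
    rw [← CommRingCat.hom_comp, ← CommRingCat.hom_comp, ← Scheme.Hom.comp_appTop,
      ← Scheme.Hom.comp_appTop, pullback.condition]
  change RingHom.IsIntegral φ
  let _ := φ.toAlgebra
  let S : Subring Γ(pullback (E.map m.hom) f₀, ⊤) :=
    (integralClosure Γ(E.obj m.left, ⊤) Γ(pullback (E.map m.hom) f₀, ⊤)).toSubring
  have hS : ∀ z, z ∈ S ↔ φ.IsIntegralElem z := fun z => Iff.rfl
  suffices h : (⊤ : Subring _) ≤ S from fun z => (hS z).mp (h trivial)
  rw [← hcl, Subring.closure_le]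
  rintro z (⟨r, rfl⟩ | ⟨b, rfl⟩)
  · exact (hS _).mpr (φ.isIntegralElem_map)
  · have hb : b ∈ @Algebra.adjoin Γ(E.obj j₀, ⊤) Γ(X₀, ⊤) _ _ f₀.appTop.hom.toAlgebra
        (s : Set Γ(X₀, ⊤)) := by rw [hs]; trivial
    let _ := f₀.appTop.hom.toAlgebra
    induction hb using Algebra.adjoin_induction with
    | mem x hx => exact (hS _).mpr (hgen x hx)
    | algebraMap r =>
      have : ψ (f₀.appTop.hom r) = φ ((E.map m.hom).appTop.hom r) := RingHom.congr_fun hcomm r
      exact (hS _).mpr (this ▸ φ.isIntegralElem_map)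
    | add x y _ _ hx hy => exact (map_add ψ x y) ▸ S.add_mem hx hy
    | mul x y _ _ hx hy => exact (map_mul ψ x y) ▸ S.mul_mem hx hy

end AffineIntegral

section Localize

variable {J : Type u} [SmallCategory J] (E : J ⥤ Scheme.{u}) (cE : Cone E) (j₀ : J)
  {X₀ : Scheme.{u}} (f₀ : X₀ ⟶ E.obj j₀)

set_option backward.isDefEq.respectTransparency false in
/-- Descent of a target-local property can be checked on an affine open cover of the stage. -/
theorem localize (P : MorphismProperty Scheme.{u}) [P.IsStableUnderBaseChange]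
    [IsZariskiLocalAtTarget P] [IsCofiltered J] [CompactSpace (E.obj j₀)]
    (H : ∀ {V : Scheme.{u}} (v : V ⟶ E.obj j₀) [IsOpenImmersion v] [IsAffine V],
      P (pullback.fst (pullback.fst (cE.π.app j₀) v) (pullback.fst (cE.π.app j₀) f₀)) →
      ∃ k : Over j₀, P (pullback.fst (pullback.fst (E.map k.hom) v)
        (pullback.fst (E.map k.hom) f₀)))
    (h : P (pullback.fst (cE.π.app j₀) f₀)) :
    ∃ k : Over j₀, P (pullback.fst (E.map k.hom) f₀) := by
  classical
  let 𝒰 := (E.obj j₀).affineCover.finiteSubcover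
  have hU : ∀ i, IsAffine (𝒰.X i) := fun i => by dsimp [𝒰]; infer_instance
  have hstage : ∀ i, ∃ k : Over j₀, P (pullback.fst (pullback.fst (E.map k.hom) (𝒰.f i))
      (pullback.fst (E.map k.hom) f₀)) := fun i => H (𝒰.f i) (P.pullback_fst _ _ h)
  choose k hk using hstage
  obtain ⟨m, hm⟩ := IsCofiltered.inf_objs_exists (Finset.univ.image k)
  refine ⟨m, ?_⟩
  apply IsZariskiLocalAtTarget.of_openCover (𝒰.pullback₁ (E.map m.hom))
  intro (i : 𝒰.I₀)
  obtain ⟨a⟩ := hm (Finset.mem_image_of_mem k (Finset.mem_univ i))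
  have h1 : P (pullback.fst (pullback.fst (E.map m.hom) (𝒰.f i))
      (pullback.fst (E.map m.hom) f₀)) :=
    prop_fst_fst_of_comp P (E.map a.left) (E.map (k i).hom) (b' := E.map m.hom)
      (by rw [← E.map_comp, Over.w a]) (𝒰.f i) f₀ (hk i)
  change P (pullback.snd (pullback.fst (E.map m.hom) f₀) (pullback.fst (E.map m.hom) (𝒰.f i)))
  rw [← pullbackSymmetry_hom_comp_fst, P.cancel_left_of_respectsIso]
  exact h1

end Localize

section FiniteDescent

variable {J : Type u} [SmallCategory J] (E : J ⥤ Scheme.{u}) (cE : Cone E) (j₀ : J)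
  {X₀ : Scheme.{u}}
variable [hE : ∀ {i j : J} (f : i ⟶ j), IsAffineHom (E.map f)]

set_option backward.isDefEq.respectTransparency false in
/-- **Descent of integral morphisms** for an affine `f₀` locally of finite type. -/
theorem exists_isIntegralHom_pullback_fst_of_isAffineHom [IsCofiltered J] (hcE : IsLimit cE)
    [CompactSpace (E.obj j₀)] (f₀ : X₀ ⟶ E.obj j₀) [IsAffineHom f₀] [LocallyOfFiniteType f₀]
    (h : IsIntegralHom (pullback.fst (cE.π.app j₀) f₀)) :
    ∃ k : Over j₀, IsIntegralHom (pullback.fst (E.map k.hom) f₀) := by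
  refine localize E cE j₀ f₀ @IsIntegralHom ?_ h
  intro V v _ _ hP
  have hP' := (prop_fst_fst_symm @IsIntegralHom (cE.π.app j₀) v f₀).mp hP
  refine Exists.imp (fun k hk => (prop_fst_fst_symm @IsIntegralHom (E.map k.hom) v f₀).mpr hk)
    (relStep E cE j₀ (pullback.fst v f₀) v @IsIntegralHom ?_ hP')
  intro f₀' hf₀' hQ
  have : LocallyOfFiniteType f₀' := by
    rw [hf₀']
    exact (liftTop_prop_iff E j₀ _ _ @LocallyOfFiniteType).mpr inferInstance
  have : IsAffine (pullback v f₀) := isAffine_of_isAffineHom (pullback.fst v f₀)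
  have : ∀ k, IsAffine ((sys E j₀ v).obj k) := fun k => by
    dsimp only [sys_obj]
    exact isAffine_of_isAffineHom (pullback.snd (E.map k.hom) v)
  exact exists_isIntegralHom_pullback_fst_of_isAffine (sys E j₀ v) (sysCone E cE j₀ v) (top j₀)
    f₀' (isLimitSysCone E cE j₀ v hcE) hQ

set_option backward.isDefEq.respectTransparency false in
/-- **Descent of finite morphisms**. -/
theorem exists_isFinite_pullback_fst [IsCofiltered J] (hcE : IsLimit cE)
    [CompactSpace (E.obj j₀)] [QuasiSeparatedSpace X₀] (f₀ : X₀ ⟶ E.obj j₀) [QuasiCompact f₀]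
    [LocallyOfFiniteType f₀] (h : IsFinite (pullback.fst (cE.π.app j₀) f₀)) :
    ∃ k : Over j₀, IsFinite (pullback.fst (E.map k.hom) f₀) := by
  obtain ⟨k₁, hk₁⟩ := exists_isAffineHom_pullback_fst E cE j₀ hcE f₀
  have hc : CompactSpace (E.obj k₁.left) :=
    QuasiCompact.compactSpace_of_compactSpace (E.map k₁.hom)
  have h1 : IsIntegralHom (pullback.fst (cE.π.app k₁.left) (pullback.fst (E.map k₁.hom) f₀)) :=
    (rebase_limit_iff E cE j₀ f₀ @IsIntegralHom k₁).mpr inferInstance
  obtain ⟨k₂, hk₂⟩ := exists_isIntegralHom_pullback_fst_of_isAffineHom E cE k₁.left hcE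
    (pullback.fst (E.map k₁.hom) f₀) h1
  refine ⟨Over.mk (k₂.hom ≫ k₁.hom), ?_⟩
  have h2 : IsIntegralHom (pullback.fst (E.map (k₂.hom ≫ k₁.hom)) f₀) :=
    (rebase_stage_iff E j₀ f₀ @IsIntegralHom k₁ k₂).mp hk₂
  exact (IsFinite.iff_isIntegralHom_and_locallyOfFiniteType _).mpr ⟨h2, inferInstance⟩

end FiniteDescent


section ClosedImmersion

variable {J : Type u} [SmallCategory J] (E : J ⥤ Scheme.{u}) (cE : Cone E) (j₀ : J)
  {X₀ : Scheme.{u}}
variable [hE : ∀ {i j : J} (f : i ⟶ j), IsAffineHom (E.map f)]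

set_option backward.isDefEq.respectTransparency false in
/-- **Descent of closed immersions**. -/
theorem exists_isClosedImmersion_pullback_fst [IsCofiltered J] (hcE : IsLimit cE)
    [CompactSpace (E.obj j₀)] [QuasiSeparatedSpace (E.obj j₀)] [CompactSpace X₀]
    [QuasiSeparatedSpace X₀] (f₀ : X₀ ⟶ E.obj j₀) [LocallyOfFiniteType f₀]
    (h : IsClosedImmersion (pullback.fst (cE.π.app j₀) f₀)) :
    ∃ k : Over j₀, IsClosedImmersion (pullback.fst (E.map k.hom) f₀) := by
  have hfm := (IsClosedImmersion.iff_isFinite_and_mono _).mp h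
  obtain ⟨k₁, hk₁⟩ := exists_isFinite_pullback_fst E cE j₀ hcE f₀ hfm.1
  obtain ⟨k₂, hk₂⟩ := exists_mono_pullback_fst E cE j₀ hcE f₀ hfm.2
  refine ⟨IsCofiltered.min k₁ k₂, (IsClosedImmersion.iff_isFinite_and_mono _).mpr ⟨?_, ?_⟩⟩
  · exact stage_of_hom E j₀ f₀ @IsFinite (IsCofiltered.minToLeft k₁ k₂) hk₁
  · have := stage_of_hom E j₀ f₀ (MorphismProperty.monomorphisms Scheme.{u})
      (IsCofiltered.minToRight k₁ k₂) ((MorphismProperty.monomorphisms.iff _).mpr hk₂)
    exact (MorphismProperty.monomorphisms.iff _).mp this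

set_option backward.isDefEq.respectTransparency false in
/-- **Descent of separated morphisms**. -/
theorem exists_isSeparated_pullback_fst [IsCofiltered J] (hcE : IsLimit cE)
    [CompactSpace (E.obj j₀)] [QuasiSeparatedSpace (E.obj j₀)] [CompactSpace X₀]
    [QuasiSeparatedSpace X₀] (f₀ : X₀ ⟶ E.obj j₀)
    (h : IsSeparated (pullback.fst (cE.π.app j₀) f₀)) :
    ∃ k : Over j₀, IsSeparated (pullback.fst (E.map k.hom) f₀) := by
  have h' : IsClosedImmersion (pullback.diagonal (pullback.fst (cE.π.app j₀) f₀)) :=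
    inferInstance
  have key : ∃ k : Over j₀,
      IsClosedImmersion (pullback.diagonal (pullback.fst (E.map k.hom) f₀)) := by
    refine diagonal_step E cE j₀ f₀ @IsClosedImmersion ?_ h'
    refine relStep E cE j₀ (pullback.diagonal f₀) (pullback.fst f₀ f₀ ≫ f₀) @IsClosedImmersion ?_
    intro f₀' hf₀' hP
    have : LocallyOfFiniteType f₀' := by
      rw [hf₀']
      exact (liftTop_prop_iff E j₀ _ _ @LocallyOfFiniteType).mpr inferInstance
    exact exists_isClosedImmersion_pullback_fst (sys E j₀ (pullback.fst f₀ f₀ ≫ f₀))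
      (sysCone E cE j₀ _) (top j₀) (isLimitSysCone E cE j₀ _ hcE) f₀' hP
  obtain ⟨k, hk⟩ := key
  exact ⟨k, ⟨hk⟩⟩

end ClosedImmersion

end Groth.Agent.Lib.Helper13.LimDescent
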