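import Groth.Agent.Lib.Helper55.EquidimCriterion
import Groth.Agent.Lib.Helper55.EquidimAt
import Groth.Agent.H52.LqfFibreDim
import Groth.Agent.S2768

/-! Affine space over a base: smooth of relative dimension `e`; maximal points of affine space
and of fibres (helper13). -/
set_option autoImplicit false
universe u
open AlgebraicGeometry CategoryTheory CategoryTheory.Limits MvPolynomial

namespace Groth.Agent.Lib.Helper13.EquidimAffSpace

open Algebra in
/-- The tautological pre-submersive presentation of a polynomial algebra (no relations). -/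
noncomputable def mvPolyPreSubmersive (R : Type*) [CommRing R] (σ : Type*) [Finite σ] :
    Algebra.PreSubmersivePresentation R (MvPolynomial σ R) σ PEmpty.{1} where
  toGenerators := Algebra.Generators.mvPolynomial R σ
  relation := PEmpty.elim
  span_range_relation_eq_ker := by
    rw [Algebra.Generators.ker_mvPolynomial]
    simp
  map := PEmpty.elim
  map_inj := fun a => a.elim

open Algebra in
/-- The tautological submersive presentation of a polynomial algebra (no relations). -/
noncomputable def mvPolySubmersive (R : Type*) [CommRing R] (σ : Type*) [Finite σ] :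
    Algebra.SubmersivePresentation R (MvPolynomial σ R) σ PEmpty.{1} where
  toPreSubmersivePresentation := mvPolyPreSubmersive R σ
  jacobian_isUnit := by
    rw [PreSubmersivePresentation.jacobian_eq_jacobiMatrix_det, RingHom.map_det,
      Matrix.det_isEmpty]
    exact isUnit_one

theorem isStandardSmoothOfRelativeDimension_mvPolynomial (R : Type*) [CommRing R] (σ : Type*)
    [Finite σ] (n : ℕ) (hn : Nat.card σ = n) :
    Algebra.IsStandardSmoothOfRelativeDimension n R (MvPolynomial σ R) := by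
  refine Algebra.SubmersivePresentation.isStandardSmoothOfRelativeDimension
    (mvPolySubmersive R σ) ?_
  simp [Algebra.Presentation.dimension, hn]


open AlgebraicGeometry.AffineSpace in
set_option backward.isDefEq.respectTransparency.types false in
/-- Affine space of dimension `e` over any base is smooth of relative dimension `e`. -/
theorem smoothOfRelativeDimension_affineSpace (n : Type u) [Finite n] (e : ℕ)
    (he : Nat.card n = e) (S : Scheme.{u}) :
    SmoothOfRelativeDimension e (𝔸(n; S) ↘ S) := by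
  haveI := smoothOfRelativeDimension_isStableUnderBaseChange e
  refine MorphismProperty.pullback_fst (P := @SmoothOfRelativeDimension e) _ _ ?_
  have := isIso_of_isTerminal specULiftZIsTerminal.{u} terminalIsTerminal (terminal.from _)
  rw [← terminal.comp_from (Spec.map (CommRingCat.ofHom C)),
    MorphismProperty.cancel_right_of_respectsIso (P := @SmoothOfRelativeDimension e),
    HasRingHomProperty.Spec_iff (P := @SmoothOfRelativeDimension e)]
  apply RingHom.locally_of RingHom.isStandardSmoothOfRelativeDimension_respectsIso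
  rw [RingHom.IsStandardSmoothOfRelativeDimension]
  have hsm : Algebra.IsStandardSmoothOfRelativeDimension e (ULift ℤ) (MvPolynomial n (ULift ℤ)) :=
    isStandardSmoothOfRelativeDimension_mvPolynomial _ _ e he
  convert! hsm
  exact Algebra.algebra_ext _ _ fun _ ↦ rfl

end Groth.Agent.Lib.Helper13.EquidimAffSpace

namespace Groth.Agent.Lib.Helper13.EquidimAffSpace

open Groth.Agent.Lib.Helper55 Topology

section general

variable {X Y : Scheme.{u}} (f : X ⟶ Y) [LocallyOfFiniteType f]

/-- A point that is maximal in its fibre has `trdeg κ(θ)/κ(f θ) = dim_θ f⁻¹(f θ)`. -/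
theorem trdeg_eq_fibreDimAt_of_maximal_in_fibre (θ : X)
    (hmax : ∀ w : X, f w = f θ → w ⤳ θ → θ ⤳ w) :
    ∃ n : ℕ, @Algebra.trdeg (Y.residueField (f θ)) (X.residueField θ) _ _
        (f.residueFieldMap θ).hom.toAlgebra = n ∧ FlatMor.fibreDimAt f θ = n := by
  obtain ⟨z, hfz, hzθ, -, n, hn, hF, -, -⟩ := exists_maximal_point_fiber f θ
  have h1 : θ ⤳ z := hmax z hfz hzθ
  have hz : z = θ := (hzθ.antisymm h1).eq
  subst hz
  exact ⟨n, hn, hF⟩

/-- A point `θ` with `trdeg κ(θ)/κ(f θ) = dim_θ f⁻¹(f θ)` is maximal in its fibre. -/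
theorem eq_of_specializes_of_trdeg_eq_fibreDimAt (θ w : X) (n : ℕ)
    (htr : @Algebra.trdeg (Y.residueField (f θ)) (X.residueField θ) _ _
        (f.residueFieldMap θ).hom.toAlgebra = n)
    (hF : FlatMor.fibreDimAt f θ = n) (hw : f w = f θ) (hwθ : w ⤳ θ) : w = θ := by
  obtain ⟨n', hn', hfd⟩ := fibreDimAt_eq_stalk_fiber_add_trdeg f θ
  have hnn : n' = n := by
    have : ((n' : ℕ) : Cardinal) = ((n : ℕ) : Cardinal) := by rw [← hn', ← htr]
    exact_mod_cast this
  rw [hF, hnn] at hfd
  have h0 : ringKrullDim ((f.fiber (f θ)).presheaf.stalk (f.asFiber θ)) = 0 := by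
    refine withBot_enat_add_left_cancel n ?_
    rw [add_zero, add_comm]
    exact hfd.symm
  have hwr : w ∈ Set.range (f.fiberι (f θ)) := by
    rw [f.range_fiberι]
    exact hw
  obtain ⟨w', rfl⟩ := hwr
  have h1 : w' ⤳ f.asFiber θ := by
    apply (f.fiberι (f θ)).isEmbedding.isInducing.specializes_iff.mp
    rw [f.fiberι_asFiber]
    exact hwθ
  have h2 := eq_of_specializes_of_ringKrullDim_stalk_eq_zero (f.asFiber θ) w' h0 h1
  rw [h2, f.fiberι_asFiber]

/-- For a locally quasi-finite morphism the residue field extensions have transcendence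
degree `0`. -/
theorem trdeg_eq_zero_of_locallyQuasiFinite [LocallyQuasiFinite f] (x : X) :
    @Algebra.trdeg (Y.residueField (f x)) (X.residueField x) _ _
        (f.residueFieldMap x).hom.toAlgebra = 0 := by
  obtain ⟨n, hn, -⟩ := fibreDimAt_eq_stalk_add_trdeg f x
  have h1 := trdeg_le_fibreDimAt f x n hn
  rw [Groth.Agent.H52.fibreDimAt_eq_zero_of_locallyQuasiFinite f x] at h1
  have h2 : n = 0 := by
    have : (n : WithBot ℕ∞) ≤ ((0 : ℕ) : WithBot ℕ∞) := by exact_mod_cast h1
    have h3 : n ≤ 0 := by exact_mod_cast this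
    omega
  rw [hn, h2]
  rfl

end general

section affineSpace

variable (e : ℕ) (Y : Scheme.{u})

theorem fibreDimAt_affineSpace (θ : 𝔸(ULift.{u} (Fin e); Y)) :
    FlatMor.fibreDimAt (𝔸(ULift.{u} (Fin e); Y) ↘ Y) θ = e := by
  haveI : SmoothOfRelativeDimension e (𝔸(ULift.{u} (Fin e); Y) ↘ Y) :=
    smoothOfRelativeDimension_affineSpace _ e (by simp) Y
  exact Groth.Agent.S2768.result e _ θ

theorem generalizingMap_affineSpace :
    GeneralizingMap (𝔸(ULift.{u} (Fin e); Y) ↘ Y) := by
  haveI : SmoothOfRelativeDimension e (𝔸(ULift.{u} (Fin e); Y) ↘ Y) :=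
    smoothOfRelativeDimension_affineSpace _ e (by simp) Y
  haveI : Smooth (𝔸(ULift.{u} (Fin e); Y) ↘ Y) := SmoothOfRelativeDimension.smooth e _
  exact Flat.generalizingMap _

/-- A maximal point of affine space over `Y` lies over a maximal point of `Y`, and its residue
field has transcendence degree `e` over that of its image. -/
theorem map_maximal_affineSpace (θ : 𝔸(ULift.{u} (Fin e); Y))
    (hmax : ∀ w : 𝔸(ULift.{u} (Fin e); Y), w ⤳ θ → θ ⤳ w) :
    (∀ v : Y, v ⤳ (𝔸(ULift.{u} (Fin e); Y) ↘ Y) θ → (𝔸(ULift.{u} (Fin e); Y) ↘ Y) θ ⤳ v) ∧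
    @Algebra.trdeg (Y.residueField ((𝔸(ULift.{u} (Fin e); Y) ↘ Y) θ))
      ((𝔸(ULift.{u} (Fin e); Y)).residueField θ) _ _
        ((𝔸(ULift.{u} (Fin e); Y) ↘ Y).residueFieldMap θ).hom.toAlgebra = e := by
  constructor
  · intro v hv
    obtain ⟨θ', hθ', rfl⟩ := generalizingMap_affineSpace e Y hv
    exact (hmax θ' hθ').map (𝔸(ULift.{u} (Fin e); Y) ↘ Y).continuous
  · obtain ⟨n, hn, hF⟩ := trdeg_eq_fibreDimAt_of_maximal_in_fibre
      (𝔸(ULift.{u} (Fin e); Y) ↘ Y) θ (fun w _ hw => hmax w hw)
    rw [fibreDimAt_affineSpace] at hF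
    have : e = n := by exact_mod_cast hF
    rw [hn, this]

/-- A point of affine space over a maximal point of `Y` whose residue field has transcendence
degree `e` is a maximal point. -/
theorem maximal_affineSpace_of_trdeg (θ : 𝔸(ULift.{u} (Fin e); Y))
    (hη : ∀ v : Y, v ⤳ (𝔸(ULift.{u} (Fin e); Y) ↘ Y) θ → (𝔸(ULift.{u} (Fin e); Y) ↘ Y) θ ⤳ v)
    (htr : @Algebra.trdeg (Y.residueField ((𝔸(ULift.{u} (Fin e); Y) ↘ Y) θ))
      ((𝔸(ULift.{u} (Fin e); Y)).residueField θ) _ _
        ((𝔸(ULift.{u} (Fin e); Y) ↘ Y).residueFieldMap θ).hom.toAlgebra = e)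
    (w : 𝔸(ULift.{u} (Fin e); Y)) (hw : w ⤳ θ) : θ ⤳ w := by
  have h1 : (𝔸(ULift.{u} (Fin e); Y) ↘ Y) w ⤳ (𝔸(ULift.{u} (Fin e); Y) ↘ Y) θ :=
    hw.map (𝔸(ULift.{u} (Fin e); Y) ↘ Y).continuous
  have h2 := hη _ h1
  have h3 : (𝔸(ULift.{u} (Fin e); Y) ↘ Y) w = (𝔸(ULift.{u} (Fin e); Y) ↘ Y) θ :=
    (h1.antisymm h2).eq
  have h4 := eq_of_specializes_of_trdeg_eq_fibreDimAt (𝔸(ULift.{u} (Fin e); Y) ↘ Y) θ w e htr
    (fibreDimAt_affineSpace e Y θ) h3 hw
  rw [h4]

end affineSpace

end Groth.Agent.Lib.Helper13.EquidimAffSpace
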