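import Groth.Agent.S2082
import Groth.Agent.Lib.Helper29.FlatAscent2
import Groth.Agent.Lib.Helper71.FibreCritNoeth
import Groth.Agent.Lib.Helper13.EquidimAffSpace
import Groth.Agent.S1535

/-! Miracle flatness in a tower `R → S → S'` and for locally quasi-finite morphisms to smooth
schemes (helper13). -/

set_option autoImplicit false
universe u
open IsLocalRing AlgebraicGeometry CategoryTheory Groth.Agent.Lib.Helper55
  Groth.Agent.Lib.Helper13.EquidimAffSpace

namespace Groth.Agent.Lib.Helper13.MiracleLQF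

section ring

variable {R S S' : Type u} [CommRing R] [CommRing S] [CommRing S']
    [IsLocalRing R] [IsLocalRing S] [IsLocalRing S'] [IsNoetherianRing S] [IsNoetherianRing S']
    [Algebra R S] [Algebra S S'] [Algebra R S'] [IsScalarTower R S S']
    [IsLocalHom (algebraMap R S)] [IsLocalHom (algebraMap S S')]

omit [IsNoetherianRing S] [IsNoetherianRing S'] in
/-- A local homomorphism induces a local homomorphism on quotients. -/
theorem isLocalHom_quotient_map (I : Ideal S) (hI : I ≤ maximalIdeal S) :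
    IsLocalHom (algebraMap (S ⧸ I) (S' ⧸ I.map (algebraMap S S'))) := by
  have hI' : I.map (algebraMap S S') ≤ Ideal.jacobson ⊥ := by
    rw [IsLocalRing.jacobson_eq_maximalIdeal ⊥ bot_ne_top]
    exact (Ideal.map_mono hI).trans Groth.Agent.Lib.Helper71.FibreCritNoeth.map_maximalIdeal_le
  have h1 := isLocalHom_of_le_jacobson_bot _ hI'
  constructor
  intro a ha
  obtain ⟨s, rfl⟩ := Ideal.Quotient.mk_surjective a
  rw [Ideal.Quotient.algebraMap_quotient_map_quotient] at ha
  have h2 : IsUnit (algebraMap S S' s) := h1.map_nonunit _ ha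
  have h3 : IsUnit s := isUnit_of_map_unit (algebraMap S S') s h2
  exact h3.map _

/-- **Miracle flatness in a tower.** `R → S → S'` local homomorphisms with `S'` flat over `R`,
the closed fibre of `S` regular, the closed fibre of `S'` Cohen–Macaulay, and
`dim S'/m_R S' = dim S/m_R S + dim S'/m_S S'`.  Then `S'` is flat over `S`. -/
theorem flat_of_regular_fibre_of_cm_fibre [Module.Flat R S']
    (hreg : IsRegularLocalRing (S ⧸ (maximalIdeal R).map (algebraMap R S)))
    (hcm : LocCoh.IsCohenMacaulayLocalRing (S' ⧸ (maximalIdeal R).map (algebraMap R S')))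
    (hdim : ringKrullDim (S' ⧸ (maximalIdeal R).map (algebraMap R S')) =
      ringKrullDim (S ⧸ (maximalIdeal R).map (algebraMap R S)) +
        ringKrullDim (S' ⧸ (maximalIdeal S).map (algebraMap S S'))) :
    Module.Flat S S' := by
  set I : Ideal S := (maximalIdeal R).map (algebraMap R S) with hI
  have hIle : I ≤ maximalIdeal S := Groth.Agent.Lib.Helper71.FibreCritNoeth.map_maximalIdeal_le
  have hI' : I.map (algebraMap S S') = (maximalIdeal R).map (algebraMap R S') := by
    rw [hI, Ideal.map_map, ← IsScalarTower.algebraMap_eq]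
  -- CM and dimension for `S' ⧸ I S'`
  have hcm' : LocCoh.IsCohenMacaulayLocalRing (S' ⧸ I.map (algebraMap S S')) :=
    Groth.Agent.Lib.Helper29.isCohenMacaulayLocalRing_of_ringEquiv
      (Ideal.quotEquivOfEq hI'.symm) hcm
  have hloc := isLocalHom_quotient_map (S' := S') I hIle
  have hJ : I.map (algebraMap S S') ≤ (maximalIdeal S).map (algebraMap S S') :=
    Ideal.map_mono hIle
  have hmkloc : IsLocalHom (Ideal.Quotient.mk I) := by
    apply isLocalHom_of_le_jacobson_bot
    rw [IsLocalRing.jacobson_eq_maximalIdeal ⊥ bot_ne_top]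
    exact hIle
  have hmax : maximalIdeal (S ⧸ I) = (maximalIdeal S).map (Ideal.Quotient.mk I) := by
    apply le_antisymm
    · intro a ha
      obtain ⟨s, rfl⟩ := Ideal.Quotient.mk_surjective a
      refine Ideal.mem_map_of_mem _ ?_
      rw [IsLocalRing.mem_maximalIdeal, mem_nonunits_iff] at ha ⊢
      exact fun hs => ha (hs.map _)
    · rw [Ideal.map_le_iff_le_comap]
      intro s hs
      rw [Ideal.mem_comap, IsLocalRing.mem_maximalIdeal, mem_nonunits_iff] at *
      exact fun hu => hs (isUnit_of_map_unit (Ideal.Quotient.mk I) s hu)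
  have hdim' : ringKrullDim (S' ⧸ I.map (algebraMap S S')) = ringKrullDim (S ⧸ I) +
      ringKrullDim ((S' ⧸ I.map (algebraMap S S')) ⧸
        (maximalIdeal (S ⧸ I)).map (algebraMap (S ⧸ I) (S' ⧸ I.map (algebraMap S S')))) := by
    have hmap : (maximalIdeal (S ⧸ I)).map (algebraMap (S ⧸ I) (S' ⧸ I.map (algebraMap S S'))) =
        ((maximalIdeal S).map (algebraMap S S')).map
          (Ideal.Quotient.mk (I.map (algebraMap S S'))) := by
      rw [hmax, Ideal.map_map (Ideal.Quotient.mk I)
        (algebraMap (S ⧸ I) (S' ⧸ I.map (algebraMap S S'))),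
        Ideal.map_map (algebraMap S S') (Ideal.Quotient.mk (I.map (algebraMap S S')))]
      rfl
    rw [hmap, ringKrullDim_eq_of_ringEquiv (DoubleQuot.quotQuotEquivQuotOfLE hJ),
      ringKrullDim_eq_of_ringEquiv (Ideal.quotEquivOfEq hI')]
    exact hdim
  have hflat : Module.Flat (S ⧸ I) (S' ⧸ I.map (algebraMap S S')) :=
    Groth.Agent.S2082.result hdim'
  have hsmul : (I • ⊤ : Submodule S S').map (LinearEquiv.refl S S' : S' →ₗ[S] S') =
      (I.map (algebraMap S S')).restrictScalars S := by
    rw [Ideal.smul_top_eq_map]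
    ext x
    simp
  let e0 : (S' ⧸ (I • ⊤ : Submodule S S')) ≃ₗ[S] (S' ⧸ I.map (algebraMap S S')) :=
    (Submodule.Quotient.equiv (I • ⊤ : Submodule S S')
      ((I.map (algebraMap S S')).restrictScalars S) (LinearEquiv.refl S S') hsmul).trans
      (Submodule.Quotient.restrictScalarsEquiv S (I.map (algebraMap S S')))
  let e1 : (S' ⧸ (I • ⊤ : Submodule S S')) ≃ₗ[S ⧸ I] (S' ⧸ I.map (algebraMap S S')) :=
    LinearEquiv.extendScalarsOfSurjective (Ideal.Quotient.mk_surjective (I := I)) e0
  have hfib : Module.Flat (S ⧸ I) (S' ⧸ (I • ⊤ : Submodule S S')) :=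
    Module.Flat.of_linearEquiv e1
  exact Groth.Agent.Lib.Helper71.FibreCritNoeth.flat_of_fibre S' S' hfib

end ring

section scheme

variable {U P Y : Scheme.{u}} [IsLocallyNoetherian Y]
    (π : U ⟶ P) (q : P ⟶ Y) [LocallyOfFiniteType π] [LocallyQuasiFinite π]
    [LocallyOfFiniteType q] [Smooth q]

/-- **Miracle flatness for a quasi-finite morphism to a smooth `Y`-scheme.** -/
theorem flat_stalkMap_of_lqf_over_smooth' (e : ℕ) (hq : ∀ θ : P, FlatMor.fibreDimAt q θ = e)
    (x : U) (hflat : ((π ≫ q).stalkMap x).hom.Flat)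
    (hcm : LocCoh.IsCohenMacaulayLocalRing (U.presheaf.stalk x ⧸
      Ideal.map ((π ≫ q).stalkMap x).hom (maximalIdeal (Y.presheaf.stalk ((π ≫ q) x)))))
    (hdim : FlatMor.fibreDimAt (π ≫ q) x = e) :
    (π.stalkMap x).hom.Flat := by
  have hP : IsLocallyNoetherian P := LocallyOfFiniteType.isLocallyNoetherian q
  have hU : IsLocallyNoetherian U := LocallyOfFiniteType.isLocallyNoetherian π
  letI a1 : Algebra (Y.presheaf.stalk (q (π x))) (P.presheaf.stalk (π x)) :=
    (q.stalkMap (π x)).hom.toAlgebra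
  letI a2 : Algebra (P.presheaf.stalk (π x)) (U.presheaf.stalk x) := (π.stalkMap x).hom.toAlgebra
  letI a3 : Algebra (Y.presheaf.stalk (q (π x))) (U.presheaf.stalk x) :=
    ((π ≫ q).stalkMap x).hom.toAlgebra
  haveI tower : IsScalarTower (Y.presheaf.stalk (q (π x))) (P.presheaf.stalk (π x))
      (U.presheaf.stalk x) :=
    IsScalarTower.of_algebraMap_eq (fun r => by
      change ((π ≫ q).stalkMap x).hom r = (π.stalkMap x).hom ((q.stalkMap (π x)).hom r)
      rw [Scheme.Hom.stalkMap_comp]
      rfl)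
  haveI l1 : IsLocalHom (algebraMap (Y.presheaf.stalk (q (π x))) (P.presheaf.stalk (π x))) :=
    inferInstanceAs (IsLocalHom (q.stalkMap (π x)).hom)
  haveI l2 : IsLocalHom (algebraMap (P.presheaf.stalk (π x)) (U.presheaf.stalk x)) :=
    inferInstanceAs (IsLocalHom (π.stalkMap x).hom)
  haveI fl : Module.Flat (Y.presheaf.stalk (q (π x))) (U.presheaf.stalk x) := hflat
  -- the closed fibre of `S` is regular
  have hreg : IsRegularLocalRing (P.presheaf.stalk (π x) ⧸
      (maximalIdeal (Y.presheaf.stalk (q (π x)))).map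
        (algebraMap (Y.presheaf.stalk (q (π x))) (P.presheaf.stalk (π x)))) := by
    obtain ⟨eq⟩ := nonempty_stalk_fiber_equiv q (q (π x)) (q.asFiber (π x)) (π x)
      (q.fiberι_asFiber (π x))
    letI : (q.fiber (q (π x))).Over (Spec (CommRingCat.of (Y.residueField (q (π x))))) :=
      ⟨q.fiberToSpecResidueField (q (π x))⟩
    haveI : Smooth (q.fiber (q (π x)) ↘ Spec (CommRingCat.of (Y.residueField (q (π x))))) :=
      MorphismProperty.pullback_snd (P := @Smooth) _ _ inferInstance
    have h1 := Groth.Agent.S1535.result (Y.residueField (q (π x))) (q.fiber (q (π x)))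
      (q.asFiber (π x))
    exact IsRegularLocalRing.of_ringEquiv eq.symm
  -- the closed fibre of `S'` is Cohen–Macaulay
  have hcm' : LocCoh.IsCohenMacaulayLocalRing (U.presheaf.stalk x ⧸
      (maximalIdeal (Y.presheaf.stalk (q (π x)))).map
        (algebraMap (Y.presheaf.stalk (q (π x))) (U.presheaf.stalk x))) := by
    exact hcm
  -- dimensions
  have hdim' : ringKrullDim (U.presheaf.stalk x ⧸
      (maximalIdeal (Y.presheaf.stalk (q (π x)))).map
        (algebraMap (Y.presheaf.stalk (q (π x))) (U.presheaf.stalk x))) =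
      ringKrullDim (P.presheaf.stalk (π x) ⧸
        (maximalIdeal (Y.presheaf.stalk (q (π x)))).map
          (algebraMap (Y.presheaf.stalk (q (π x))) (P.presheaf.stalk (π x)))) +
      ringKrullDim (U.presheaf.stalk x ⧸
        (maximalIdeal (P.presheaf.stalk (π x))).map
          (algebraMap (P.presheaf.stalk (π x)) (U.presheaf.stalk x))) := by
    obtain ⟨n₁, hn₁, h₁⟩ := fibreDimAt_eq_stalk_add_trdeg (π ≫ q) x
    obtain ⟨n₂, hn₂, h₂⟩ := fibreDimAt_eq_stalk_add_trdeg π x
    obtain ⟨n₃, hn₃, h₃⟩ := fibreDimAt_eq_stalk_add_trdeg q (π x)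
    have hn : n₁ = n₃ + n₂ := by
      have := trdeg_residueField_comp π q x
      rw [hn₂, hn₃] at this
      have h' : ((n₃ + n₂ : ℕ) : Cardinal) = (n₁ : Cardinal) := by
        rw [← hn₁]; push_cast; exact this
      exact_mod_cast h'.symm
    have hn₂0 : n₂ = 0 := by
      have := trdeg_eq_zero_of_locallyQuasiFinite π x
      rw [hn₂] at this
      exact_mod_cast this
    subst hn₂0
    rw [add_zero] at hn
    subst hn
    rw [Groth.Agent.H52.fibreDimAt_eq_zero_of_locallyQuasiFinite π x] at h₂
    rw [hdim] at h₁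
    rw [hq] at h₃
    have hc : ringKrullDim (U.presheaf.stalk x ⧸
        (maximalIdeal (P.presheaf.stalk (π x))).map
          (algebraMap (P.presheaf.stalk (π x)) (U.presheaf.stalk x))) = 0 := by
      have h2' := h₂
      simp only [Nat.cast_zero, add_zero] at h2'
      exact h2'.symm
    rw [hc, add_zero]
    exact withBot_enat_add_right_cancel n₁ (h₁.symm.trans h₃)
  exact flat_of_regular_fibre_of_cm_fibre hreg hcm' hdim'

/-- **Miracle flatness for a quasi-finite morphism to a smooth `Y`-scheme**, with the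
Cohen–Macaulay hypothesis on the stalk of the fibre. -/
theorem flat_stalkMap_of_lqf_over_smooth (e : ℕ) (hq : ∀ θ : P, FlatMor.fibreDimAt q θ = e)
    (x : U) (hflat : ((π ≫ q).stalkMap x).hom.Flat)
    (hcm : LocCoh.IsCohenMacaulayLocalRing
      (((π ≫ q).fiber ((π ≫ q) x)).presheaf.stalk ((π ≫ q).asFiber x)))
    (hdim : FlatMor.fibreDimAt (π ≫ q) x = e) :
    (π.stalkMap x).hom.Flat := by
  refine flat_stalkMap_of_lqf_over_smooth' π q e hq x hflat ?_ hdim
  obtain ⟨eq⟩ := nonempty_stalk_fiber_equiv (π ≫ q) ((π ≫ q) x) ((π ≫ q).asFiber x) x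
    ((π ≫ q).fiberι_asFiber x)
  exact Groth.Agent.Lib.Helper29.isCohenMacaulayLocalRing_of_ringEquiv eq.symm hcm

end scheme

end Groth.Agent.Lib.Helper13.MiracleLQF
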