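import Mathlib
import Groth.Agent.Lib.Helper55.KrullDimIntegral

/-!
# Noether normalization of a fibre with variables coming from the total ring

Ring-level input for Chevalley's upper semicontinuity of fibre dimension: for a finite type
`A`-algebra `B` and a prime `p` of `A` with nonempty fibre, there are `s = dim (κ(p) ⊗ B)` elements
`β₁, …, β_s` of `B` such that `κ(p)[X₁, …, X_s] → κ(p) ⊗ B`, `X_i ↦ 1 ⊗ β_i`, is finite.
-/

set_option autoImplicit false

namespace Groth.Agent.Lib.Helper13.ChevalleyRing

open TensorProduct

universe u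

variable {A B : Type u} [CommRing A] [CommRing B] [Algebra A B] [Algebra.FiniteType A B]

/-- **Noether normalization of the fibre over `p` with variables in `B`.** -/
theorem exists_aeval_finite (p : Ideal A) [p.IsPrime] [Nontrivial (p.Fiber B)] :
    ∃ (s : ℕ) (β : Fin s → B), ringKrullDim (p.Fiber B) = s ∧
      (Algebra.TensorProduct.map (AlgHom.id p.ResidueField p.ResidueField)
        (MvPolynomial.aeval β : MvPolynomial (Fin s) A →ₐ[A] B)).toRingHom.Finite := by
  classical
  obtain ⟨s, g, hginj, hgfin⟩ := exists_finite_inj_algHom_of_fg p.ResidueField (p.Fiber B)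
  choose r hr b hb using fun i => Ideal.Fiber.exists_smul_eq_one_tmul p (g (MvPolynomial.X i))
  refine ⟨s, b, ?_, ?_⟩
  · rw [Groth.Agent.Lib.Helper55.ringKrullDim_eq_of_ringHom_isIntegral_of_injective g.toRingHom
      (RingHom.IsIntegral.of_finite hgfin) hginj]
    rw [MvPolynomial.ringKrullDim_of_isNoetherianRing, ringKrullDim_eq_zero_of_field, zero_add]
    simp
  · have hcK : ∀ i, algebraMap A p.ResidueField (r i) ≠ 0 := fun i h =>
      hr i (Ideal.algebraMap_residueField_eq_zero.mp h)
    let τ : MvPolynomial (Fin s) p.ResidueField →ₐ[p.ResidueField]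
        MvPolynomial (Fin s) p.ResidueField :=
      MvPolynomial.aeval (fun i => MvPolynomial.C (algebraMap A p.ResidueField (r i)) *
        MvPolynomial.X i)
    let τ' : MvPolynomial (Fin s) p.ResidueField →ₐ[p.ResidueField]
        MvPolynomial (Fin s) p.ResidueField :=
      MvPolynomial.aeval (fun i => MvPolynomial.C (algebraMap A p.ResidueField (r i))⁻¹ *
        MvPolynomial.X i)
    have h1 : τ.comp τ' = AlgHom.id _ _ := by
      apply MvPolynomial.algHom_ext
      intro i
      simp only [τ, τ', AlgHom.comp_apply, MvPolynomial.aeval_X, map_mul, MvPolynomial.aeval_C,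
        MvPolynomial.algebraMap_eq, AlgHom.id_apply]
      rw [← mul_assoc, ← map_mul, inv_mul_cancel₀ (hcK i), map_one, one_mul]
    have hτsurj : Function.Surjective τ := fun y => ⟨τ' y, by
      rw [← AlgHom.comp_apply, h1, AlgHom.id_apply]⟩
    let e := MvPolynomial.algebraTensorAlgEquiv (σ := Fin s) A p.ResidueField
    have hT : Algebra.TensorProduct.map (AlgHom.id p.ResidueField p.ResidueField)
        (MvPolynomial.aeval b : MvPolynomial (Fin s) A →ₐ[A] B) =
        (g.comp τ).comp e.toAlgHom := by
      apply Algebra.TensorProduct.ext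
      · ext
      · apply MvPolynomial.algHom_ext
        intro i
        show (1 : p.ResidueField) ⊗ₜ[A] (MvPolynomial.aeval b (MvPolynomial.X i)) =
          g (τ (e ((1 : p.ResidueField) ⊗ₜ[A] MvPolynomial.X i)))
        rw [MvPolynomial.aeval_X, MvPolynomial.algebraTensorAlgEquiv_tmul, one_smul,
          MvPolynomial.map_X]
        simp only [τ, MvPolynomial.aeval_X]
        rw [map_mul, ← MvPolynomial.algebraMap_eq, AlgHom.commutes, ← Algebra.smul_def,
          algebraMap_smul]
        exact (hb i).symm
    rw [hT]
    exact RingHom.Finite.comp (RingHom.Finite.comp hgfin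
      (RingHom.Finite.of_surjective τ.toRingHom hτsurj))
      (RingHom.Finite.of_surjective e.toAlgHom.toRingHom e.surjective)

end Groth.Agent.Lib.Helper13.ChevalleyRing
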