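import Mathlib
import Groth.Agent.Lib.Helper91.GenericFreeness

/-!
# Spreading out from the generic fibre (helper13)

Ring-level lemmas (via helper91's generic freeness) used for the "near the generic point"
statements: `A` is a ring whose nilradical is prime (i.e. `Spec A` is irreducible), `B` a finite type
`A`-algebra.
-/

set_option autoImplicit false

namespace Groth.Agent.Lib.Helper13.GenFibre

open TensorProduct

universe u

section Quot

variable {A B : Type u} [CommRing A] [CommRing B] [Algebra A B]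

/-- Killing a power: if `x ∈ B` lies in every prime of `B` lying over the (prime) nilradical of `A`,
then `s • x ^ N ∈ 𝔭 B` for some `s ∉ 𝔭`. -/
theorem exists_smul_pow_mem_of_forall_mem (hp : (nilradical A).IsPrime) (x : B)
    (hx : ∀ r : PrimeSpectrum B, r.asIdeal.comap (algebraMap A B) = nilradical A → x ∈ r.asIdeal) :
    ∃ s : A, s ∉ nilradical A ∧ ∃ N : ℕ,
      algebraMap A B s * x ^ N ∈ (nilradical A).map (algebraMap A B) := by
  classical
  set I : Ideal B := (nilradical A).map (algebraMap A B) with hI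
  -- the submonoid generated by the image of `A ∖ 𝔭` and `x`
  let T : Submonoid B := (Submonoid.map (algebraMap A B) (nilradical A).primeCompl) ⊔
    Submonoid.powers x
  by_cases h0 : ∃ t ∈ T, t ∈ I
  · obtain ⟨t, htT, htI⟩ := h0
    obtain ⟨y, hy, z, hz, rfl⟩ := Submonoid.mem_sup.mp htT
    obtain ⟨s, hs, rfl⟩ := hy
    obtain ⟨N, rfl⟩ := hz
    exact ⟨s, hs, N, htI⟩
  · exfalso
    have hdisj : Disjoint (I : Set B) (T : Set B) := by
      rw [Set.disjoint_left]
      intro t htI htT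
      exact h0 ⟨t, htT, htI⟩
    obtain ⟨r, hr, hIr, hrT⟩ := Ideal.exists_le_prime_disjoint I T hdisj
    have hxr : x ∉ r := by
      intro hxr
      refine Set.disjoint_left.mp hrT hxr ?_
      exact (le_sup_right : Submonoid.powers x ≤ T) (Submonoid.mem_powers x)
    apply hxr
    refine hx ⟨r, hr⟩ ?_
    apply le_antisymm
    · intro c hc
      by_contra hcn
      refine Set.disjoint_left.mp hrT (Ideal.mem_comap.mp hc) ?_
      exact (le_sup_left : _ ≤ T) ⟨c, hcn, rfl⟩
    · exact (Ideal.map_le_iff_le_comap.mp hIr)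

end Quot

section Free

variable {A B : Type u} [CommRing A] [CommRing B] [Algebra A B]

theorem finiteType_quotient [Algebra.FiniteType A B] (p : Ideal A) :
    Algebra.FiniteType (A ⧸ p) (B ⧸ p.map (algebraMap A B)) := by
  have h1 : Algebra.FiniteType A (B ⧸ p.map (algebraMap A B)) :=
    Algebra.FiniteType.of_surjective (Ideal.Quotient.mkₐ A (p.map (algebraMap A B)))
      (Ideal.Quotient.mkₐ_surjective A _)
  exact Algebra.FiniteType.of_restrictScalars_finiteType A (A ⧸ p) _

/-- Generic torsion-freeness modulo the nilradical. -/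
theorem exists_generic_torsionFree [Algebra.FiniteType A B] (hp : (nilradical A).IsPrime) :
    ∃ a : A, a ∉ nilradical A ∧ ∀ (s : A) (x : B), s ∉ nilradical A →
      algebraMap A B s * x ∈ (nilradical A).map (algebraMap A B) →
      ∃ k : ℕ, algebraMap A B a ^ k * x ∈ (nilradical A).map (algebraMap A B) := by
  classical
  set p : Ideal A := nilradical A with hpdef
  set I : Ideal B := p.map (algebraMap A B) with hI
  have : p.IsPrime := hp
  have : IsDomain (A ⧸ p) := Ideal.Quotient.isDomain p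
  have : Algebra.FiniteType (A ⧸ p) (B ⧸ I) := finiteType_quotient p
  obtain ⟨f', hf', -, hfree, -, -⟩ :=
    Groth.Agent.Lib.Helper91.generic_freeness (R := A ⧸ p) (S := B ⧸ I) (M := B ⧸ I)
  obtain ⟨a, rfl⟩ := Ideal.Quotient.mk_surjective f'
  refine ⟨a, fun ha => hf' (Ideal.Quotient.eq_zero_iff_mem.mpr ha), ?_⟩
  intro s x hs hsx
  set f' := Ideal.Quotient.mk p a with hf'def
  have : IsDomain (Localization.Away f') := Localization.Away.isDomain hf'
  have : IsLocalizedModule (Submonoid.powers f')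
      (TensorProduct.mk (A ⧸ p) (Localization.Away f') (B ⧸ I) 1) :=
    (isLocalizedModule_iff_isBaseChange (Submonoid.powers f') (Localization.Away f') _).mpr
      (TensorProduct.isBaseChange (A ⧸ p) (B ⧸ I) (Localization.Away f'))
  have hs' : algebraMap (A ⧸ p) (Localization.Away f') (Ideal.Quotient.mk p s) ≠ 0 := by
    intro h0
    have hinj : Function.Injective (algebraMap (A ⧸ p) (Localization.Away f')) :=
      IsLocalization.injective (Localization.Away f')
        (powers_le_nonZeroDivisors_of_noZeroDivisors hf')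
    rw [← map_zero (algebraMap (A ⧸ p) (Localization.Away f'))] at h0
    exact hs (Ideal.Quotient.eq_zero_iff_mem.mp (hinj h0))
  have h1 : (Ideal.Quotient.mk p s) • (Ideal.Quotient.mk I x) = 0 := by
    rw [Ideal.Quotient.mk_smul_mk_quotient_map_quotient]
    exact Ideal.Quotient.eq_zero_iff_mem.mpr hsx
  have h2 : (TensorProduct.mk (A ⧸ p) (Localization.Away f') (B ⧸ I) 1) (Ideal.Quotient.mk I x)
      = 0 := by
    have h3 : algebraMap (A ⧸ p) (Localization.Away f') (Ideal.Quotient.mk p s) •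
        (TensorProduct.mk (A ⧸ p) (Localization.Away f') (B ⧸ I) 1) (Ideal.Quotient.mk I x)
        = 0 := by
      rw [algebraMap_smul, ← map_smul, h1, map_zero]
    exact (smul_eq_zero_iff_right hs').mp h3
  obtain ⟨c, hc⟩ := (IsLocalizedModule.eq_zero_iff (Submonoid.powers f')
    (TensorProduct.mk (A ⧸ p) (Localization.Away f') (B ⧸ I) 1)).mp h2
  obtain ⟨c, k, rfl⟩ := c
  refine ⟨k, ?_⟩
  rw [← Ideal.Quotient.eq_zero_iff_mem]
  have : (f' ^ k) • (Ideal.Quotient.mk I x) = 0 := hc
  rw [hf'def, ← map_pow, Ideal.Quotient.mk_smul_mk_quotient_map_quotient] at this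
  rwa [← map_pow]

end Free

section Closure

variable {A B : Type u} [CommRing A] [CommRing B] [Algebra A B]

/-- Near the generic point every prime of `B` lies in the closure of the generic fibre. -/
theorem exists_forall_mem_closure [Algebra.FiniteType A B] (hp : (nilradical A).IsPrime) :
    ∃ a : A, a ∉ nilradical A ∧ ∀ q : PrimeSpectrum B, algebraMap A B a ∉ q.asIdeal →
      q ∈ closure {r : PrimeSpectrum B | r.asIdeal.comap (algebraMap A B) = nilradical A} := by
  obtain ⟨a, ha, hator⟩ := exists_generic_torsionFree (A := A) (B := B) hp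
  refine ⟨a, ha, fun q hq => ?_⟩
  rw [← PrimeSpectrum.zeroLocus_vanishingIdeal_eq_closure, PrimeSpectrum.mem_zeroLocus]
  intro x hx
  have hx' : ∀ r : PrimeSpectrum B, r.asIdeal.comap (algebraMap A B) = nilradical A →
      x ∈ r.asIdeal := fun r hr =>
    (PrimeSpectrum.mem_vanishingIdeal _ _).mp hx r hr
  obtain ⟨s, hs, N, hsN⟩ := exists_smul_pow_mem_of_forall_mem hp x hx'
  obtain ⟨k, hk⟩ := hator s (x ^ N) hs hsN
  have hIq : (nilradical A).map (algebraMap A B) ≤ q.asIdeal := by
    rw [Ideal.map_le_iff_le_comap]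
    exact nilradical_le_prime _
  have h1 := hIq hk
  rcases q.isPrime.mem_or_mem h1 with h2 | h2
  · exact absurd (q.isPrime.mem_of_pow_mem _ h2) hq
  · exact q.isPrime.mem_of_pow_mem _ h2

end Closure

section NonVanish

variable {R S : Type u} [CommRing R] [CommRing S] [Algebra R S]

/-- Domain-level: an element not killed generically stays outside `P S` (up to units of `R_P`) for
primes `P` in a nonempty open. -/
theorem exists_forall_smul_notMem_map [IsDomain R] [Algebra.FiniteType R S] (b : S)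
    (hb : ∀ t : R, t ≠ 0 → t • b ≠ 0) :
    ∃ a : R, a ≠ 0 ∧ ∀ P : Ideal R, P.IsPrime → a ∉ P → ∀ t : R, t ∉ P →
      t • b ∉ P.map (algebraMap R S) := by
  classical
  obtain ⟨f, hf, -, hfree, -, -⟩ :=
    Groth.Agent.Lib.Helper91.generic_freeness (R := R) (S := S) (M := S)
  set L := Localization.Away f with hL
  have : IsDomain L := Localization.Away.isDomain hf
  have hloc : IsLocalizedModule (Submonoid.powers f) (TensorProduct.mk R L S 1) :=
    (isLocalizedModule_iff_isBaseChange (Submonoid.powers f) L _).mpr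
      (TensorProduct.isBaseChange R S L)
  set τ : L ⊗[R] S := TensorProduct.mk R L S 1 b with hτ
  have hτ0 : τ ≠ 0 := by
    intro h0
    obtain ⟨c, hc⟩ := (IsLocalizedModule.eq_zero_iff (Submonoid.powers f)
      (TensorProduct.mk R L S 1)).mp h0
    obtain ⟨c, k, rfl⟩ := c
    exact hb (f ^ k) (pow_ne_zero _ hf) hc
  let bas := Module.Free.chooseBasis L (L ⊗[R] S)
  have : ∃ i, bas.repr τ i ≠ 0 := by
    by_contra hcon
    push Not at hcon
    apply hτ0
    apply bas.repr.injective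
    ext i
    simpa using hcon i
  obtain ⟨i₀, hi₀⟩ := this
  set c : L := bas.repr τ i₀ with hc
  obtain ⟨⟨c₀, m⟩, hcm⟩ := IsLocalization.surj (Submonoid.powers f) c
  obtain ⟨m, k, rfl⟩ := m
  simp only at hcm
  have hinj : Function.Injective (algebraMap R L) :=
    IsLocalization.injective L (powers_le_nonZeroDivisors_of_noZeroDivisors hf)
  have hc₀ : c₀ ≠ 0 := by
    rintro rfl
    rw [map_zero] at hcm
    rcases mul_eq_zero.mp hcm with h | h
    · exact hi₀ h
    · rw [← map_zero (algebraMap R L)] at h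
      exact pow_ne_zero _ hf (hinj h)
  let Φ : S →ₗ[R] L := ((bas.coord i₀).restrictScalars R) ∘ₗ (TensorProduct.mk R L S 1)
  have hΦb : Φ b = c := rfl
  refine ⟨f * c₀, mul_ne_zero hf hc₀, ?_⟩
  intro P hP haP t ht hmem
  have hfP : f ∉ P := fun h => haP (P.mul_mem_right _ h)
  have hc₀P : c₀ ∉ P := fun h => haP (P.mul_mem_left _ h)
  have hdisj : Disjoint (Submonoid.powers f : Set R) (P : Set R) := by
    rw [Set.disjoint_left]
    rintro _ ⟨n, rfl⟩ hn
    exact hfP (hP.mem_of_pow_mem _ hn)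
  have hΦP : ∀ x ∈ (P • (⊤ : Submodule R S)), Φ x ∈ P.map (algebraMap R L) := by
    intro x hx
    refine Submodule.smul_induction_on hx ?_ ?_
    · intro r hr n _
      rw [map_smul, Algebra.smul_def]
      exact Ideal.mul_mem_right _ _ (Ideal.mem_map_of_mem _ hr)
    · intro x y hx hy
      rw [map_add]
      exact Ideal.add_mem _ hx hy
  have hmem' : t • b ∈ (P • (⊤ : Submodule R S)) := by
    rw [Ideal.smul_top_eq_map]
    exact hmem
  have h1 := hΦP _ hmem'
  rw [map_smul, hΦb, Algebra.smul_def] at h1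
  have h2 : algebraMap R L (t * c₀) ∈ P.map (algebraMap R L) := by
    rw [map_mul, ← hcm, ← mul_assoc]
    exact Ideal.mul_mem_right _ _ h1
  have h3 : t * c₀ ∈ (P.map (algebraMap R L)).under R := h2
  rw [IsLocalization.under_map_of_isPrime_disjoint (Submonoid.powers f) L hP hdisj] at h3
  rcases hP.mem_or_mem h3 with h | h
  · exact ht h
  · exact hc₀P h

end NonVanish

section NonVanish2

variable {A B : Type u} [CommRing A] [CommRing B] [Algebra A B]

theorem exists_forall_mul_notMem_map [Algebra.FiniteType A B] (hp : (nilradical A).IsPrime) (b : B)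
    (hb : ∀ t : A, t ∉ nilradical A →
      algebraMap A B t * b ∉ (nilradical A).map (algebraMap A B)) :
    ∃ a : A, a ∉ nilradical A ∧ ∀ P : Ideal A, P.IsPrime → a ∉ P → ∀ t : A, t ∉ P →
      algebraMap A B t * b ∉ P.map (algebraMap A B) := by
  classical
  set p : Ideal A := nilradical A with hpdef
  set I : Ideal B := p.map (algebraMap A B) with hI
  have : p.IsPrime := hp
  have : IsDomain (A ⧸ p) := Ideal.Quotient.isDomain p
  have : Algebra.FiniteType (A ⧸ p) (B ⧸ I) := finiteType_quotient p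
  have hb' : ∀ t' : A ⧸ p, t' ≠ 0 → t' • (Ideal.Quotient.mk I b) ≠ 0 := by
    intro t' ht'
    obtain ⟨t, rfl⟩ := Ideal.Quotient.mk_surjective t'
    rw [Ideal.Quotient.mk_smul_mk_quotient_map_quotient]
    intro h0
    exact hb t (fun h => ht' (Ideal.Quotient.eq_zero_iff_mem.mpr h))
      (Ideal.Quotient.eq_zero_iff_mem.mp h0)
  obtain ⟨a', ha', hC⟩ := exists_forall_smul_notMem_map (R := A ⧸ p) (S := B ⧸ I)
    (Ideal.Quotient.mk I b) hb'
  obtain ⟨a, rfl⟩ := Ideal.Quotient.mk_surjective a'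
  refine ⟨a, fun h => ha' (Ideal.Quotient.eq_zero_iff_mem.mpr h), ?_⟩
  intro P hP haP t ht hmem
  have hpP : p ≤ P := nilradical_le_prime P
  have hker : RingHom.ker (Ideal.Quotient.mk p) ≤ P := by rw [Ideal.mk_ker]; exact hpP
  have hP' : (P.map (Ideal.Quotient.mk p)).IsPrime :=
    Ideal.map_isPrime_of_surjective Ideal.Quotient.mk_surjective hker
  have hcm : (P.map (Ideal.Quotient.mk p)).comap (Ideal.Quotient.mk p) = P := by
    rw [Ideal.comap_map_of_surjective _ Ideal.Quotient.mk_surjective, ← RingHom.ker_eq_comap_bot,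
      Ideal.mk_ker]
    exact sup_eq_left.mpr hpP
  have hnot : ∀ x : A, x ∉ P → Ideal.Quotient.mk p x ∉ P.map (Ideal.Quotient.mk p) := by
    intro x hx hmem
    apply hx
    rw [← hcm]
    exact hmem
  refine hC _ hP' (hnot a haP) _ (hnot t ht) ?_
  rw [Ideal.Quotient.mk_smul_mk_quotient_map_quotient]
  have h1 : Ideal.Quotient.mk I (algebraMap A B t * b) ∈
      (P.map (algebraMap A B)).map (Ideal.Quotient.mk I) := Ideal.mem_map_of_mem _ hmem
  rw [Ideal.map_map] at h1
  rw [Ideal.map_map]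
  have hcomp : (Ideal.Quotient.mk I).comp (algebraMap A B) =
      (algebraMap (A ⧸ p) (B ⧸ I)).comp (Ideal.Quotient.mk p) := by
    ext x
    rfl
  rw [← hcomp]
  exact h1

end NonVanish2

section Fib

variable {A B : Type u} [CommRing A] [CommRing B] [Algebra A B]

theorem one_tmul_eq_zero_iff (P : Ideal A) [P.IsPrime] (s : B) :
    ((1 : P.ResidueField) ⊗ₜ[A] s : P.Fiber B) = 0 ↔
      ∃ t : A, t ∉ P ∧ algebraMap A B t * s ∈ P.map (algebraMap A B) := by
  let _ : Algebra B (P.Fiber B) := Algebra.TensorProduct.rightAlgebra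
  let e := Ideal.Fiber.algEquivAux₁ (S := B) P
  have h1 : ((1 : P.ResidueField) ⊗ₜ[A] s : P.Fiber B) = algebraMap B (P.Fiber B) s := rfl
  have h2 : ((1 : P.ResidueField) ⊗ₜ[A] s : P.Fiber B) = 0 ↔
      e (algebraMap B (P.Fiber B) s) = 0 := by
    rw [h1]; exact (map_eq_zero_iff e e.injective).symm
  rw [h2, e.commutes, IsScalarTower.algebraMap_apply B
      (Localization (Algebra.algebraMapSubmonoid B P.primeCompl)) (_ ⧸ _),
    Ideal.Quotient.algebraMap_eq, Ideal.Quotient.eq_zero_iff_mem,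
    IsLocalization.algebraMap_mem_map_algebraMap_iff (Algebra.algebraMapSubmonoid B P.primeCompl)]
  constructor
  · rintro ⟨m, ⟨t, ht, rfl⟩, hm⟩
    exact ⟨t, ht, hm⟩
  · rintro ⟨t, ht, hm⟩
    exact ⟨_, ⟨t, ht, rfl⟩, hm⟩

end Fib

section FibRed

variable {A B : Type u} [CommRing A] [CommRing B] [Algebra A B]

theorem exists_forall_not_isReduced_fiber [Algebra.FiniteType A B] (p : Ideal A) [p.IsPrime]
    (hpn : p = nilradical A) (h : ¬ IsReduced (p.Fiber B)) :
    ∃ a : A, a ∉ p ∧ ∀ (P : Ideal A) [P.IsPrime], a ∉ P → ¬ IsReduced (P.Fiber B) := by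
  classical
  have hp : (nilradical A).IsPrime := hpn ▸ (inferInstance : p.IsPrime)
  rw [isReduced_iff] at h
  push Not at h
  obtain ⟨x, hxn, hx0⟩ := h
  obtain ⟨r, hr, s, hrs⟩ := Ideal.Fiber.exists_smul_eq_one_tmul p x
  obtain ⟨n, hn⟩ := hxn
  -- `1 ⊗ s` is nilpotent and nonzero
  have hs0 : ((1 : p.ResidueField) ⊗ₜ[A] s : p.Fiber B) ≠ 0 := by
    rw [← hrs]
    intro h0
    rw [← algebraMap_smul p.ResidueField r x] at h0
    have hne : algebraMap A p.ResidueField r ≠ 0 := by
      rw [Ne, Ideal.algebraMap_residueField_eq_zero]; exact hr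
    exact hx0 ((smul_eq_zero_iff_right hne).mp h0)
  have hsn : ((1 : p.ResidueField) ⊗ₜ[A] (s ^ n) : p.Fiber B) = 0 := by
    have : ((1 : p.ResidueField) ⊗ₜ[A] s : p.Fiber B) ^ n = 0 := by
      rw [← hrs, smul_pow, hn, smul_zero]
    rwa [Algebra.TensorProduct.tmul_pow, one_pow] at this
  obtain ⟨t₀, ht₀, ht₀s⟩ := (one_tmul_eq_zero_iff p (s ^ n)).mp hsn
  have hb : ∀ t : A, t ∉ nilradical A →
      algebraMap A B t * s ∉ (nilradical A).map (algebraMap A B) := by
    intro t ht hmem
    apply hs0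
    rw [one_tmul_eq_zero_iff]
    exact ⟨t, hpn ▸ ht, hpn ▸ hmem⟩
  obtain ⟨a₁, ha₁, hB⟩ := exists_forall_mul_notMem_map hp s hb
  refine ⟨a₁ * t₀, ?_, ?_⟩
  · intro hmem
    rcases (inferInstance : p.IsPrime).mem_or_mem hmem with h | h
    · exact ha₁ (hpn ▸ h)
    · exact ht₀ h
  · intro P hP haP hred
    have ha₁P : a₁ ∉ P := fun h => haP (P.mul_mem_right _ h)
    have ht₀P : t₀ ∉ P := fun h => haP (P.mul_mem_left _ h)
    have hpP : p ≤ P := hpn ▸ nilradical_le_prime P
    have h1 : ((1 : P.ResidueField) ⊗ₜ[A] (s ^ n) : P.Fiber B) = 0 := by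
      rw [one_tmul_eq_zero_iff]
      exact ⟨t₀, ht₀P, Ideal.map_mono hpP ht₀s⟩
    have h2 : IsNilpotent ((1 : P.ResidueField) ⊗ₜ[A] s : P.Fiber B) := by
      refine ⟨n, ?_⟩
      rw [Algebra.TensorProduct.tmul_pow, one_pow, h1]
    have h3 := hred.eq_zero _ h2
    obtain ⟨t, ht, htm⟩ := (one_tmul_eq_zero_iff P s).mp h3
    exact hB P hP ha₁P t ht htm

end FibRed

section FibNontriv

variable {A B : Type u} [CommRing A] [CommRing B] [Algebra A B]

theorem nontrivial_fiber_iff (P : Ideal A) [P.IsPrime] :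
    Nontrivial (P.Fiber B) ↔
      ∀ t : A, t ∉ P → algebraMap A B t * 1 ∉ P.map (algebraMap A B) := by
  have h1 : ((1 : P.ResidueField) ⊗ₜ[A] (1 : B) : P.Fiber B) = 0 ↔ ¬ Nontrivial (P.Fiber B) := by
    rw [not_nontrivial_iff_subsingleton, ← Algebra.TensorProduct.one_def]
    constructor
    · intro h
      exact subsingleton_of_zero_eq_one h.symm
    · intro h
      exact Subsingleton.elim _ _
  rw [← not_iff_not, ← h1, one_tmul_eq_zero_iff]
  push Not
  rfl

theorem exists_forall_nontrivial_fiber [Algebra.FiniteType A B] (p : Ideal A) [p.IsPrime]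
    (hpn : p = nilradical A) (h : Nontrivial (p.Fiber B)) :
    ∃ a : A, a ∉ p ∧ ∀ (P : Ideal A) [P.IsPrime], a ∉ P → Nontrivial (P.Fiber B) := by
  have hp : (nilradical A).IsPrime := hpn ▸ (inferInstance : p.IsPrime)
  rw [nontrivial_fiber_iff] at h
  obtain ⟨a, ha, hB⟩ := exists_forall_mul_notMem_map hp (1 : B) (fun t ht => by
    have := h t (hpn ▸ ht)
    rwa [hpn] at this)
  refine ⟨a, hpn ▸ ha, fun P hP haP => ?_⟩
  rw [nontrivial_fiber_iff]
  exact fun t ht => hB P hP haP t ht

end FibNontriv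

open AlgebraicGeometry CategoryTheory Limits TopologicalSpace


section Scheme

variable {X Y : Scheme.{u}}

/-- A point of an affine chart of an irreducible scheme mapping to the generic point is the
nilradical. -/
theorem asIdeal_eq_nilradical_of_fromSpec_eq [IrreducibleSpace Y] {W : Y.Opens}
    (hW : IsAffineOpen W) (z : Spec Γ(Y, W)) (hz : hW.fromSpec z = genericPoint Y) :
    z.asIdeal = nilradical Γ(Y, W) := by
  apply le_antisymm
  · rw [nilradical_eq_sInf]
    refine le_sInf fun P hP => ?_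
    have hP' : P.IsPrime := hP
    let zP : Spec Γ(Y, W) := ⟨P, hP'⟩
    have h1 : hW.fromSpec z ⤳ hW.fromSpec zP := by
      rw [hz]; exact genericPoint_specializes _
    have h2 : z ⤳ zP := (hW.fromSpec.isOpenEmbedding.isInducing.specializes_iff).mp h1
    exact (PrimeSpectrum.le_iff_specializes z zP).mpr h2
  · exact nilradical_le_prime _

theorem mem_basicOpen_iff_notMem_primeIdealOf {W : Y.Opens} (hW : IsAffineOpen W)
    (a : Γ(Y, W)) (y : Y) (hy : y ∈ W) :
    y ∈ Y.basicOpen a ↔ a ∉ (hW.primeIdealOf ⟨y, hy⟩).asIdeal := by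
  let q : Spec Γ(Y, W) := hW.primeIdealOf ⟨y, hy⟩
  have h1 : hW.fromSpec q = y := hW.fromSpec_primeIdealOf ⟨y, hy⟩
  have h2 : q ∈ hW.fromSpec ⁻¹ᵁ Y.basicOpen a ↔ y ∈ Y.basicOpen a := by
    change hW.fromSpec q ∈ Y.basicOpen a ↔ _
    rw [h1]
  rw [← h2, hW.fromSpec_preimage_basicOpen]
  rfl

/-- Chart-level statement: for affine `U ≤ f⁻¹ W` there is `a` outside the nilradical of `Γ(Y, W)`
such that the points of `U` over `D(a)` are in the closure of the generic fibre. -/
theorem exists_forall_mem_closure_preimage (f : X ⟶ Y) [IrreducibleSpace Y] [LocallyOfFiniteType f]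
    {W : Y.Opens} (hW : IsAffineOpen W) (hηW : genericPoint Y ∈ W)
    {U : X.Opens} (hU : IsAffineOpen U) (e : U ≤ f ⁻¹ᵁ W) :
    ∃ a : Γ(Y, W), a ∉ nilradical Γ(Y, W) ∧ ∀ x ∈ U, f x ∈ Y.basicOpen a →
      x ∈ closure (f ⁻¹' {genericPoint Y}) := by
  have hηr : genericPoint Y ∈ Set.range hW.fromSpec := by
    rw [hW.range_fromSpec]; exact hηW
  obtain ⟨z₀, hz₀⟩ := hηr
  have hnil : z₀.asIdeal = nilradical Γ(Y, W) := asIdeal_eq_nilradical_of_fromSpec_eq hW z₀ hz₀
  have hp : (nilradical Γ(Y, W)).IsPrime := hnil ▸ z₀.isPrime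
  set φ := f.appLE W U e with hφ
  let _ : Algebra Γ(Y, W) Γ(X, U) := φ.hom.toAlgebra
  have hft : Algebra.FiniteType Γ(Y, W) Γ(X, U) := f.finiteType_appLE hW hU e
  obtain ⟨a, ha, hcl⟩ := exists_forall_mem_closure (A := Γ(Y, W)) (B := Γ(X, U)) hp
  refine ⟨a, ha, fun x hx hfx => ?_⟩
  let q : Spec Γ(X, U) := hU.primeIdealOf ⟨x, hx⟩
  have hqx : hU.fromSpec q = x := hU.fromSpec_primeIdealOf ⟨x, hx⟩
  have hcomap : q.asIdeal.comap φ.hom = (hW.primeIdealOf ⟨f x, e hx⟩).asIdeal :=
    congrArg PrimeSpectrum.asIdeal (IsAffineOpen.comap_primeIdealOf_appLE W hW U hU e hx)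
  have haq : algebraMap Γ(Y, W) Γ(X, U) a ∉ q.asIdeal := by
    intro hmem
    have : a ∈ q.asIdeal.comap φ.hom := hmem
    rw [hcomap] at this
    exact (mem_basicOpen_iff_notMem_primeIdealOf hW a (f x) (e hx)).mp hfx this
  have hq := hcl q haq
  have himg : hU.fromSpec q ∈ closure (hU.fromSpec ''
      {r : PrimeSpectrum Γ(X, U) | r.asIdeal.comap (algebraMap Γ(Y, W) Γ(X, U)) =
        nilradical Γ(Y, W)}) :=
    image_closure_subset_closure_image hU.fromSpec.continuous ⟨q, hq, rfl⟩
  rw [hqx] at himg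
  refine closure_mono ?_ himg
  rintro _ ⟨r, hr, rfl⟩
  have hsq : f (hU.fromSpec r) = hW.fromSpec (Spec.map φ r) := by
    have := IsAffineOpen.SpecMap_appLE_fromSpec f hW hU e
    rw [← Scheme.Hom.comp_apply, ← this, Scheme.Hom.comp_apply]
  have hrz : Spec.map φ r = z₀ := by
    apply PrimeSpectrum.ext
    rw [hnil]
    exact hr
  show f (hU.fromSpec r) = genericPoint Y
  rw [hsq, hrz, hz₀]

/-- **Near the generic point, everything is in the closure of the generic fibre.** -/
theorem exists_preimage_subset_closure_fibre (f : X ⟶ Y) [IrreducibleSpace Y]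
    [LocallyOfFiniteType f] [QuasiCompact f] :
    ∃ V : Y.Opens, genericPoint Y ∈ V ∧
      (f ⁻¹ᵁ V : Set X) ⊆ closure (f ⁻¹' {genericPoint Y}) := by
  classical
  obtain ⟨W, hW, hηW, -⟩ := exists_isAffineOpen_mem_and_subset
    (x := genericPoint Y) (U := ⊤) trivial
  have hηr : genericPoint Y ∈ Set.range hW.fromSpec := by
    rw [hW.range_fromSpec]; exact hηW
  obtain ⟨z₀, hz₀⟩ := hηr
  have hnil : z₀.asIdeal = nilradical Γ(Y, W) := asIdeal_eq_nilradical_of_fromSpec_eq hW z₀ hz₀
  have hp : (nilradical Γ(Y, W)).IsPrime := hnil ▸ z₀.isPrime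
  have hcomp : IsCompact (f ⁻¹ᵁ W : Set X) := f.isCompact_preimage hW.isCompact
  obtain ⟨s, hs, hsU⟩ := isCompact_iff_finite_and_eq_biUnion_affineOpens.mp hcomp
  have hle : ∀ U : X.affineOpens, U ∈ s → (U : X.Opens) ≤ f ⁻¹ᵁ W := by
    intro U hU
    rw [hsU]
    exact le_iSup₂ (f := fun (i : X.affineOpens) (_ : i ∈ s) => (i : X.Opens)) U hU
  have key : ∀ U : X.affineOpens, ∃ a : Γ(Y, W), a ∉ nilradical Γ(Y, W) ∧
      (U ∈ s → ∀ x ∈ (U : X.Opens), f x ∈ Y.basicOpen a →
        x ∈ closure (f ⁻¹' {genericPoint Y})) := by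
    intro U
    by_cases hUs : U ∈ s
    · obtain ⟨a, ha, h⟩ := exists_forall_mem_closure_preimage f hW hηW U.2 (hle U hUs)
      exact ⟨a, ha, fun _ => h⟩
    · exact ⟨1, fun h => hp.ne_top ((Ideal.eq_top_iff_one _).mpr h), fun h => absurd h hUs⟩
  choose a ha hax using key
  set b : Γ(Y, W) := ∏ U ∈ hs.toFinset, a U with hb
  have hbn : b ∉ nilradical Γ(Y, W) := by
    intro hmem
    obtain ⟨U, -, hU⟩ := (hp.prod_mem_iff).mp hmem
    exact ha U hU
  refine ⟨Y.basicOpen b, ?_, ?_⟩
  · have : z₀ ∈ hW.fromSpec ⁻¹ᵁ Y.basicOpen b := by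
      rw [hW.fromSpec_preimage_basicOpen]
      change b ∉ z₀.asIdeal
      rw [hnil]; exact hbn
    have h2 : hW.fromSpec z₀ ∈ Y.basicOpen b := this
    rwa [hz₀] at h2
  · intro x hx
    have hfx : f x ∈ Y.basicOpen b := hx
    have hxW : x ∈ f ⁻¹ᵁ W := Y.basicOpen_le b hfx
    rw [hsU] at hxW
    obtain ⟨U, hxU⟩ := Opens.mem_iSup.mp hxW
    obtain ⟨hUs, hxU⟩ := Opens.mem_iSup.mp hxU
    refine hax U hUs x hxU ?_
    have hdvd : a U ∣ b := Finset.dvd_prod_of_mem _ (hs.mem_toFinset.mpr hUs)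
    obtain ⟨c, hc⟩ := hdvd
    have : Y.basicOpen b ≤ Y.basicOpen (a U) := by
      rw [hc, Scheme.basicOpen_mul]; exact inf_le_left
    exact this hfx

end Scheme

section Chart

variable {X Y : Scheme.{u}}

/-- The open chart of the fibre of `f` over `hW.fromSpec z` given by an affine open `U ≤ f⁻¹ W`. -/
noncomputable def fiberChart (f : X ⟶ Y) {W : Y.Opens} (hW : IsAffineOpen W) {U : X.Opens}
    (hU : IsAffineOpen U) (e : U ≤ f ⁻¹ᵁ W) (z : Spec Γ(Y, W)) :
    pullback (Spec.map (f.appLE W U e)) ((Spec Γ(Y, W)).fromSpecResidueField z) ⟶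
      pullback f (Y.fromSpecResidueField (hW.fromSpec z)) :=
  pullback.map _ _ _ _ hU.fromSpec (Spec.map (hW.fromSpec.residueFieldMap z)) hW.fromSpec
    (IsAffineOpen.SpecMap_appLE_fromSpec f hW hU e)
    (Scheme.Hom.SpecMap_residueFieldMap_fromSpecResidueField hW.fromSpec z).symm

instance (f : X ⟶ Y) {W : Y.Opens} (hW : IsAffineOpen W) {U : X.Opens}
    (hU : IsAffineOpen U) (e : U ≤ f ⁻¹ᵁ W) (z : Spec Γ(Y, W)) :
    IsOpenImmersion (fiberChart f hW hU e z) := by
  unfold fiberChart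
  infer_instance

theorem range_fiberChart (f : X ⟶ Y) {W : Y.Opens} (hW : IsAffineOpen W) {U : X.Opens}
    (hU : IsAffineOpen U) (e : U ≤ f ⁻¹ᵁ W) (z : Spec Γ(Y, W)) :
    Set.range (fiberChart f hW hU e z) = (pullback.fst f (Y.fromSpecResidueField (hW.fromSpec z))) ⁻¹' U := by
  unfold fiberChart
  rw [Scheme.Pullback.range_map, hU.range_fromSpec]
  have : Set.range (Spec.map (hW.fromSpec.residueFieldMap z)) = Set.univ :=
    Set.range_eq_univ.mpr (Spec.map (hW.fromSpec.residueFieldMap z)).surjective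
  rw [this, Set.preimage_univ, Set.inter_univ]

end Chart

section Chart2

/-- The fibre of `Spec S → Spec R` over a prime is `Spec` of the fibre ring. -/
noncomputable def specFiberIso (R S : Type u) [CommRing R] [CommRing S] [Algebra R S]
    (p : PrimeSpectrum R) :
    pullback (Spec.map (CommRingCat.ofHom (algebraMap R S)))
      ((Spec (.of R)).fromSpecResidueField p) ≅ Spec (.of (p.asIdeal.Fiber S)) :=
  Arrow.leftFunc.mapIso (Spec.fiberToSpecResidueFieldIso R S p)

theorem isReduced_specFiber_iff (R S : Type u) [CommRing R] [CommRing S] [Algebra R S]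
    (p : PrimeSpectrum R) :
    IsReduced (pullback (Spec.map (CommRingCat.ofHom (algebraMap R S)))
      ((Spec (.of R)).fromSpecResidueField p)) ↔ _root_.IsReduced (p.asIdeal.Fiber S) := by
  rw [← affine_isReduced_iff (.of (p.asIdeal.Fiber S))]
  constructor
  · intro h
    exact isReduced_of_isOpenImmersion (specFiberIso R S p).inv
  · intro h
    exact isReduced_of_isOpenImmersion (specFiberIso R S p).hom

end Chart2

section Chart3

variable {X Y : Scheme.{u}}

theorem isReduced_chart_iff (f : X ⟶ Y) {W : Y.Opens} (hW : IsAffineOpen W) {U : X.Opens}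
    (hU : IsAffineOpen U) (e : U ≤ f ⁻¹ᵁ W) (z : Spec Γ(Y, W)) :
    letI : Algebra Γ(Y, W) Γ(X, U) := (f.appLE W U e).hom.toAlgebra
    IsReduced (pullback (Spec.map (f.appLE W U e)) ((Spec Γ(Y, W)).fromSpecResidueField z)) ↔
      _root_.IsReduced (z.asIdeal.Fiber Γ(X, U)) := by
  letI : Algebra Γ(Y, W) Γ(X, U) := (f.appLE W U e).hom.toAlgebra
  exact isReduced_specFiber_iff Γ(Y, W) Γ(X, U) z

/-- If all affine charts of a fibre are reduced, so is the fibre. -/
theorem isReduced_fiber_of_charts (f : X ⟶ Y) {W : Y.Opens} (hW : IsAffineOpen W)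
    (z : Spec Γ(Y, W))
    (H : ∀ (U : X.Opens) (hU : IsAffineOpen U) (e : U ≤ f ⁻¹ᵁ W),
      IsReduced (pullback (Spec.map (f.appLE W U e)) ((Spec Γ(Y, W)).fromSpecResidueField z))) :
    IsReduced (f.fiber (hW.fromSpec z)) := by
  let J := {U : X.affineOpens // (U : X.Opens) ≤ f ⁻¹ᵁ W}
  let 𝒰 : (pullback f (Y.fromSpecResidueField (hW.fromSpec z))).OpenCover :=
    Scheme.Cover.mkOfCovers J
      (fun U => pullback (Spec.map (f.appLE W U.1 U.2))
        ((Spec Γ(Y, W)).fromSpecResidueField z))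
      (fun U => fiberChart f hW U.1.2 U.2 z)
      (by
        intro x
        have hx : f (f.fiberι (hW.fromSpec z) x) = hW.fromSpec z := by
          have h1 : f.fiberι (hW.fromSpec z) x ∈ Set.range (f.fiberι (hW.fromSpec z)) := ⟨x, rfl⟩
          rw [f.range_fiberι] at h1
          exact h1
        have hxW : f.fiberι (hW.fromSpec z) x ∈ f ⁻¹ᵁ W := by
          show f (f.fiberι (hW.fromSpec z) x) ∈ W
          rw [hx]
          have : hW.fromSpec z ∈ Set.range hW.fromSpec := ⟨z, rfl⟩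
          rwa [hW.range_fromSpec] at this
        obtain ⟨U, hU, hxU, hUW⟩ := exists_isAffineOpen_mem_and_subset hxW
        have : x ∈ Set.range (fiberChart f hW hU hUW z) := by
          rw [range_fiberChart]
          exact hxU
        obtain ⟨y, hy⟩ := this
        exact ⟨⟨⟨U, hU⟩, hUW⟩, y, hy⟩)
      (fun U => inferInstance)
  have : ∀ i, IsReduced (𝒰.X i) := fun U => H U.1.1 U.1.2 U.2
  exact IsReduced.of_openCover _ 𝒰

end Chart3

section Image

variable {X Y : Scheme.{u}}

/-- **Weak Chevalley**: the image of a morphism locally of finite type to an irreducible scheme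
which contains the generic point contains an open neighbourhood of it. -/
theorem exists_open_subset_range (g : X ⟶ Y) [IrreducibleSpace Y] [LocallyOfFiniteType g]
    (h : genericPoint Y ∈ Set.range g) :
    ∃ V : Y.Opens, genericPoint Y ∈ V ∧ (V : Set Y) ⊆ Set.range g := by
  classical
  obtain ⟨x, hx⟩ := h
  obtain ⟨W, hW, hηW, -⟩ := exists_isAffineOpen_mem_and_subset
    (x := genericPoint Y) (U := ⊤) trivial
  have hxW : x ∈ g ⁻¹ᵁ W := by
    show g x ∈ W
    rw [hx]; exact hηW
  obtain ⟨U, hU, hxU, e⟩ := exists_isAffineOpen_mem_and_subset hxW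
  have hηr : genericPoint Y ∈ Set.range hW.fromSpec := by
    rw [hW.range_fromSpec]; exact hηW
  obtain ⟨z₀, hz₀⟩ := hηr
  have hnil : z₀.asIdeal = nilradical Γ(Y, W) := asIdeal_eq_nilradical_of_fromSpec_eq hW z₀ hz₀
  set φ := g.appLE W U e with hφ
  let _ : Algebra Γ(Y, W) Γ(X, U) := φ.hom.toAlgebra
  have hft : Algebra.FiniteType Γ(Y, W) Γ(X, U) := g.finiteType_appLE hW hU e
  -- square
  have hsq : ∀ r : Spec Γ(X, U), g (hU.fromSpec r) = hW.fromSpec (Spec.map φ r) := by
    intro r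
    have := IsAffineOpen.SpecMap_appLE_fromSpec g hW hU e
    rw [← Scheme.Hom.comp_apply, ← this, Scheme.Hom.comp_apply]
  -- the generic fibre ring is nontrivial
  let q : Spec Γ(X, U) := hU.primeIdealOf ⟨x, hxU⟩
  have hqx : hU.fromSpec q = x := hU.fromSpec_primeIdealOf ⟨x, hxU⟩
  have hq0 : Spec.map φ q = z₀ := by
    apply hW.fromSpec.isOpenEmbedding.injective
    rw [← hsq, hqx, hx, hz₀]
  have hq0' : q ∈ PrimeSpectrum.comap (algebraMap Γ(Y, W) Γ(X, U)) ⁻¹' {z₀} := hq0
  have hnt : Nontrivial (z₀.asIdeal.Fiber Γ(X, U)) := by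
    have Q := PrimeSpectrum.preimageEquivFiber Γ(Y, W) Γ(X, U) z₀ ⟨q, hq0'⟩
    exact Q.nontrivial
  obtain ⟨a, ha, hA⟩ := exists_forall_nontrivial_fiber (A := Γ(Y, W)) (B := Γ(X, U))
    z₀.asIdeal hnil hnt
  refine ⟨Y.basicOpen a, ?_, ?_⟩
  · have : z₀ ∈ hW.fromSpec ⁻¹ᵁ Y.basicOpen a := by
      rw [hW.fromSpec_preimage_basicOpen]
      exact ha
    have h2 : hW.fromSpec z₀ ∈ Y.basicOpen a := this
    rwa [hz₀] at h2
  · intro y hy
    have hyW : y ∈ W := Y.basicOpen_le a hy
    let z : Spec Γ(Y, W) := hW.primeIdealOf ⟨y, hyW⟩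
    have hzy : hW.fromSpec z = y := hW.fromSpec_primeIdealOf ⟨y, hyW⟩
    have haz : a ∉ z.asIdeal :=
      (mem_basicOpen_iff_notMem_primeIdealOf hW a y hyW).mp hy
    have hnt' : Nontrivial (z.asIdeal.Fiber Γ(X, U)) := hA z.asIdeal haz
    obtain ⟨Q⟩ := (PrimeSpectrum.nonempty_iff_nontrivial).mpr hnt'
    let r := (PrimeSpectrum.preimageEquivFiber Γ(Y, W) Γ(X, U) z).symm Q
    have hr : Spec.map φ r.1 = z := r.2
    exact ⟨hU.fromSpec r.1, by rw [hsq, hr, hzy]⟩

end Image

end Groth.Agent.Lib.Helper13.GenFibre
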