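import Mathlib
import Groth.Agent.Lib.Helper91.GenericFreeness
import Groth.Agent.Lib.Helper55.KrullDimIntegral

set_option autoImplicit false

namespace Groth.Agent.Lib.Helper13.GenSplit

open TensorProduct

universe u

section Split

variable {R S' N M : Type u} [CommRing R] [IsDomain R] [CommRing S'] [Algebra R S']
  [Algebra.FiniteType R S'] [AddCommGroup N] [Module R N] [Module S' N] [IsScalarTower R S' N]
  [AddCommGroup M] [Module R M] [Module S' M] [IsScalarTower R S' M] [Module.Finite S' M]

/-- **Generic universal injectivity**: an injective map into a finite module over a finite type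
algebra over a domain stays injective after any base change inverting a suitable nonzero element. -/
theorem exists_forall_lTensor_injective (φ : N →ₗ[S'] M) (hφ : Function.Injective φ) :
    ∃ a : R, a ≠ 0 ∧ ∀ (k : Type u) [CommRing k] [Algebra R k], IsUnit (algebraMap R k a) →
      Function.Injective (LinearMap.lTensor k (φ.restrictScalars R)) := by
  classical
  let Q := M ⧸ LinearMap.range φ
  obtain ⟨a, ha, hfree, -, -, -⟩ :=
    Groth.Agent.Lib.Helper91.generic_freeness (R := R) (S := S') (M := Q)
  refine ⟨a, ha, fun k _ _ hk => ?_⟩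
  set L := Localization.Away a with hL
  -- `k` is an `L`-algebra
  letI : Algebra L k := (IsLocalization.Away.lift (S := L) a hk).toAlgebra
  haveI : IsScalarTower R L k := IsScalarTower.of_algebraMap_eq fun r => by
    show algebraMap R k r = (IsLocalization.Away.lift (S := L) a hk) (algebraMap R L r)
    rw [IsLocalization.Away.lift_eq]
  set φR : N →ₗ[R] M := φ.restrictScalars R with hφR
  set πR : M →ₗ[R] Q := (LinearMap.range φ).mkQ.restrictScalars R with hπR
  have hex : Function.Exact φR πR := by
    intro y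
    show (LinearMap.range φ).mkQ y = 0 ↔ y ∈ Set.range φ
    rw [Submodule.mkQ_apply, Submodule.Quotient.mk_eq_zero]
    rfl
  have hπsurj : Function.Surjective πR := (LinearMap.range φ).mkQ_surjective
  -- base change to `L`
  set φL : L ⊗[R] N →ₗ[L] L ⊗[R] M := φR.baseChange L with hφL
  set πL : L ⊗[R] M →ₗ[L] L ⊗[R] Q := πR.baseChange L with hπL
  have hφLinj : Function.Injective φL := by
    have : Function.Injective (LinearMap.lTensor L φR) :=
      Module.Flat.lTensor_preserves_injective_linearMap φR hφ
    exact this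
  have hexL : Function.Exact φL πL := by
    have := lTensor_exact L hex hπsurj
    exact this
  have hπLsurj : Function.Surjective πL := LinearMap.lTensor_surjective L hπsurj
  -- a section of `πL`
  obtain ⟨σ, hσ⟩ := Module.projective_lifting_property πL (LinearMap.id) hπLsurj
  -- the retraction
  have hmem : ∀ y : L ⊗[R] M, y - σ (πL y) ∈ LinearMap.range φL := by
    intro y
    rw [← hexL.linearMap_ker_eq, LinearMap.mem_ker, map_sub]
    have : πL (σ (πL y)) = πL y := by
      have := congrArg (fun f => f (πL y)) hσ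
      simpa using this
    rw [this, sub_self]
  let e := LinearEquiv.ofInjective φL hφLinj
  let ρ : L ⊗[R] M →ₗ[L] L ⊗[R] N :=
    e.symm.toLinearMap ∘ₗ (LinearMap.codRestrict (LinearMap.range φL)
      (LinearMap.id - σ ∘ₗ πL) hmem)
  have hρ : ρ ∘ₗ φL = LinearMap.id := by
    refine LinearMap.ext fun x => ?_
    show e.symm _ = x
    rw [LinearEquiv.symm_apply_eq]
    apply Subtype.ext
    show φL x - σ (πL (φL x)) = φL x
    have : πL (φL x) = 0 := hexL.apply_apply_eq_zero x
    rw [this, map_zero, sub_zero]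
  -- tensor with `k` over `L`
  have hinj2 : Function.Injective (LinearMap.lTensor k φL) := by
    have hcomp : (LinearMap.lTensor k ρ) ∘ₗ (LinearMap.lTensor k φL) = LinearMap.id := by
      rw [← LinearMap.lTensor_comp, hρ, LinearMap.lTensor_id]
    intro x y hxy
    have := congrArg (LinearMap.lTensor k ρ) hxy
    rw [← LinearMap.comp_apply, ← LinearMap.comp_apply, hcomp] at this
    exact this
  -- transport along `cancelBaseChange`
  have hnat := TensorProduct.AlgebraTensorModule.lTensor_comp_cancelBaseChange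
    (R := R) (A := L) (B := k) (M := k) φR
  let eN := TensorProduct.AlgebraTensorModule.cancelBaseChange R L k k N
  let eM := TensorProduct.AlgebraTensorModule.cancelBaseChange R L k k M
  have key : ∀ x' : k ⊗[L] (L ⊗[R] N),
      LinearMap.lTensor k φR (eN x') = eM (LinearMap.lTensor k φL x') := fun x' =>
    LinearMap.congr_fun hnat x'
  intro x y hxy
  obtain ⟨x', rfl⟩ := eN.surjective x
  obtain ⟨y', rfl⟩ := eN.surjective y
  rw [key, key] at hxy
  rw [hinj2 (eM.injective hxy)]

end Split

section HFin

variable {R₁ S₁ : Type u} [CommRing R₁] [IsDomain R₁] [CommRing S₁] [Algebra R₁ S₁]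

/-- If `S₁` is finite and injective over a polynomial ring in `s` variables over the domain `R₁`,
then the fibre rings `k ⊗ S₁` have dimension `s` for all fields `k` over a nonempty open. -/
theorem exists_forall_ringKrullDim_eq_of_finite_inj {s : ℕ}
    (φ₁ : MvPolynomial (Fin s) R₁ →ₐ[R₁] S₁) (hinj : Function.Injective φ₁)
    (hfin : φ₁.toRingHom.Finite) :
    ∃ a : R₁, a ≠ 0 ∧ ∀ (k : Type u) [Field k] [Algebra R₁ k], algebraMap R₁ k a ≠ 0 →
      ringKrullDim (k ⊗[R₁] S₁) = s := by
  classical
  letI : Algebra (MvPolynomial (Fin s) R₁) S₁ := φ₁.toRingHom.toAlgebra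
  haveI : IsScalarTower R₁ (MvPolynomial (Fin s) R₁) S₁ :=
    IsScalarTower.of_algebraMap_eq fun r => (φ₁.commutes r).symm
  haveI : Module.Finite (MvPolynomial (Fin s) R₁) S₁ := hfin
  obtain ⟨a, ha, hsplit⟩ := exists_forall_lTensor_injective (R := R₁)
    (S' := MvPolynomial (Fin s) R₁) (N := MvPolynomial (Fin s) R₁) (M := S₁)
    (Algebra.linearMap (MvPolynomial (Fin s) R₁) S₁) hinj
  refine ⟨a, ha, fun k _ _ hk => ?_⟩
  have hinjk := hsplit k (IsUnit.mk0 _ hk)
  let ψ : k ⊗[R₁] MvPolynomial (Fin s) R₁ →ₐ[k] k ⊗[R₁] S₁ :=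
    Algebra.TensorProduct.map (AlgHom.id k k) φ₁
  have hψ : ∀ x, ψ x = LinearMap.lTensor k
      ((Algebra.linearMap (MvPolynomial (Fin s) R₁) S₁).restrictScalars R₁) x := by
    intro x
    induction x using TensorProduct.induction_on with
    | zero => simp
    | tmul c p => rfl
    | add x y hx hy => rw [map_add, map_add, hx, hy]
  have hψinj : Function.Injective ψ := by
    intro x y hxy
    rw [hψ, hψ] at hxy
    exact hinjk hxy
  have hint : Algebra.IsIntegral (MvPolynomial (Fin s) R₁) S₁ := inferInstance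
  have hψint : ψ.toRingHom.IsIntegral := by
    intro x
    induction x using TensorProduct.induction_on with
    | zero => exact RingHom.isIntegralElem_zero _
    | add x y hx hy => exact RingHom.IsIntegralElem.add _ hx hy
    | tmul c t =>
      have h1 : (c ⊗ₜ[R₁] t : k ⊗[R₁] S₁) = (c ⊗ₜ[R₁] (1 : S₁)) * ((1 : k) ⊗ₜ[R₁] t) := by
        rw [Algebra.TensorProduct.tmul_mul_tmul, mul_one, one_mul]
      rw [h1]
      refine RingHom.IsIntegralElem.mul _ ?_ ?_
      · have : (c ⊗ₜ[R₁] (1 : S₁) : k ⊗[R₁] S₁) = ψ.toRingHom (c ⊗ₜ[R₁] 1) := by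
          show _ = ψ _
          simp [ψ]
        rw [this]
        exact RingHom.isIntegralElem_map _
      · obtain ⟨q, hq, hq0⟩ := hint.isIntegral t
        refine ⟨q.map (Algebra.TensorProduct.includeRight :
          MvPolynomial (Fin s) R₁ →ₐ[R₁] k ⊗[R₁] MvPolynomial (Fin s) R₁).toRingHom,
          hq.map _, ?_⟩
        rw [Polynomial.eval₂_map]
        have hcomp : ψ.toRingHom.comp (Algebra.TensorProduct.includeRight :
            MvPolynomial (Fin s) R₁ →ₐ[R₁] k ⊗[R₁] MvPolynomial (Fin s) R₁).toRingHom =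
            (Algebra.TensorProduct.includeRight : S₁ →ₐ[R₁] k ⊗[R₁] S₁).toRingHom.comp
              (algebraMap (MvPolynomial (Fin s) R₁) S₁) := by
          refine RingHom.ext fun p => ?_
          show ψ ((1 : k) ⊗ₜ[R₁] p) = (1 : k) ⊗ₜ[R₁] (φ₁ p)
          simp [ψ]
        rw [hcomp]
        have : ((1 : k) ⊗ₜ[R₁] t : k ⊗[R₁] S₁) =
            (Algebra.TensorProduct.includeRight : S₁ →ₐ[R₁] k ⊗[R₁] S₁).toRingHom t := rfl
        rw [this, ← Polynomial.hom_eval₂, hq0, map_zero]
  rw [Groth.Agent.Lib.Helper55.ringKrullDim_eq_of_ringHom_isIntegral_of_injective ψ.toRingHom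
    hψint hψinj]
  rw [ringKrullDim_eq_of_ringEquiv (MvPolynomial.algebraTensorAlgEquiv R₁ k).toRingEquiv]
  rw [MvPolynomial.ringKrullDim_of_isNoetherianRing, ringKrullDim_eq_zero_of_field, zero_add]
  simp

end HFin

section HDom

variable {R S : Type u} [CommRing R] [IsDomain R] [CommRing S] [Algebra R S]
  [Algebra.FiniteType R S]

/-- Noether normalization over the fraction field with the variables sent to elements of `S`. -/
theorem exists_noether_generic (hnt : Nontrivial (FractionRing R ⊗[R] S)) :
    ∃ (s : ℕ) (β : Fin s → S)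
      (g : MvPolynomial (Fin s) (FractionRing R) →ₐ[FractionRing R] FractionRing R ⊗[R] S),
      Function.Injective g ∧ g.toRingHom.Finite ∧
        ∀ i, g (MvPolynomial.X i) = (1 : FractionRing R) ⊗ₜ[R] β i := by
  classical
  obtain ⟨s, g, hginj, hgfin⟩ := exists_finite_inj_algHom_of_fg (FractionRing R)
    (FractionRing R ⊗[R] S)
  have hsurj : ∀ y : FractionRing R ⊗[R] S, ∃ c : R, c ≠ 0 ∧ ∃ b : S,
      (algebraMap R (FractionRing R) c) • y = (1 : FractionRing R) ⊗ₜ[R] b := by
    intro y
    obtain ⟨⟨b, c⟩, h⟩ := IsLocalizedModule.surj (nonZeroDivisors R)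
      (TensorProduct.mk R (FractionRing R) S 1) y
    refine ⟨c, nonZeroDivisors.ne_zero c.2, b, ?_⟩
    rw [algebraMap_smul]
    exact h
  choose c hc β hβ using fun i => hsurj (g (MvPolynomial.X i))
  let τ : MvPolynomial (Fin s) (FractionRing R) →ₐ[FractionRing R]
      MvPolynomial (Fin s) (FractionRing R) :=
    MvPolynomial.aeval (fun i => MvPolynomial.C (algebraMap R (FractionRing R) (c i)) *
      MvPolynomial.X i)
  let τ' : MvPolynomial (Fin s) (FractionRing R) →ₐ[FractionRing R]
      MvPolynomial (Fin s) (FractionRing R) :=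
    MvPolynomial.aeval (fun i => MvPolynomial.C (algebraMap R (FractionRing R) (c i))⁻¹ *
      MvPolynomial.X i)
  have hcK : ∀ i, algebraMap R (FractionRing R) (c i) ≠ 0 := fun i =>
    (map_ne_zero_iff _ (IsFractionRing.injective R (FractionRing R))).mpr (hc i)
  have h1 : τ.comp τ' = AlgHom.id _ _ := by
    apply MvPolynomial.algHom_ext
    intro i
    simp only [τ, τ', AlgHom.comp_apply, MvPolynomial.aeval_X, map_mul, MvPolynomial.aeval_C,
      MvPolynomial.algebraMap_eq, AlgHom.id_apply]
    rw [← mul_assoc, ← map_mul, inv_mul_cancel₀ (hcK i), map_one, one_mul]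
  have h2 : τ'.comp τ = AlgHom.id _ _ := by
    apply MvPolynomial.algHom_ext
    intro i
    simp only [τ, τ', AlgHom.comp_apply, MvPolynomial.aeval_X, map_mul, MvPolynomial.aeval_C,
      MvPolynomial.algebraMap_eq, AlgHom.id_apply]
    rw [← mul_assoc, ← map_mul, mul_inv_cancel₀ (hcK i), map_one, one_mul]
  have hτinj : Function.Injective τ := by
    intro x y hxy
    have := congrArg τ' hxy
    rwa [← AlgHom.comp_apply, ← AlgHom.comp_apply, h2] at this
  have hτsurj : Function.Surjective τ := fun y => ⟨τ' y, by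
    rw [← AlgHom.comp_apply, h1, AlgHom.id_apply]⟩
  refine ⟨s, β, g.comp τ, hginj.comp hτinj, ?_, fun i => ?_⟩
  · exact RingHom.Finite.comp hgfin (RingHom.Finite.of_surjective τ.toRingHom hτsurj)
  · rw [AlgHom.comp_apply]
    simp only [τ, MvPolynomial.aeval_X]
    rw [map_mul, ← MvPolynomial.algebraMap_eq, AlgHom.commutes, ← Algebra.smul_def]
    exact hβ i

omit [Algebra.FiniteType R S] in
attribute [local instance] MvPolynomial.algebraMvPolynomial in
/-- For each `t : S`, a nonzero multiple of `t` is integral over `R[X]` via `aeval β`. -/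
theorem exists_isIntegralElem_smul {s : ℕ} (β : Fin s → S)
    (g : MvPolynomial (Fin s) (FractionRing R) →ₐ[FractionRing R] FractionRing R ⊗[R] S)
    (hgfin : g.toRingHom.Finite)
    (hgX : ∀ i, g (MvPolynomial.X i) = (1 : FractionRing R) ⊗ₜ[R] β i) (t : S) :
    ∃ a : R, a ≠ 0 ∧
      (MvPolynomial.aeval β : MvPolynomial (Fin s) R →ₐ[R] S).toRingHom.IsIntegralElem (a • t) := by
  classical
  set φ : MvPolynomial (Fin s) R →ₐ[R] S := MvPolynomial.aeval β with hφ
  let ιS : S →ₐ[R] FractionRing R ⊗[R] S := Algebra.TensorProduct.includeRight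
  have hcompat : g.toRingHom.comp (MvPolynomial.map (algebraMap R (FractionRing R))) =
      ιS.toRingHom.comp φ.toRingHom := by
    apply MvPolynomial.ringHom_ext
    · intro r
      show g (MvPolynomial.map (algebraMap R (FractionRing R)) (MvPolynomial.C r)) =
        ιS (φ (MvPolynomial.C r))
      rw [MvPolynomial.map_C, ← MvPolynomial.algebraMap_eq, AlgHom.commutes,
        ← MvPolynomial.algebraMap_eq, AlgHom.commutes, AlgHom.commutes,
        ← IsScalarTower.algebraMap_apply]
    · intro i
      show g (MvPolynomial.map (algebraMap R (FractionRing R)) (MvPolynomial.X i)) =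
        ιS (φ (MvPolynomial.X i))
      rw [MvPolynomial.map_X, hgX, hφ, MvPolynomial.aeval_X]
      rfl
  letI : Algebra (MvPolynomial (Fin s) (FractionRing R)) (FractionRing R ⊗[R] S) :=
    g.toRingHom.toAlgebra
  letI : Algebra (MvPolynomial (Fin s) R) (FractionRing R ⊗[R] S) :=
    (g.toRingHom.comp (MvPolynomial.map (algebraMap R (FractionRing R)))).toAlgebra
  haveI : IsScalarTower (MvPolynomial (Fin s) R) (MvPolynomial (Fin s) (FractionRing R))
      (FractionRing R ⊗[R] S) := IsScalarTower.of_algebraMap_eq (fun x => rfl)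
  have hint : IsIntegral (MvPolynomial (Fin s) (FractionRing R))
      ((1 : FractionRing R) ⊗ₜ[R] t : FractionRing R ⊗[R] S) := hgfin.to_isIntegral _
  obtain ⟨⟨m, hm⟩, hm'⟩ := IsIntegral.exists_multiple_integral_of_isLocalization
    ((nonZeroDivisors R).map (MvPolynomial.C (σ := Fin s))) _ hint
  obtain ⟨c, hc, hcm⟩ := id hm
  subst hcm
  obtain ⟨q, hq, hq0⟩ := hm'
  have h3 : (⟨MvPolynomial.C c, hm⟩ : (nonZeroDivisors R).map (MvPolynomial.C (σ := Fin s))) •
      ((1 : FractionRing R) ⊗ₜ[R] t : FractionRing R ⊗[R] S) = ιS (c • t) := by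
    rw [Submonoid.smul_def, Algebra.smul_def]
    show (g.toRingHom.comp (MvPolynomial.map (algebraMap R (FractionRing R))))
      (MvPolynomial.C c) * _ = _
    rw [hcompat]
    show ιS (φ (MvPolynomial.C c)) * ιS t = _
    rw [← map_mul, ← MvPolynomial.algebraMap_eq, AlgHom.commutes, ← Algebra.smul_def]
  rw [h3] at hq0
  have hq1 : ιS (Polynomial.eval₂ φ.toRingHom (c • t) q) = 0 := by
    have : ιS (Polynomial.eval₂ φ.toRingHom (c • t) q) =
        ιS.toRingHom (Polynomial.eval₂ φ.toRingHom (c • t) q) := rfl
    rw [this, Polynomial.hom_eval₂, ← hcompat]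
    exact hq0
  obtain ⟨d, hd⟩ := (IsLocalizedModule.eq_zero_iff (nonZeroDivisors R)
    (TensorProduct.mk R (FractionRing R) S 1)).mp hq1
  refine ⟨d * c, mul_ne_zero (nonZeroDivisors.ne_zero d.2) (nonZeroDivisors.ne_zero hc), ?_⟩
  have h4 := RingHom.isIntegralElem_leadingCoeff_mul φ.toRingHom
    (Polynomial.C (MvPolynomial.C (d : R)) * q) (c • t) (by
      rw [Polynomial.eval₂_mul, Polynomial.eval₂_C]
      show φ (MvPolynomial.C (d : R)) * _ = 0
      rw [← MvPolynomial.algebraMap_eq, AlgHom.commutes, ← Algebra.smul_def]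
      exact hd)
  rw [Polynomial.leadingCoeff_mul_monic hq, Polynomial.leadingCoeff_C] at h4
  have h5 : φ.toRingHom (MvPolynomial.C (d : R)) * c • t = ((d : R) * c) • t := by
    show φ (MvPolynomial.C (d : R)) * c • t = _
    rw [← MvPolynomial.algebraMap_eq, AlgHom.commutes, ← Algebra.smul_def, mul_smul]
  rwa [h5] at h4

/-- Generic Noether normalization: after inverting one nonzero element of the base domain,
the algebra becomes finite and injective over a polynomial ring. -/
theorem exists_localization_finite_inj (hnt : Nontrivial (FractionRing R ⊗[R] S)) :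
    ∃ a₁ : R, a₁ ≠ 0 ∧ ∃ (s : ℕ)
      (φ₁ : MvPolynomial (Fin s) (Localization.Away a₁) →ₐ[Localization.Away a₁]
        (Localization.Away a₁ ⊗[R] S)), Function.Injective φ₁ ∧ φ₁.toRingHom.Finite := by
  classical
  obtain ⟨s, β, g, hginj, hgfin, hgX⟩ := exists_noether_generic hnt
  obtain ⟨G, hG⟩ := (Algebra.FiniteType.out : (⊤ : Subalgebra R S).FG)
  choose a ha hint using exists_isIntegralElem_smul β g hgfin hgX
  set a₁ := ∏ t ∈ G, a t with ha₁def
  have ha₁ : a₁ ≠ 0 := Finset.prod_ne_zero_iff.mpr (fun t _ => ha t)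
  refine ⟨a₁, ha₁, s, ?_⟩
  let φ₁ : MvPolynomial (Fin s) (Localization.Away a₁) →ₐ[Localization.Away a₁]
      Localization.Away a₁ ⊗[R] S :=
    MvPolynomial.aeval (fun i => (1 : Localization.Away a₁) ⊗ₜ[R] β i)
  have hφ₁C : ∀ r : Localization.Away a₁, φ₁ (MvPolynomial.C r) = r ⊗ₜ[R] (1 : S) := by
    intro r
    rw [← MvPolynomial.algebraMap_eq, AlgHom.commutes, Algebra.TensorProduct.algebraMap_apply]
    rfl
  have hφ₁X : ∀ i, φ₁ (MvPolynomial.X i) = (1 : Localization.Away a₁) ⊗ₜ[R] β i := by
    intro i
    simp only [φ₁, MvPolynomial.aeval_X]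
  refine ⟨φ₁, ?_, ?_⟩
  · -- injectivity
    have haK : IsUnit (algebraMap R (FractionRing R) a₁) :=
      IsUnit.mk0 _ ((map_ne_zero_iff _ (IsFractionRing.injective R (FractionRing R))).mpr ha₁)
    let κ : Localization.Away a₁ →+* FractionRing R := IsLocalization.Away.lift a₁ haK
    have hκ : ∀ r, κ (algebraMap R (Localization.Away a₁) r) = algebraMap R (FractionRing R) r :=
      IsLocalization.Away.lift_eq a₁ haK
    have hκinj : Function.Injective κ := by
      show Function.Injective (IsLocalization.lift _)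
      rw [IsLocalization.lift_injective_iff]
      intro x y
      rw [(IsFractionRing.injective R (FractionRing R)).eq_iff,
        (IsLocalization.injective (Localization.Away a₁)
          (powers_le_nonZeroDivisors_of_noZeroDivisors ha₁)).eq_iff]
    let κA : Localization.Away a₁ →ₐ[R] FractionRing R := { κ with commutes' := hκ }
    let ιK : Localization.Away a₁ ⊗[R] S →ₐ[R] FractionRing R ⊗[R] S :=
      Algebra.TensorProduct.map κA (AlgHom.id R S)
    have hcomp : ιK.toRingHom.comp φ₁.toRingHom = g.toRingHom.comp (MvPolynomial.map κ) := by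
      apply MvPolynomial.ringHom_ext
      · intro r
        show ιK (φ₁ (MvPolynomial.C r)) = g (MvPolynomial.map κ (MvPolynomial.C r))
        rw [MvPolynomial.map_C, ← MvPolynomial.algebraMap_eq (R := FractionRing R),
          AlgHom.commutes, hφ₁C, Algebra.TensorProduct.algebraMap_apply]
        rfl
      · intro i
        show ιK (φ₁ (MvPolynomial.X i)) = g (MvPolynomial.map κ (MvPolynomial.X i))
        rw [MvPolynomial.map_X, hgX, hφ₁X]
        show κ 1 ⊗ₜ[R] β i = _
        rw [map_one]
    intro x y hxy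
    have h1 : g (MvPolynomial.map κ x) = g (MvPolynomial.map κ y) := by
      have := congrArg ιK hxy
      exact (RingHom.congr_fun hcomp x).symm.trans (this.trans (RingHom.congr_fun hcomp y))
    exact MvPolynomial.map_injective κ hκinj (hginj h1)
  · -- finiteness
    have hft : φ₁.toRingHom.FiniteType := by
      have h1 : (algebraMap (Localization.Away a₁) (Localization.Away a₁ ⊗[R] S)).FiniteType :=
        RingHom.finiteType_algebraMap.mpr inferInstance
      have h2 : algebraMap (Localization.Away a₁) (Localization.Away a₁ ⊗[R] S) =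
          φ₁.toRingHom.comp (MvPolynomial.C) := by
        ext r
        exact (φ₁.commutes r).symm
      rw [h2] at h1
      exact RingHom.FiniteType.of_comp_finiteType h1
    refine RingHom.IsIntegral.to_finite ?_ hft
    letI : Algebra (MvPolynomial (Fin s) (Localization.Away a₁)) (Localization.Away a₁ ⊗[R] S) :=
      φ₁.toRingHom.toAlgebra
    let T : Subalgebra (MvPolynomial (Fin s) (Localization.Away a₁))
      (Localization.Away a₁ ⊗[R] S) := integralClosure _ _
    have hT : ∀ z, z ∈ T ↔ φ₁.toRingHom.IsIntegralElem z := fun z => Iff.rfl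
    have h1 : ∀ r : Localization.Away a₁, (r ⊗ₜ[R] (1 : S)) ∈ T := fun r => by
      rw [← hφ₁C]
      exact T.algebraMap_mem (MvPolynomial.C r)
    have hc : φ₁.toRingHom.comp (MvPolynomial.map (algebraMap R (Localization.Away a₁))) =
        (Algebra.TensorProduct.includeRight : S →ₐ[R] Localization.Away a₁ ⊗[R] S).toRingHom.comp
          (MvPolynomial.aeval β : MvPolynomial (Fin s) R →ₐ[R] S).toRingHom := by
      apply MvPolynomial.ringHom_ext
      · intro r
        show φ₁ (MvPolynomial.map _ (MvPolynomial.C r)) =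
          (1 : Localization.Away a₁) ⊗ₜ[R] (MvPolynomial.aeval β (MvPolynomial.C r))
        rw [MvPolynomial.map_C, hφ₁C, ← MvPolynomial.algebraMap_eq, AlgHom.commutes,
          Algebra.algebraMap_eq_smul_one, Algebra.algebraMap_eq_smul_one, TensorProduct.smul_tmul]
      · intro i
        show φ₁ (MvPolynomial.map _ (MvPolynomial.X i)) =
          (1 : Localization.Away a₁) ⊗ₜ[R] (MvPolynomial.aeval β (MvPolynomial.X i))
        rw [MvPolynomial.map_X, hφ₁X, MvPolynomial.aeval_X]
    have h2 : ∀ t ∈ G, ((1 : Localization.Away a₁) ⊗ₜ[R] t) ∈ T := by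
      intro t ht
      have hunit : IsUnit (algebraMap R (Localization.Away a₁) (a t)) :=
        isUnit_of_dvd_unit (map_dvd _ (Finset.dvd_prod_of_mem a ht))
          (IsLocalization.Away.algebraMap_isUnit a₁)
      obtain ⟨v, hv⟩ := hunit
      obtain ⟨q, hq, hq0⟩ := hint t
      have h3 : φ₁.toRingHom.IsIntegralElem ((1 : Localization.Away a₁) ⊗ₜ[R] (a t • t)) := by
        refine ⟨q.map (MvPolynomial.map (algebraMap R (Localization.Away a₁))), hq.map _, ?_⟩
        rw [Polynomial.eval₂_map, hc]
        have : ((1 : Localization.Away a₁) ⊗ₜ[R] (a t • t)) =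
            (Algebra.TensorProduct.includeRight :
              S →ₐ[R] Localization.Away a₁ ⊗[R] S).toRingHom (a t • t) := rfl
        rw [this, ← Polynomial.hom_eval₂, hq0, map_zero]
      have h4 : ((1 : Localization.Away a₁) ⊗ₜ[R] t) =
          (((v⁻¹ : (Localization.Away a₁)ˣ) : Localization.Away a₁) ⊗ₜ[R] (1 : S)) *
            ((1 : Localization.Away a₁) ⊗ₜ[R] (a t • t)) := by
        rw [Algebra.TensorProduct.tmul_mul_tmul, mul_one, one_mul, ← TensorProduct.smul_tmul,
          Algebra.smul_def, ← hv, Units.mul_inv]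
      rw [h4]
      exact T.mul_mem (h1 _) ((hT _).mpr h3)
    have h3 : ∀ x : S, ((1 : Localization.Away a₁) ⊗ₜ[R] x) ∈ T := by
      intro x
      have hx : x ∈ Algebra.adjoin R (G : Set S) := hG ▸ Algebra.mem_top
      induction hx using Algebra.adjoin_induction with
      | mem x hx => exact h2 x hx
      | algebraMap r =>
        rw [Algebra.algebraMap_eq_smul_one, ← TensorProduct.smul_tmul]
        exact h1 _
      | add x y _ _ hx hy =>
        rw [TensorProduct.tmul_add]
        exact T.add_mem hx hy
      | mul x y _ _ hx hy =>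
        have : ((1 : Localization.Away a₁) ⊗ₜ[R] (x * y)) =
            ((1 : Localization.Away a₁) ⊗ₜ[R] x) * ((1 : Localization.Away a₁) ⊗ₜ[R] y) := by
          rw [Algebra.TensorProduct.tmul_mul_tmul, mul_one]
        rw [this]
        exact T.mul_mem hx hy
    intro z
    induction z using TensorProduct.induction_on with
    | zero => exact T.zero_mem
    | tmul r x =>
      have : (r ⊗ₜ[R] x : Localization.Away a₁ ⊗[R] S) =
          (r ⊗ₜ[R] (1 : S)) * ((1 : Localization.Away a₁) ⊗ₜ[R] x) := by
        rw [Algebra.TensorProduct.tmul_mul_tmul, mul_one, one_mul]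
      rw [this]
      exact T.mul_mem (h1 r) (h3 x)
    | add x y hx hy => exact T.add_mem hx hy

end HDom

section HDom2

variable {R S : Type u} [CommRing R] [IsDomain R] [CommRing S] [Algebra R S]
  [Algebra.FiniteType R S]

/-- Over a domain, the fibre rings `k ⊗[R] S` of a finite type algebra have constant Krull
dimension for all fields `k` over a nonempty open of `Spec R`. -/
theorem exists_forall_ringKrullDim_eq_of_isDomain :
    ∃ a : R, a ≠ 0 ∧ ∃ d : WithBot ℕ∞, ∀ (k : Type u) [Field k] [Algebra R k],
      algebraMap R k a ≠ 0 → ringKrullDim (k ⊗[R] S) = d := by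
  classical
  by_cases hnt : Nontrivial (FractionRing R ⊗[R] S)
  · obtain ⟨a₁, ha₁, s, φ₁, hinj, hfin⟩ := exists_localization_finite_inj hnt
    haveI : IsDomain (Localization.Away a₁) :=
      IsLocalization.isDomain_localization (powers_le_nonZeroDivisors_of_noZeroDivisors ha₁)
    obtain ⟨a₂, ha₂, H⟩ := exists_forall_ringKrullDim_eq_of_finite_inj φ₁ hinj hfin
    obtain ⟨n, r, hr⟩ := IsLocalization.Away.surj a₁ a₂
    have hr0 : r ≠ 0 := by
      rintro rfl
      rw [map_zero] at hr
      rcases mul_eq_zero.mp hr with h | h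
      · exact ha₂ h
      · exact pow_ne_zero n
          (IsLocalization.Away.algebraMap_isUnit (S := Localization.Away a₁) a₁).ne_zero h
    refine ⟨a₁ * r, mul_ne_zero ha₁ hr0, s, fun k _ _ hk => ?_⟩
    rw [map_mul] at hk
    have hk1 : algebraMap R k a₁ ≠ 0 := left_ne_zero_of_mul hk
    have hk2 : algebraMap R k r ≠ 0 := right_ne_zero_of_mul hk
    letI : Algebra (Localization.Away a₁) k :=
      (IsLocalization.Away.lift (S := Localization.Away a₁) a₁ (IsUnit.mk0 _ hk1)).toAlgebra
    haveI : IsScalarTower R (Localization.Away a₁) k := IsScalarTower.of_algebraMap_eq fun x => by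
      show algebraMap R k x = (IsLocalization.Away.lift (S := Localization.Away a₁) a₁
        (IsUnit.mk0 _ hk1)) (algebraMap R (Localization.Away a₁) x)
      rw [IsLocalization.Away.lift_eq]
    have hk3 : algebraMap (Localization.Away a₁) k a₂ ≠ 0 := by
      intro h0
      have := congrArg (algebraMap (Localization.Away a₁) k) hr
      rw [map_mul, h0, zero_mul, ← IsScalarTower.algebraMap_apply] at this
      exact hk2 this.symm
    rw [← H k hk3]
    exact (ringKrullDim_eq_of_ringEquiv
      (Algebra.TensorProduct.cancelBaseChange R (Localization.Away a₁) k k S).toRingEquiv).symm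
  · rw [not_nontrivial_iff_subsingleton] at hnt
    have h0 : TensorProduct.mk R (FractionRing R) S 1 (1 : S) = 0 := Subsingleton.elim _ _
    obtain ⟨d, hd⟩ := (IsLocalizedModule.eq_zero_iff (nonZeroDivisors R)
      (TensorProduct.mk R (FractionRing R) S 1)).mp h0
    refine ⟨d, nonZeroDivisors.ne_zero d.2, ⊥, fun k _ _ hk => ?_⟩
    haveI : Subsingleton (k ⊗[R] S) := by
      apply subsingleton_of_zero_eq_one
      rw [Algebra.TensorProduct.one_def]
      have h1 : ((1 : k) ⊗ₜ[R] (1 : S)) =
          ((algebraMap R k d)⁻¹ * algebraMap R k d) ⊗ₜ[R] (1 : S) := by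
        rw [inv_mul_cancel₀ hk]
      rw [h1, mul_comm, ← Algebra.smul_def, TensorProduct.smul_tmul]
      have : (d : R) • (1 : S) = 0 := hd
      rw [this, TensorProduct.tmul_zero]
    exact ringKrullDim_eq_bot_of_subsingleton

end HDom2

section HNil

variable {A B : Type u} [CommRing A] [CommRing B] [Algebra A B] [Algebra.FiniteType A B]

/-- If `A` has prime nilradical, the fibre rings `k ⊗[A] B` of a finite type algebra have constant
Krull dimension for all fields `k` over a nonempty open of `Spec A`. -/
theorem exists_forall_ringKrullDim_eq (hp : (nilradical A).IsPrime) :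
    ∃ a : A, a ∉ nilradical A ∧ ∃ d : WithBot ℕ∞, ∀ (k : Type u) [Field k] [Algebra A k],
      algebraMap A k a ≠ 0 → ringKrullDim (k ⊗[A] B) = d := by
  classical
  haveI : IsDomain (A ⧸ nilradical A) := Ideal.Quotient.isDomain _
  obtain ⟨a', ha', d, H⟩ := exists_forall_ringKrullDim_eq_of_isDomain
    (R := A ⧸ nilradical A) (S := (A ⧸ nilradical A) ⊗[A] B)
  obtain ⟨a, rfl⟩ := Ideal.Quotient.mk_surjective a'
  refine ⟨a, fun h => ha' (Ideal.Quotient.eq_zero_iff_mem.mpr h), d, fun k _ _ hk => ?_⟩
  letI : Algebra (A ⧸ nilradical A) k :=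
    (Ideal.Quotient.lift (nilradical A) (algebraMap A k) (fun x hx => by
      have : IsNilpotent (algebraMap A k x) := (mem_nilradical.mp hx).map _
      exact this.eq_zero)).toAlgebra
  haveI : IsScalarTower A (A ⧸ nilradical A) k := IsScalarTower.of_algebraMap_eq fun x => rfl
  have hk' : algebraMap (A ⧸ nilradical A) k (Ideal.Quotient.mk _ a) ≠ 0 := hk
  rw [← H k hk']
  exact (ringKrullDim_eq_of_ringEquiv
    (Algebra.TensorProduct.cancelBaseChange A (A ⧸ nilradical A) k k B).toRingEquiv).symm

end HNil

end Groth.Agent.Lib.Helper13.GenSplit
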