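import Mathlib
import Groth.Agent.Lib.Helper13.GenFibre
import Groth.Agent.Lib.Helper13.GenSplit
import Groth.Agent.Lib.Helper29.TopDim

/-!
# Dimension of fibres near the generic point (helper13)

Scheme-level consequences of `GenSplit.exists_forall_ringKrullDim_eq`.
-/

set_option autoImplicit false

namespace Groth.Agent.Lib.Helper13.GenFibreDim

open AlgebraicGeometry CategoryTheory Limits TopologicalSpace TensorProduct
open Groth.Agent.Lib.Helper13.GenFibre

universe u

/-- The dimension of a topological space is the supremum of the dimensions of the members of an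
open cover (no universe restriction on the index type). -/
theorem topologicalKrullDim_eq_iSup_opens {T : Type*} [TopologicalSpace T] {ι : Type*}
    (U : ι → Opens T) (hcov : ∀ x : T, ∃ i, x ∈ U i) :
    topologicalKrullDim T = ⨆ i, topologicalKrullDim (U i) := by
  apply le_antisymm
  · rw [Groth.Agent.Lib.Helper29.topologicalKrullDim_le_iff]
    intro p
    obtain ⟨x, hx⟩ := p.head.isIrreducible.nonempty
    obtain ⟨i, hi⟩ := hcov x
    exact (Groth.Agent.Lib.Helper29.length_le_topologicalKrullDim_of_isOpen p (U i).2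
      ⟨x, hx, hi⟩).trans (le_iSup (fun i => topologicalKrullDim (U i)) i)
  · exact iSup_le fun i => topologicalKrullDim_subspace_le T (U i)

/-- The dimension of a scheme is the supremum of the dimensions of jointly surjective open
immersions. -/
theorem topologicalKrullDim_eq_iSup_of_isOpenImmersion (Z : Scheme.{u}) {J : Type*}
    (C : J → Scheme.{u}) (c : ∀ j, C j ⟶ Z) [∀ j, IsOpenImmersion (c j)]
    (hcov : ∀ x : Z, ∃ j, x ∈ Set.range (c j)) :
    topologicalKrullDim Z = ⨆ j, topologicalKrullDim (C j) := by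
  rw [topologicalKrullDim_eq_iSup_opens (fun j => (c j).opensRange) hcov]
  congr 1
  funext j
  symm
  exact IsHomeomorph.topologicalKrullDim_eq _
    ((c j).isOpenEmbedding.isEmbedding.toHomeomorph).isHomeomorph

section Chart

variable {X Y : Scheme.{u}}

/-- The dimension of a fibre is the supremum of the dimensions of its affine charts. -/
theorem topologicalKrullDim_fiber_eq_iSup (f : X ⟶ Y) {W : Y.Opens} (hW : IsAffineOpen W)
    (z : Spec Γ(Y, W)) {J : Type*} (U : J → X.Opens) (hU : ∀ j, IsAffineOpen (U j))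
    (e : ∀ j, U j ≤ f ⁻¹ᵁ W) (hcov : ((f ⁻¹ᵁ W : X.Opens) : Set X) ⊆ ⋃ j, (U j : Set X)) :
    topologicalKrullDim (f.fiber (hW.fromSpec z)) =
      ⨆ j, topologicalKrullDim ↑(pullback (Spec.map (f.appLE W (U j) (e j)))
        ((Spec Γ(Y, W)).fromSpecResidueField z) : Scheme.{u}) := by
  show topologicalKrullDim ↑(pullback f (Y.fromSpecResidueField (hW.fromSpec z)) : Scheme.{u}) = _
  refine topologicalKrullDim_eq_iSup_of_isOpenImmersion _ _
    (fun j => fiberChart f hW (hU j) (e j) z) ?_
  intro x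
  have hx : f (f.fiberι (hW.fromSpec z) x) = hW.fromSpec z := by
    have h1 : f.fiberι (hW.fromSpec z) x ∈ Set.range (f.fiberι (hW.fromSpec z)) := ⟨x, rfl⟩
    rw [f.range_fiberι] at h1
    exact h1
  have hxW : f.fiberι (hW.fromSpec z) x ∈ ((f ⁻¹ᵁ W : X.Opens) : Set X) := by
    show f (f.fiberι (hW.fromSpec z) x) ∈ W
    rw [hx]
    have : hW.fromSpec z ∈ Set.range hW.fromSpec := ⟨z, rfl⟩
    rwa [hW.range_fromSpec] at this
  obtain ⟨j, hj⟩ := Set.mem_iUnion.mp (hcov hxW)
  refine ⟨j, ?_⟩
  rw [range_fiberChart]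
  exact hj

/-- The dimension of an affine chart of the fibre is the Krull dimension of the fibre ring. -/
theorem topologicalKrullDim_chart_eq (f : X ⟶ Y) {W : Y.Opens} {U : X.Opens}
    (e : U ≤ f ⁻¹ᵁ W) (z : Spec Γ(Y, W)) :
    letI : Algebra Γ(Y, W) Γ(X, U) := (f.appLE W U e).hom.toAlgebra
    topologicalKrullDim ↑(pullback (Spec.map (f.appLE W U e))
      ((Spec Γ(Y, W)).fromSpecResidueField z) : Scheme.{u}) =
      ringKrullDim (z.asIdeal.ResidueField ⊗[Γ(Y, W)] Γ(X, U)) := by
  letI : Algebra Γ(Y, W) Γ(X, U) := (f.appLE W U e).hom.toAlgebra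
  rw [← PrimeSpectrum.topologicalKrullDim_eq_ringKrullDim]
  exact IsHomeomorph.topologicalKrullDim_eq _
    (Scheme.homeoOfIso (specFiberIso Γ(Y, W) Γ(X, U) z)).isHomeomorph

/-- Near the generic point, the dimension of an affine chart of the fibres is constant. -/
theorem exists_forall_dim_chart_eq (f : X ⟶ Y) [LocallyOfFiniteType f] {W : Y.Opens}
    (hW : IsAffineOpen W) {U : X.Opens} (hU : IsAffineOpen U) (e : U ≤ f ⁻¹ᵁ W)
    (hp : (nilradical Γ(Y, W)).IsPrime) :
    ∃ a : Γ(Y, W), a ∉ nilradical Γ(Y, W) ∧ ∃ d : WithBot ℕ∞, ∀ z : Spec Γ(Y, W),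
      a ∉ z.asIdeal → topologicalKrullDim ↑(pullback (Spec.map (f.appLE W U e))
        ((Spec Γ(Y, W)).fromSpecResidueField z) : Scheme.{u}) = d := by
  letI : Algebra Γ(Y, W) Γ(X, U) := (f.appLE W U e).hom.toAlgebra
  have hft : Algebra.FiniteType Γ(Y, W) Γ(X, U) := f.finiteType_appLE hW hU e
  obtain ⟨a, ha, d, H⟩ := Groth.Agent.Lib.Helper13.GenSplit.exists_forall_ringKrullDim_eq
    (A := Γ(Y, W)) (B := Γ(X, U)) hp
  refine ⟨a, ha, d, fun z hz => ?_⟩
  rw [topologicalKrullDim_chart_eq f e z]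
  exact H z.asIdeal.ResidueField (by rwa [Ne, Ideal.algebraMap_residueField_eq_zero])

end Chart

end Groth.Agent.Lib.Helper13.GenFibreDim
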