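import Mathlib
import Groth.Agent.Lib.Helper13.ChevalleyRing
import Groth.Agent.Lib.Helper13.GenFibreDim
import Groth.Agent.H52.LqfFibreDim
import Groth.Agent.Lib.Helper55.FiberCompDim
import Groth.Agent.Lib.Helper55.FiberBaseChange
import Groth.Agent.S7408
import Groth.Agent.S9798

/-!
# Chevalley's upper semicontinuity of fibre dimension (EGA IV 13.1.3)

For a morphism `f : X ⟶ S` locally of finite type, the function `x ↦ dim_x (X_{f x})` is upper
semicontinuous on `X`.
-/

set_option autoImplicit false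

namespace Groth.Agent.Lib.Helper13.Chevalley

open AlgebraicGeometry CategoryTheory CategoryTheory.Limits TensorProduct

universe u

/-- A morphism locally of finite type is quasi-finite at a point iff the fibre has local dimension
zero there. -/
theorem quasiFiniteAt_iff_fibreDimAt_eq_zero {X Y : Scheme.{u}} (h : X ⟶ Y)
    [LocallyOfFiniteType h] (x : X) :
    h.QuasiFiniteAt x ↔ FlatMor.fibreDimAt h x = 0 := by
  have hlft : LocallyOfFiniteType (h.fiberToSpecResidueField (h x)) :=
    MorphismProperty.pullback_snd (P := @LocallyOfFiniteType) _ _ inferInstance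
  have : IsLocallyNoetherian (h.fiber (h x)) :=
    LocallyOfFiniteType.isLocallyNoetherian (h.fiberToSpecResidueField (h x))
  rw [Scheme.Hom.quasiFiniteAt_iff_isOpen_singleton_asFiber]
  unfold FlatMor.fibreDimAt
  rw [Groth.Agent.S9798.result]

section Affine

variable (A B : Type u) [CommRing A] [CommRing B] [Algebra A B]

/-- The dimension of a fibre of a morphism of affine schemes. -/
theorem topologicalKrullDim_fiber_SpecMap (y : Spec (.of A)) :
    topologicalKrullDim ↥((Spec.map (CommRingCat.ofHom (algebraMap A B))).fiber y) =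
      ringKrullDim (y.asIdeal.Fiber B) := by
  rw [← PrimeSpectrum.topologicalKrullDim_eq_ringKrullDim]
  exact IsHomeomorph.topologicalKrullDim_eq _
    (Scheme.homeoOfIso (Groth.Agent.Lib.Helper13.GenFibre.specFiberIso A B y)).isHomeomorph

/-- The fibres of affine space `𝔸^s_A → Spec A` have local dimension at most `s`. -/
theorem fibreDimAt_mvPolynomial_le (s : ℕ) (z : Spec (.of (MvPolynomial (Fin s) A))) :
    FlatMor.fibreDimAt (Spec.map (CommRingCat.ofHom
      (algebraMap A (MvPolynomial (Fin s) A)))) z ≤ s := by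
  unfold FlatMor.fibreDimAt
  refine (Groth.Agent.Lib.Helper29.localDim_le_topologicalKrullDim _).trans ?_
  rw [topologicalKrullDim_fiber_SpecMap]
  set y := (Spec.map (CommRingCat.ofHom (algebraMap A (MvPolynomial (Fin s) A)))) z
  rw [ringKrullDim_eq_of_ringEquiv
    (MvPolynomial.algebraTensorAlgEquiv (σ := Fin s) A y.asIdeal.ResidueField).toRingEquiv]
  rw [MvPolynomial.ringKrullDim_of_isNoetherianRing, ringKrullDim_eq_zero_of_field, zero_add]
  simp

end Affine

section AffineCase

variable (A B : Type u) [CommRing A] [CommRing B] [Algebra A B] [Algebra.FiniteType A B]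

/-- Points over `p` of `Spec B → 𝔸^s_A` are quasi-finite points when `κ(p)[X] → κ(p) ⊗ B` is
finite. -/
theorem quasiFiniteAt_of_finite_fiber {s : ℕ} (β : Fin s → B) (x₀ : Spec (.of B))
    (hfin : (Algebra.TensorProduct.map
      (AlgHom.id (Spec.map (CommRingCat.ofHom (algebraMap A B)) x₀).asIdeal.ResidueField
        (Spec.map (CommRingCat.ofHom (algebraMap A B)) x₀).asIdeal.ResidueField)
      (MvPolynomial.aeval β : MvPolynomial (Fin s) A →ₐ[A] B)).toRingHom.Finite) :
    (Spec.map (CommRingCat.ofHom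
      (MvPolynomial.aeval β : MvPolynomial (Fin s) A →ₐ[A] B).toRingHom)).QuasiFiniteAt x₀ := by
  classical
  set f := Spec.map (CommRingCat.ofHom (algebraMap A B)) with hf
  set z₀ := f x₀ with hz₀
  set κ := z₀.asIdeal.ResidueField with hκ
  set P := MvPolynomial (Fin s) A with hP
  set ψ : P →ₐ[A] B := MvPolynomial.aeval β with hψ
  set h : Spec (.of B) ⟶ Spec (.of P) := Spec.map (CommRingCat.ofHom ψ.toRingHom) with hh
  set π : Spec (.of P) ⟶ Spec (.of A) := Spec.map (CommRingCat.ofHom (algebraMap A P)) with hπ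
  set ι : Spec (.of κ) ⟶ Spec (.of A) := Spec.map (CommRingCat.ofHom (algebraMap A κ)) with hι
  have hcomp : h ≫ π = f := by
    rw [hh, hπ, hf, ← Spec.map_comp, ← CommRingCat.ofHom_comp]
    congr 2
    exact ψ.comp_algebraMap
  haveI hlftf : LocallyOfFiniteType f := by
    rw [hf, HasRingHomProperty.Spec_iff (P := @LocallyOfFiniteType)]
    exact (RingHom.finiteType_algebraMap (A := A) (B := B)).mpr inferInstance
  haveI hlfthπ : LocallyOfFiniteType (h ≫ π) := hcomp ▸ hlftf
  haveI hlfth : LocallyOfFiniteType h := locallyOfFiniteType_of_comp h π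
  rw [quasiFiniteAt_iff_fibreDimAt_eq_zero]
  -- base change to the fibre over `z₀`
  let T := Algebra.TensorProduct.map (AlgHom.id κ κ) ψ
  let hp : pullback ι f ⟶ pullback ι π :=
    pullback.lift (pullback.fst ι f) (pullback.snd ι f ≫ h)
      (by rw [Category.assoc, hcomp, pullback.condition])
  have hp1 : hp ≫ pullback.fst ι π = pullback.fst ι f := pullback.lift_fst _ _ _
  have hp2 : hp ≫ pullback.snd ι π = pullback.snd ι f ≫ h := pullback.lift_snd _ _ _
  have hsq : IsPullback (pullback.snd ι f) hp h (pullback.snd ι π) := by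
    have t : IsPullback (pullback.fst ι π) (pullback.snd ι π) ι π := IsPullback.of_hasPullback ι π
    have s' : IsPullback (hp ≫ pullback.fst ι π) (pullback.snd ι f) ι (h ≫ π) := by
      rw [hp1, hcomp]
      exact IsPullback.of_hasPullback ι f
    exact (IsPullback.of_right s' hp2 t).flip
  have hhp : hp = (pullbackSpecIso A κ B).hom ≫ Spec.map (CommRingCat.ofHom T.toRingHom) ≫
      (pullbackSpecIso A κ P).inv := by
    have e1 : (pullbackSpecIso A κ P).inv ≫ pullback.fst ι π =
        Spec.map (CommRingCat.ofHom Algebra.TensorProduct.includeLeftRingHom) :=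
      pullbackSpecIso_inv_fst A κ P
    have e2 : (pullbackSpecIso A κ P).inv ≫ pullback.snd ι π =
        Spec.map (CommRingCat.ofHom (R := P) (S := κ ⊗[A] P)
          (RingHomClass.toRingHom Algebra.TensorProduct.includeRight)) :=
      pullbackSpecIso_inv_snd A κ P
    have e3 : (pullbackSpecIso A κ B).hom ≫
        Spec.map (CommRingCat.ofHom Algebra.TensorProduct.includeLeftRingHom) =
        pullback.fst ι f := pullbackSpecIso_hom_fst A κ B
    have e4 : (pullbackSpecIso A κ B).hom ≫
        Spec.map (CommRingCat.ofHom (R := B) (S := κ ⊗[A] B)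
          (RingHomClass.toRingHom Algebra.TensorProduct.includeRight)) =
        pullback.snd ι f := pullbackSpecIso_hom_snd A κ B
    apply pullback.hom_ext
    · rw [hp1, Category.assoc, Category.assoc, e1, ← Spec.map_comp, ← CommRingCat.ofHom_comp]
      have : T.toRingHom.comp Algebra.TensorProduct.includeLeftRingHom =
          Algebra.TensorProduct.includeLeftRingHom := by
        ext c
        simp [T]
      rw [this, e3]
    · rw [hp2, Category.assoc, Category.assoc, e2, ← Spec.map_comp, ← CommRingCat.ofHom_comp]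
      have : T.toRingHom.comp (RingHomClass.toRingHom
          (Algebra.TensorProduct.includeRight : P →ₐ[A] κ ⊗[A] P)) =
          (RingHomClass.toRingHom (Algebra.TensorProduct.includeRight : B →ₐ[A] κ ⊗[A] B)).comp
            ψ.toRingHom := by
        refine RingHom.ext fun c => ?_
        show T ((1 : κ) ⊗ₜ[A] c) = (1 : κ) ⊗ₜ[A] ψ c
        simp [T]
      rw [this, CommRingCat.ofHom_comp, Spec.map_comp, ← Category.assoc, e4]
  haveI : IsFinite (Spec.map (CommRingCat.ofHom T.toRingHom)) := by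
    rw [IsFinite.SpecMap_iff]
    exact hfin
  haveI : IsFinite hp := by
    rw [hhp]
    infer_instance
  haveI : LocallyOfFiniteType hp := inferInstance
  -- a point of the fibre over `x₀`
  have hpt : ∃ t : Spec (.of κ), ι t = f x₀ := by
    have hne : Nonempty (Spec (.of κ)) := inferInstance
    obtain ⟨t⟩ := hne
    refine ⟨t, ?_⟩
    exact (PrimeSpectrum.residueField_comap z₀).le ⟨t, rfl⟩
  obtain ⟨t, ht⟩ := hpt
  obtain ⟨w, hw1, hw2⟩ := Scheme.Pullback.exists_preimage_pullback t x₀ ht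
  have key := Groth.Agent.Lib.Helper55.fibreDimAt_eq_of_isPullback h (pullback.snd ι π)
    (pullback.snd ι f) hp hsq w
  rw [hw2] at key
  rw [← key]
  exact Groth.Agent.H52.fibreDimAt_eq_zero_of_locallyQuasiFinite hp w

/-- **Chevalley's semicontinuity, affine case**: if the fibre ring of `A → B` at the image of `x₀`
has dimension at most `n`, then `x₀` has an open neighbourhood on which the local fibre dimension
is at most `n`. -/
theorem exists_opens_fibreDimAt_le_of_affine (x₀ : Spec (.of B)) (n : ℕ)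
    (hdim : ringKrullDim
      ((Spec.map (CommRingCat.ofHom (algebraMap A B)) x₀).asIdeal.Fiber B) ≤ n) :
    ∃ W : (Spec (.of B)).Opens, x₀ ∈ W ∧
      ∀ w ∈ W, FlatMor.fibreDimAt (Spec.map (CommRingCat.ofHom (algebraMap A B))) w ≤ n := by
  classical
  set f := Spec.map (CommRingCat.ofHom (algebraMap A B)) with hf
  set z₀ := f x₀ with hz₀
  haveI : Nontrivial (z₀.asIdeal.Fiber B) := by
    have q : PrimeSpectrum (z₀.asIdeal.Fiber B) :=
      PrimeSpectrum.preimageEquivFiber A B z₀ ⟨x₀, rfl⟩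
    exact PrimeSpectrum.nonempty_iff_nontrivial.mp ⟨q⟩
  obtain ⟨s, β, hs, hfin⟩ := ChevalleyRing.exists_aeval_finite (A := A) (B := B) z₀.asIdeal
  have hsn : s ≤ n := by
    rw [hs] at hdim
    exact_mod_cast hdim
  set P := MvPolynomial (Fin s) A with hP
  set ψ : P →ₐ[A] B := MvPolynomial.aeval β with hψ
  set h : Spec (.of B) ⟶ Spec (.of P) := Spec.map (CommRingCat.ofHom ψ.toRingHom) with hh
  set π : Spec (.of P) ⟶ Spec (.of A) := Spec.map (CommRingCat.ofHom (algebraMap A P)) with hπ
  have hcomp : h ≫ π = f := by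
    rw [hh, hπ, hf, ← Spec.map_comp, ← CommRingCat.ofHom_comp]
    congr 2
    exact ψ.comp_algebraMap
  haveI hlftf : LocallyOfFiniteType f := by
    rw [hf, HasRingHomProperty.Spec_iff (P := @LocallyOfFiniteType)]
    exact (RingHom.finiteType_algebraMap (A := A) (B := B)).mpr inferInstance
  haveI hlfthπ : LocallyOfFiniteType (h ≫ π) := hcomp ▸ hlftf
  haveI hlfth : LocallyOfFiniteType h := locallyOfFiniteType_of_comp h π
  haveI hlftπ : LocallyOfFiniteType π := by
    rw [hπ, HasRingHomProperty.Spec_iff (P := @LocallyOfFiniteType)]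
    exact (RingHom.finiteType_algebraMap (A := A) (B := P)).mpr inferInstance
  refine ⟨h.quasiFiniteLocus, ?_, fun w hw => ?_⟩
  · rw [Scheme.Hom.mem_quasiFiniteLocus]
    exact quasiFiniteAt_of_finite_fiber A B β x₀ hfin
  · rw [Scheme.Hom.mem_quasiFiniteLocus, quasiFiniteAt_iff_fibreDimAt_eq_zero] at hw
    have h1 := (Groth.Agent.Lib.Helper55.fibreDimAt_comp_le h π w).1
    rw [hcomp, hw, zero_add] at h1
    refine h1.trans ((fibreDimAt_mvPolynomial_le A s (h w)).trans ?_)
    exact_mod_cast hsn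

end AffineCase

section Main

open Groth.Agent.Lib.Helper13.GenFibre Groth.Agent.Lib.Helper13.GenFibreDim

theorem natCast_add_one_le_of_lt {n : ℕ} {a : WithBot ℕ∞} (h : (n : WithBot ℕ∞) < a) :
    ((n + 1 : ℕ) : WithBot ℕ∞) ≤ a := by
  induction a using WithBot.recBotCoe with
  | bot => exact absurd h not_lt_bot
  | coe b =>
    have h' : (n : ℕ∞) < b := by exact_mod_cast h
    have h'' : ((n + 1 : ℕ) : ℕ∞) ≤ b := by
      push_cast
      exact Order.add_one_le_of_lt h'
    exact_mod_cast h''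

variable {X S : Scheme.{u}} (f : X ⟶ S) [LocallyOfFiniteType f]

/-- Local form of Chevalley's theorem: around a point with `fibreDimAt ≤ n` there is an open set
on which `fibreDimAt ≤ n`. -/
theorem exists_isOpen_fibreDimAt_le (n : ℕ) (x : X) (hx : FlatMor.fibreDimAt f x ≤ n) :
    ∃ W : Set X, IsOpen W ∧ x ∈ W ∧ ∀ x' ∈ W, FlatMor.fibreDimAt f x' ≤ n := by
  classical
  -- an affine open around `f x`
  obtain ⟨V, hV, hfxV, -⟩ := exists_isAffineOpen_mem_and_subset (x := f x) (U := ⊤) trivial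
  set z₀ : Spec Γ(S, V) := hV.primeIdealOf ⟨f x, hfxV⟩ with hz₀
  have hz₀x : hV.fromSpec z₀ = f x := hV.fromSpec_primeIdealOf ⟨f x, hfxV⟩
  -- the point of the fibre over `hV.fromSpec z₀` lying over `x`
  have hxr : x ∈ Set.range (f.fiberι (hV.fromSpec z₀)) := by
    rw [f.range_fiberι]
    exact hz₀x.symm
  obtain ⟨ζ₀, hζ₀⟩ := hxr
  have hloc : FlatMor.localDim ↥(f.fiber (hV.fromSpec z₀)) ζ₀ ≤ n := by
    rw [Groth.Agent.Lib.Helper55.localDim_fiber_eq_fibreDimAt, hζ₀]
    exact hx
  -- an open neighbourhood of `ζ₀` in the fibre of dimension `≤ n`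
  obtain ⟨Ω, hζΩ, hΩ⟩ : ∃ Ω : TopologicalSpace.Opens ↥(f.fiber (hV.fromSpec z₀)), ζ₀ ∈ Ω ∧
      topologicalKrullDim (Ω : Set ↥(f.fiber (hV.fromSpec z₀))) ≤ n := by
    by_contra hcon
    push Not at hcon
    have h1 : ((n + 1 : ℕ) : WithBot ℕ∞) ≤
        FlatMor.localDim ↥(f.fiber (hV.fromSpec z₀)) ζ₀ := by
      unfold FlatMor.localDim
      refine le_iInf fun U => ?_
      exact natCast_add_one_le_of_lt (hcon U.1 U.2)
    have h3 : ((n + 1 : ℕ) : WithBot ℕ∞) ≤ (n : WithBot ℕ∞) := h1.trans hloc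
    have h4 : n + 1 ≤ n := by exact_mod_cast h3
    omega
  -- `Ω` is the preimage of an open of `X`
  obtain ⟨W₀, hW₀, hW₀Ω⟩ := (f.fiberι (hV.fromSpec z₀)).isEmbedding.isInducing.isOpen_iff.mp Ω.2
  have hxW₀ : x ∈ W₀ := by
    have : ζ₀ ∈ (f.fiberι (hV.fromSpec z₀)) ⁻¹' W₀ := by rw [hW₀Ω]; exact hζΩ
    rw [← hζ₀]
    exact this
  -- an affine open around `x`
  obtain ⟨U, hU, hxU, hUle⟩ := exists_isAffineOpen_mem_and_subset (x := x)
    (U := (⟨W₀, hW₀⟩ : X.Opens) ⊓ f ⁻¹ᵁ V) ⟨hxW₀, hfxV⟩
  have e : U ≤ f ⁻¹ᵁ V := hUle.trans inf_le_right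
  have hUW₀ : (U : Set X) ⊆ W₀ := fun t ht => (hUle ht).1
  set φ := f.appLE V U e with hφ
  letI : Algebra Γ(S, V) Γ(X, U) := φ.hom.toAlgebra
  haveI hft : Algebra.FiniteType Γ(S, V) Γ(X, U) := f.finiteType_appLE hV hU e
  set x₀ : Spec Γ(X, U) := hU.primeIdealOf ⟨x, hxU⟩ with hx₀
  have hx₀x : hU.fromSpec x₀ = x := hU.fromSpec_primeIdealOf ⟨x, hxU⟩
  have hcomm : Spec.map φ ≫ hV.fromSpec = hU.fromSpec ≫ f :=
    IsAffineOpen.SpecMap_appLE_fromSpec f hV hU e
  have hφx₀ : Spec.map φ x₀ = z₀ := by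
    apply hV.fromSpec.isOpenEmbedding.injective
    have := congr(($hcomm) x₀)
    rw [Scheme.Hom.comp_apply, Scheme.Hom.comp_apply, hx₀x] at this
    rw [this, hz₀x]
  -- dimension of the fibre ring
  have hdim : ringKrullDim (z₀.asIdeal.Fiber Γ(X, U)) ≤ n := by
    have h1 := topologicalKrullDim_chart_eq f e z₀
    rw [← h1]
    set c := fiberChart f hV hU e z₀ with hc
    have hrange : Set.range c ⊆ (Ω : Set ↥(f.fiber (hV.fromSpec z₀))) := by
      rw [hc, range_fiberChart]
      intro t ht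
      have h2 : t ∈ (f.fiberι (hV.fromSpec z₀)) ⁻¹' W₀ := hUW₀ ht
      rw [hW₀Ω] at h2
      exact h2
    have hind : Topology.IsInducing
        (Set.codRestrict c (Ω : Set ↥(f.fiber (hV.fromSpec z₀))) fun t => hrange ⟨t, rfl⟩) :=
      c.isOpenEmbedding.isEmbedding.isInducing.codRestrict _
    exact hind.topologicalKrullDim_le.trans hΩ
  rw [← hφx₀] at hdim
  obtain ⟨W, hx₀W, hW⟩ := exists_opens_fibreDimAt_le_of_affine Γ(S, V) Γ(X, U) x₀ n hdim
  refine ⟨hU.fromSpec '' (W : Set (Spec Γ(X, U))), hU.fromSpec.isOpenEmbedding.isOpenMap _ W.2,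
    ⟨x₀, hx₀W, hx₀x⟩, ?_⟩
  rintro _ ⟨w, hw, rfl⟩
  rw [Groth.Agent.S7408.result f (Spec.map φ) hU.fromSpec hV.fromSpec hcomm w]
  exact hW w hw

/-- **Chevalley's upper semicontinuity of fibre dimension** (EGA IV 13.1.3). -/
theorem isOpen_fibreDimAt_le (n : ℕ) : IsOpen {x : X | FlatMor.fibreDimAt f x ≤ n} := by
  rw [isOpen_iff_forall_mem_open]
  intro x hx
  obtain ⟨W, hW, hxW, hWn⟩ := exists_isOpen_fibreDimAt_le f n x hx
  exact ⟨W, hWn, hW, hxW⟩

end Main

end Groth.Agent.Lib.Helper13.Chevalley
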