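/-
Helper library (helper13): Noether normalization of a fibre into affine space over the base
(EGA IV 13.3.1 preparation): dictionary between `𝔸(ULift (Fin e); Y)` for affine `Y` and
`Spec Γ(Y)[Fin e]`, invariance of fibre maps under isomorphisms, finiteness of the fibre map.
-/
import Mathlib
import Groth.Agent.Lib.Helper23.ConsIso
import Groth.Agent.Lib.Helper13.Chevalley

set_option autoImplicit false
universe u
open CategoryTheory CategoryTheory.Limits AlgebraicGeometry TensorProduct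

namespace Groth.Agent.Lib.Helper13.AffSpaceNorm
open Groth.Agent.Lib.Helper23

/-- Invariance of a property of fibre maps under isomorphism of the data. -/
theorem fibreMap_iff_of_iso (Q : MorphismProperty Scheme.{u}) [Q.RespectsIso]
    {X P Y T X' P' Y' T' : Scheme.{u}} (g : X ⟶ P) (π : P ⟶ Y) (β : T ⟶ Y)
    (g' : X' ⟶ P') (π' : P' ⟶ Y') (β' : T' ⟶ Y')
    (eX : X ≅ X') (eP : P ≅ P') (eY : Y ≅ Y') (eT : T ≅ T')
    (hg : g ≫ eP.hom = eX.hom ≫ g') (hπ : π ≫ eY.hom = eP.hom ≫ π')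
    (hβ : β ≫ eY.hom = eT.hom ≫ β') :
    Q (fibreMap g π β) ↔ Q (fibreMap g' π' β') := by
  have hY' : IsPullback (pullback.fst π β ≫ eP.hom) (pullback.snd π β ≫ eT.hom) π' β' :=
    IsPullback.of_iso (IsPullback.of_hasPullback π β) (Iso.refl _) eP eT eY
      (by simp) (by simp) hπ hβ
  have hX' : IsPullback (pullback.fst (g ≫ π) β ≫ eX.hom) (fibreMap g π β) g'
      (pullback.fst π β ≫ eP.hom) :=
    IsPullback.of_iso (isPullback_fibreMap_fst g π β) (Iso.refl _) eX (Iso.refl _) eP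
      (by simp) (by simp) hg (by simp)
  exact (fibreMap_iff_of_isPullback Q hY' hX').symm

section SpecModel

variable (A B : Type u) [CommRing A] [CommRing B] [Algebra A B]

/-- Spec-level: if `κ[X] → κ ⊗ B` is finite, then the fibre map of `Spec B → 𝔸^s_A` over
`Spec κ → Spec A` is finite. -/
theorem isFinite_fibreMap_SpecMap (κ : Type u) [Field κ] [Algebra A κ] {s : ℕ} (β : Fin s → B)
    (hfin : (Algebra.TensorProduct.map (AlgHom.id κ κ)
      (MvPolynomial.aeval β : MvPolynomial (Fin s) A →ₐ[A] B)).toRingHom.Finite) :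
    IsFinite (fibreMap
      (Spec.map (CommRingCat.ofHom (MvPolynomial.aeval β : MvPolynomial (Fin s) A →ₐ[A] B).toRingHom))
      (Spec.map (CommRingCat.ofHom (algebraMap A (MvPolynomial (Fin s) A))))
      (Spec.map (CommRingCat.ofHom (algebraMap A κ)))) := by
  classical
  set f := Spec.map (CommRingCat.ofHom (algebraMap A B)) with hf
  set P := MvPolynomial (Fin s) A with hP
  set ψ : P →ₐ[A] B := MvPolynomial.aeval β with hψ
  set h : Spec (.of B) ⟶ Spec (.of P) := Spec.map (CommRingCat.ofHom ψ.toRingHom) with hh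
  set π : Spec (.of P) ⟶ Spec (.of A) := Spec.map (CommRingCat.ofHom (algebraMap A P)) with hπ
  set ι : Spec (.of κ) ⟶ Spec (.of A) := Spec.map (CommRingCat.ofHom (algebraMap A κ)) with hι
  have hcomp : h ≫ π = f := by
    rw [hh, hπ, hf, ← Spec.map_comp, ← CommRingCat.ofHom_comp]
    congr 2
    exact ψ.comp_algebraMap
  let T := Algebra.TensorProduct.map (AlgHom.id κ κ) ψ
  let hp : pullback ι f ⟶ pullback ι π :=
    pullback.lift (pullback.fst ι f) (pullback.snd ι f ≫ h)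
      (by rw [Category.assoc, hcomp, pullback.condition])
  have hp1 : hp ≫ pullback.fst ι π = pullback.fst ι f := pullback.lift_fst _ _ _
  have hp2 : hp ≫ pullback.snd ι π = pullback.snd ι f ≫ h := pullback.lift_snd _ _ _
  have t : IsPullback (pullback.fst ι π) (pullback.snd ι π) ι π := IsPullback.of_hasPullback ι π
  have hsq : IsPullback (pullback.snd ι f) hp h (pullback.snd ι π) := by
    have s' : IsPullback (hp ≫ pullback.fst ι π) (pullback.snd ι f) ι (h ≫ π) := by
      rw [hp1, hcomp]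
      exact IsPullback.of_hasPullback ι f
    exact (IsPullback.of_right s' hp2 t).flip
  have hhp : hp = (pullbackSpecIso A κ B).hom ≫ Spec.map (CommRingCat.ofHom T.toRingHom) ≫
      (pullbackSpecIso A κ P).inv := by
    have e1 : (pullbackSpecIso A κ P).inv ≫ pullback.fst ι π =
        Spec.map (CommRingCat.ofHom Algebra.TensorProduct.includeLeftRingHom) :=
      pullbackSpecIso_inv_fst A κ P
    have e2 : (pullbackSpecIso A κ P).inv ≫ pullback.snd ι π =
        Spec.map (CommRingCat.ofHom (R := P) (S := κ ⊗[A] P)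
          (RingHomClass.toRingHom Algebra.TensorProduct.includeRight)) :=
      pullbackSpecIso_inv_snd A κ P
    have e3 : (pullbackSpecIso A κ B).hom ≫
        Spec.map (CommRingCat.ofHom Algebra.TensorProduct.includeLeftRingHom) =
        pullback.fst ι f := pullbackSpecIso_hom_fst A κ B
    have e4 : (pullbackSpecIso A κ B).hom ≫
        Spec.map (CommRingCat.ofHom (R := B) (S := κ ⊗[A] B)
          (RingHomClass.toRingHom Algebra.TensorProduct.includeRight)) =
        pullback.snd ι f := pullbackSpecIso_hom_snd A κ B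
    apply pullback.hom_ext
    · rw [hp1, Category.assoc, Category.assoc, e1, ← Spec.map_comp, ← CommRingCat.ofHom_comp]
      have : T.toRingHom.comp Algebra.TensorProduct.includeLeftRingHom =
          Algebra.TensorProduct.includeLeftRingHom := by
        ext c
        simp [T]
      rw [this, e3]
    · rw [hp2, Category.assoc, Category.assoc, e2, ← Spec.map_comp, ← CommRingCat.ofHom_comp]
      have : T.toRingHom.comp (RingHomClass.toRingHom
          (Algebra.TensorProduct.includeRight : P →ₐ[A] κ ⊗[A] P)) =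
          (RingHomClass.toRingHom (Algebra.TensorProduct.includeRight : B →ₐ[A] κ ⊗[A] B)).comp
            ψ.toRingHom := by
        refine RingHom.ext fun c => ?_
        show T ((1 : κ) ⊗ₜ[A] c) = (1 : κ) ⊗ₜ[A] ψ c
        simp [T]
      rw [this, CommRingCat.ofHom_comp, Spec.map_comp, ← Category.assoc, e4]
  haveI : IsFinite (Spec.map (CommRingCat.ofHom T.toRingHom)) := by
    rw [IsFinite.SpecMap_iff]
    exact hfin
  haveI : IsFinite hp := by
    rw [hhp]
    infer_instance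
  exact (fibreMap_iff_of_isPullback @IsFinite t.flip hsq).mpr inferInstance

end SpecModel

section Dict

variable {X Y : Scheme.{u}} [IsAffine Y] (e : ℕ)

/-- The renaming isomorphism `A[Fin e] ≃ A[ULift (Fin e)]`. -/
noncomputable def ρ (A : Type u) [CommRing A] :
    MvPolynomial (Fin e) A ≃ₐ[A] MvPolynomial (ULift.{u} (Fin e)) A :=
  MvPolynomial.renameEquiv A Equiv.ulift.symm

/-- `𝔸(ULift (Fin e); Y) ≅ Spec Γ(Y)[Fin e]` for affine `Y`. -/
noncomputable def affIso (Y : Scheme.{u}) [IsAffine Y] :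
    𝔸(ULift.{u} (Fin e); Y) ≅ Spec (.of (MvPolynomial (Fin e) Γ(Y, ⊤))) :=
  AffineSpace.isoOfIsAffine (ULift.{u} (Fin e)) Y ≪≫
    Scheme.Spec.mapIso (ρ e Γ(Y, ⊤)).toRingEquiv.toCommRingCatIso.op

theorem affIso_hom_comp (Y : Scheme.{u}) [IsAffine Y] :
    (affIso e Y).hom ≫ Spec.map (CommRingCat.ofHom (algebraMap Γ(Y, ⊤) (MvPolynomial (Fin e) Γ(Y, ⊤)))) =
      (𝔸(ULift.{u} (Fin e); Y) ↘ Y) ≫ Y.isoSpec.hom := by
  have h1 : (𝔸(ULift.{u} (Fin e); Y) ↘ Y) ≫ Y.isoSpec.hom =
      (AffineSpace.isoOfIsAffine (ULift.{u} (Fin e)) Y).hom ≫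
        Spec.map (CommRingCat.ofHom MvPolynomial.C) := by
    have := AffineSpace.isoOfIsAffine_inv_over (n := ULift.{u} (Fin e)) (S := Y)
    rw [Iso.inv_comp_eq] at this
    rw [this, Category.assoc, Category.assoc, Iso.inv_hom_id, Category.comp_id]
  rw [h1]
  simp only [affIso, Iso.trans_hom, Functor.mapIso_hom, Iso.op_hom, Scheme.Spec_map,
    Quiver.Hom.unop_op, Category.assoc]
  rw [← Spec.map_comp]
  congr 2
  ext a
  simp [ρ]

theorem homOfVector_affIso {X : Scheme.{u}} (Y : Scheme.{u}) [IsAffine Y] (f : X ⟶ Y)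
    (v : Fin e → Γ(X, ⊤)) :
    AffineSpace.homOfVector f (fun i : ULift.{u} (Fin e) => v i.down) ≫ (affIso e Y).hom =
      X.toSpecΓ ≫ Spec.map (CommRingCat.ofHom (MvPolynomial.eval₂Hom f.appTop.hom v)) := by
  simp only [affIso, Iso.trans_hom, Functor.mapIso_hom, Iso.op_hom, Scheme.Spec_map,
    Quiver.Hom.unop_op, AffineSpace.isoOfIsAffine_hom, Category.assoc]
  rw [Scheme.toSpecΓ_naturality_assoc, ← Spec.map_comp, ← Spec.map_comp]
  congr 2
  ext : 1
  apply MvPolynomial.ringHom_ext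
  · intro a
    simp only [CommRingCat.hom_comp, CommRingCat.hom_ofHom, RingHom.comp_apply]
    have h1 : (ρ e ↑Γ(Y, ⊤)).toRingEquiv.toCommRingCatIso.hom.hom (MvPolynomial.C a) =
        MvPolynomial.C a := by
      simp [ρ]
    rw [h1]
    simp only [MvPolynomial.coe_eval₂Hom, MvPolynomial.eval₂_C]
    rw [← CommRingCat.comp_apply, ← Scheme.Hom.comp_appTop, AffineSpace.homOfVector_over]
  · intro i
    simp only [CommRingCat.hom_comp, CommRingCat.hom_ofHom, RingHom.comp_apply]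
    have h1 : (ρ e ↑Γ(Y, ⊤)).toRingEquiv.toCommRingCatIso.hom.hom (MvPolynomial.X i) =
        MvPolynomial.X (ULift.up i) := by
      simp [ρ]
    rw [h1]
    simp only [MvPolynomial.coe_eval₂Hom, MvPolynomial.eval₂_X]
    exact AffineSpace.homOfVector_appTop_coord _ _ _

/-- The residue field point of an affine scheme, in the `Spec` model. -/
theorem exists_residueField_iso (Y : Scheme.{u}) [IsAffine Y] (y : Y) :
    ∃ eT : Spec (Y.residueField y) ≅ Spec (.of (Y.isoSpec.hom y).asIdeal.ResidueField),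
      Y.fromSpecResidueField y ≫ Y.isoSpec.hom =
        eT.hom ≫ Spec.map (CommRingCat.ofHom
          (algebraMap Γ(Y, ⊤) (Y.isoSpec.hom y).asIdeal.ResidueField)) := by
  have h1 := Scheme.Hom.SpecMap_residueFieldMap_fromSpecResidueField Y.isoSpec.hom y
  have h2 := Scheme.Spec.map_residueFieldIso_inv_eq_fromSpecResidueField Γ(Y, ⊤) (Y.isoSpec.hom y)
  refine ⟨asIso (Spec.map (Y.isoSpec.hom.residueFieldMap y)) ≪≫
    asIso (Spec.map (Scheme.Spec.residueFieldIso Γ(Y, ⊤) (Y.isoSpec.hom y)).inv), ?_⟩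
  simp only [Iso.trans_hom, asIso_hom, Category.assoc]
  rw [h2, h1]

end Dict

section Main

variable {X Y : Scheme.{u}} [IsAffine X] [IsAffine Y]

/-- Finiteness of the fibre map of `homOfVector f v : X ⟶ 𝔸^e_Y` over `y`, from the ring-level
finiteness of `κ[T] → κ ⊗ Γ(X)`. -/
theorem isFinite_pullback_snd_homOfVector (f : X ⟶ Y) (y : Y) {e : ℕ} (v : Fin e → Γ(X, ⊤))
    (hfin :
      letI : Algebra Γ(Y, ⊤) Γ(X, ⊤) := f.appTop.hom.toAlgebra
      (Algebra.TensorProduct.map
        (AlgHom.id (Y.isoSpec.hom y).asIdeal.ResidueField (Y.isoSpec.hom y).asIdeal.ResidueField)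
        (MvPolynomial.aeval v : MvPolynomial (Fin e) Γ(Y, ⊤) →ₐ[Γ(Y, ⊤)] Γ(X, ⊤))).toRingHom.Finite) :
    IsFinite (pullback.snd (AffineSpace.homOfVector f (fun i : ULift.{u} (Fin e) => v i.down))
      ((𝔸(ULift.{u} (Fin e); Y) ↘ Y).fiberι y)) := by
  letI : Algebra Γ(Y, ⊤) Γ(X, ⊤) := f.appTop.hom.toAlgebra
  set g := AffineSpace.homOfVector f (fun i : ULift.{u} (Fin e) => v i.down) with hg
  set π := (𝔸(ULift.{u} (Fin e); Y) ↘ Y) with hπ
  have hY : IsPullback (π.fiberι y) (π.fiberToSpecResidueField y) π (Y.fromSpecResidueField y) :=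
    IsPullback.of_hasPullback _ _
  have hX : IsPullback (pullback.fst g (π.fiberι y)) (pullback.snd g (π.fiberι y)) g (π.fiberι y) :=
    IsPullback.of_hasPullback _ _
  rw [← fibreMap_iff_of_isPullback @IsFinite hY hX]
  obtain ⟨eT, heT⟩ := exists_residueField_iso Y y
  rw [fibreMap_iff_of_iso @IsFinite g π (Y.fromSpecResidueField y)
    (Spec.map (CommRingCat.ofHom (MvPolynomial.aeval v :
      MvPolynomial (Fin e) Γ(Y, ⊤) →ₐ[Γ(Y, ⊤)] Γ(X, ⊤)).toRingHom))
    (Spec.map (CommRingCat.ofHom (algebraMap Γ(Y, ⊤) (MvPolynomial (Fin e) Γ(Y, ⊤)))))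
    (Spec.map (CommRingCat.ofHom (algebraMap Γ(Y, ⊤) (Y.isoSpec.hom y).asIdeal.ResidueField)))
    X.isoSpec (affIso e Y) Y.isoSpec eT ?_ ?_ heT]
  · exact isFinite_fibreMap_SpecMap Γ(Y, ⊤) Γ(X, ⊤) _ v hfin
  · rw [hg, homOfVector_affIso]
    rfl
  · rw [hπ, affIso_hom_comp]

end Main

section Dim

variable {X Y : Scheme.{u}} [IsAffine X] [IsAffine Y]

theorem isoSpec_naturality (f : X ⟶ Y) :
    f ≫ Y.isoSpec.hom = X.isoSpec.hom ≫ Spec.map f.appTop :=
  Scheme.toSpecΓ_naturality f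

/-- The fibre of a morphism of affine schemes is the fibre of the `Spec` model. -/
noncomputable def fiberIsoSpec (f : X ⟶ Y) (y : Y) :
    f.fiber y ≅ (Spec.map f.appTop).fiber (Y.isoSpec.hom y) :=
  haveI : IsIso (Spec.map (Y.isoSpec.hom.residueFieldMap y)) := inferInstance
  haveI : IsIso X.isoSpec.hom := inferInstance
  haveI : IsIso Y.isoSpec.hom := inferInstance
  @asIso _ _ _ _ (pullback.map f (Y.fromSpecResidueField y) (Spec.map f.appTop)
    ((Spec Γ(Y, ⊤)).fromSpecResidueField (Y.isoSpec.hom y))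
    X.isoSpec.hom (Spec.map (Y.isoSpec.hom.residueFieldMap y)) Y.isoSpec.hom
    (isoSpec_naturality f)
    (Scheme.Hom.SpecMap_residueFieldMap_fromSpecResidueField Y.isoSpec.hom y).symm)
    (pullback.map_isIso _ _ _ _ _ _ _ _ _)

theorem topologicalKrullDim_fiber_eq (f : X ⟶ Y) (y : Y) :
    letI : Algebra Γ(Y, ⊤) Γ(X, ⊤) := f.appTop.hom.toAlgebra
    topologicalKrullDim ↥(f.fiber y) =
      ringKrullDim ((Y.isoSpec.hom y).asIdeal.Fiber Γ(X, ⊤)) := by
  letI : Algebra Γ(Y, ⊤) Γ(X, ⊤) := f.appTop.hom.toAlgebra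
  have h1 := Groth.Agent.Lib.Helper13.Chevalley.topologicalKrullDim_fiber_SpecMap
    Γ(Y, ⊤) Γ(X, ⊤) (Y.isoSpec.hom y)
  rw [← h1]
  exact IsHomeomorph.topologicalKrullDim_eq _
    (Scheme.homeoOfIso (fiberIsoSpec f y)).isHomeomorph

theorem finiteType_appTop (f : X ⟶ Y) [LocallyOfFiniteType f] :
    letI : Algebra Γ(Y, ⊤) Γ(X, ⊤) := f.appTop.hom.toAlgebra
    Algebra.FiniteType Γ(Y, ⊤) Γ(X, ⊤) := by
  letI : Algebra Γ(Y, ⊤) Γ(X, ⊤) := f.appTop.hom.toAlgebra
  have h := (HasRingHomProperty.iff_of_isAffine (P := @LocallyOfFiniteType) (f := f)).mp inferInstance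
  exact h

theorem nontrivial_fiber_of_mem_range (f : X ⟶ Y) (y : Y) (hy : y ∈ Set.range f.base) :
    letI : Algebra Γ(Y, ⊤) Γ(X, ⊤) := f.appTop.hom.toAlgebra
    Nontrivial ((Y.isoSpec.hom y).asIdeal.Fiber Γ(X, ⊤)) := by
  letI : Algebra Γ(Y, ⊤) Γ(X, ⊤) := f.appTop.hom.toAlgebra
  obtain ⟨x, rfl⟩ := hy
  have h1 : (Spec.map f.appTop) (X.isoSpec.hom x) = Y.isoSpec.hom (f x) := by
    rw [← Scheme.Hom.comp_apply, ← isoSpec_naturality, Scheme.Hom.comp_apply]
  have q : PrimeSpectrum ((Y.isoSpec.hom (f x)).asIdeal.Fiber Γ(X, ⊤)) :=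
    PrimeSpectrum.preimageEquivFiber Γ(Y, ⊤) Γ(X, ⊤) (Y.isoSpec.hom (f x)) ⟨X.isoSpec.hom x, h1⟩
  exact PrimeSpectrum.nonempty_iff_nontrivial.mp ⟨q⟩

/-- **EGA IV 13.3.1.1**: Noether normalization of a fibre into affine space over the base. -/
theorem exists_toAffineSpace_finite_on_fibre (f : X ⟶ Y) [LocallyOfFiniteType f] (y : Y)
    (hy : y ∈ Set.range f.base) (e : ℕ) (he : topologicalKrullDim ↥(f.fiber y) = e) :
    ∃ g : X ⟶ 𝔸(ULift.{u} (Fin e); Y), g ≫ (𝔸(ULift.{u} (Fin e); Y) ↘ Y) = f ∧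
      IsFinite (pullback.snd g ((𝔸(ULift.{u} (Fin e); Y) ↘ Y).fiberι y)) := by
  letI : Algebra Γ(Y, ⊤) Γ(X, ⊤) := f.appTop.hom.toAlgebra
  haveI := finiteType_appTop f
  haveI := nontrivial_fiber_of_mem_range f y hy
  obtain ⟨s, β, hs, hfin⟩ := ChevalleyRing.exists_aeval_finite (A := Γ(Y, ⊤)) (B := Γ(X, ⊤))
    (Y.isoSpec.hom y).asIdeal
  have hse : s = e := by
    have h1 := topologicalKrullDim_fiber_eq f y
    rw [he, hs] at h1
    exact_mod_cast h1.symm
  subst hse
  exact ⟨AffineSpace.homOfVector f (fun i : ULift.{u} (Fin s) => β i.down),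
    AffineSpace.homOfVector_over _ _, isFinite_pullback_snd_homOfVector f y β hfin⟩

end Dim

end Groth.Agent.Lib.Helper13.AffSpaceNorm
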