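/-
Helper library (helper13): the fibre map of `X ⟶ 𝔸^e_Y` over a point, in the `Spec` model, for an
arbitrary isomorphism-invariant property; surjectivity of the finite fibre map and the
quasi-finite neighbourhood (EGA IV 13.3.1.1, second half).
-/
import Mathlib
import Groth.Agent.Lib.Helper13.AffSpaceNorm

set_option autoImplicit false
universe u
open CategoryTheory CategoryTheory.Limits AlgebraicGeometry TensorProduct

namespace Groth.Agent.Lib.Helper13.AffSpaceNorm
open Groth.Agent.Lib.Helper23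

section SpecModel

variable (A B : Type u) [CommRing A] [CommRing B] [Algebra A B]

/-- Spec-level: the fibre map of `Spec B → 𝔸^s_A` over `Spec κ → Spec A` is, up to isomorphism,
`Spec` of `κ ⊗ A[X] → κ ⊗ B`. -/
theorem fibreMap_SpecMap_iff (Q : MorphismProperty Scheme.{u}) [Q.RespectsIso]
    (κ : Type u) [Field κ] [Algebra A κ] {s : ℕ} (β : Fin s → B) :
    Q (fibreMap
      (Spec.map (CommRingCat.ofHom (MvPolynomial.aeval β : MvPolynomial (Fin s) A →ₐ[A] B).toRingHom))
      (Spec.map (CommRingCat.ofHom (algebraMap A (MvPolynomial (Fin s) A))))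
      (Spec.map (CommRingCat.ofHom (algebraMap A κ)))) ↔
    Q (Spec.map (CommRingCat.ofHom (Algebra.TensorProduct.map (AlgHom.id κ κ)
      (MvPolynomial.aeval β : MvPolynomial (Fin s) A →ₐ[A] B)).toRingHom)) := by
  classical
  set f := Spec.map (CommRingCat.ofHom (algebraMap A B)) with hf
  set P := MvPolynomial (Fin s) A with hP
  set ψ : P →ₐ[A] B := MvPolynomial.aeval β with hψ
  set h : Spec (.of B) ⟶ Spec (.of P) := Spec.map (CommRingCat.ofHom ψ.toRingHom) with hh
  set π : Spec (.of P) ⟶ Spec (.of A) := Spec.map (CommRingCat.ofHom (algebraMap A P)) with hπ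
  set ι : Spec (.of κ) ⟶ Spec (.of A) := Spec.map (CommRingCat.ofHom (algebraMap A κ)) with hι
  have hcomp : h ≫ π = f := by
    rw [hh, hπ, hf, ← Spec.map_comp, ← CommRingCat.ofHom_comp]
    congr 2
    exact ψ.comp_algebraMap
  let T := Algebra.TensorProduct.map (AlgHom.id κ κ) ψ
  let hp : pullback ι f ⟶ pullback ι π :=
    pullback.lift (pullback.fst ι f) (pullback.snd ι f ≫ h)
      (by rw [Category.assoc, hcomp, pullback.condition])
  have hp1 : hp ≫ pullback.fst ι π = pullback.fst ι f := pullback.lift_fst _ _ _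
  have hp2 : hp ≫ pullback.snd ι π = pullback.snd ι f ≫ h := pullback.lift_snd _ _ _
  have t : IsPullback (pullback.fst ι π) (pullback.snd ι π) ι π := IsPullback.of_hasPullback ι π
  have hsq : IsPullback (pullback.snd ι f) hp h (pullback.snd ι π) := by
    have s' : IsPullback (hp ≫ pullback.fst ι π) (pullback.snd ι f) ι (h ≫ π) := by
      rw [hp1, hcomp]
      exact IsPullback.of_hasPullback ι f
    exact (IsPullback.of_right s' hp2 t).flip
  have hhp : hp = (pullbackSpecIso A κ B).hom ≫ Spec.map (CommRingCat.ofHom T.toRingHom) ≫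
      (pullbackSpecIso A κ P).inv := by
    have e1 : (pullbackSpecIso A κ P).inv ≫ pullback.fst ι π =
        Spec.map (CommRingCat.ofHom Algebra.TensorProduct.includeLeftRingHom) :=
      pullbackSpecIso_inv_fst A κ P
    have e2 : (pullbackSpecIso A κ P).inv ≫ pullback.snd ι π =
        Spec.map (CommRingCat.ofHom (R := P) (S := κ ⊗[A] P)
          (RingHomClass.toRingHom Algebra.TensorProduct.includeRight)) :=
      pullbackSpecIso_inv_snd A κ P
    have e3 : (pullbackSpecIso A κ B).hom ≫
        Spec.map (CommRingCat.ofHom Algebra.TensorProduct.includeLeftRingHom) =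
        pullback.fst ι f := pullbackSpecIso_hom_fst A κ B
    have e4 : (pullbackSpecIso A κ B).hom ≫
        Spec.map (CommRingCat.ofHom (R := B) (S := κ ⊗[A] B)
          (RingHomClass.toRingHom Algebra.TensorProduct.includeRight)) =
        pullback.snd ι f := pullbackSpecIso_hom_snd A κ B
    apply pullback.hom_ext
    · rw [hp1, Category.assoc, Category.assoc, e1, ← Spec.map_comp, ← CommRingCat.ofHom_comp]
      have : T.toRingHom.comp Algebra.TensorProduct.includeLeftRingHom =
          Algebra.TensorProduct.includeLeftRingHom := by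
        ext c
        simp [T]
      rw [this, e3]
    · rw [hp2, Category.assoc, Category.assoc, e2, ← Spec.map_comp, ← CommRingCat.ofHom_comp]
      have : T.toRingHom.comp (RingHomClass.toRingHom
          (Algebra.TensorProduct.includeRight : P →ₐ[A] κ ⊗[A] P)) =
          (RingHomClass.toRingHom (Algebra.TensorProduct.includeRight : B →ₐ[A] κ ⊗[A] B)).comp
            ψ.toRingHom := by
        refine RingHom.ext fun c => ?_
        show T ((1 : κ) ⊗ₜ[A] c) = (1 : κ) ⊗ₜ[A] ψ c
        simp [T]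
      rw [this, CommRingCat.ofHom_comp, Spec.map_comp, ← Category.assoc, e4]
  rw [fibreMap_iff_of_isPullback Q t.flip hsq, hhp, Q.cancel_left_of_respectsIso,
    Q.cancel_right_of_respectsIso]

end SpecModel

section Main

variable {X Y : Scheme.{u}} [IsAffine X] [IsAffine Y]

/-- The fibre map of `homOfVector f v : X ⟶ 𝔸^e_Y` over `y` is, up to isomorphism,
`Spec (κ[T] → κ ⊗ Γ(X))`. -/
theorem pullback_snd_homOfVector_iff (Q : MorphismProperty Scheme.{u}) [Q.RespectsIso]
    (f : X ⟶ Y) (y : Y) {e : ℕ} (v : Fin e → Γ(X, ⊤)) :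
    letI : Algebra Γ(Y, ⊤) Γ(X, ⊤) := f.appTop.hom.toAlgebra
    Q (pullback.snd (AffineSpace.homOfVector f (fun i : ULift.{u} (Fin e) => v i.down))
      ((𝔸(ULift.{u} (Fin e); Y) ↘ Y).fiberι y)) ↔
    Q (Spec.map (CommRingCat.ofHom (Algebra.TensorProduct.map
        (AlgHom.id (Y.isoSpec.hom y).asIdeal.ResidueField (Y.isoSpec.hom y).asIdeal.ResidueField)
        (MvPolynomial.aeval v : MvPolynomial (Fin e) Γ(Y, ⊤) →ₐ[Γ(Y, ⊤)] Γ(X, ⊤))).toRingHom)) := by
  letI : Algebra Γ(Y, ⊤) Γ(X, ⊤) := f.appTop.hom.toAlgebra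
  set g := AffineSpace.homOfVector f (fun i : ULift.{u} (Fin e) => v i.down) with hg
  set π := (𝔸(ULift.{u} (Fin e); Y) ↘ Y) with hπ
  have hY : IsPullback (π.fiberι y) (π.fiberToSpecResidueField y) π (Y.fromSpecResidueField y) :=
    IsPullback.of_hasPullback _ _
  have hX : IsPullback (pullback.fst g (π.fiberι y)) (pullback.snd g (π.fiberι y)) g (π.fiberι y) :=
    IsPullback.of_hasPullback _ _
  rw [← fibreMap_iff_of_isPullback Q hY hX]
  obtain ⟨eT, heT⟩ := exists_residueField_iso Y y
  rw [fibreMap_iff_of_iso Q g π (Y.fromSpecResidueField y)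
    (Spec.map (CommRingCat.ofHom (MvPolynomial.aeval v :
      MvPolynomial (Fin e) Γ(Y, ⊤) →ₐ[Γ(Y, ⊤)] Γ(X, ⊤)).toRingHom))
    (Spec.map (CommRingCat.ofHom (algebraMap Γ(Y, ⊤) (MvPolynomial (Fin e) Γ(Y, ⊤)))))
    (Spec.map (CommRingCat.ofHom (algebraMap Γ(Y, ⊤) (Y.isoSpec.hom y).asIdeal.ResidueField)))
    X.isoSpec (affIso e Y) Y.isoSpec eT ?_ ?_ heT]
  · exact fibreMap_SpecMap_iff Γ(Y, ⊤) Γ(X, ⊤) Q _ v
  · rw [hg, homOfVector_affIso]
    rfl
  · rw [hπ, affIso_hom_comp]

/-- Every `Y`-morphism to affine space is given by its coordinates. -/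
theorem eq_homOfVector (f : X ⟶ Y) {e : ℕ} (g : X ⟶ 𝔸(ULift.{u} (Fin e); Y))
    (hg : g ≫ (𝔸(ULift.{u} (Fin e); Y) ↘ Y) = f) :
    g = AffineSpace.homOfVector f (fun i : ULift.{u} (Fin e) =>
      (fun j : Fin e => g.appTop (AffineSpace.coord Y (ULift.up j))) i.down) := by
  apply AffineSpace.hom_ext
  · rw [hg, AffineSpace.homOfVector_over]
  · intro i
    rw [AffineSpace.homOfVector_appTop_coord]

end Main

end Groth.Agent.Lib.Helper13.AffSpaceNorm
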