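import Mathlib
import Groth.Agent.Lib.Helper13.AffSpaceNorm2

set_option autoImplicit false
universe u
open CategoryTheory CategoryTheory.Limits AlgebraicGeometry TensorProduct

namespace Groth.Agent.Lib.Helper13.AffSpaceNorm

section Ring

/-- An integral map out of a domain of finite dimension `e` into a ring of the same dimension is
injective. -/
theorem injective_of_isIntegral_of_ringKrullDim_eq {R R' : Type*} [CommRing R] [IsDomain R]
    [CommRing R'] (φ : R →+* R') (hφ : φ.IsIntegral) (e : ℕ) (hR : ringKrullDim R = e)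
    (hR' : ringKrullDim R' = e) : Function.Injective φ := by
  rw [injective_iff_map_eq_zero]
  intro r hr
  by_contra hr0
  have hnzd : r ∈ nonZeroDivisors R := mem_nonZeroDivisors_of_ne_zero hr0
  have h1 := ringKrullDim_succ_le_of_surjective (Ideal.Quotient.mk (RingHom.ker φ))
    Ideal.Quotient.mk_surjective hnzd (by
      rw [Ideal.Quotient.eq_zero_iff_mem]; exact hr)
  have h2 : ringKrullDim R' = ringKrullDim (R ⧸ RingHom.ker φ) :=
    Groth.Agent.Lib.Helper55.ringKrullDim_eq_of_ringHom_isIntegral_of_injective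
      (RingHom.kerLift φ) (by
        intro x
        obtain ⟨p, hp, hpx⟩ := hφ x
        refine ⟨p.map (Ideal.Quotient.mk (RingHom.ker φ)), hp.map _, ?_⟩
        rw [Polynomial.eval₂_map]
        convert hpx using 2
        ext a
        simp) (RingHom.kerLift_injective φ)
  rw [← h2, hR', hR] at h1
  have h3 : ((e : ℕ∞) : WithBot ℕ∞) + 1 ≤ ((e : ℕ∞) : WithBot ℕ∞) := h1
  have h4 : ((e + 1 : ℕ) : WithBot ℕ∞) ≤ ((e : ℕ) : WithBot ℕ∞) := by
    push_cast
    exact h3
  have h5 : e + 1 ≤ e := by exact_mod_cast h4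
  omega

/-- A finite map `κ ⊗ A[X_1..X_e] → R'` into a ring of dimension `e` is surjective on spectra. -/
theorem comap_surjective_of_finite_of_ringKrullDim_eq (A : Type u) [CommRing A] (κ : Type u)
    [Field κ] [Algebra A κ] {R' : Type u} [CommRing R'] (e : ℕ)
    (T : κ ⊗[A] MvPolynomial (Fin e) A →+* R') (hT : T.Finite) (hR' : ringKrullDim R' = e) :
    Function.Surjective (PrimeSpectrum.comap T) := by
  let ε := MvPolynomial.algebraTensorAlgEquiv (σ := Fin e) A κ
  haveI : IsDomain (κ ⊗[A] MvPolynomial (Fin e) A) := ε.toMulEquiv.isDomain _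
  have hdim : ringKrullDim (κ ⊗[A] MvPolynomial (Fin e) A) = e := by
    rw [ringKrullDim_eq_of_ringEquiv ε.toRingEquiv, MvPolynomial.ringKrullDim_of_isNoetherianRing,
      ringKrullDim_eq_zero_of_field, zero_add]
    simp
  have hint : T.IsIntegral := RingHom.IsIntegral.of_finite hT
  exact hint.comap_surjective
    (injective_of_isIntegral_of_ringKrullDim_eq T hint e hdim hR')

end Ring

section Main2

variable {X Y : Scheme.{u}} [IsAffine X] [IsAffine Y]

/-- **EGA IV 13.3.1.1, second half.** -/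
theorem surjective_fibre_and_quasiFinite_nhd (f : X ⟶ Y) [LocallyOfFiniteType f] (y : Y)
    (e : ℕ) (he : topologicalKrullDim ↥(f.fiber y) = e)
    (g : X ⟶ 𝔸(ULift.{u} (Fin e); Y)) (hg : g ≫ (𝔸(ULift.{u} (Fin e); Y) ↘ Y) = f)
    (hfin : IsFinite (pullback.snd g ((𝔸(ULift.{u} (Fin e); Y) ↘ Y).fiberι y))) :
    Function.Surjective (pullback.snd g ((𝔸(ULift.{u} (Fin e); Y) ↘ Y).fiberι y)).base ∧
      ∃ U : X.Opens, f.base ⁻¹' {y} ⊆ (U : Set X) ∧ LocallyQuasiFinite (U.ι ≫ g) := by
  letI : Algebra Γ(Y, ⊤) Γ(X, ⊤) := f.appTop.hom.toAlgebra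
  constructor
  · have hgv := eq_homOfVector f g hg
    set v : Fin e → Γ(X, ⊤) := fun j => g.appTop (AffineSpace.coord Y (ULift.up j)) with hv
    have key : ∀ g' : X ⟶ 𝔸(ULift.{u} (Fin e); Y), g' = g →
        IsFinite (pullback.snd g' ((𝔸(ULift.{u} (Fin e); Y) ↘ Y).fiberι y)) ∧
        (Surjective (pullback.snd g' ((𝔸(ULift.{u} (Fin e); Y) ↘ Y).fiberι y)) →
          Surjective (pullback.snd g ((𝔸(ULift.{u} (Fin e); Y) ↘ Y).fiberι y))) := by
      rintro g' rfl
      exact ⟨hfin, id⟩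
    obtain ⟨h1, h2⟩ := key _ hgv.symm
    have h3 := (h2 ?_).surj
    · exact h3
    rw [pullback_snd_homOfVector_iff @IsFinite f y v, IsFinite.SpecMap_iff] at h1
    rw [pullback_snd_homOfVector_iff @Surjective f y v]
    have hdim : ringKrullDim ((Y.isoSpec.hom y).asIdeal.Fiber Γ(X, ⊤)) = e := by
      rw [← topologicalKrullDim_fiber_eq f y, he]
    refine ⟨?_⟩
    exact comap_surjective_of_finite_of_ringKrullDim_eq Γ(Y, ⊤)
      (Y.isoSpec.hom y).asIdeal.ResidueField e _ h1 hdim
  · haveI : LocallyOfFiniteType (g ≫ (𝔸(ULift.{u} (Fin e); Y) ↘ Y)) := hg ▸ inferInstance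
    haveI : LocallyOfFiniteType g := locallyOfFiniteType_of_comp g (𝔸(ULift.{u} (Fin e); Y) ↘ Y)
    refine ⟨g.quasiFiniteLocus, ?_, inferInstance⟩
    intro x hx
    have hx' : f x = y := hx
    change g.QuasiFiniteAt x
    rw [Chevalley.quasiFiniteAt_iff_fibreDimAt_eq_zero]
    set π := (𝔸(ULift.{u} (Fin e); Y) ↘ Y) with hπ
    have hz : g x ∈ Set.range (π.fiberι y) := by
      rw [π.range_fiberι y]
      change π (g x) = y
      rw [← Scheme.Hom.comp_apply, hg, hx']
    obtain ⟨z, hz⟩ := hz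
    obtain ⟨w, hw1, hw2⟩ := Scheme.Pullback.exists_preimage_pullback x z hz.symm
    have key := Groth.Agent.Lib.Helper55.fibreDimAt_eq_of_isPullback g (π.fiberι y)
      (pullback.fst g (π.fiberι y)) (pullback.snd g (π.fiberι y))
      (IsPullback.of_hasPullback _ _) w
    rw [hw1] at key
    rw [← key]
    exact Groth.Agent.H52.fibreDimAt_eq_zero_of_locallyQuasiFinite _ w

end Main2

end Groth.Agent.Lib.Helper13.AffSpaceNorm
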