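import Mathlib
import Groth.Agent.Lib.Helper13.AffSpaceNorm3
import Groth.Agent.Lib.Helper55.ChevalleySemicont
import Groth.Agent.Lib.Helper29.TopDim
import Groth.Agent.S7408

set_option autoImplicit false
universe u
open CategoryTheory CategoryTheory.Limits AlgebraicGeometry TensorProduct

namespace Groth.Agent.Lib.Helper13.AffSpaceNorm

section QF

variable {X S : Scheme.{u}} (f : X ⟶ S) [LocallyOfFiniteType f]

/-- Around a point with local fibre dimension `d`, there is an affine open `U₀` mapping into a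
given affine open `V` such that the fibre of `U₀ → V` has dimension exactly `d`. -/
theorem exists_affine_fibre_dim_eq (x : X) (V : S.Opens) (hxV : f x ∈ V) (d : ℕ)
    (hd : FlatMor.fibreDimAt f x = d) :
    ∃ (U₀ : X.Opens) (_ : IsAffineOpen U₀) (hxU₀ : x ∈ U₀) (e₀ : U₀ ≤ f ⁻¹ᵁ V),
      topologicalKrullDim ↥((f.resLE V U₀ e₀).fiber ⟨f x, hxV⟩) = d := by
  obtain ⟨N, hxN, hN⟩ := Groth.Agent.Lib.Helper55.exists_open_fibre_dim_le f x d hd.le
  obtain ⟨U₀, hU₀, hxU₀, hU₀le⟩ := exists_isAffineOpen_mem_and_subset (x := x)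
    (U := N ⊓ f ⁻¹ᵁ V) ⟨hxN, hxV⟩
  have e₀ : U₀ ≤ f ⁻¹ᵁ V := hU₀le.trans inf_le_right
  refine ⟨U₀, hU₀, hxU₀, e₀, le_antisymm ?_ ?_⟩
  · -- upper bound
    set f₀ := f.resLE V U₀ e₀ with hf₀
    set y : V.toScheme := ⟨f x, hxV⟩ with hy
    have hcomp : f₀ ≫ V.ι = U₀.ι ≫ f := Scheme.Hom.resLE_comp_ι f e₀
    let c : ↥(f₀.fiber y) → X := fun t => U₀.ι (f₀.fiberι y t)
    have hc : Topology.IsEmbedding c :=
      U₀.ι.isEmbedding.comp (f₀.fiberι y).isEmbedding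
    have hrange : ∀ t, c t ∈ (N : Set X) ∩ f ⁻¹' {f x} := by
      intro t
      refine ⟨(hU₀le (show U₀.ι (f₀.fiberι y t) ∈ U₀ from (f₀.fiberι y t).2)).1, ?_⟩
      · have h1 : f₀ (f₀.fiberι y t) = y := by
          have := f₀.range_fiberι y
          have h2 : f₀.fiberι y t ∈ Set.range (f₀.fiberι y) := ⟨t, rfl⟩
          rw [this] at h2
          exact h2
        have h3 := congr(($hcomp) (f₀.fiberι y t))
        rw [Scheme.Hom.comp_apply, Scheme.Hom.comp_apply, h1] at h3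
        change f (c t) = f x
        rw [← h3]
        rfl
    have hind : Topology.IsInducing (Set.codRestrict c _ hrange) :=
      hc.isInducing.codRestrict _
    exact hind.topologicalKrullDim_le.trans hN
  · set f₀ := f.resLE V U₀ e₀ with hf₀
    have hcomp : f₀ ≫ V.ι = U₀.ι ≫ f := Scheme.Hom.resLE_comp_ι f e₀
    have h1 := Groth.Agent.S7408.result f f₀ U₀.ι V.ι hcomp ⟨x, hxU₀⟩
    have h2 : U₀.ι ⟨x, hxU₀⟩ = x := rfl
    rw [h2, hd] at h1
    rw [h1]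
    have h3 : f₀ ⟨x, hxU₀⟩ = ⟨f x, hxV⟩ := by
      apply V.ι.isOpenEmbedding.injective
      have h3 := congr(($hcomp) ⟨x, hxU₀⟩)
      rw [Scheme.Hom.comp_apply, Scheme.Hom.comp_apply] at h3
      exact h3
    unfold FlatMor.fibreDimAt
    rw [← h3]
    exact Groth.Agent.Lib.Helper29.localDim_le_topologicalKrullDim _

/-- **Local quasi-finite factorisation through affine space** (EGA IV 13.3.1 (b)). -/
theorem exists_quasiFinite_toAffineSpace (x : X) (V : S.Opens) (hV : IsAffineOpen V)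
    (hxV : f x ∈ V) (d : ℕ) (hd : FlatMor.fibreDimAt f x = d) :
    ∃ (U : X.Opens), IsAffineOpen U ∧ x ∈ U ∧
      ∃ (g : (U : Scheme.{u}) ⟶ (V : Scheme.{u}))
        (π : (U : Scheme.{u}) ⟶ 𝔸(ULift.{u} (Fin d); (V : Scheme.{u}))),
        g ≫ V.ι = U.ι ≫ f ∧
          π ≫ (𝔸(ULift.{u} (Fin d); (V : Scheme.{u})) ↘ (V : Scheme.{u})) = g ∧
          LocallyQuasiFinite π ∧ LocallyOfFiniteType π := by
  obtain ⟨U₀, hU₀, hxU₀, e₀, hdim⟩ := exists_affine_fibre_dim_eq f x V hxV d hd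
  set f₀ := f.resLE V U₀ e₀ with hf₀
  have hcomp : f₀ ≫ V.ι = U₀.ι ≫ f := Scheme.Hom.resLE_comp_ι f e₀
  haveI : IsAffine U₀.toScheme := hU₀
  haveI : IsAffine V.toScheme := hV
  haveI hlft₀ : LocallyOfFiniteType f₀ := by
    haveI : LocallyOfFiniteType (f₀ ≫ V.ι) := by rw [hcomp]; infer_instance
    exact locallyOfFiniteType_of_comp f₀ V.ι
  set y : V.toScheme := ⟨f x, hxV⟩ with hy
  set x' : U₀.toScheme := ⟨x, hxU₀⟩ with hx'
  have hfx' : f₀ x' = y := by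
    apply V.ι.isOpenEmbedding.injective
    have h3 := congr(($hcomp) x')
    rw [Scheme.Hom.comp_apply, Scheme.Hom.comp_apply] at h3
    exact h3
  obtain ⟨g, hg, hfin⟩ := exists_toAffineSpace_finite_on_fibre f₀ y ⟨x', hfx'⟩ d hdim
  obtain ⟨-, U₁, hU₁, hqf⟩ := surjective_fibre_and_quasiFinite_nhd f₀ y d hdim g hg hfin
  have hx'U₁ : x' ∈ U₁ := hU₁ hfx'
  obtain ⟨U₂, hU₂, hx'U₂, hU₂le⟩ := exists_isAffineOpen_mem_and_subset (x := x')
    (U := U₁) hx'U₁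
  refine ⟨U₀.ι ''ᵁ U₂, hU₂.image_of_isOpenImmersion U₀.ι, ⟨x', hx'U₂, rfl⟩, ?_⟩
  set iso := U₀.ι.isoImage U₂ with hiso
  have hisoι : iso.hom ≫ (U₀.ι ''ᵁ U₂).ι = U₂.ι ≫ U₀.ι := Scheme.Hom.isoImage_hom_ι U₀.ι U₂
  have hinvι : iso.inv ≫ U₂.ι ≫ U₀.ι = (U₀.ι ''ᵁ U₂).ι := by
    rw [← hisoι, Iso.inv_hom_id_assoc]
  refine ⟨iso.inv ≫ U₂.ι ≫ f₀, iso.inv ≫ U₂.ι ≫ g, ?_, ?_, ?_, ?_⟩
  · rw [Category.assoc, Category.assoc, hcomp, ← hinvι]
    simp only [Category.assoc]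
  · rw [Category.assoc, Category.assoc, hg]
  · have h1 : U₂.ι ≫ g = U₀.toScheme.homOfLE hU₂le ≫ U₁.ι ≫ g := by
      rw [← Category.assoc, Scheme.homOfLE_ι]
    rw [h1]
    infer_instance
  · haveI : LocallyOfFiniteType ((iso.inv ≫ U₂.ι ≫ g) ≫
        (𝔸(ULift.{u} (Fin d); (V : Scheme.{u})) ↘ (V : Scheme.{u}))) := by
      rw [Category.assoc, Category.assoc, hg]
      infer_instance
    exact locallyOfFiniteType_of_comp _
      (𝔸(ULift.{u} (Fin d); (V : Scheme.{u})) ↘ (V : Scheme.{u}))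

end QF

end Groth.Agent.Lib.Helper13.AffSpaceNorm
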