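/-
Helper library (helper13): Cohen–Macaulay morphisms and flat quasi-finite charts to affine space
(EGA IV 15.4.1–15.4.3 for morphisms locally of finite presentation).
-/
import Groth.Agent.S2595
import Groth.Agent.S1342
import Groth.Agent.S9766
import Groth.Agent.S9767
import Groth.Agent.H76.LimFppfCover
import Groth.Agent.Lib.Helper23.NoethApprox
import Groth.Agent.Lib.Helper73.CMFibre1
import Groth.Agent.Lib.Helper55.FiberBaseChange

set_option autoImplicit false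
open CategoryTheory AlgebraicGeometry Limits
universe u

namespace Groth.Agent.Lib.Helper13.CMChart

open Groth.Agent.Lib.Helper55 Groth.Agent.Lib.Helper13.EquidimAffSpace
  Groth.Agent.Lib.Helper13.AffSpaceNorm Groth.Agent.Lib.Helper13.MiracleLQF Topology
  Groth.Agent.S2595

/-- Flatness of stalk maps is insensitive to postcomposition with an open immersion. -/
theorem flat_stalkMap_comp_openImmersion_right_iff {A B C : Scheme.{u}} (h : A ⟶ B) (v : B ⟶ C)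
    [IsOpenImmersion v] (z : A) :
    ((h ≫ v).stalkMap z).hom.Flat ↔ (h.stalkMap z).hom.Flat := by
  rw [Scheme.Hom.stalkMap_comp]
  exact RingHom.Flat.comp_iff_of_bijective_right
    (ConcreteCategory.bijective_of_isIso (v.stalkMap (h z)))

/-- `IsCMAt` is insensitive to precomposition with an open immersion. -/
theorem isCMAt_comp_openImmersion_left_iff {A B C : Scheme.{u}} (j : A ⟶ B) [IsOpenImmersion j]
    (h : B ⟶ C) (z : A) :
    MoreMor.IsCMAt (j ≫ h) z ↔ MoreMor.IsCMAt h (j z) := by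
  rw [Groth.Agent.H46.CMAt.isCMAt_iff, Groth.Agent.H46.CMAt.isCMAt_iff,
    flat_stalkMap_comp_openImmersion_iff]
  refine and_congr Iff.rfl ?_
  let φ : B.presheaf.stalk (j z) ≃+* A.presheaf.stalk z :=
    (asIso (j.stalkMap z)).commRingCatIsoToRingEquiv
  have hJ : Ideal.map ((j ≫ h).stalkMap z).hom
      (IsLocalRing.maximalIdeal (C.presheaf.stalk ((j ≫ h) z))) =
      Ideal.map (φ : B.presheaf.stalk (j z) →+* A.presheaf.stalk z)
        (Ideal.map (h.stalkMap (j z)).hom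
          (IsLocalRing.maximalIdeal (C.presheaf.stalk (h (j z))))) := by
    rw [Ideal.map_map, Scheme.Hom.stalkMap_comp]
    rfl
  exact ⟨Groth.Agent.Lib.Helper29.isCohenMacaulayLocalRing_of_ringEquiv
      (Ideal.quotientEquiv _ _ φ hJ).symm,
    Groth.Agent.Lib.Helper29.isCohenMacaulayLocalRing_of_ringEquiv
      (Ideal.quotientEquiv _ _ φ hJ)⟩

/-- `IsCMAt` is insensitive to postcomposition with an open immersion. -/
theorem isCMAt_comp_openImmersion_right_iff {A B C : Scheme.{u}} (h : A ⟶ B) (v : B ⟶ C)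
    [IsOpenImmersion v] (z : A) :
    MoreMor.IsCMAt (h ≫ v) z ↔ MoreMor.IsCMAt h z := by
  rw [Groth.Agent.H46.CMAt.isCMAt_iff, Groth.Agent.H46.CMAt.isCMAt_iff,
    flat_stalkMap_comp_openImmersion_right_iff]
  refine and_congr Iff.rfl ?_
  have hbij : Function.Bijective (v.stalkMap (h z)).hom :=
    ConcreteCategory.bijective_of_isIso (v.stalkMap (h z))
  have hm : Ideal.map (v.stalkMap (h z)).hom
      (IsLocalRing.maximalIdeal (C.presheaf.stalk (v (h z)))) =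
      IsLocalRing.maximalIdeal (B.presheaf.stalk (h z)) := by
    let ψ : C.presheaf.stalk (v (h z)) ≃+* B.presheaf.stalk (h z) :=
      RingEquiv.ofBijective (v.stalkMap (h z)).hom hbij
    exact IsLocalRing.map_ringEquiv_maximalIdeal ψ
  have hJ : Ideal.map ((h ≫ v).stalkMap z).hom
      (IsLocalRing.maximalIdeal (C.presheaf.stalk ((h ≫ v) z))) =
      Ideal.map (h.stalkMap z).hom (IsLocalRing.maximalIdeal (B.presheaf.stalk (h z))) := by
    rw [← hm, Ideal.map_map, Scheme.Hom.stalkMap_comp]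
    rfl
  exact ⟨Groth.Agent.Lib.Helper29.isCohenMacaulayLocalRing_of_ringEquiv
      (Ideal.quotEquivOfEq hJ),
    Groth.Agent.Lib.Helper29.isCohenMacaulayLocalRing_of_ringEquiv
      (Ideal.quotEquivOfEq hJ).symm⟩

/-- `IsCMAt` in a commutative square whose vertical maps are open immersions. -/
theorem isCMAt_iff_of_openImmersion_square {A B X Y : Scheme.{u}} (j : A ⟶ X) (v : B ⟶ Y)
    [IsOpenImmersion j] [IsOpenImmersion v] (f₁ : A ⟶ B) (f : X ⟶ Y) (h : f₁ ≫ v = j ≫ f) (z : A) :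
    MoreMor.IsCMAt f₁ z ↔ MoreMor.IsCMAt f (j z) := by
  rw [← isCMAt_comp_openImmersion_right_iff f₁ v z, ← isCMAt_comp_openImmersion_left_iff j f z]
  have gen : ∀ k : A ⟶ Y, k = j ≫ f → (MoreMor.IsCMAt k z ↔ MoreMor.IsCMAt (j ≫ f) z) := by
    rintro k rfl
    exact Iff.rfl
  exact gen _ h

/-- A natural number computing the local fibre dimension. -/
theorem exists_nat_fibreDimAt {X Y : Scheme.{u}} (f : X ⟶ Y) [LocallyOfFiniteType f] (x : X) :
    ∃ e : ℕ, FlatMor.fibreDimAt f x = e := by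
  obtain ⟨n, -, hn⟩ := fibreDimAt_eq_stalk_fiber_add_trdeg f x
  obtain ⟨k, hk⟩ := exists_nat_ringKrullDim_stalk_fiber f x
  exact ⟨k + n, by rw [hn, hk]; push_cast; rfl⟩

/-- A locally quasi-finite morphism is Cohen–Macaulay at every point at which it is flat. -/
theorem isCMAt_of_locallyQuasiFinite {U P : Scheme.{u}} (π : U ⟶ P) [LocallyOfFiniteType π]
    [LocallyQuasiFinite π] (x : U) (hflat : (π.stalkMap x).hom.Flat) : MoreMor.IsCMAt π x := by
  refine ⟨hflat, ?_⟩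
  obtain ⟨n, -, hn⟩ := fibreDimAt_eq_stalk_fiber_add_trdeg π x
  rw [Groth.Agent.H52.fibreDimAt_eq_zero_of_locallyQuasiFinite π x] at hn
  obtain ⟨k, hk⟩ := exists_nat_ringKrullDim_stalk_fiber π x
  have hN := isNoetherianRing_stalk_fiber π (π x) (π.asFiber x)
  have hk0 : k = 0 := by
    rw [hk] at hn
    have h' : ((0 : ℕ) : WithBot ℕ∞) = ((k + n : ℕ) : WithBot ℕ∞) := by
      push_cast
      exact hn
    have h'' : (0 : ℕ) = k + n := by exact_mod_cast h'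
    omega
  subst hk0
  have hdim : Ring.KrullDimLE 0 ((π.fiber (π x)).presheaf.stalk (π.asFiber x)) := by
    rw [Ring.krullDimLE_iff, hk]
  have hA : IsArtinianRing ((π.fiber (π x)).presheaf.stalk (π.asFiber x)) :=
    isArtinianRing_iff_isNoetherianRing_krullDimLE_zero.mpr ⟨hN, hdim⟩
  exact Groth.Agent.Lib.Helper73.CMFibre.isCohenMacaulayLocalRing_of_isArtinianRing _

/-- A smooth morphism is Cohen–Macaulay at every point. -/
theorem isCMAt_of_smooth {P Y : Scheme.{u}} (q : P ⟶ Y) [Smooth q] (θ : P) :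
    MoreMor.IsCMAt q θ := by
  refine ⟨Flat.stalkMap q θ, ?_⟩
  letI : (q.fiber (q θ)).Over (Spec (CommRingCat.of (Y.residueField (q θ)))) :=
    ⟨q.fiberToSpecResidueField (q θ)⟩
  haveI : Smooth (q.fiber (q θ) ↘ Spec (CommRingCat.of (Y.residueField (q θ)))) :=
    MorphismProperty.pullback_snd (P := @Smooth) _ _ inferInstance
  have h1 := Groth.Agent.S1535.result (Y.residueField (q θ)) (q.fiber (q θ)) (q.asFiber θ)
  exact Groth.Agent.Lib.Helper28.isCohenMacaulayLocalRing_of_isRegularLocalRing _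

theorem isLocallyNoetherian_fiber {X Y : Scheme.{u}} (f : X ⟶ Y) [LocallyOfFiniteType f] (y : Y) :
    IsLocallyNoetherian (f.fiber y) := by
  have hlft : LocallyOfFiniteType (f.fiberToSpecResidueField y) :=
    MorphismProperty.pullback_snd (P := @LocallyOfFiniteType) _ _ ‹_›
  exact LocallyOfFiniteType.isLocallyNoetherian (f.fiberToSpecResidueField y)

/-- EGA IV 15.4.1 b) ⇒ a): a `Y`-morphism from an open neighbourhood of `x` to a smooth `Y`-scheme
which is locally quasi-finite and flat at `x` forces `f` to be Cohen–Macaulay at `x`. -/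
theorem isCMAt_of_chart {X Y P U : Scheme.{u}} (f : X ⟶ Y) [LocallyOfFiniteType f] (q : P ⟶ Y)
    [Smooth q] (j : U ⟶ X) [IsOpenImmersion j] (g : U ⟶ P) [LocallyQuasiFinite g]
    (hg : g ≫ q = j ≫ f) (z : U) (hflat : (g.stalkMap z).hom.Flat) :
    MoreMor.IsCMAt f (j z) := by
  haveI hq : LocallyOfFiniteType q := inferInstance
  haveI hgq : LocallyOfFiniteType (g ≫ q) := by
    rw [hg]
    infer_instance
  haveI hgl : LocallyOfFiniteType g := locallyOfFiniteType_of_comp g q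
  have h1 := isCMAt_of_locallyQuasiFinite g z hflat
  have h2 := isCMAt_of_smooth q (g z)
  have h3 := Groth.Agent.S9766.result g q z (isLocallyNoetherian_fiber (g ≫ q) _) h1 h2
  rw [← isCMAt_comp_openImmersion_left_iff j f z]
  have gen : ∀ k : U ⟶ Y, k = j ≫ f → MoreMor.IsCMAt k z → MoreMor.IsCMAt (j ≫ f) z := by
    rintro k rfl hk
    exact hk
  exact gen _ hg h3

/-- **EGA IV 15.4.1 a) ⇒ b), locally Noetherian base**: near a point at which `f` is Cohen–Macaulay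
with fibre dimension `e` there is a flat, locally quasi-finite `Y`-morphism to `𝔸^e_Y`. -/
theorem exists_chart_noeth {X Y : Scheme.{u}} [IsLocallyNoetherian Y] (f : X ⟶ Y)
    [LocallyOfFiniteType f] (x : X) (hcm : MoreMor.IsCMAt f x) (e : ℕ)
    (he : FlatMor.fibreDimAt f x = e) :
    ∃ (U₀ : X.Opens) (g : (U₀ : Scheme.{u}) ⟶ 𝔸(ULift.{u} (Fin e); Y)), x ∈ U₀ ∧
      g ≫ (𝔸(ULift.{u} (Fin e); Y) ↘ Y) = U₀.ι ≫ f ∧ Flat g ∧ LocallyQuasiFinite g := by
  obtain ⟨hflat, hCM⟩ := hcm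
  have hX : IsLocallyNoetherian X := LocallyOfFiniteType.isLocallyNoetherian f
  obtain ⟨V, hV, hfxV, -⟩ := exists_isAffineOpen_mem_and_subset (x := f x) (U := ⊤) trivial
  obtain ⟨U, hU, hxU, g₀, π, hg₀, hπ, hqf, hlft⟩ :=
    exists_quasiFinite_toAffineSpace f x V hV hfxV e he
  let m : 𝔸(ULift.{u} (Fin e); (V : Scheme.{u})) ⟶ 𝔸(ULift.{u} (Fin e); Y) :=
    AffineSpace.map _ V.ι
  have hm : IsOpenImmersion m :=
    MorphismProperty.of_isPullback (P := @IsOpenImmersion)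
      (AffineSpace.isPullback_map (n := ULift.{u} (Fin e)) V.ι).flip inferInstance
  set π' := π ≫ m with hπ'
  have hπ'q : π' ≫ (𝔸(ULift.{u} (Fin e); Y) ↘ Y) = U.ι ≫ f := by
    rw [hπ', Category.assoc, AffineSpace.map_over, ← Category.assoc π, hπ, hg₀]
  haveI hπ'qf : LocallyQuasiFinite π' := inferInstance
  haveI hπ'lft : LocallyOfFiniteType π' := inferInstance
  haveI hsm : SmoothOfRelativeDimension e (𝔸(ULift.{u} (Fin e); Y) ↘ Y) :=
    smoothOfRelativeDimension_affineSpace _ e (by simp) Y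
  haveI hsm' : Smooth (𝔸(ULift.{u} (Fin e); Y) ↘ Y) := SmoothOfRelativeDimension.smooth e _
  set x' : ↥(U : Scheme.{u}) := ⟨x, hxU⟩ with hx'
  -- hypotheses at `x'`
  have hflat' : ((π' ≫ (𝔸(ULift.{u} (Fin e); Y) ↘ Y)).stalkMap x').hom.Flat := by
    rw [hπ'q]
    exact (flat_stalkMap_comp_openImmersion_iff U.ι f x').mpr hflat
  have hdim' : FlatMor.fibreDimAt (π' ≫ (𝔸(ULift.{u} (Fin e); Y) ↘ Y)) x' = e := by
    rw [hπ'q, Groth.Agent.H52.fibreDimAt_eq_of_etale_square U.ι (𝟙 Y) (U.ι ≫ f) f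
      (by rw [Category.comp_id]) x']
    exact he
  have hcm' : MoreMor.IsCMAt (π' ≫ (𝔸(ULift.{u} (Fin e); Y) ↘ Y)) x' := by
    rw [hπ'q, isCMAt_comp_openImmersion_left_iff]
    exact ⟨hflat, hCM⟩
  have key := flat_stalkMap_of_lqf_over_smooth π' (𝔸(ULift.{u} (Fin e); Y) ↘ Y) e
    (fibreDimAt_affineSpace e Y) x' hflat' hcm'.2 hdim'
  -- the flat locus of `π'` is open
  haveI hNA : IsLocallyNoetherian 𝔸(ULift.{u} (Fin e); Y) :=
    LocallyOfFiniteType.isLocallyNoetherian (𝔸(ULift.{u} (Fin e); Y) ↘ Y)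
  haveI hlfp : LocallyOfFinitePresentation π' :=
    locallyOfFinitePresentation_of_isLocallyNoetherian π'
  have hopen := Groth.Agent.S0386.result π'
  let W : (U : Scheme.{u}).Opens := ⟨{z | (π'.stalkMap z).hom.Flat}, hopen⟩
  have hx'W : x' ∈ W := key
  let U₀ : X.Opens := U.ι ''ᵁ W
  have hxU₀ : x ∈ U₀ := ⟨x', hx'W, rfl⟩
  have hle : U₀ ≤ U := by
    rintro _ ⟨z, -, rfl⟩
    exact z.2
  let j : (U₀ : Scheme.{u}) ⟶ (U : Scheme.{u}) := X.homOfLE hle
  have hj : j ≫ U.ι = U₀.ι := X.homOfLE_ι _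
  have hjW : ∀ z : ↥(U₀ : Scheme.{u}), j z ∈ W := by
    intro z
    obtain ⟨w, hw, hwz⟩ := z.2
    have h1 : U.ι (j z) = U.ι w := by
      have := congr(($hj) z)
      rw [Scheme.Hom.comp_apply] at this
      rw [this]
      exact hwz.symm
    rw [U.ι.isOpenEmbedding.injective h1]
    exact hw
  set g := j ≫ π' with hg
  have hgq : g ≫ (𝔸(ULift.{u} (Fin e); Y) ↘ Y) = U₀.ι ≫ f := by
    rw [hg, Category.assoc, hπ'q, ← Category.assoc, hj]
  haveI hgqf : LocallyQuasiFinite g := inferInstance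
  haveI hgflat : Flat g := by
    apply Flat.of_stalkMap
    intro z
    exact (flat_stalkMap_comp_openImmersion_iff j π' z).mpr (hjW z)
  exact ⟨U₀, g, hxU₀, hgq, hgflat, hgqf⟩

/-- Base change of a Noetherian chart: if `f₁` is the base change of a flat morphism `f₀` locally
of finite presentation over a locally Noetherian base, then Cohen–Macaulay points of `f₁` have
flat quasi-finite charts. -/
theorem exists_chart_of_model {U₁ V X₀ S₀ : Scheme.{u}} [IsLocallyNoetherian S₀] (f₁ : U₁ ⟶ V)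
    (f₀ : X₀ ⟶ S₀) [Flat f₀] [LocallyOfFinitePresentation f₀] (q : U₁ ⟶ X₀) (p : V ⟶ S₀)
    (hpb : IsPullback q f₁ f₀ p) (x₁ : U₁) (hcm₁ : MoreMor.IsCMAt f₁ x₁) (e : ℕ)
    (hdim₁ : FlatMor.fibreDimAt f₁ x₁ = e) :
    ∃ (U₂ : U₁.Opens) (g₂ : (U₂ : Scheme.{u}) ⟶ 𝔸(ULift.{u} (Fin e); V)), x₁ ∈ U₂ ∧
      g₂ ≫ (𝔸(ULift.{u} (Fin e); V) ↘ V) = U₂.ι ≫ f₁ ∧ Flat g₂ ∧ LocallyQuasiFinite g₂ := by
  haveI hf₀lft : LocallyOfFiniteType f₀ := inferInstance
  have hcm₀ : MoreMor.IsCMAt f₀ (q x₁) := by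
    have := Groth.Agent.S1342.result f₀ f₁ q p hpb
    have h : x₁ ∈ {x' | MoreMor.IsCMAt f₁ x'} := hcm₁
    rw [this] at h
    exact h
  have hdim₀ : FlatMor.fibreDimAt f₀ (q x₁) = e := by
    rw [← fibreDimAt_eq_of_isPullback f₀ p q f₁ hpb x₁]
    exact hdim₁
  obtain ⟨U₀, g₀, hx₀U₀, hg₀, hg₀fl, hg₀qf⟩ := exists_chart_noeth f₀ (q x₁) hcm₀ e hdim₀
  let U₂ : U₁.Opens := q ⁻¹ᵁ U₀
  let q' : (U₂ : Scheme.{u}) ⟶ (U₀ : Scheme.{u}) := q ∣_ U₀
  have hsq1 : IsPullback q' U₂.ι U₀.ι q := isPullback_morphismRestrict q U₀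
  have hbig : IsPullback q' (U₂.ι ≫ f₁) (U₀.ι ≫ f₀) p := hsq1.paste_vert hpb
  have hA : IsPullback (AffineSpace.map (ULift.{u} (Fin e)) p)
      (𝔸(ULift.{u} (Fin e); V) ↘ V)
      (𝔸(ULift.{u} (Fin e); S₀) ↘ S₀) p := AffineSpace.isPullback_map (n := ULift.{u} (Fin e)) p
  have hw : (q' ≫ g₀) ≫ (𝔸(ULift.{u} (Fin e); S₀) ↘ S₀) = (U₂.ι ≫ f₁) ≫ p := by
    rw [Category.assoc, hg₀]
    exact hbig.w
  let g₂ : (U₂ : Scheme.{u}) ⟶ 𝔸(ULift.{u} (Fin e); V) :=
    hA.lift (q' ≫ g₀) (U₂.ι ≫ f₁) hw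
  have hg₂1 : g₂ ≫ AffineSpace.map (ULift.{u} (Fin e)) p = q' ≫ g₀ := hA.lift_fst _ _ _
  have hg₂2 : g₂ ≫ (𝔸(ULift.{u} (Fin e); V) ↘ V) = U₂.ι ≫ f₁ :=
    hA.lift_snd _ _ _
  have htop : IsPullback q' g₂ g₀ (AffineSpace.map (ULift.{u} (Fin e)) p) := by
    refine IsPullback.of_bot ?_ hg₂1.symm hA
    rw [hg₂2, hg₀]
    exact hbig
  have hg₂fl : Flat g₂ := MorphismProperty.of_isPullback (P := @Flat) htop hg₀fl
  have hg₂qf : LocallyQuasiFinite g₂ :=
    MorphismProperty.of_isPullback (P := @LocallyQuasiFinite) htop hg₀qf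
  exact ⟨U₂, g₂, hx₀U₀, hg₂2, hg₂fl, hg₂qf⟩

open Groth.Agent.Lib.Helper23 in
/-- **EGA IV 15.4.1 a) ⇒ b)** (together with 15.4.3): for `f` locally of finite presentation, near a
point at which `f` is Cohen–Macaulay with fibre dimension `e` there is a flat, locally
quasi-finite `Y`-morphism to `𝔸^e_Y`.  Flexible form: the neighbourhood is an open immersion. -/
theorem exists_chart_aux {X Y : Scheme.{u}} (f : X ⟶ Y) [LocallyOfFinitePresentation f] (x : X)
    (hcm : MoreMor.IsCMAt f x) (e : ℕ) (he : FlatMor.fibreDimAt f x = e) :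
    ∃ (U : Scheme.{u}) (j : U ⟶ X) (_ : IsOpenImmersion j)
      (g : U ⟶ 𝔸(ULift.{u} (Fin e); Y)), x ∈ Set.range j ∧
      g ≫ (𝔸(ULift.{u} (Fin e); Y) ↘ Y) = j ≫ f ∧ Flat g ∧ LocallyQuasiFinite g := by
  -- Step 1: affine neighbourhoods on which `f` is flat
  obtain ⟨V, hV, hfxV, -⟩ := exists_isAffineOpen_mem_and_subset (x := f x) (U := ⊤) trivial
  have hopen := Groth.Agent.S0386.result f
  let Wfl : X.Opens := ⟨{z | (f.stalkMap z).hom.Flat}, hopen⟩
  obtain ⟨U₁, hU₁, hxU₁, hU₁le⟩ := exists_isAffineOpen_mem_and_subset (x := x)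
    (U := f ⁻¹ᵁ V ⊓ Wfl) ⟨hfxV, hcm.1⟩
  have hle : U₁ ≤ f ⁻¹ᵁ V := fun z hz => (hU₁le hz).1
  let f₁ : (U₁ : Scheme.{u}) ⟶ (V : Scheme.{u}) := f.resLE V U₁ hle
  have hf₁ : f₁ ≫ V.ι = U₁.ι ≫ f := Scheme.Hom.resLE_comp_ι f hle
  haveI : IsAffine (U₁ : Scheme.{u}) := hU₁
  haveI : IsAffine (V : Scheme.{u}) := hV
  haveI hf₁fp : LocallyOfFinitePresentation f₁ := inferInstance
  haveI hf₁fl : Flat f₁ := by
    apply Flat.of_stalkMap
    intro z
    rw [← flat_stalkMap_comp_openImmersion_right_iff f₁ V.ι z]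
    have gen : ∀ k : (U₁ : Scheme.{u}) ⟶ Y, k = U₁.ι ≫ f → (k.stalkMap z).hom.Flat := by
      rintro k rfl
      exact (flat_stalkMap_comp_openImmersion_iff U₁.ι f z).mpr (hU₁le z.2).2
    exact gen _ hf₁
  haveI hf₁qc : QuasiCompact f₁ := inferInstance
  haveI hf₁qs : QuasiSeparated f₁ := inferInstance
  -- Step 2: a flat Noetherian model
  let f₁' : (U₁ : Scheme.{u}) ⟶ (noethCone (V : Scheme.{u})).pt := f₁
  haveI h1 : LocallyOfFinitePresentation f₁' := hf₁fp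
  haveI h2 : Flat f₁' := hf₁fl
  haveI h3 : QuasiCompact f₁' := hf₁qc
  haveI h4 : QuasiSeparated f₁' := hf₁qs
  obtain ⟨i, X₀, f₀, q, hf₀fl, hf₀fp, -, -, hpb⟩ :=
    Groth.Agent.H76.LimFppfCover.exists_fppf_model (noethDiagram (V : Scheme.{u}))
      (noethCone (V : Scheme.{u})) (isLimitNoethCone (V : Scheme.{u})) f₁'
  haveI hS₀N : IsLocallyNoetherian ((noethDiagram (V : Scheme.{u})).obj i) := by
    haveI := isNoetherianRing_noethRing (V : Scheme.{u}) i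
    exact inferInstanceAs (IsLocallyNoetherian (Spec (noethRing (V : Scheme.{u}) i)))
  let x₁ : (U₁ : Scheme.{u}) := ⟨x, hxU₁⟩
  -- Step 3: the hypotheses hold for `f₁`
  have hcm₁ : MoreMor.IsCMAt f₁ x₁ :=
    (isCMAt_iff_of_openImmersion_square U₁.ι V.ι f₁ f hf₁ x₁).mpr hcm
  have hdim₁ : FlatMor.fibreDimAt f₁ x₁ = e := by
    rw [Groth.Agent.H52.fibreDimAt_eq_of_etale_square U₁.ι V.ι f₁ f hf₁.symm x₁]
    exact he
  -- Step 4: the chart over `V`
  obtain ⟨U₂, g₂, hx₁U₂, hg₂, hg₂fl, hg₂qf⟩ :=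
    exists_chart_of_model f₁ f₀ q ((noethCone (V : Scheme.{u})).π.app i) hpb x₁ hcm₁ e hdim₁
  -- Step 5: conclusion
  let m : 𝔸(ULift.{u} (Fin e); (V : Scheme.{u})) ⟶ 𝔸(ULift.{u} (Fin e); Y) :=
    AffineSpace.map _ V.ι
  haveI hm : IsOpenImmersion m :=
    MorphismProperty.of_isPullback (P := @IsOpenImmersion)
      (AffineSpace.isPullback_map (n := ULift.{u} (Fin e)) V.ι).flip inferInstance
  refine ⟨U₂, U₂.ι ≫ U₁.ι, inferInstance, g₂ ≫ m, ?_, ?_, inferInstance, inferInstance⟩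
  · exact ⟨⟨x₁, hx₁U₂⟩, rfl⟩
  · rw [Category.assoc, AffineSpace.map_over, ← Category.assoc, hg₂, Category.assoc,
      Category.assoc]
    exact congrArg (U₂.ι ≫ ·) hf₁

/-- **EGA IV 15.4.1 a) ⇒ b)** (together with 15.4.3): for `f` locally of finite presentation, near a
point at which `f` is Cohen–Macaulay with fibre dimension `e` there is a flat, locally
quasi-finite `Y`-morphism from an open neighbourhood to `𝔸^e_Y`. -/
theorem exists_chart {X Y : Scheme.{u}} (f : X ⟶ Y) [LocallyOfFinitePresentation f] (x : X)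
    (hcm : MoreMor.IsCMAt f x) (e : ℕ) (he : FlatMor.fibreDimAt f x = e) :
    ∃ (U : X.Opens) (g : (U : Scheme.{u}) ⟶ 𝔸(ULift.{u} (Fin e); Y)), x ∈ U ∧
      g ≫ (𝔸(ULift.{u} (Fin e); Y) ↘ Y) = U.ι ≫ f ∧ Flat g ∧ LocallyQuasiFinite g := by
  obtain ⟨U, j, hj, g, hx, hg, hfl, hqf⟩ := exists_chart_aux f x hcm e he
  refine ⟨j.opensRange, j.isoOpensRange.inv ≫ g, hx, ?_, inferInstance, inferInstance⟩
  rw [Category.assoc, hg, ← Category.assoc, Scheme.Hom.isoOpensRange_inv_comp]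

/-- Converse, `Opens` form: a locally quasi-finite `Y`-morphism from an open neighbourhood of `x`
to `𝔸^n_Y` which is flat at `x` forces `f` to be Cohen–Macaulay at `x`. -/
theorem isCMAt_of_chart_opens {X Y : Scheme.{u}} (f : X ⟶ Y) [LocallyOfFiniteType f] (n : ℕ)
    (U : X.Opens) (x : X) (hx : x ∈ U) (g : (U : Scheme.{u}) ⟶ 𝔸(ULift.{u} (Fin n); Y))
    (hg : g ≫ (𝔸(ULift.{u} (Fin n); Y) ↘ Y) = U.ι ≫ f) [LocallyQuasiFinite g]
    (hflat : (g.stalkMap ⟨x, hx⟩).hom.Flat) : MoreMor.IsCMAt f x := by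
  haveI hsm : SmoothOfRelativeDimension n (𝔸(ULift.{u} (Fin n); Y) ↘ Y) :=
    smoothOfRelativeDimension_affineSpace _ n (by simp) Y
  haveI hsm' : Smooth (𝔸(ULift.{u} (Fin n); Y) ↘ Y) := SmoothOfRelativeDimension.smooth n _
  exact isCMAt_of_chart f (𝔸(ULift.{u} (Fin n); Y) ↘ Y) U.ι g hg ⟨x, hx⟩ hflat

/-- All points of the source of a flat quasi-finite chart are Cohen–Macaulay points. -/
theorem isCMAt_of_flat_chart {X Y : Scheme.{u}} (f : X ⟶ Y) [LocallyOfFiniteType f] (n : ℕ)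
    (U : X.Opens) (g : (U : Scheme.{u}) ⟶ 𝔸(ULift.{u} (Fin n); Y))
    (hg : g ≫ (𝔸(ULift.{u} (Fin n); Y) ↘ Y) = U.ι ≫ f) [LocallyQuasiFinite g] [Flat g]
    (z : X) (hz : z ∈ U) : MoreMor.IsCMAt f z :=
  isCMAt_of_chart_opens f n U z hz g hg (Flat.stalkMap g ⟨z, hz⟩)

/-- On the source of a flat quasi-finite chart to `𝔸^n_Y` the fibre dimension is `n`. -/
theorem fibreDimAt_of_flat_chart {X Y : Scheme.{u}} (f : X ⟶ Y) [LocallyOfFiniteType f] (n : ℕ)
    (U : X.Opens) (g : (U : Scheme.{u}) ⟶ 𝔸(ULift.{u} (Fin n); Y))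
    (hg : g ≫ (𝔸(ULift.{u} (Fin n); Y) ↘ Y) = U.ι ≫ f) [LocallyQuasiFinite g] [Flat g]
    (z : X) (hz : z ∈ U) : FlatMor.fibreDimAt f z = n := by
  haveI hgq : LocallyOfFiniteType (g ≫ (𝔸(ULift.{u} (Fin n); Y) ↘ Y)) := by
    rw [hg]
    infer_instance
  haveI hgl : LocallyOfFiniteType g := locallyOfFiniteType_of_comp g (𝔸(ULift.{u} (Fin n); Y) ↘ Y)
  have h1 := (fibreDimAt_comp_le g (𝔸(ULift.{u} (Fin n); Y) ↘ Y) ⟨z, hz⟩).2
    (Flat.stalkMap g ⟨z, hz⟩)
  rw [Groth.Agent.H52.fibreDimAt_eq_zero_of_locallyQuasiFinite g ⟨z, hz⟩,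
    fibreDimAt_affineSpace n Y, zero_add] at h1
  have h2 := Groth.Agent.H52.fibreDimAt_eq_of_etale_square U.ι (𝟙 Y) (U.ι ≫ f) f
      (by rw [Category.comp_id]) ⟨z, hz⟩
  have gen : ∀ k : (U : Scheme.{u}) ⟶ Y, k = U.ι ≫ f →
      FlatMor.fibreDimAt k ⟨z, hz⟩ = n → FlatMor.fibreDimAt (U.ι ≫ f) ⟨z, hz⟩ = n := by
    rintro k rfl hk
    exact hk
  rw [← gen _ hg h1, h2]
  rfl

end Groth.Agent.Lib.Helper13.CMChart
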