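import Groth.Prelude.Def_EGA4b
import Mathlib.RingTheory.Localization.LocalizationLocalization
import Mathlib.RingTheory.Localization.Ideal
import Mathlib.RingTheory.Ideal.Height

/-!
# Unfolding `EGA4.HasRkAt` in terms of primes of the base ring
-/

set_option autoImplicit false
universe u

namespace Groth.Agent.Lib.Helper13

open IsLocalization in
/-- For a prime `Q` of `A_p`, `(A_p)_Q` is regular iff `A_q` is, where `q = Q ∩ A`. -/
theorem isRegularLocalRing_localization_localization_iff {A : Type u} [CommRing A]
    (p : Ideal A) [p.IsPrime] (Q : Ideal (Localization.AtPrime p)) [Q.IsPrime] :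
    IsRegularLocalRing (Localization.AtPrime Q) ↔
      IsRegularLocalRing (Localization.AtPrime (Q.comap (algebraMap A (Localization.AtPrime p)))) := by
  let e := IsLocalization.localizationLocalizationAtPrimeIsoLocalization p.primeCompl Q
  constructor
  · intro h
    exact IsRegularLocalRing.of_ringEquiv e.symm.toRingEquiv
  · intro h
    exact IsRegularLocalRing.of_ringEquiv e.toRingEquiv

/-- `A` satisfies `(R_n)` at `p` iff `A_q` is regular for every prime `q ⊆ p` of height `≤ n`. -/
theorem hasRkAt_iff (n : ℕ) (A : Type u) [CommRing A] (p : Ideal A) [p.IsPrime] :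
    EGA4.HasRkAt n A p ↔
      ∀ (q : Ideal A) [q.IsPrime], q ≤ p → q.height ≤ n →
        IsRegularLocalRing (Localization.AtPrime q) := by
  constructor
  · intro h q hq hqp hqn
    have hdisj : Disjoint (p.primeCompl : Set A) (q : Set A) := by
      rw [Set.disjoint_left]
      intro x hx hxq
      exact hx (hqp hxq)
    have hQ : (q.map (algebraMap A (Localization.AtPrime p))).IsPrime :=
      IsLocalization.isPrime_of_isPrime_disjoint p.primeCompl _ q hq hdisj
    have hcomap : (q.map (algebraMap A (Localization.AtPrime p))).comap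
        (algebraMap A (Localization.AtPrime p)) = q :=
      IsLocalization.under_map_of_isPrime_disjoint p.primeCompl _ hq hdisj
    have hht : (q.map (algebraMap A (Localization.AtPrime p))).height ≤ n := by
      rw [IsLocalization.height_map_of_disjoint p.primeCompl q hdisj]
      exact hqn
    have h1 := h (q.map (algebraMap A (Localization.AtPrime p))) hht
    rw [isRegularLocalRing_localization_localization_iff] at h1
    have key : ∀ (q' : Ideal A) (hq' : q'.IsPrime), q' = q →
        IsRegularLocalRing (Localization.AtPrime q') → IsRegularLocalRing (Localization.AtPrime q) := by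
      rintro q' hq' rfl h
      exact h
    exact key _ _ hcomap h1
  · intro h Q hQ hQn
    rw [isRegularLocalRing_localization_localization_iff]
    apply h
    · -- comap Q ≤ p
      intro x hx
      by_contra hxp
      have hu : IsUnit (algebraMap A (Localization.AtPrime p) x) :=
        IsLocalization.map_units (Localization.AtPrime p) (⟨x, hxp⟩ : p.primeCompl)
      exact hQ.ne_top (Ideal.eq_top_of_isUnit_mem _ hx hu)
    · have := IsLocalization.height_under p.primeCompl Q
      rw [Ideal.under_def] at this
      rw [this]
      exact hQn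

end Groth.Agent.Lib.Helper13

namespace Groth.Agent.Lib.Helper13

/-- Openness criterion for the `(R_n)` locus: it suffices to have a finite set `T` of "bad" primes of
height `≤ n` such that every bad prime of height `≤ n` contains one of them. -/
theorem isOpen_hasRkAt_of_finite (n : ℕ) (A : Type u) [CommRing A] (T : Set (PrimeSpectrum A))
    (hT : T.Finite)
    (h1 : ∀ q ∈ T, q.asIdeal.height ≤ n ∧ ¬ IsRegularLocalRing (Localization.AtPrime q.asIdeal))
    (h2 : ∀ q : PrimeSpectrum A, q.asIdeal.height ≤ n →
      ¬ IsRegularLocalRing (Localization.AtPrime q.asIdeal) → ∃ q' ∈ T, q'.asIdeal ≤ q.asIdeal) :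
    IsOpen {p : PrimeSpectrum A | EGA4.HasRkAt n A p.asIdeal} := by
  rw [← isClosed_compl_iff]
  have : {p : PrimeSpectrum A | EGA4.HasRkAt n A p.asIdeal}ᶜ =
      ⋃ q ∈ T, PrimeSpectrum.zeroLocus (q.asIdeal : Set A) := by
    ext p
    simp only [Set.mem_compl_iff, Set.mem_ofPred_eq, Set.mem_iUnion, PrimeSpectrum.mem_zeroLocus,
      SetLike.coe_subset_coe, exists_prop]
    rw [hasRkAt_iff]
    constructor
    · intro h
      push Not at h
      obtain ⟨q, hq, hqp, hqn, hreg⟩ := h
      obtain ⟨q', hq'T, hq'q⟩ := h2 ⟨q, hq⟩ hqn hreg
      exact ⟨q', hq'T, hq'q.trans hqp⟩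
    · rintro ⟨q, hqT, hqp⟩ h
      obtain ⟨hqn, hreg⟩ := h1 q hqT
      exact hreg (h q.asIdeal hqp hqn)
  rw [this]
  exact hT.isClosed_biUnion fun q _ => PrimeSpectrum.isClosed_zeroLocus _

end Groth.Agent.Lib.Helper13
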