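import Groth.Agent.S3569
import Groth.Agent.S3571
import Groth.Prelude.Def_RelSpec
import Mathlib.AlgebraicGeometry.AffineTransitionLimit
import Mathlib.CategoryTheory.Filtered.Final
import Mathlib.Algebra.Category.Ring.FilteredColimits

/-!
# Limits of schemes affine over a base (helper13)

* `isLocalization_away_of_isColimit`: a filtered colimit of localizations (away from one element) is a localization.
* `ext_of_appLE`, `gluedA`, `gluedA_comp`, `appLE_gluedA`: morphisms into a scheme affine over `S` from ring maps given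
  only over the affine opens of `S` (affine-site version of `Groth.Agent.S3569.glued`).
* `X F αF H`, `f`, `ι`, `η`, ...: the relative spectrum of a coequifibered presheaf of rings on the affine site
  (affine-site version of the `Glue` section of `Groth.Agent.S3571`).
* `limCone`, `limConeIsLimit`, `hasLimit`: a cofiltered diagram of schemes all affine over a fixed base `S`
  (compatibly) has a limit, with affine structure map to `S`.
-/

set_option autoImplicit false
universe u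
open CategoryTheory Limits AlgebraicGeometry TopologicalSpace Opposite

namespace Groth.Agent.Lib.Helper13.AffLim

open Groth.Agent.S3569
open Groth.Agent.S3571 (aff toOpens_le isIso_appLE_of_eq appLE_comp_appTop appLE_comp_appTop_assoc fromSpec_appLE_top)

section RingLemma

variable {K : Type u} [SmallCategory K] [IsFiltered K]
    {G₁ G₂ : K ⥤ CommRingCat.{u}} (τ : G₁ ⟶ G₂) {c₁ : Cocone G₁} {c₂ : Cocone G₂}
    (hc₁ : IsColimit c₁) (hc₂ : IsColimit c₂) (ψ : c₁.pt ⟶ c₂.pt)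
    (hψ : ∀ k, c₁.ι.app k ≫ ψ = τ.app k ≫ c₂.ι.app k)
    {A : CommRingCat.{u}} (a : ∀ k, A ⟶ G₁.obj k)
    (ha : ∀ {k k' : K} (φ : k ⟶ k'), a k ≫ G₁.map φ = a k') (r : A)

include ha in
omit [IsFiltered K] in
theorem ι_a_eq [IsFiltered K] (k k' : K) :
    (c₁.ι.app k).hom ((a k).hom r) = (c₁.ι.app k').hom ((a k').hom r) := by
  have h1 : ∀ {k m : K} (φ : k ⟶ m), (c₁.ι.app k).hom ((a k).hom r) = (c₁.ι.app m).hom ((a m).hom r) := by
    intro k m φ
    rw [← ha φ, ← c₁.w φ]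
    rfl
  rw [h1 (IsFiltered.leftToMax k k'), h1 (IsFiltered.rightToMax k k')]

include hc₁ hc₂ hψ ha in
theorem isLocalization_away_of_isColimit
    (H : ∀ k, letI := (τ.app k).hom.toAlgebra; IsLocalization.Away ((a k).hom r) (G₂.obj k))
    (k₀ : K) :
    letI := ψ.hom.toAlgebra
    IsLocalization.Away (show c₁.pt from (c₁.ι.app k₀).hom ((a k₀).hom r)) c₂.pt := by
  let _ := ψ.hom.toAlgebra
  have halg : ∀ x : c₁.pt, algebraMap c₁.pt c₂.pt x = ψ.hom x := fun _ => rfl
  have hψ' : ∀ k (x : G₁.obj k), ψ.hom ((c₁.ι.app k).hom x) = (c₂.ι.app k).hom ((τ.app k).hom x) := by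
    intro k x
    exact congr($(hψ k).hom x)
  have hρ : ∀ k, (c₁.ι.app k).hom ((a k).hom r) = (c₁.ι.app k₀).hom ((a k₀).hom r) :=
    fun k => ι_a_eq a ha r k k₀
  refine ⟨?_, ?_, ?_⟩
  · rintro ⟨_, n, rfl⟩
    rw [halg, map_pow, hψ']
    let _ := (τ.app k₀).hom.toAlgebra
    have := H k₀
    have hu : IsUnit ((τ.app k₀).hom ((a k₀).hom r)) :=
      IsLocalization.Away.algebraMap_isUnit (S := G₂.obj k₀) ((a k₀).hom r)
    exact (hu.map _).pow n
  · intro z
    obtain ⟨k, y, rfl⟩ := Concrete.isColimit_exists_rep G₂ hc₂ z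
    let _ := (τ.app k).hom.toAlgebra
    have := H k
    obtain ⟨n, t, ht⟩ := IsLocalization.Away.surj ((a k).hom r) y
    refine ⟨⟨(c₁.ι.app k).hom t, ⟨_, n, rfl⟩⟩, ?_⟩
    rw [halg, halg]
    simp only
    rw [map_pow, ← hρ k, hψ', hψ']
    change _ = (c₂.ι.app k).hom (algebraMap _ _ t)
    rw [← ht, map_mul, map_pow]
    rfl
  · intro x y hxy
    rw [halg, halg] at hxy
    obtain ⟨i, x', rfl⟩ := Concrete.isColimit_exists_rep G₁ hc₁ x
    obtain ⟨j, y', rfl⟩ := Concrete.isColimit_exists_rep G₁ hc₁ y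
    rw [hψ', hψ'] at hxy
    obtain ⟨m, φ, φ', h⟩ := Concrete.isColimit_exists_of_rep_eq G₂ hc₂ _ _ hxy
    have h' : (τ.app m).hom ((G₁.map φ).hom x') = (τ.app m).hom ((G₁.map φ').hom y') := by
      have e1 := congr($(τ.naturality φ).hom x')
      have e2 := congr($(τ.naturality φ').hom y')
      simp only [CommRingCat.hom_comp, RingHom.comp_apply] at e1 e2
      rw [e1, e2]
      exact h
    let _ := (τ.app m).hom.toAlgebra
    have := H m
    obtain ⟨⟨_, n, rfl⟩, hc⟩ := IsLocalization.exists_of_eq (M := Submonoid.powers ((a m).hom r)) h'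
    refine ⟨⟨_, n, rfl⟩, ?_⟩
    simp only at hc ⊢
    rw [← hρ m, ← c₁.w φ, ← c₁.w φ']
    have := congrArg (c₁.ι.app m).hom hc
    simpa only [map_mul, map_pow, CommRingCat.hom_comp, RingHom.comp_apply] using this

end RingLemma


section GlueAff

open AlgebraicGeometry.Scheme.AffineZariskiSite

variable {X Y S : Scheme.{u}}

/-- Two `S`-morphisms into a scheme affine over `S` agree if they agree on sections over preimages of
affine opens of `S`. -/
lemma ext_of_appLE (f : X ⟶ S) [IsAffineHom f] (g : Y ⟶ S) (h₁ h₂ : Y ⟶ X)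
    (w₁ : h₁ ≫ f = g) (w₂ : h₂ ≫ f = g)
    (H : ∀ U : S.AffineZariskiSite,
      h₁.appLE (f ⁻¹ᵁ U.toOpens) (g ⁻¹ᵁ U.toOpens) (by rw [← w₁, Scheme.Hom.comp_preimage]) =
      h₂.appLE (f ⁻¹ᵁ U.toOpens) (g ⁻¹ᵁ U.toOpens) (by rw [← w₂, Scheme.Hom.comp_preimage])) :
    h₁ = h₂ := by
  refine Scheme.Cover.hom_ext (Y.openCoverOfIsOpenCover _
    (.comap (iSup_affineOpens_eq_top S) g.base.1)) _ _ fun U ↦ ?_
  change (g ⁻¹ᵁ U.1).ι ≫ h₁ = (g ⁻¹ᵁ U.1).ι ≫ h₂
  have hfU : IsAffineOpen (f ⁻¹ᵁ U.1) := U.2.preimage f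
  have e₁ : g ⁻¹ᵁ U.1 ≤ h₁ ⁻¹ᵁ (f ⁻¹ᵁ U.1) := by rw [← w₁]; exact le_rfl
  have e₂ : g ⁻¹ᵁ U.1 ≤ h₂ ⁻¹ᵁ (f ⁻¹ᵁ U.1) := by rw [← w₂]; exact le_rfl
  rw [ι_comp_eq h₁ hfU _ e₁, ι_comp_eq h₂ hfU _ e₂]
  congr 2
  exact congrArg Spec.map (H ⟨U.1, U.2⟩)

variable (f : X ⟶ S) [IsAffineHom f] (g : Y ⟶ S)
  (ω : ∀ U : S.AffineZariskiSite, Γ(X, f ⁻¹ᵁ U.toOpens) ⟶ Γ(Y, g ⁻¹ᵁ U.toOpens))
  (hω : ∀ {U V : S.AffineZariskiSite} (i : U ⟶ V),
    X.presheaf.map (homOfLE (f.preimage_mono (toOpens_le i))).op ≫ ω U =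
      ω V ≫ Y.presheaf.map (homOfLE (g.preimage_mono (toOpens_le i))).op)

/-- The local pieces of the morphism attached to a family of ring maps on affine opens. -/
noncomputable def pieceA (U : S.AffineZariskiSite) : (g ⁻¹ᵁ U.toOpens : Scheme.{u}) ⟶ X :=
  (g ⁻¹ᵁ U.toOpens).toSpecΓ ≫ Spec.map (ω U) ≫ ((aff U).preimage f).fromSpec

include hω in
lemma pieceA_comp {U V : S.AffineZariskiSite} (i : U ⟶ V) :
    Y.homOfLE (g.preimage_mono (toOpens_le i)) ≫ pieceA f g ω V = pieceA f g ω U := by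
  have hUV : U.toOpens ≤ V.toOpens := toOpens_le i
  have hnat := hω i
  have h1 : Spec.map (X.presheaf.map (homOfLE (f.preimage_mono hUV)).op) ≫
      ((aff V).preimage f).fromSpec = ((aff U).preimage f).fromSpec :=
    ((aff V).preimage f).map_fromSpec ((aff U).preimage f) (homOfLE (f.preimage_mono hUV)).op
  simp only [pieceA]
  rw [← Scheme.Opens.toSpecΓ_SpecMap_presheaf_map_assoc, ← h1, ← Spec.map_comp_assoc,
    ← Spec.map_comp_assoc]
  congr 2
  exact congrArg Spec.map hnat.symm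

include hω in
set_option backward.defeqAttrib.useBackward true in
set_option backward.isDefEq.respectTransparency false in
lemma glueA_compat {U V : S.AffineZariskiSite} (i : U ⟶ V) :
    Scheme.Cover.trans ((directedCover S).pullback₁ g) i ≫
      (pullbackRestrictIsoRestrict g V.toOpens).hom ≫ pieceA f g ω V =
    (pullbackRestrictIsoRestrict g U.toOpens).hom ≫ pieceA f g ω U := by
  have : (pullbackRestrictIsoRestrict g U.toOpens).inv ≫
      Scheme.Cover.trans ((directedCover S).pullback₁ g) i ≫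
      (pullbackRestrictIsoRestrict g V.toOpens).hom = Y.homOfLE
        (g.preimage_mono (toOpens_le i)) := by
    rw [← cancel_mono (Scheme.Opens.ι _)]
    simp +instances [Scheme.Cover.trans, Scheme.Cover.locallyDirectedPullbackCover]
  rw [← Iso.inv_comp_eq, reassoc_of% this, pieceA_comp f g ω hω i]

/-- The glued morphism. -/
noncomputable def gluedA : Y ⟶ X :=
  Scheme.OpenCover.glueMorphismsOfLocallyDirected
    ((directedCover S).pullback₁ g)
    (fun U ↦ (pullbackRestrictIsoRestrict g _).hom ≫ pieceA f g ω U)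
    (fun i ↦ glueA_compat f g ω hω i)

set_option backward.isDefEq.respectTransparency.types false in
set_option backward.defeqAttrib.useBackward true in
lemma ι_gluedA (U : S.AffineZariskiSite) :
    (g ⁻¹ᵁ U.toOpens).ι ≫ gluedA f g ω hω = pieceA f g ω U := by
  rw [← cancel_epi (pullbackRestrictIsoRestrict g U.toOpens).hom, ← Category.assoc]
  trans ((directedCover S).pullback₁ g).f U ≫ gluedA f g ω hω
  · congr 1; simp
  exact Scheme.OpenCover.map_glueMorphismsOfLocallyDirected _ _ (fun i ↦ glueA_compat f g ω hω i) U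

set_option backward.isDefEq.respectTransparency false in
lemma gluedA_comp (hc : ∀ U : S.AffineZariskiSite, f.app U.toOpens ≫ ω U = g.app U.toOpens) :
    gluedA f g ω hω ≫ f = g := by
  refine Scheme.Cover.hom_ext (Y.openCoverOfIsOpenCover _
    (.comap (iSup_affineOpens_eq_top S) g.base.1)) _ _ fun U ↦ ?_
  change (g ⁻¹ᵁ U.1).ι ≫ gluedA f g ω hω ≫ f = (g ⁻¹ᵁ U.1).ι ≫ g
  rw [reassoc_of% (ι_gluedA f g ω hω ⟨U.1, U.2⟩)]
  simp only [pieceA, Category.assoc]
  have h1 : (U.2.preimage f).fromSpec ≫ f = Spec.map (f.app U.1) ≫ U.2.fromSpec := by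
    have := IsAffineOpen.SpecMap_appLE_fromSpec f U.2 (U.2.preimage f) le_rfl
    rw [← this, Scheme.Hom.appLE_eq_app]
  have h2 : f.app U.1 ≫ ω ⟨U.1, U.2⟩ = g.app U.1 := hc ⟨U.1, U.2⟩
  change (g ⁻¹ᵁ U.1).toSpecΓ ≫ Spec.map (ω ⟨U.1, U.2⟩) ≫ (U.2.preimage f).fromSpec ≫ f = _
  rw [h1, ← Spec.map_comp_assoc, h2]
  change (g ⁻¹ᵁ U.1).toSpecΓ ≫ Spec.map (g.app _) ≫ U.2.fromSpec = (g ⁻¹ᵁ U.1).ι ≫ _
  simp

lemma appLE_gluedA (hc : ∀ U : S.AffineZariskiSite, f.app U.toOpens ≫ ω U = g.app U.toOpens)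
    (U : S.AffineZariskiSite) :
    (gluedA f g ω hω).appLE (f ⁻¹ᵁ U.toOpens) (g ⁻¹ᵁ U.toOpens) (by
      rw [← Scheme.Hom.comp_preimage, gluedA_comp f g ω hω hc]) = ω U := by
  have hfU : IsAffineOpen (f ⁻¹ᵁ U.toOpens) := (aff U).preimage f
  have e : g ⁻¹ᵁ U.toOpens ≤ (gluedA f g ω hω) ⁻¹ᵁ (f ⁻¹ᵁ U.toOpens) := by
    rw [← Scheme.Hom.comp_preimage, gluedA_comp f g ω hω hc]
  apply toSpecΓ_SpecMap_injective (g ⁻¹ᵁ U.toOpens)
  rw [← cancel_mono hfU.fromSpec, Category.assoc, Category.assoc, ← ι_comp_eq _ hfU _ e,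
    ι_gluedA f g ω hω U]
  rfl

end GlueAff


section GlueSite

open Scheme AffineZariskiSite

variable {S : Scheme.{u}} (F : S.AffineZariskiSiteᵒᵖ ⥤ CommRingCat.{u})
    (αF : (toOpensFunctor S).op ⋙ S.presheaf ⟶ F) (H : αF.Coequifibered)

noncomputable def D : (directedCover S).RelativeGluingData := relativeGluingData H

instance : ((D F αF H).functor ⋙ Scheme.forget).IsLocallyDirected :=
  Cover.RelativeGluingData.instIsLocallyDirectedI₀CompFunctorForgetOfIsThin ..

noncomputable def X : Scheme.{u} := (D F αF H).glued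
noncomputable def f : X F αF H ⟶ S := (D F αF H).toBase

/-- the structure map on an affine open, with its source written as `Γ(S, U)`. -/
noncomputable def αU (U : S.AffineZariskiSite) : Γ(S, U.toOpens) ⟶ F.obj (op U) := αF.app (op U)

/-- the affine charts of the relative spectrum -/
noncomputable def ι (U : S.AffineZariskiSite) : Spec (F.obj (op U)) ⟶ X F αF H :=
  (D F αF H).cover.f U

instance (U : S.AffineZariskiSite) : IsOpenImmersion (ι F αF H U) :=
  inferInstanceAs (IsOpenImmersion ((D F αF H).cover.f _))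

@[reassoc]
lemma ι_f (U : S.AffineZariskiSite) :
    ι F αF H U ≫ f F αF H = Spec.map (αU F αF U) ≫ (aff U).fromSpec :=
  colimit.ι_desc _ _

lemma f_preimage (U : S.AffineZariskiSite) :
    f F αF H ⁻¹ᵁ U.toOpens = (ι F αF H U).opensRange := by
  simpa using! (D F αF H).toBase_preimage_eq_opensRange_ι U

instance : IsAffineHom (f F αF H) := by
  refine ⟨fun U hU => ?_⟩
  rw [f_preimage F αF H ⟨U, hU⟩]
  exact isAffineOpen_opensRange _

@[reassoc]
lemma ι_w {U V : S.AffineZariskiSite} (i : U ⟶ V) :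
    Spec.map (F.map i.op) ≫ ι F αF H V = ι F αF H U :=
  colimit.w (D F αF H).functor i

lemma ι_preimage (U : S.AffineZariskiSite) : ι F αF H U ⁻¹ᵁ f F αF H ⁻¹ᵁ U.toOpens = ⊤ := by
  rw [f_preimage]; simp

/-- The comparison map on an affine open. -/
noncomputable def η (U : S.AffineZariskiSite) :
    Γ(X F αF H, f F αF H ⁻¹ᵁ U.toOpens) ⟶ F.obj (op U) :=
  (ι F αF H U).appLE (f F αF H ⁻¹ᵁ U.toOpens) ⊤ (ι_preimage F αF H U).ge ≫
    (Scheme.ΓSpecIso (F.obj (op U))).hom

instance (U : S.AffineZariskiSite) : IsIso (η F αF H U) := by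
  have := isIso_appLE_of_eq (ι F αF H U) (f F αF H ⁻¹ᵁ U.toOpens) ⊤ (by rw [f_preimage])
    (ι_preimage F αF H U).symm
  unfold η
  infer_instance

lemma η_naturality {U V : S.AffineZariskiSite} (i : U ⟶ V) :
    (X F αF H).presheaf.map (homOfLE ((f F αF H).preimage_mono (toOpens_le i))).op ≫ η F αF H U =
      η F αF H V ≫ F.map i.op := by
  unfold η
  rw [Scheme.Hom.map_appLE_assoc, Category.assoc, ← Scheme.ΓSpecIso_naturality,
    appLE_comp_appTop_assoc]
  simp_rw [ι_w F αF H i]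

lemma a_eq (U : S.AffineZariskiSite) :
    αU F αF U = (f F αF H).app U.toOpens ≫ η F αF H U := by
  unfold η
  rw [Scheme.Hom.app_eq_appLE, Scheme.Hom.appLE_comp_appLE_assoc]
  simp_rw [ι_f F αF H U]
  rw [← appLE_comp_appTop_assoc _ _ _ (by rw [(aff U).fromSpec_preimage_self]),
    Scheme.ΓSpecIso_naturality, fromSpec_appLE_top, Iso.inv_hom_id_assoc]

end GlueSite


section Main

open Scheme AffineZariskiSite

lemma appLE_of_eq {X Y : Scheme.{u}} {h₁ h₂ : X ⟶ Y} (e : h₁ = h₂) (U : Y.Opens) (V : X.Opens)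
    (e₁ : V ≤ h₁ ⁻¹ᵁ U) : h₁.appLE U V e₁ = h₂.appLE U V (e ▸ e₁) := by
  subst e; rfl

variable {J : Type u} [SmallCategory J] (E : J ⥤ Scheme.{u}) (S : Scheme.{u})
  (fj : ∀ j, E.obj j ⟶ S) (hf : ∀ {j k : J} (φ : j ⟶ k), E.map φ ≫ fj k = fj j)

/-- the direct image algebra of `E j` restricted to the affine site of `S`. -/
noncomputable def Gobj (j : J) : S.AffineZariskiSiteᵒᵖ ⥤ CommRingCat.{u} :=
  (toOpensFunctor S).op ⋙ (Opens.map (fj j).base).op ⋙ (E.obj j).presheaf

include hf in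
lemma le_preimage {j k : J} (φ : j ⟶ k) (U : S.Opens) :
    fj j ⁻¹ᵁ U ≤ E.map φ ⁻¹ᵁ (fj k ⁻¹ᵁ U) := by
  rw [← Scheme.Hom.comp_preimage, hf φ]

/-- transition maps -/
noncomputable def Gmap {j k : J} (φ : j ⟶ k) : Gobj E S fj k ⟶ Gobj E S fj j where
  app U := (E.map φ).appLE (fj k ⁻¹ᵁ U.unop.toOpens) (fj j ⁻¹ᵁ U.unop.toOpens)
    (le_preimage E S fj hf φ _)
  naturality _ _ _ :=
    (Scheme.Hom.map_appLE (E.map φ) _ _).trans (Scheme.Hom.appLE_map (E.map φ) _ _).symm

/-- the diagram of algebras -/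
noncomputable def G : Jᵒᵖ ⥤ (S.AffineZariskiSiteᵒᵖ ⥤ CommRingCat.{u}) where
  obj j := Gobj E S fj j.unop
  map φ := Gmap E S fj hf φ.unop
  map_id j := by
    apply NatTrans.ext
    funext U
    refine (appLE_of_eq (E.map_id j.unop) _ _ _).trans ?_
    rw [Scheme.Hom.appLE, Scheme.Hom.id_app]
    exact (E.obj j.unop).presheaf.map_id _
  map_comp φ ψ := by
    apply NatTrans.ext
    funext U
    refine (appLE_of_eq (E.map_comp ψ.unop φ.unop) _ _ _).trans ?_
    exact (Scheme.Hom.appLE_comp_appLE _ _ _ _ _ _ _).symm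

/-- structure maps -/
noncomputable def αj (j : J) : (toOpensFunctor S).op ⋙ S.presheaf ⟶ Gobj E S fj j :=
  (toOpensFunctor S).op.whiskerLeft (fj j).c

lemma αj_app (j : J) (U : S.AffineZariskiSite) :
    (αj E S fj j).app (op U) = (fj j).app U.toOpens := rfl

lemma αj_w {j k : J} (φ : j ⟶ k) : αj E S fj k ≫ Gmap E S fj hf φ = αj E S fj j := by
  apply NatTrans.ext
  funext U
  exact (Scheme.Hom.comp_appLE (E.map φ) (fj k) _ _ _).symm.trans
    ((appLE_of_eq (hf φ) _ _ _).trans (Scheme.Hom.appLE_eq_app _))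

/-- the colimit algebra on the affine site -/
noncomputable def F : S.AffineZariskiSiteᵒᵖ ⥤ CommRingCat.{u} := colimit (G E S fj hf)

/-- coprojections -/
noncomputable def Fι (j : J) : Gobj E S fj j ⟶ F E S fj hf := colimit.ι (G E S fj hf) (op j)

lemma Fι_w {j k : J} (φ : j ⟶ k) : Gmap E S fj hf φ ≫ Fι E S fj hf j = Fι E S fj hf k :=
  colimit.w (G E S fj hf) φ.op

variable [IsCofiltered J]

/-- a base index -/
noncomputable def j₀ : J := (IsCofiltered.nonempty (C := J)).some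

/-- the structure map of the colimit algebra -/
noncomputable def αF : (toOpensFunctor S).op ⋙ S.presheaf ⟶ F E S fj hf :=
  αj E S fj j₀ ≫ Fι E S fj hf j₀

lemma αF_eq (j : J) : αF E S fj hf = αj E S fj j ≫ Fι E S fj hf j := by
  have h1 : ∀ {j k : J} (φ : j ⟶ k), αj E S fj k ≫ Fι E S fj hf k = αj E S fj j ≫ Fι E S fj hf j := by
    intro j k φ
    rw [← Fι_w E S fj hf φ, ← Category.assoc, αj_w E S fj hf φ]
  unfold αF
  rw [h1 (IsCofiltered.minToLeft j₀ j), h1 (IsCofiltered.minToRight j₀ j)]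

/-- evaluation of the colimit cocone at an affine open is a colimit cocone -/
noncomputable def evIsColimit (U : S.AffineZariskiSite) :
    IsColimit (((CategoryTheory.evaluation _ _).obj (op U)).mapCocone (colimit.cocone (G E S fj hf))) :=
  isColimitOfPreserves _ (colimit.isColimit _)

variable [∀ j, IsAffineHom (fj j)]

theorem coequifiberedF : (αF E S fj hf).Coequifibered := by
  refine coequifibered_iff_forall_isLocalizationAway.mpr fun U r ↦ ?_
  let i : U.basicOpen r ⟶ U := homOfLE (U.basicOpen_le r)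
  have key := isLocalization_away_of_isColimit (K := Jᵒᵖ)
    (G₁ := G E S fj hf ⋙ (CategoryTheory.evaluation _ _).obj (op U))
    (G₂ := G E S fj hf ⋙ (CategoryTheory.evaluation _ _).obj (op (U.basicOpen r)))
    (Functor.whiskerLeft (G E S fj hf) ((CategoryTheory.evaluation _ _).map i.op))
    (evIsColimit E S fj hf U) (evIsColimit E S fj hf (U.basicOpen r))
    ((F E S fj hf).map i.op)
    (fun k => ((colimit.ι (G E S fj hf) k).naturality i.op).symm)
    (A := Γ(S, U.toOpens)) (fun k => (αj E S fj k.unop).app (op U))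
    (fun φ => congrArg (fun t => t.app (op U)) (αj_w E S fj hf φ.unop))
    r
    (fun k => RelSpec.QCAlg.isQC_pushforward (fj k.unop) U.toOpens U.2 r) (op j₀)
  exact key

/-- the limit scheme -/
noncomputable abbrev L : Scheme.{u} := X (F E S fj hf) (αF E S fj hf) (coequifiberedF E S fj hf)

/-- its structure map -/
noncomputable abbrev π : L E S fj hf ⟶ S := f (F E S fj hf) (αF E S fj hf) (coequifiberedF E S fj hf)

/-- comparison -/
noncomputable def ηL (U : S.AffineZariskiSite) :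
    Γ(L E S fj hf, π E S fj hf ⁻¹ᵁ U.toOpens) ≅ (F E S fj hf).obj (op U) :=
  asIso (η (F E S fj hf) (αF E S fj hf) (coequifiberedF E S fj hf) U)

lemma ηL_naturality {U V : S.AffineZariskiSite} (i : U ⟶ V) :
    (L E S fj hf).presheaf.map (homOfLE ((π E S fj hf).preimage_mono (toOpens_le i))).op ≫
      (ηL E S fj hf U).hom = (ηL E S fj hf V).hom ≫ (F E S fj hf).map i.op :=
  η_naturality _ _ _ i

lemma ηL_inv_naturality {U V : S.AffineZariskiSite} (i : U ⟶ V) :
    (F E S fj hf).map i.op ≫ (ηL E S fj hf U).inv = (ηL E S fj hf V).inv ≫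
      (L E S fj hf).presheaf.map (homOfLE ((π E S fj hf).preimage_mono (toOpens_le i))).op := by
  rw [Iso.comp_inv_eq, Category.assoc, ηL_naturality, Iso.inv_hom_id_assoc]

/-- coprojections on an affine open, with canonical types -/
noncomputable def FιU (j : J) (U : S.AffineZariskiSite) :
    Γ(E.obj j, fj j ⁻¹ᵁ U.toOpens) ⟶ (F E S fj hf).obj (op U) :=
  (Fι E S fj hf j).app (op U)

omit [IsCofiltered J] [∀ j, IsAffineHom (fj j)] in
lemma FιU_nat (j : J) {U V : S.AffineZariskiSite} (i : U ⟶ V) :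
    (E.obj j).presheaf.map (homOfLE ((fj j).preimage_mono (toOpens_le i))).op ≫ FιU E S fj hf j U =
      FιU E S fj hf j V ≫ (F E S fj hf).map i.op :=
  (Fι E S fj hf j).naturality i.op

omit [IsCofiltered J] [∀ j, IsAffineHom (fj j)] in
lemma FιU_w {j k : J} (φ : j ⟶ k) (U : S.AffineZariskiSite) :
    (E.map φ).appLE (fj k ⁻¹ᵁ U.toOpens) (fj j ⁻¹ᵁ U.toOpens) (le_preimage E S fj hf φ _) ≫
      FιU E S fj hf j U = FιU E S fj hf k U :=
  congrArg (fun t => t.app (op U)) (Fι_w E S fj hf φ)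

omit [∀ j, IsAffineHom (fj j)] in
lemma FιU_hom_ext (U : S.AffineZariskiSite) {Z : CommRingCat.{u}}
    (a b : (F E S fj hf).obj (op U) ⟶ Z)
    (h : ∀ j, FιU E S fj hf j U ≫ a = FιU E S fj hf j U ≫ b) : a = b :=
  (evIsColimit E S fj hf U).hom_ext fun k => h k.unop

lemma π_app_ηL (U : S.AffineZariskiSite) (j : J) :
    (π E S fj hf).app U.toOpens ≫ (ηL E S fj hf U).hom =
      (fj j).app U.toOpens ≫ FιU E S fj hf j U := by
  have h1 := a_eq (F E S fj hf) (αF E S fj hf) (coequifiberedF E S fj hf) U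
  have h2 := congrArg (fun t => t.app (op U)) (αF_eq E S fj hf j)
  exact h1.symm.trans h2

/-- ring maps defining the projections -/
noncomputable def ωj (j : J) (U : S.AffineZariskiSite) :
    Γ(E.obj j, fj j ⁻¹ᵁ U.toOpens) ⟶ Γ(L E S fj hf, π E S fj hf ⁻¹ᵁ U.toOpens) :=
  FιU E S fj hf j U ≫ (ηL E S fj hf U).inv

lemma ωj_nat (j : J) {U V : S.AffineZariskiSite} (i : U ⟶ V) :
    (E.obj j).presheaf.map (homOfLE ((fj j).preimage_mono (toOpens_le i))).op ≫ ωj E S fj hf j U =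
      ωj E S fj hf j V ≫
        (L E S fj hf).presheaf.map (homOfLE ((π E S fj hf).preimage_mono (toOpens_le i))).op := by
  unfold ωj
  rw [Category.assoc, ← ηL_inv_naturality, ← Category.assoc, ← Category.assoc,
    FιU_nat E S fj hf j i]

lemma ωj_comp (j : J) (U : S.AffineZariskiSite) :
    (fj j).app U.toOpens ≫ ωj E S fj hf j U = (π E S fj hf).app U.toOpens := by
  unfold ωj
  rw [← Category.assoc, ← π_app_ηL E S fj hf U j, Category.assoc, Iso.hom_inv_id, Category.comp_id]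

/-- the projections -/
noncomputable def pj (j : J) : L E S fj hf ⟶ E.obj j :=
  gluedA (fj j) (π E S fj hf) (ωj E S fj hf j) (ωj_nat E S fj hf j)

lemma pj_comp (j : J) : pj E S fj hf j ≫ fj j = π E S fj hf :=
  gluedA_comp (fj j) (π E S fj hf) (ωj E S fj hf j) (ωj_nat E S fj hf j) (ωj_comp E S fj hf j)

lemma le_preimage_pj (j : J) (U : S.Opens) :
    π E S fj hf ⁻¹ᵁ U ≤ pj E S fj hf j ⁻¹ᵁ (fj j ⁻¹ᵁ U) := by
  rw [← Scheme.Hom.comp_preimage, pj_comp]

lemma appLE_pj (j : J) (U : S.AffineZariskiSite) :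
    (pj E S fj hf j).appLE (fj j ⁻¹ᵁ U.toOpens) (π E S fj hf ⁻¹ᵁ U.toOpens)
      (le_preimage_pj E S fj hf j _) = ωj E S fj hf j U :=
  appLE_gluedA (fj j) (π E S fj hf) (ωj E S fj hf j) (ωj_nat E S fj hf j) (ωj_comp E S fj hf j) U

lemma pj_w {j k : J} (φ : j ⟶ k) : pj E S fj hf j ≫ E.map φ = pj E S fj hf k := by
  refine ext_of_appLE (fj k) (π E S fj hf) _ _
    (by rw [Category.assoc, hf φ, pj_comp]) (pj_comp E S fj hf k) fun U => ?_
  refine Eq.trans ?_ ((appLE_pj E S fj hf k U).symm)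
  have h1 := Scheme.Hom.appLE_comp_appLE (pj E S fj hf j) (E.map φ) (fj k ⁻¹ᵁ U.toOpens)
    (fj j ⁻¹ᵁ U.toOpens) (π E S fj hf ⁻¹ᵁ U.toOpens) (le_preimage E S fj hf φ _)
    (le_preimage_pj E S fj hf j _)
  refine h1.symm.trans ?_
  rw [appLE_pj]
  unfold ωj
  rw [← Category.assoc, FιU_w]

/-- the limit cone -/
noncomputable def limCone : Cone E where
  pt := L E S fj hf
  π :=
    { app := fun j => pj E S fj hf j
      naturality := fun j k φ => by
        rw [pj_w E S fj hf φ]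
        exact Category.id_comp _ }

section Lift

variable (t : Cone E)

/-- the structure map of a cone point -/
noncomputable def gt : t.pt ⟶ S := t.π.app j₀ ≫ fj j₀

include hf in
omit [∀ j, IsAffineHom (fj j)] in
lemma gt_eq (j : J) : t.π.app j ≫ fj j = gt E S fj t := by
  have h1 : ∀ {j k : J} (φ : j ⟶ k), t.π.app k ≫ fj k = t.π.app j ≫ fj j := by
    intro j k φ
    rw [← t.w φ, Category.assoc, hf φ]
  unfold gt
  rw [h1 (IsCofiltered.minToLeft j j₀), h1 (IsCofiltered.minToRight j j₀)]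

/-- the direct image algebra of the cone point on the affine site -/
noncomputable def Q : S.AffineZariskiSiteᵒᵖ ⥤ CommRingCat.{u} :=
  (toOpensFunctor S).op ⋙ (Opens.map (gt E S fj t).base).op ⋙ t.pt.presheaf

include hf in
omit [∀ j, IsAffineHom (fj j)] in
lemma le_preimage_gt (j : J) (U : S.Opens) :
    gt E S fj t ⁻¹ᵁ U ≤ t.π.app j ⁻¹ᵁ (fj j ⁻¹ᵁ U) := by
  rw [← Scheme.Hom.comp_preimage, gt_eq E S fj hf t j]

/-- the legs of the cocone of algebras -/
noncomputable def leg (j : J) : Gobj E S fj j ⟶ Q E S fj t where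
  app U := (t.π.app j).appLE (fj j ⁻¹ᵁ U.unop.toOpens) (gt E S fj t ⁻¹ᵁ U.unop.toOpens)
    (le_preimage_gt E S fj hf t j _)
  naturality _ _ _ :=
    (Scheme.Hom.map_appLE (t.π.app j) _ _).trans (Scheme.Hom.appLE_map (t.π.app j) _ _).symm

omit [∀ j, IsAffineHom (fj j)] in
lemma leg_w {j k : J} (φ : j ⟶ k) :
    Gmap E S fj hf φ ≫ leg E S fj hf t j = leg E S fj hf t k := by
  apply NatTrans.ext
  funext U
  exact (Scheme.Hom.appLE_comp_appLE _ _ _ _ _ _ _).trans (appLE_of_eq (t.w φ) _ _ _)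

/-- the cocone of algebras attached to a cone of schemes -/
noncomputable def cocone : Cocone (G E S fj hf) where
  pt := Q E S fj t
  ι :=
    { app := fun j => leg E S fj hf t j.unop
      naturality := fun j k φ => by
        refine (leg_w E S fj hf t φ.unop).trans ?_
        exact (Category.comp_id _).symm }

/-- the induced map from the colimit algebra -/
noncomputable def desc : F E S fj hf ⟶ Q E S fj t :=
  colimit.desc (G E S fj hf) (cocone E S fj hf t)

omit [∀ j, IsAffineHom (fj j)] in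
lemma Fι_desc (j : J) : Fι E S fj hf j ≫ desc E S fj hf t = leg E S fj hf t j :=
  colimit.ι_desc _ _

/-- the induced map on an affine open, with canonical types -/
noncomputable def descU (U : S.AffineZariskiSite) :
    (F E S fj hf).obj (op U) ⟶ Γ(t.pt, gt E S fj t ⁻¹ᵁ U.toOpens) :=
  (desc E S fj hf t).app (op U)

omit [∀ j, IsAffineHom (fj j)] in
lemma descU_nat {U V : S.AffineZariskiSite} (i : U ⟶ V) :
    (F E S fj hf).map i.op ≫ descU E S fj hf t U = descU E S fj hf t V ≫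
      t.pt.presheaf.map (homOfLE ((gt E S fj t).preimage_mono (toOpens_le i))).op :=
  (desc E S fj hf t).naturality i.op

omit [∀ j, IsAffineHom (fj j)] in
lemma FιU_descU (j : J) (U : S.AffineZariskiSite) :
    FιU E S fj hf j U ≫ descU E S fj hf t U =
      (t.π.app j).appLE (fj j ⁻¹ᵁ U.toOpens) (gt E S fj t ⁻¹ᵁ U.toOpens)
        (le_preimage_gt E S fj hf t j _) :=
  congrArg (fun τ => τ.app (op U)) (Fι_desc E S fj hf t j)

/-- ring maps defining the lift -/
noncomputable def Ω (U : S.AffineZariskiSite) :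
    Γ(L E S fj hf, π E S fj hf ⁻¹ᵁ U.toOpens) ⟶ Γ(t.pt, gt E S fj t ⁻¹ᵁ U.toOpens) :=
  (ηL E S fj hf U).hom ≫ descU E S fj hf t U

lemma Ω_nat {U V : S.AffineZariskiSite} (i : U ⟶ V) :
    (L E S fj hf).presheaf.map (homOfLE ((π E S fj hf).preimage_mono (toOpens_le i))).op ≫
      Ω E S fj hf t U = Ω E S fj hf t V ≫
        t.pt.presheaf.map (homOfLE ((gt E S fj t).preimage_mono (toOpens_le i))).op := by
  unfold Ω
  rw [← Category.assoc, ηL_naturality, Category.assoc, Category.assoc,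
    descU_nat E S fj hf t i]

lemma Ω_comp (U : S.AffineZariskiSite) :
    (π E S fj hf).app U.toOpens ≫ Ω E S fj hf t U = (gt E S fj t).app U.toOpens := by
  unfold Ω
  rw [← Category.assoc, π_app_ηL E S fj hf U j₀, Category.assoc, FιU_descU]
  exact (Scheme.Hom.comp_appLE (t.π.app j₀) (fj j₀) _ _ _).symm.trans (Scheme.Hom.appLE_eq_app _)

/-- the lift -/
noncomputable def lift : t.pt ⟶ L E S fj hf :=
  gluedA (π E S fj hf) (gt E S fj t) (Ω E S fj hf t) (Ω_nat E S fj hf t)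

lemma lift_comp : lift E S fj hf t ≫ π E S fj hf = gt E S fj t :=
  gluedA_comp (π E S fj hf) (gt E S fj t) (Ω E S fj hf t) (Ω_nat E S fj hf t) (Ω_comp E S fj hf t)

lemma le_preimage_lift (U : S.Opens) :
    gt E S fj t ⁻¹ᵁ U ≤ lift E S fj hf t ⁻¹ᵁ (π E S fj hf ⁻¹ᵁ U) := by
  rw [← Scheme.Hom.comp_preimage, lift_comp]

lemma appLE_lift (U : S.AffineZariskiSite) :
    (lift E S fj hf t).appLE (π E S fj hf ⁻¹ᵁ U.toOpens) (gt E S fj t ⁻¹ᵁ U.toOpens)
      (le_preimage_lift E S fj hf t _) = Ω E S fj hf t U :=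
  appLE_gluedA (π E S fj hf) (gt E S fj t) (Ω E S fj hf t) (Ω_nat E S fj hf t)
    (Ω_comp E S fj hf t) U

lemma lift_fac (j : J) : lift E S fj hf t ≫ pj E S fj hf j = t.π.app j := by
  refine ext_of_appLE (fj j) (gt E S fj t) _ _
    (by rw [Category.assoc, pj_comp, lift_comp]) (gt_eq E S fj hf t j) fun U => ?_
  have h1 := Scheme.Hom.appLE_comp_appLE (lift E S fj hf t) (pj E S fj hf j) (fj j ⁻¹ᵁ U.toOpens)
    (π E S fj hf ⁻¹ᵁ U.toOpens) (gt E S fj t ⁻¹ᵁ U.toOpens)
    (le_preimage_pj E S fj hf j _) (le_preimage_lift E S fj hf t _)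
  refine h1.symm.trans ?_
  rw [appLE_pj, appLE_lift]
  unfold ωj Ω
  rw [Category.assoc, Iso.inv_hom_id_assoc, FιU_descU]

lemma lift_uniq (m : t.pt ⟶ L E S fj hf) (hm : ∀ j, m ≫ pj E S fj hf j = t.π.app j) :
    m = lift E S fj hf t := by
  have hmπ : m ≫ π E S fj hf = gt E S fj t := by
    rw [← pj_comp E S fj hf j₀, ← Category.assoc, hm]
    rfl
  have hle : ∀ U : S.Opens, gt E S fj t ⁻¹ᵁ U ≤ m ⁻¹ᵁ (π E S fj hf ⁻¹ᵁ U) := by
    intro U
    rw [← Scheme.Hom.comp_preimage, hmπ]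
  refine ext_of_appLE (π E S fj hf) (gt E S fj t) m _ hmπ (lift_comp E S fj hf t) fun U => ?_
  refine Eq.trans ?_ (appLE_lift E S fj hf t U).symm
  change m.appLE (π E S fj hf ⁻¹ᵁ U.toOpens) (gt E S fj t ⁻¹ᵁ U.toOpens) (hle _) = _
  unfold Ω
  rw [← Iso.inv_comp_eq]
  apply FιU_hom_ext E S fj hf U
  intro j
  rw [FιU_descU, ← Category.assoc]
  change ωj E S fj hf j U ≫ _ = _
  rw [← appLE_pj]
  exact (Scheme.Hom.appLE_comp_appLE _ _ _ _ _ _ _).trans (appLE_of_eq (hm j) _ _ _)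

end Lift

/-- the cone is a limit cone -/
noncomputable def limConeIsLimit : IsLimit (limCone E S fj hf) where
  lift t := lift E S fj hf t
  fac t j := lift_fac E S fj hf t j
  uniq t m hm := lift_uniq E S fj hf t m hm

include hf in
theorem hasLimit : HasLimit E := ⟨⟨⟨limCone E S fj hf, limConeIsLimit E S fj hf⟩⟩⟩

end Main

end Groth.Agent.Lib.Helper13.AffLim
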