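import Mathlib.AlgebraicGeometry.AffineTransitionLimit
import Mathlib.AlgebraicGeometry.ResidueField

/-!
# Sections of a cofiltered limit of schemes with affine transition maps (helper13)

`exists_appLE_eq`: a section of the limit over the preimage of an affine open `V` of a stage
comes from a section over the preimage of `V` in a later stage.
-/

set_option autoImplicit false
universe u

open CategoryTheory Limits AlgebraicGeometry

namespace Groth.Agent.Lib.Helper13.LimSections

variable {I : Type u} [Category.{u} I] (D : I ⥤ Scheme.{u}) (c : Cone D) (hc : IsLimit c)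

lemma preimage_preimage_eq {i : I} (j : Over i) (V : (D.obj i).Opens) :
    c.π.app j.left ⁻¹ᵁ D.map j.hom ⁻¹ᵁ V = c.π.app i ⁻¹ᵁ V := by
  rw [← Scheme.Hom.comp_preimage, c.w]

set_option backward.defeqAttrib.useBackward true in
set_option backward.isDefEq.respectTransparency false in
open Scheme.Opens in
include hc in
/-- Sections of the limit over the preimage of an affine open of a stage come from a later
stage. -/
lemma exists_appLE_eq [IsCofiltered I] [∀ {i j} (f : i ⟶ j), IsAffineHom (D.map f)]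
    (i : I) (V : (D.obj i).Opens) (hV : IsAffineOpen V) (r : Γ(c.pt, c.π.app i ⁻¹ᵁ V)) :
    ∃ (j : Over i) (s : Γ(D.obj j.left, D.map j.hom ⁻¹ᵁ V)),
      r = (c.π.app j.left).appLE (D.map j.hom ⁻¹ᵁ V) (c.π.app i ⁻¹ᵁ V)
        (preimage_preimage_eq D c j V).ge s := by
  have (j : _) : IsAffine ((opensDiagram D i V).op.obj j).unop := hV.preimage _
  have (j : _) : IsAffine ((opensDiagram D i V).obj j) := hV.preimage _
  obtain ⟨⟨j⟩, s, hs⟩ := (Types.jointly_surjective_of_isColimit (isColimitOfPreserves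
    (Scheme.Γ ⋙ forget _) (isLimitOpensCone D c hc i V).op) ((c.π.app i ⁻¹ᵁ V).topIso.inv r))
  obtain ⟨s, rfl⟩ := (D.map j.hom ⁻¹ᵁ V).topIso.symm.commRingCatIsoToRingEquiv.surjective s
  have h : c.π.app j.left ⁻¹ᵁ D.map j.hom ⁻¹ᵁ V = c.π.app i ⁻¹ᵁ V := congr($(c.w j.hom) ⁻¹ᵁ V)
  refine ⟨j, s, ?_⟩
  convert!
    show r = ((topIso _).inv ≫ ((opensCone D c i V).π.app j).appTop ≫ (topIso _).hom) s from
      (c.π.app i ⁻¹ᵁ V).topIso.commRingCatIsoToRingEquiv.symm_apply_eq.mp hs.symm using 3
  simp [Scheme.Hom.app_eq_appLE, Scheme.Hom.resLE_appLE]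

end Groth.Agent.Lib.Helper13.LimSections
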