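import Groth.Prelude.Def_CInt
import Groth.Agent.Lib.Helper13.LimSections
import Mathlib.RingTheory.Flat.Equalizer
import Mathlib.LinearAlgebra.TensorProduct.Pi
import Mathlib.AlgebraicGeometry.Noetherian
import Mathlib.AlgebraicGeometry.Morphisms.Flat

/-!
# Schematic density: affine criterion, flat base change, limits (helper13)

* `TorFree f`: no nonzero element of a ring is killed by powers of all `f k`.
* `torFree_of_flat`: flat base change.
* `torFree_of_isSchematicallyDense`, `isSchematicallyDense_of_torFree`: `CInt.IsSchematicallyDense U` in terms of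
  `TorFree` on an affine cover where `U` is cut out by finitely many basic opens.
* `exists_appLE_eq_zero`: a section vanishing on a cofiltered limit (affine transitions) vanishes at a later stage.
* `Sys`: abstract filtered systems of rings: `torFree_limit`, `exists_stage_torFree`.
-/

set_option autoImplicit false
universe u

open CategoryTheory Limits AlgebraicGeometry TopologicalSpace Opposite TensorProduct

namespace Groth.Agent.Lib.Helper13.SchDense

/-- no nonzero element is killed by a power of every `f k`. -/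
def TorFree {A : Type*} [CommRing A] {ι : Type*} (f : ι → A) : Prop :=
  ∀ a : A, (∀ k, ∃ N : ℕ, f k ^ N * a = 0) → a = 0

/-- flat base change: if every element of `A` killed by powers of all `f k` dies in the flat `A`-algebra `B`,
then `B` has no such nonzero elements. -/
theorem torFree_of_flat {A B : Type*} [CommRing A] [CommRing B] [Algebra A B] [Module.Flat A B]
    {ι : Type*} [Finite ι] (f : ι → A)
    (hx : ∀ a : A, (∀ k, ∃ N : ℕ, f k ^ N * a = 0) → algebraMap A B a = 0) :
    TorFree (fun k => algebraMap A B (f k)) := by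
  classical
  cases nonempty_fintype ι
  intro b hb
  choose Nk hNk using hb
  let N := Finset.univ.sup Nk
  have hN : ∀ k, algebraMap A B (f k) ^ N * b = 0 := by
    intro k
    have : Nk k ≤ N := Finset.le_sup (Finset.mem_univ k)
    obtain ⟨d, hd⟩ := Nat.exists_eq_add_of_le this
    rw [hd, pow_add, mul_comm (_ ^ Nk k), mul_assoc, hNk k, mul_zero]
  let φ : A →ₗ[A] (ι → A) := LinearMap.pi fun k => LinearMap.lsmul A A (f k ^ N)
  have hker := Module.Flat.ker_lTensor_eq (R := A) B B φ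
  have hmem : (b ⊗ₜ[A] (1 : A)) ∈ LinearMap.ker (AlgebraTensorModule.lTensor B B φ) := by
    rw [LinearMap.mem_ker]
    apply (TensorProduct.piScalarRight A B B ι).injective
    rw [map_zero]
    funext k
    simp only [AlgebraTensorModule.lTensor_tmul, TensorProduct.piScalarRight_apply,
      TensorProduct.piScalarRightHom_tmul, Pi.zero_apply]
    simp only [φ, LinearMap.pi_apply, LinearMap.lsmul_apply, smul_eq_mul, mul_one]
    rw [Algebra.smul_def, map_pow]
    exact hN k
  rw [hker] at hmem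
  obtain ⟨z, hz⟩ := hmem
  have hμ : ∀ z : B ⊗[A] (LinearMap.ker φ),
      TensorProduct.rid A B ((AlgebraTensorModule.lTensor B B (LinearMap.ker φ).subtype) z) = 0 := by
    intro z
    induction z using TensorProduct.induction_on with
    | zero => simp
    | tmul b' x =>
      simp only [AlgebraTensorModule.lTensor_tmul, Submodule.subtype_apply, TensorProduct.rid_tmul]
      have hx' : algebraMap A B (x : A) = 0 := by
        apply hx
        intro k
        refine ⟨N, ?_⟩
        have := congrFun (LinearMap.mem_ker.mp x.2) k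
        simpa [φ] using this
      rw [Algebra.smul_def, hx', zero_mul]
    | add z₁ z₂ h₁ h₂ => rw [map_add, map_add, h₁, h₂, add_zero]
  have := hμ z
  rw [hz, TensorProduct.rid_tmul, one_smul] at this
  exact this


section Criterion

variable {X : Scheme.{u}} (U : X.Opens)

lemma map_map_apply {W₁ W₂ W₃ : X.Opens} (h₁₂ : W₁ ≤ W₂) (h₂₃ : W₂ ≤ W₃) (s : Γ(X, W₃)) :
    (X.presheaf.map (homOfLE h₁₂).op).hom ((X.presheaf.map (homOfLE h₂₃).op).hom s) =
      (X.presheaf.map (homOfLE (h₁₂.trans h₂₃)).op).hom s := by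
  rw [← RingHom.comp_apply, ← CommRingCat.hom_comp, ← Functor.map_comp]
  rfl

lemma isUnit_res_of_le_basicOpen {V W : X.Opens} (f : Γ(X, V)) (hWV : W ≤ V)
    (hW : W ≤ X.basicOpen f) : IsUnit ((X.presheaf.map (homOfLE hWV).op).hom f) := by
  have h1 := RingedSpace.isUnit_res_basicOpen X.toRingedSpace f
  have h2 := h1.map (X.presheaf.map (homOfLE hW).op).hom
  convert h2 using 1
  exact (map_map_apply hW (X.basicOpen_le f) f).symm

/-- schematically dense ⇒ no torsion on affine opens -/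
lemma torFree_of_isSchematicallyDense (hU : CInt.IsSchematicallyDense U) {V : X.Opens}
    {ι : Type*} (f : ι → Γ(X, V)) (hf : V ⊓ U ≤ ⨆ k, X.basicOpen (f k)) : TorFree f := by
  intro s hs
  apply hU V
  rw [map_zero]
  refine TopCat.Sheaf.eq_of_locally_eq' X.sheaf (fun k => X.basicOpen (f k) ⊓ (V ⊓ U)) (V ⊓ U)
    (fun k => homOfLE inf_le_right) ?_ _ _ fun k => ?_
  · intro x hx
    obtain ⟨k, hk⟩ := Opens.mem_iSup.mp (hf hx)
    exact Opens.mem_iSup.mpr ⟨k, hk, hx⟩
  · obtain ⟨N, hN⟩ := hs k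
    change (X.presheaf.map (homOfLE (inf_le_right :
        X.basicOpen (f k) ⊓ (V ⊓ U) ≤ V ⊓ U)).op).hom
        ((X.presheaf.map (homOfLE (inf_le_left : V ⊓ U ≤ V)).op).hom s) =
      (X.presheaf.map (homOfLE (inf_le_right :
        X.basicOpen (f k) ⊓ (V ⊓ U) ≤ V ⊓ U)).op).hom 0
    rw [map_zero]
    have hWV : X.basicOpen (f k) ⊓ (V ⊓ U) ≤ V := inf_le_right.trans inf_le_left
    have e1 : (X.presheaf.map (homOfLE (inf_le_right :
        X.basicOpen (f k) ⊓ (V ⊓ U) ≤ V ⊓ U)).op).hom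
        ((X.presheaf.map (homOfLE (inf_le_left : V ⊓ U ≤ V)).op).hom s) =
        (X.presheaf.map (homOfLE hWV).op).hom s := map_map_apply _ _ s
    refine e1.trans ?_
    have hu := isUnit_res_of_le_basicOpen (f k) hWV inf_le_left
    have h0 : (X.presheaf.map (homOfLE hWV).op).hom (f k) ^ N *
        (X.presheaf.map (homOfLE hWV).op).hom s = 0 := by
      rw [← map_pow, ← map_mul, hN, map_zero]
    exact (hu.pow N).mul_right_eq_zero.mp h0

/-- no torsion on an affine cover ⇒ schematically dense -/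
lemma isSchematicallyDense_of_torFree {α : Type*} (V : α → X.Opens) (hV : ∀ a, IsAffineOpen (V a))
    (hcov : ∀ x : X, ∃ a, x ∈ V a) (ι : α → Type*) [∀ a, Finite (ι a)]
    (f : ∀ a, ι a → Γ(X, V a)) (hfU : ∀ a k, X.basicOpen (f a k) ≤ U)
    (htf : ∀ a, TorFree (f a)) : CInt.IsSchematicallyDense U := by
  classical
  intro W
  rw [injective_iff_map_eq_zero]
  intro s hs
  refine TopCat.Sheaf.eq_of_locally_eq' X.sheaf
    (fun p : {p : Σ a, Γ(X, V a) // X.basicOpen p.2 ≤ W} => X.basicOpen p.1.2) W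
    (fun p => homOfLE p.2) ?_ _ _ fun p => ?_
  · intro x hxW
    obtain ⟨a, hxa⟩ := hcov x
    obtain ⟨g, hgW, hxg⟩ := (hV a).exists_basicOpen_le (V := W) ⟨x, hxW⟩ hxa
    exact Opens.mem_iSup.mpr ⟨⟨⟨a, g⟩, hgW⟩, hxg⟩
  · obtain ⟨⟨a, g⟩, hgW⟩ := p
    change (X.presheaf.map (homOfLE hgW).op).hom s = (X.presheaf.map (homOfLE hgW).op).hom 0
    rw [map_zero]
    cases nonempty_fintype (ι a)
    set s' := (X.presheaf.map (homOfLE hgW).op).hom s with hs'
    have hloc := (hV a).isLocalization_basicOpen g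
    obtain ⟨n, t, ht⟩ := IsLocalization.Away.surj g s'
    -- for each `k`, a power of `g * f k` kills `t`
    have hk : ∀ k, ∃ m : ℕ, (g * f a k) ^ m * t = 0 := by
      intro k
      have hloc' := (hV a).isLocalization_basicOpen (g * f a k)
      have hle : X.basicOpen (g * f a k) ≤ X.basicOpen g := by
        rw [X.basicOpen_mul]; exact inf_le_left
      have hle' : X.basicOpen (g * f a k) ≤ W ⊓ U := by
        rw [X.basicOpen_mul]
        exact inf_le_inf hgW (hfU a k)
      have hz : algebraMap Γ(X, V a) Γ(X, X.basicOpen (g * f a k)) t = 0 := by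
        have e1 : algebraMap Γ(X, V a) Γ(X, X.basicOpen (g * f a k)) t =
            (X.presheaf.map (homOfLE hle).op).hom (algebraMap Γ(X, V a) Γ(X, X.basicOpen g) t) :=
          (map_map_apply hle (X.basicOpen_le g) t).symm
        rw [e1, ← ht, map_mul]
        have e2 : (X.presheaf.map (homOfLE hle).op).hom s' = 0 := by
          rw [hs', map_map_apply]
          have e3 := map_map_apply hle' (inf_le_left : W ⊓ U ≤ W) s
          rw [← e3, hs, map_zero]
        rw [e2, zero_mul]
      obtain ⟨⟨_, m, rfl⟩, hm⟩ := (IsLocalization.map_eq_zero_iff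
        (Submonoid.powers (g * f a k)) Γ(X, X.basicOpen (g * f a k)) t).mp hz
      exact ⟨m, hm⟩
    choose m hm using hk
    let M := Finset.univ.sup m
    have hy : g ^ M * t = 0 := by
      apply htf a
      intro k
      refine ⟨m k, ?_⟩
      have hle : m k ≤ M := Finset.le_sup (Finset.mem_univ k)
      obtain ⟨d, hd⟩ := Nat.exists_eq_add_of_le hle
      have := hm k
      rw [mul_pow] at this
      rw [hd, pow_add]
      calc f a k ^ m k * (g ^ m k * g ^ d * t) = g ^ d * (g ^ m k * f a k ^ m k * t) := by ring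
        _ = 0 := by rw [this, mul_zero]
    have hug : IsUnit (algebraMap Γ(X, V a) Γ(X, X.basicOpen g) g) :=
      IsLocalization.Away.algebraMap_isUnit g
    have ht0 : algebraMap Γ(X, V a) Γ(X, X.basicOpen g) t = 0 := by
      have := congrArg (algebraMap Γ(X, V a) Γ(X, X.basicOpen g)) hy
      rw [map_mul, map_pow, map_zero] at this
      exact (hug.pow M).mul_right_eq_zero.mp this
    rw [ht0] at ht
    exact (hug.pow n).mul_left_eq_zero.mp ht

end Criterion


open Scheme.Opens in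
set_option backward.defeqAttrib.useBackward true in
set_option backward.isDefEq.respectTransparency false in
lemma resLE_appTop {X Y : Scheme.{u}} (f : X ⟶ Y) (U : Y.Opens) (V : X.Opens) (e : V ≤ f ⁻¹ᵁ U) :
    (f.resLE U V e).appTop = U.topIso.hom ≫ f.appLE U V e ≫ V.topIso.inv := by
  rw [← Iso.inv_comp_eq, Iso.eq_comp_inv]
  simp [Scheme.Hom.app_eq_appLE, Scheme.Hom.resLE_appLE]

lemma resLE_appTop_apply {X Y : Scheme.{u}} (f : X ⟶ Y) (U : Y.Opens) (V : X.Opens)
    (e : V ≤ f ⁻¹ᵁ U) (s : Γ(Y, U)) :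
    (f.resLE U V e).appTop.hom (U.topIso.inv.hom s) = V.topIso.inv.hom ((f.appLE U V e).hom s) := by
  have h := congrArg (fun φ => φ.hom (U.topIso.inv.hom s)) (resLE_appTop f U V e)
  simp only [CommRingCat.hom_comp, RingHom.comp_apply] at h
  rw [h]
  congr 2
  exact congrArg (fun φ => φ.hom s) U.topIso.inv_hom_id

open LimSections

variable {I : Type u} [Category.{u} I] (D : I ⥤ Scheme.{u}) (c : Cone D) (hc : IsLimit c)

lemma preimage_le_of_hom {i : I} {j k : Over i} (a : k ⟶ j) (V : (D.obj i).Opens) :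
    D.map k.hom ⁻¹ᵁ V ≤ D.map a.left ⁻¹ᵁ (D.map j.hom ⁻¹ᵁ V) := by
  rw [← Scheme.Hom.comp_preimage, ← D.map_comp, Over.w a]

set_option backward.defeqAttrib.useBackward true in
set_option backward.isDefEq.respectTransparency false in
open Scheme.Opens in
include hc in
/-- A section over the preimage of an affine open of a stage which vanishes on the limit vanishes
at a later stage. -/
lemma exists_appLE_eq_zero [IsCofiltered I] [∀ {i j} (f : i ⟶ j), IsAffineHom (D.map f)]
    (i : I) (V : (D.obj i).Opens) (hV : IsAffineOpen V) (j : Over i)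
    (s : Γ(D.obj j.left, D.map j.hom ⁻¹ᵁ V))
    (hs : (c.π.app j.left).appLE (D.map j.hom ⁻¹ᵁ V) (c.π.app i ⁻¹ᵁ V)
      (preimage_preimage_eq D c j V).ge s = 0) :
    ∃ (k : Over i) (a : k ⟶ j), (D.map a.left).appLE (D.map j.hom ⁻¹ᵁ V) (D.map k.hom ⁻¹ᵁ V)
      (preimage_le_of_hom D a V) s = 0 := by
  have (j : _) : IsAffine ((opensDiagram D i V).op.obj j).unop := hV.preimage _
  have (j : _) : IsAffine ((opensDiagram D i V).obj j) := hV.preimage _
  have hcol := isColimitOfPreserves (Scheme.Γ ⋙ forget _) (isLimitOpensCone D c hc i V).op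
  have h0 : ((Scheme.Γ ⋙ forget _).mapCocone (opensCone D c i V).op).ι.app (op j)
      ((D.map j.hom ⁻¹ᵁ V).topIso.inv s) =
      ((Scheme.Γ ⋙ forget _).mapCocone (opensCone D c i V).op).ι.app (op j)
      ((D.map j.hom ⁻¹ᵁ V).topIso.inv 0) := by
    refine (resLE_appTop_apply (c.π.app j.left) (D.map j.hom ⁻¹ᵁ V) (c.π.app i ⁻¹ᵁ V)
      (preimage_preimage_eq D c j V).ge s).trans ?_
    refine Eq.trans ?_ (resLE_appTop_apply (c.π.app j.left) (D.map j.hom ⁻¹ᵁ V)
      (c.π.app i ⁻¹ᵁ V) (preimage_preimage_eq D c j V).ge 0).symm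
    rw [map_zero]
    exact congrArg _ hs
  obtain ⟨⟨k⟩, a, ha⟩ := (Types.FilteredColimit.isColimit_eq_iff' hcol _ _).mp h0
  refine ⟨k, a.unop, ?_⟩
  have hinj : Function.Injective (D.map k.hom ⁻¹ᵁ V).topIso.inv.hom :=
    (D.map k.hom ⁻¹ᵁ V).topIso.symm.commRingCatIsoToRingEquiv.injective
  apply hinj
  refine (resLE_appTop_apply (D.map a.unop.left) (D.map j.hom ⁻¹ᵁ V) (D.map k.hom ⁻¹ᵁ V)
    (preimage_le_of_hom D a.unop V) s).symm.trans ?_
  refine (ha.trans ?_)
  refine (resLE_appTop_apply (D.map a.unop.left) (D.map j.hom ⁻¹ᵁ V) (D.map k.hom ⁻¹ᵁ V)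
    (preimage_le_of_hom D a.unop V) 0).trans ?_
  rw [map_zero]


/-- In a Noetherian scheme, the trace of an open on an affine open is a finite union of basic opens. -/
lemma exists_finset_basicOpen_eq {X : Scheme.{u}} [NoetherianSpace X] {V : X.Opens}
    (hV : IsAffineOpen V) (U : X.Opens) :
    ∃ t : Finset Γ(X, V), V ⊓ U = ⨆ f : t, X.basicOpen (f : Γ(X, V)) := by
  classical
  have hW : IsCompact ((V ⊓ U : X.Opens) : Set X) := NoetherianSpace.isCompact _
  have hex : ∀ x : (V ⊓ U : X.Opens), ∃ g : Γ(X, V), X.basicOpen g ≤ V ⊓ U ∧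
      (x : X) ∈ X.basicOpen g := fun x => hV.exists_basicOpen_le (V := V ⊓ U) x x.2.1
  choose g hg hxg using hex
  obtain ⟨t, ht⟩ := hW.elim_finite_subcover (fun x : (V ⊓ U : X.Opens) => (X.basicOpen (g x) : Set X))
    (fun x => (X.basicOpen (g x)).2) (fun x hx => Set.mem_iUnion.mpr ⟨⟨x, hx⟩, hxg ⟨x, hx⟩⟩)
  refine ⟨t.image g, le_antisymm ?_ ?_⟩
  · intro x hx
    obtain ⟨y, hy⟩ := Set.mem_iUnion.mp (ht hx)
    obtain ⟨hyt, hxy⟩ := Set.mem_iUnion.mp hy
    exact Opens.mem_iSup.mpr ⟨⟨g y, Finset.mem_image_of_mem g hyt⟩, hxy⟩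
  · refine iSup_le ?_
    rintro ⟨f, hf⟩
    obtain ⟨y, -, rfl⟩ := Finset.mem_image.mp hf
    exact hg y

namespace Sys

variable {J : Type u} [Category.{u} J]
  (R : J → Type u) [∀ j, CommRing (R j)] (Rinf : Type u) [CommRing Rinf]
  (τ : ∀ {j k : J}, (k ⟶ j) → R j →+* R k) (lam : ∀ j, R j →+* Rinf)
  (hτ : ∀ {j k l : J} (b : k ⟶ j) (b' : l ⟶ k) (x : R j), τ b' (τ b x) = τ (b' ≫ b) x)
  (hlam : ∀ {j k : J} (b : k ⟶ j) (x : R j), lam k (τ b x) = lam j x)
  (hsurj : ∀ x : Rinf, ∃ (j : J) (s : R j), lam j s = x)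
  (hzero : ∀ (j : J) (s : R j), lam j s = 0 → ∃ (k : J) (b : k ⟶ j), τ b s = 0)

include hτ hlam hzero in
/-- finitely many elements of a stage dying in the limit die simultaneously at a later stage. -/
lemma exists_kill : ∀ (n : ℕ) (j : J) (x : Fin n → R j), (∀ i, lam j (x i) = 0) →
    ∃ (k : J) (b : k ⟶ j), ∀ i, τ b (x i) = 0 := by
  intro n
  induction n with
  | zero => intro j x _; exact ⟨j, 𝟙 j, fun i => i.elim0⟩
  | succ n ih =>
    intro j x hx
    obtain ⟨k₁, b₁, h₁⟩ := hzero j (x 0) (hx 0)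
    obtain ⟨k, b', h'⟩ := ih k₁ (fun i => τ b₁ (x i.succ)) (fun i => by rw [hlam]; exact hx _)
    refine ⟨k, b' ≫ b₁, fun i => ?_⟩
    rw [← hτ]
    refine Fin.cases ?_ (fun i => ?_) i
    · rw [h₁, map_zero]
    · exact h' i

include hτ hlam hzero in
lemma exists_kill_finite {ι : Type*} [Finite ι] (j : J) (x : ι → R j) (hx : ∀ i, lam j (x i) = 0) :
    ∃ (k : J) (b : k ⟶ j), ∀ i, τ b (x i) = 0 := by
  obtain ⟨n, ⟨e⟩⟩ := Finite.exists_equiv_fin ι
  obtain ⟨k, b, h⟩ := exists_kill R Rinf τ lam hτ hlam hzero n j (fun i => x (e.symm i))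
    (fun i => hx _)
  exact ⟨k, b, fun i => by simpa using h (e i)⟩

variable {ι : Type*} [Finite ι] (F : ∀ j, ι → R j) (Finf : ι → Rinf)
  (hF : ∀ {j k : J} (b : k ⟶ j) (i : ι), τ b (F j i) = F k i)
  (hFinf : ∀ (j : J) (i : ι), lam j (F j i) = Finf i)

include hτ hlam hsurj hzero hF hFinf in
/-- if all stages below `j₁` are torsion free then so is the limit. -/
theorem torFree_limit [IsCofiltered J] (j₁ : J)
    (htf : ∀ k : J, Nonempty (k ⟶ j₁) → TorFree (F k)) : TorFree Finf := by
  intro x hx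
  obtain ⟨j, s, rfl⟩ := hsurj x
  let j' := IsCofiltered.min j j₁
  let b₀ : j' ⟶ j := IsCofiltered.minToLeft j j₁
  choose N hN using hx
  obtain ⟨k, b, hk⟩ := exists_kill_finite R Rinf τ lam hτ hlam hzero j'
    (fun i => F j' i ^ N i * τ b₀ s) (fun i => by
      rw [map_mul, map_pow, hFinf, hlam]
      exact hN i)
  have h0 : τ b (τ b₀ s) = 0 := by
    apply htf k ⟨b ≫ IsCofiltered.minToRight j j₁⟩
    intro i
    refine ⟨N i, ?_⟩
    have := hk i
    rwa [map_mul, map_pow, hF] at this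
  rw [← hlam b₀ s, ← hlam b (τ b₀ s), h0, map_zero]

include hτ hlam hzero hF hFinf in
/-- if the limit is torsion free, a Noetherian stage with flat transitions has a torsion-free later stage. -/
theorem exists_stage_torFree (j₀ : J) [IsNoetherianRing (R j₀)]
    (hflat : ∀ {k : J} (b : k ⟶ j₀), (τ b).Flat) (htf : TorFree Finf) :
    ∃ (j : J) (_ : j ⟶ j₀), ∀ (k : J) (_ : k ⟶ j), TorFree (F k) := by
  classical
  let S : Set (R j₀) := {a | ∀ i, ∃ N : ℕ, F j₀ i ^ N * a = 0}
  have hfg : (Ideal.span S).FG := IsNoetherian.noetherian _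
  obtain ⟨T, hTS, hT⟩ := (Submodule.fg_span_iff_fg_span_finset_subset S).mp hfg
  have hT0 : ∀ t : T, lam j₀ (t : R j₀) = 0 := by
    intro t
    apply htf
    intro i
    obtain ⟨N, hN⟩ := hTS t.2 i
    refine ⟨N, ?_⟩
    rw [← hFinf j₀ i, ← map_pow, ← map_mul, hN, map_zero]
  obtain ⟨j, b₀, hj⟩ := exists_kill_finite R Rinf τ lam hτ hlam hzero j₀
    (fun t : T => (t : R j₀)) hT0
  refine ⟨j, b₀, fun k b => ?_⟩
  have hkill : ∀ a ∈ S, τ (b ≫ b₀) a = 0 := by
    intro a ha
    have hle : Ideal.span (T : Set (R j₀)) ≤ RingHom.ker (τ (b ≫ b₀)) := by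
      rw [Ideal.span_le]
      intro t ht
      rw [SetLike.mem_coe, RingHom.mem_ker, ← hτ, hj ⟨t, ht⟩, map_zero]
    have : a ∈ Ideal.span (T : Set (R j₀)) := by
      have h1 : a ∈ Ideal.span S := Ideal.subset_span ha
      rw [Ideal.span, hT] at h1
      exact h1
    exact hle this
  let _ := (τ (b ≫ b₀)).toAlgebra
  have : Module.Flat (R j₀) (R k) := hflat (b ≫ b₀)
  have := torFree_of_flat (A := R j₀) (B := R k) (F j₀) (fun a ha => hkill a ha)
  intro x hx
  apply this
  intro i
  obtain ⟨N, hN⟩ := hx i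
  refine ⟨N, ?_⟩
  change τ (b ≫ b₀) (F j₀ i) ^ N * x = 0
  rw [hF]
  exact hN

end Sys

end Groth.Agent.Lib.Helper13.SchDense
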