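import Mathlib.Algebra.Category.ModuleCat.ProjectiveDimension
import Mathlib.CategoryTheory.Abelian.Projective.Dimension
import Mathlib.RingTheory.Flat.Basic
import Mathlib.LinearAlgebra.TensorProduct.RightExactness
import Mathlib.Algebra.Module.Projective
import Mathlib.RingTheory.LocalProperties.Projective
import Mathlib.Algebra.Module.LocalizedModule.Exact
import Mathlib.RingTheory.Localization.Module

/-!
# Projective dimension and flat base change
-/

set_option autoImplicit false
universe u

open CategoryTheory TensorProduct

namespace Groth.Agent.Lib.Helper13

/-- An order lemma in `WithBot ℕ∞`. -/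
theorem withBot_enat_le_of_forall_nat_lt {a b : WithBot ℕ∞}
    (h : ∀ n : ℕ, b < n → a < n) : a ≤ b := by
  induction b with
  | bot =>
    have := h 0 (by simp)
    rw [Nat.cast_zero, WithBot.lt_zero_iff_eq_bot] at this
    rw [this]
  | coe b =>
    induction b with
    | top => exact le_top
    | coe m =>
      have := h (m + 1) (by
        rw [show ((m : ℕ∞) : WithBot ℕ∞) = ((m : ℕ) : WithBot ℕ∞) from rfl]
        exact_mod_cast Nat.lt_succ_self m)
      rw [show ((m : ℕ∞) : WithBot ℕ∞) = ((m : ℕ) : WithBot ℕ∞) from rfl]
      exact (ENat.WithBot.lt_add_one_iff).mp (by exact_mod_cast this)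

section BaseChange

variable (A B : Type u) [CommRing A] [CommRing B] [Algebra A B]

/-- Dimension shifting step for flat base change, with an abstract projective cover. -/
theorem hasProjectiveDimensionLT_baseChange_step [Module.Flat A B] (n : ℕ)
    (ih : ∀ (K : Type u) [AddCommGroup K] [Module A K],
      HasProjectiveDimensionLT (ModuleCat.of A K) (n + 1) →
        HasProjectiveDimensionLT (ModuleCat.of B (B ⊗[A] K)) (n + 1))
    (M : Type u) [AddCommGroup M] [Module A M]
    (F : Type u) [AddCommGroup F] [Module A F] [Module.Projective A F]
    (π : F →ₗ[A] M) (hπ : Function.Surjective π)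
    (hM : HasProjectiveDimensionLT (ModuleCat.of A M) (n + 2)) :
    HasProjectiveDimensionLT (ModuleCat.of B (B ⊗[A] M)) (n + 2) := by
  have hS := LinearMap.shortExact_shortComplexKer hπ
  have hproj : Projective (LinearMap.shortComplexKer π).X₂ :=
    (IsProjective.iff_projective (R := A) F).mp inferInstance
  have hK : HasProjectiveDimensionLT (ModuleCat.of A (LinearMap.ker π)) (n + 1) :=
    (hS.hasProjectiveDimensionLT_X₃_iff n hproj).mp hM
  have hBK := ih (LinearMap.ker π) hK
  -- the base-changed sequence
  let S' : ShortComplex (ModuleCat.{u} B) :=
    { X₁ := ModuleCat.of B (B ⊗[A] (LinearMap.ker π))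
      X₂ := ModuleCat.of B (B ⊗[A] F)
      X₃ := ModuleCat.of B (B ⊗[A] M)
      f := ModuleCat.ofHom ((LinearMap.ker π).subtype.baseChange B)
      g := ModuleCat.ofHom (π.baseChange B)
      zero := by
        rw [← ModuleCat.ofHom_comp, ← LinearMap.baseChange_comp]
        have : π ∘ₗ (LinearMap.ker π).subtype = 0 := by
          ext x; simp
        rw [this, LinearMap.baseChange_zero]
        rfl }
  have hS' : S'.ShortExact := by
    apply ModuleCat.shortComplex_shortExact
    · have hex : Function.Exact (LinearMap.ker π).subtype π := by
        intro x
        simp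
      have hex' : Function.Exact ((LinearMap.ker π).subtype.lTensor B) (π.lTensor B) :=
        lTensor_exact B hex hπ
      exact hex'
    · exact Module.Flat.lTensor_preserves_injective_linearMap _
        (LinearMap.ker π).injective_subtype
    · exact LinearMap.lTensor_surjective B hπ
  have hproj' : Projective S'.X₂ :=
    (IsProjective.iff_projective (R := B) (B ⊗[A] F)).mp inferInstance
  exact (hS'.hasProjectiveDimensionLT_X₃_iff n hproj').mpr hBK

/-- Flat base change does not increase the projective dimension. -/
theorem hasProjectiveDimensionLT_baseChange [Module.Flat A B] (n : ℕ) :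
    ∀ (M : Type u) [AddCommGroup M] [Module A M],
      HasProjectiveDimensionLT (ModuleCat.of A M) n →
        HasProjectiveDimensionLT (ModuleCat.of B (B ⊗[A] M)) n := by
  induction n using Nat.strong_induction_on with
  | _ n ih =>
    intro M _ _ hM
    match n, ih, hM with
    | 0, _, hM =>
      rw [hasProjectiveDimensionLT_zero_iff_isZero, ModuleCat.isZero_iff_subsingleton] at hM ⊢
      infer_instance
    | 1, _, hM =>
      rw [← projective_iff_hasProjectiveDimensionLT_one, ← IsProjective.iff_projective] at hM ⊢
      infer_instance
    | (n + 2), ih, hM =>
      exact hasProjectiveDimensionLT_baseChange_step A B n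
        (fun K _ _ hK => ih (n + 1) (by omega) K hK) M (M →₀ A)
        (Finsupp.linearCombination A id) (Finsupp.linearCombination_id_surjective A M) hM

theorem projectiveDimension_baseChange_le [Module.Flat A B]
    (M : Type u) [AddCommGroup M] [Module A M] :
    projectiveDimension (ModuleCat.of B (B ⊗[A] M)) ≤ projectiveDimension (ModuleCat.of A M) := by
  apply withBot_enat_le_of_forall_nat_lt
  intro n hn
  rw [projectiveDimension_lt_iff] at hn ⊢
  exact hasProjectiveDimensionLT_baseChange A B n M hn

end BaseChange

end Groth.Agent.Lib.Helper13

namespace Groth.Agent.Lib.Helper13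

section DimensionShifting

variable (A B : Type u) [CommRing A] [CommRing B] [Algebra A B]

/-- Dimension shifting along a projective cover. -/
theorem hasProjectiveDimensionLT_succ_succ_iff_ker (n : ℕ)
    (M : Type u) [AddCommGroup M] [Module A M]
    (F : Type u) [AddCommGroup F] [Module A F] [Module.Projective A F]
    (π : F →ₗ[A] M) (hπ : Function.Surjective π) :
    HasProjectiveDimensionLT (ModuleCat.of A M) (n + 2) ↔
      HasProjectiveDimensionLT (ModuleCat.of A (LinearMap.ker π)) (n + 1) := by
  have hS := LinearMap.shortExact_shortComplexKer hπ
  have hproj : Projective (LinearMap.shortComplexKer π).X₂ :=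
    (IsProjective.iff_projective (R := A) F).mp inferInstance
  exact hS.hasProjectiveDimensionLT_X₃_iff n hproj

/-- Dimension shifting along the flat base change of a projective cover. -/
theorem hasProjectiveDimensionLT_baseChange_succ_succ_iff_ker [Module.Flat A B] (n : ℕ)
    (M : Type u) [AddCommGroup M] [Module A M]
    (F : Type u) [AddCommGroup F] [Module A F] [Module.Projective A F]
    (π : F →ₗ[A] M) (hπ : Function.Surjective π) :
    HasProjectiveDimensionLT (ModuleCat.of B (B ⊗[A] M)) (n + 2) ↔
      HasProjectiveDimensionLT (ModuleCat.of B (B ⊗[A] (LinearMap.ker π))) (n + 1) := by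
  let S' : ShortComplex (ModuleCat.{u} B) :=
    { X₁ := ModuleCat.of B (B ⊗[A] (LinearMap.ker π))
      X₂ := ModuleCat.of B (B ⊗[A] F)
      X₃ := ModuleCat.of B (B ⊗[A] M)
      f := ModuleCat.ofHom ((LinearMap.ker π).subtype.baseChange B)
      g := ModuleCat.ofHom (π.baseChange B)
      zero := by
        rw [← ModuleCat.ofHom_comp, ← LinearMap.baseChange_comp]
        have : π ∘ₗ (LinearMap.ker π).subtype = 0 := by
          ext x; simp
        rw [this, LinearMap.baseChange_zero]
        rfl }
  have hS' : S'.ShortExact := by
    apply ModuleCat.shortComplex_shortExact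
    · have hex : Function.Exact (LinearMap.ker π).subtype π := by
        intro x
        simp
      have hex' : Function.Exact ((LinearMap.ker π).subtype.lTensor B) (π.lTensor B) :=
        lTensor_exact B hex hπ
      exact hex'
    · exact Module.Flat.lTensor_preserves_injective_linearMap _
        (LinearMap.ker π).injective_subtype
    · exact LinearMap.lTensor_surjective B hπ
  have hproj' : Projective S'.X₂ :=
    (IsProjective.iff_projective (R := B) (B ⊗[A] F)).mp inferInstance
  exact hS'.hasProjectiveDimensionLT_X₃_iff n hproj'

end DimensionShifting

end Groth.Agent.Lib.Helper13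

namespace Groth.Agent.Lib.Helper13

section Localization

variable (A : Type u) [CommRing A]

/-- Dimension shifting along the localization of a projective cover. -/
theorem hasProjectiveDimensionLT_localizedModule_succ_succ_iff_ker (S : Submonoid A) (n : ℕ)
    (M : Type u) [AddCommGroup M] [Module A M]
    (F : Type u) [AddCommGroup F] [Module A F] [Module.Projective A F]
    (π : F →ₗ[A] M) (hπ : Function.Surjective π) :
    HasProjectiveDimensionLT (ModuleCat.of (Localization S) (LocalizedModule S M)) (n + 2) ↔
      HasProjectiveDimensionLT
        (ModuleCat.of (Localization S) (LocalizedModule S (LinearMap.ker π))) (n + 1) := by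
  let S' : ShortComplex (ModuleCat.{u} (Localization S)) :=
    { X₁ := ModuleCat.of (Localization S) (LocalizedModule S (LinearMap.ker π))
      X₂ := ModuleCat.of (Localization S) (LocalizedModule S F)
      X₃ := ModuleCat.of (Localization S) (LocalizedModule S M)
      f := ModuleCat.ofHom (LocalizedModule.map S (LinearMap.ker π).subtype)
      g := ModuleCat.ofHom (LocalizedModule.map S π)
      zero := by
        rw [← ModuleCat.ofHom_comp]
        have : LocalizedModule.map S π ∘ₗ LocalizedModule.map S (LinearMap.ker π).subtype = 0 := by
          ext x
          induction x using LocalizedModule.induction_on with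
          | h m s => simp [LocalizedModule.map_mk]
        rw [this]
        rfl }
  have hS' : S'.ShortExact := by
    apply ModuleCat.shortComplex_shortExact
    · have hex : Function.Exact (LinearMap.ker π).subtype π := by
        intro x
        simp
      exact LocalizedModule.map_exact S _ _ hex
    · exact LocalizedModule.map_injective S _ (LinearMap.ker π).injective_subtype
    · exact LocalizedModule.map_surjective S _ hπ
  have hproj' : Projective S'.X₂ :=
    (IsProjective.iff_projective (R := Localization S) (LocalizedModule S F)).mp inferInstance
  exact hS'.hasProjectiveDimensionLT_X₃_iff n hproj'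

end Localization

end Groth.Agent.Lib.Helper13
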