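import Groth.Agent.Lib.Helper13.LimProd
import Mathlib.AlgebraicGeometry.Morphisms.Finite
import Mathlib.AlgebraicGeometry.Morphisms.ClosedImmersion
import Mathlib.RingTheory.IntegralClosure.IsIntegralClosure.Basic

/-!
# Structure maps of a cofiltered limit: eventual closed immersions / finiteness (helper13)

`X = lim X_i` a cofiltered limit of `S`-schemes with affine transition maps.  Properties of
`X ⟶ S` of the form "affine + property of the maps on sections" descend to the `X_i ⟶ S` by a
direct argument on sections over a finite affine cover of `S`.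
-/

set_option autoImplicit false
universe u

open CategoryTheory Limits AlgebraicGeometry

namespace Groth.Agent.Lib.Helper13.LimStruct

/-- A target-local criterion for properties of the form "affine and `Q` on sections". -/
lemma of_forall_exists_affine {P : MorphismProperty Scheme.{u}}
    {Q' : AffineTargetMorphismProperty} [HasAffineProperty P Q']
    {Q : ∀ {R S : Type u} [CommRing R] [CommRing S], (R →+* S) → Prop}
    (hQi : RingHom.RespectsIso Q)
    (hQ' : ∀ {X Y : Scheme.{u}} (f : X ⟶ Y) [IsAffine Y],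
      Q' f ↔ (IsAffine X ∧ Q f.appTop.hom))
    {X Y : Scheme.{u}} (f : X ⟶ Y)
    (H : ∀ y : Y, ∃ U : Y.Opens, y ∈ U ∧ IsAffineOpen U ∧ IsAffineOpen (f ⁻¹ᵁ U) ∧
      Q (f.app U).hom) : P f := by
  choose U hyU hU hfU hQU using H
  refine HasAffineProperty.of_iSup_eq_top (P := P) (fun y => (⟨U y, hU y⟩ : Y.affineOpens)) ?_ ?_
  · exact top_le_iff.mp (fun x _ ↦ by simpa using ⟨x, hyU x⟩)
  · intro y
    have : IsAffine (U y) := hU y
    rw [hQ']
    refine ⟨hfU y, ?_⟩
    rw [morphismRestrict_appTop]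
    refine (hQi.cancel_right_isIso _ _).mpr ?_
    have key : ∀ (W : Y.Opens), W = U y → Q (f.app W).hom := by
      rintro W rfl; exact hQU y
    exact key _ (Scheme.Opens.ι_image_top _)

lemma isClosedImmersion_of_forall_exists {X Y : Scheme.{u}} (f : X ⟶ Y)
    (H : ∀ y : Y, ∃ U : Y.Opens, y ∈ U ∧ IsAffineOpen U ∧ IsAffineOpen (f ⁻¹ᵁ U) ∧
      Function.Surjective (f.app U).hom) : IsClosedImmersion f :=
  of_forall_exists_affine (P := @IsClosedImmersion) (Q := fun f => Function.Surjective f)
    RingHom.surjective_respectsIso (fun _ _ => Iff.rfl) f H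

lemma isFinite_of_forall_exists {X Y : Scheme.{u}} (f : X ⟶ Y)
    (H : ∀ y : Y, ∃ U : Y.Opens, y ∈ U ∧ IsAffineOpen U ∧ IsAffineOpen (f ⁻¹ᵁ U) ∧
      (f.app U).hom.Finite) : IsFinite f :=
  of_forall_exists_affine (P := @IsFinite) (Q := RingHom.Finite)
    RingHom.finite_respectsIso (fun _ _ => Iff.rfl) f H

/-- If `B` is generated over `R` by a set `s` whose images under a surjection `ψ : B → C` lie in
the image of `R`, then `R → C` is surjective. -/
lemma surjective_comp_of_generators {R B C : Type*} [CommRing R] [CommRing B] [CommRing C]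
    (φ : R →+* B) (ψ : B →+* C) (hψ : Function.Surjective ψ) (s : Set B)
    (hs : letI := φ.toAlgebra; Algebra.adjoin R s = ⊤)
    (h : ∀ x ∈ s, ψ x ∈ (ψ.comp φ).range) : Function.Surjective (ψ.comp φ) := by
  let _ := φ.toAlgebra
  let _ := (ψ.comp φ).toAlgebra
  let ψ' : B →ₐ[R] C := { ψ with commutes' := fun r => rfl }
  have h1 : Algebra.adjoin R s ≤ (⊥ : Subalgebra R C).comap ψ' := by
    refine Algebra.adjoin_le ?_
    intro x hx
    obtain ⟨r, hr⟩ := h x hx
    exact ⟨r, hr⟩
  rw [hs] at h1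
  intro c
  obtain ⟨b, rfl⟩ := hψ c
  obtain ⟨r, hr⟩ := h1 (Algebra.mem_top (x := b))
  exact ⟨r, hr⟩

/-- If `B` is generated over `R` by a set `s` whose images under an integral map `ψ : B → C` are
integral over `R`, then `R → C` is integral. -/
lemma isIntegral_comp_of_generators {R B C : Type*} [CommRing R] [CommRing B] [CommRing C]
    (φ : R →+* B) (ψ : B →+* C) (hψ : ψ.IsIntegral) (s : Set B)
    (hs : letI := φ.toAlgebra; Algebra.adjoin R s = ⊤)
    (h : ∀ x ∈ s, (ψ.comp φ).IsIntegralElem (ψ x)) : (ψ.comp φ).IsIntegral := by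
  let _ := φ.toAlgebra
  let _ := (ψ.comp φ).toAlgebra
  let _ := ψ.toAlgebra
  have : IsScalarTower R B C := IsScalarTower.of_algebraMap_eq fun r => rfl
  let ψ' : B →ₐ[R] C := { ψ with commutes' := fun r => rfl }
  have h1 : Algebra.adjoin R s ≤ (integralClosure R C).comap ψ' := by
    refine Algebra.adjoin_le ?_
    intro x hx
    exact h x hx
  rw [hs] at h1
  have h2 : ∀ b : B, IsIntegral R (algebraMap B C b) := fun b => h1 (Algebra.mem_top (x := b))
  intro c
  have hc : IsIntegral B c := hψ c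
  let A' : Subalgebra R C := ψ'.range
  have hA' : Algebra.IsIntegral R A' := by
    refine ⟨fun x => ?_⟩
    obtain ⟨x, b, rfl⟩ := x
    have := h2 b
    exact (isIntegral_algHom_iff A'.val Subtype.val_injective).mp this
  have hc' : IsIntegral A' c :=
    IsIntegral.map_of_comp_eq (R := B) (S := C) (T := A') (U := C) ψ'.rangeRestrict.toRingHom
      (RingHom.id C) (by ext b; rfl) hc
  exact isIntegral_trans (R := R) (A := A') c hc'


section Sections

variable {I : Type u} [SmallCategory I] [IsCofiltered I] (D : I ⥤ Scheme.{u})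
  (c : Cone D) (hc : IsLimit c)

lemma app_eq_of_comp {X Y Z : Scheme.{u}} (m : Z ⟶ Y) (f : Y ⟶ X) (g : Z ⟶ X) (e : m ≫ f = g)
    (V : X.Opens) (s s' : Γ(X, V)) (hs : f.app V s = f.app V s') : g.app V s = g.app V s' := by
  subst e
  have := Scheme.Hom.comp_app m f V
  rw [this]
  show (m.app (f ⁻¹ᵁ V)) (f.app V s) = (m.app (f ⁻¹ᵁ V)) (f.app V s')
  rw [hs]

include hc in
/-- Finitely many equalities of sections over a compact open of a stage which hold in the limit
hold at a later stage. -/
lemma exists_forall_app_map_eq [∀ {i j : I} (a : i ⟶ j), IsAffineHom (D.map a)]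
    {ι : Type*} [Finite ι] {i : I} {V : (D.obj i).Opens}
    (hV : IsCompact (V : Set (D.obj i))) (s s' : ι → Γ(D.obj i, V))
    (hs : ∀ l, (c.π.app i).app V (s l) = (c.π.app i).app V (s' l)) :
    ∃ (j : I) (a : j ⟶ i), ∀ l, (D.map a).app V (s l) = (D.map a).app V (s' l) := by
  choose j a ha using fun l => exists_app_map_eq_map_of_isLimit D c hc hV (s l) (s' l) (hs l)
  obtain ⟨k, g, b, hb⟩ := IsCofiltered.wideCospan a
  refine ⟨k, g, fun l => ?_⟩
  exact app_eq_of_comp (D.map (b l)) (D.map (a l)) (D.map g)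
    (by rw [← D.map_comp, hb l]) V _ _ (ha l)

end Sections

section Core

variable {I : Type u} [SmallCategory I] [IsCofiltered I] {S : Scheme.{u}} (D : I ⥤ Scheme.{u})
  (t : ∀ i, D.obj i ⟶ S) (ht : ∀ {i j : I} (a : i ⟶ j), D.map a ≫ t j = t i)
  (c : Cone D) (hc : IsLimit c)

/-- "Affine preimage and surjective on sections over `W`". -/
def GoodSurj {X : Scheme.{u}} (g : X ⟶ S) (W : S.Opens) : Prop :=
  IsAffineOpen (g ⁻¹ᵁ W) ∧ Function.Surjective (g.app W).hom

lemma GoodSurj.precomp {X' X : Scheme.{u}} (m : X' ⟶ X) [IsClosedImmersion m] {g : X ⟶ S}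
    {W : S.Opens} (hg : GoodSurj g W) : GoodSurj (m ≫ g) W := by
  refine ⟨hg.1.preimage m, ?_⟩
  rw [Scheme.Hom.comp_app]
  show Function.Surjective ⇑((m.app (g ⁻¹ᵁ W)).hom.comp (g.app W).hom)
  exact (m.app_surjective _ hg.1).comp hg.2

include hc in
/-- One affine open of the base at a time: surjectivity on sections descends to a stage. -/
theorem exists_goodSurj [∀ {i j : I} (a : i ⟶ j), IsClosedImmersion (D.map a)]
    (i₁ : I) [IsAffineHom (t i₁)] [LocallyOfFiniteType (t i₁)]
    [IsClosedImmersion (c.π.app i₁ ≫ t i₁)] (W : S.Opens) (hW : IsAffineOpen W) :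
    ∃ (j : I) (a : j ⟶ i₁), GoodSurj (D.map a ≫ t i₁) W := by
  classical
  have hD : ∀ {i j : I} (a : i ⟶ j), IsAffineHom (D.map a) := fun a => inferInstance
  have hV : IsAffineOpen (t i₁ ⁻¹ᵁ W) := hW.preimage (t i₁)
  have hft : ((t i₁).app W).hom.FiniteType := by
    rw [Scheme.Hom.app_eq_appLE]
    exact HasRingHomProperty.appLE (P := @LocallyOfFiniteType) (t i₁) inferInstance ⟨W, hW⟩
      ⟨_, hV⟩ _
  obtain ⟨s, hs⟩ := hft.out
  have hsurj := (c.π.app i₁ ≫ t i₁).app_surjective W hW
  rw [Scheme.Hom.comp_app] at hsurj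
  choose r hr using fun x : Γ(D.obj i₁, t i₁ ⁻¹ᵁ W) => hsurj ((c.π.app i₁).app _ x)
  obtain ⟨j, a, ha⟩ := exists_forall_app_map_eq D c hc (ι := s) hV.isCompact
    (fun l => ((t i₁).app W) (r l.1)) (fun l => l.1) (fun l => hr l.1)
  refine ⟨j, a, hV.preimage (D.map a), ?_⟩
  rw [Scheme.Hom.comp_app]
  show Function.Surjective ⇑(((D.map a).app (t i₁ ⁻¹ᵁ W)).hom.comp ((t i₁).app W).hom)
  refine surjective_comp_of_generators ((t i₁).app W).hom ((D.map a).app (t i₁ ⁻¹ᵁ W)).hom
    ((D.map a).app_surjective _ hV) (s : Set _) hs ?_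
  intro x hx
  exact ⟨r x, ha ⟨x, hx⟩⟩

include hc ht in
/-- **Closed immersions descend to a stage** (transition maps closed immersions, stages locally of
finite type over the quasi-compact base). -/
theorem exists_isClosedImmersion [CompactSpace S]
    [∀ {i j : I} (a : i ⟶ j), IsClosedImmersion (D.map a)]
    [∀ i, LocallyOfFiniteType (t i)] (i₁ : I) [IsAffineHom (t i₁)]
    [IsClosedImmersion (c.π.app i₁ ≫ t i₁)] : ∃ j, IsClosedImmersion (t j) := by
  classical
  obtain ⟨F, hF⟩ := CompactSpace.elim_nhds_subcover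
    (fun x : S => ((S.affineCover.f (S.affineCover.idx x)).opensRange : Set S))
    (fun x => (S.affineCover.f (S.affineCover.idx x)).opensRange.2.mem_nhds
      (S.affineCover.covers x))
  have hW : ∀ x : S, IsAffineOpen (S.affineCover.f (S.affineCover.idx x)).opensRange :=
    fun x => isAffineOpen_opensRange _
  choose j a hj using fun x : S => exists_goodSurj D t c hc i₁ _ (hW x)
  obtain ⟨k, hk⟩ := IsCofiltered.inf_objs_exists (F.image j)
  refine ⟨k, isClosedImmersion_of_forall_exists (t k) fun y => ?_⟩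
  have hy : y ∈ ⋃ x ∈ F, ((S.affineCover.f (S.affineCover.idx x)).opensRange : Set S) := by
    rw [hF]; trivial
  obtain ⟨x, hx, hyx⟩ := Set.mem_iUnion₂.mp hy
  refine ⟨_, hyx, hW x, ?_⟩
  let b : k ⟶ j x := (hk (Finset.mem_image_of_mem j hx)).some
  have e : D.map b ≫ D.map (a x) ≫ t i₁ = t k := by rw [ht, ht]
  have := (hj x).precomp (D.map b)
  rw [e] at this
  exact this

end Core

end Groth.Agent.Lib.Helper13.LimStruct
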