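import Groth.Prelude.Def_RelSpec
import Groth.Agent.S9380
import Groth.Agent.S8255
import Groth.Agent.S3570
import Groth.Agent.Lib.Helper13.AffLim

set_option autoImplicit false
universe u
open CategoryTheory Limits AlgebraicGeometry TopologicalSpace Opposite

namespace Groth.Agent.Lib.Helper13.RelSpecFun

open RelSpec RelSpec.QCAlg
open Groth.Agent.Lib.Helper13.AffLim (appLE_of_eq)
open Groth.Agent.S3571 (appLE_comp_appTop appLE_comp_appTop_assoc)

variable {S : Scheme.{u}}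

lemma spec_hom_ext (A : QCAlg S) {Y : Scheme.{u}} (h₁ h₂ : A.spec ⟶ Y)
    (H : ∀ (U : S.Opens) (hU : IsAffineOpen U), A.ι U hU ≫ h₁ = A.ι U hU ≫ h₂) : h₁ = h₂ :=
  A.glueData.cover.hom_ext _ _ fun U => H U.1 U.2

lemma specMap_id (A : QCAlg S) : specMap (𝟙 A) = 𝟙 A.spec := by
  apply spec_hom_ext
  intro U hU
  rw [ι_specMap, id_hom, NatTrans.id_app, Spec.map_id, Category.id_comp, Category.comp_id]

lemma specMap_comp {A B C : QCAlg S} (φ : A ⟶ B) (ψ : B ⟶ C) :
    specMap (φ ≫ ψ) = specMap ψ ≫ specMap φ := by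
  apply spec_hom_ext
  intro U hU
  rw [ι_specMap, reassoc_of% (ι_specMap U hU ψ), ι_specMap, comp_hom, NatTrans.comp_app,
    Spec.map_comp, Category.assoc]

lemma le_preimage_specMap {A B : QCAlg S} (φ : A ⟶ B) (U : S.Opens) :
    B.π ⁻¹ᵁ U ≤ specMap φ ⁻¹ᵁ (A.π ⁻¹ᵁ U) := by
  rw [← Scheme.Hom.comp_preimage, specMap_π]

/-- naturality of `gammaAff` with respect to `specMap`. -/
lemma appLE_specMap_gammaAff {A B : QCAlg S} (φ : A ⟶ B) (U : S.Opens) (hU : IsAffineOpen U) :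
    (specMap φ).appLE (A.π ⁻¹ᵁ U) (B.π ⁻¹ᵁ U) (le_preimage_specMap φ U) ≫ B.gammaAff U hU =
      A.gammaAff U hU ≫ φ.hom.app (op U) := by
  unfold gammaAff
  rw [Scheme.Hom.appLE_comp_appLE_assoc, appLE_of_eq (ι_specMap U hU φ), Category.assoc,
    ← Scheme.ΓSpecIso_naturality, appLE_comp_appTop_assoc]

/-- maps of presheaves of rings into a quasi-coherent algebra (a sheaf) are determined on affine opens. -/
lemma hom_ext_sheaf (C : QCAlg S) {P : TopCat.Presheaf CommRingCat.{u} S} (α β : P ⟶ C.presheaf)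
    (H : ∀ (U : S.Opens) (_ : IsAffineOpen U), α.app (op U) = β.app (op U)) : α = β := by
  apply (Functor.IsCoverDense.restrictHomEquivHom (G := Scheme.AffineZariskiSite.toOpensFunctor S)
    (K := Opens.grothendieckTopology S) (ℱ := P)
    (ℱ' := (⟨C.presheaf, C.isSheaf⟩ : TopCat.Sheaf CommRingCat.{u} S.carrier))).symm.injective
  ext U : 2
  exact H U.unop.1 U.unop.2

lemma algHom_app_eq_appLE {X Y : Scheme.{u}} (f : X ⟶ S) (g : Y ⟶ S) (h : Y ⟶ X) (w : h ≫ f = g)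
    (V : S.Opens) :
    (AffAlg.algHom f g h w).app (op V) =
      h.appLE (f ⁻¹ᵁ V) (g ⁻¹ᵁ V) (by rw [← w, Scheme.Hom.comp_preimage]) :=
  (Groth.Agent.S3570.algHom_app f g h w V).trans rfl

/-- the inverse of `gammaMap`. -/
noncomputable def gammaInv (A : QCAlg S) : A.presheaf ⟶ A.π.base _* A.spec.presheaf :=
  @inv _ _ _ _ A.gammaMap (Groth.Agent.S8255.result A)

@[reassoc (attr := simp)]
lemma gammaMap_gammaInv (A : QCAlg S) : A.gammaMap ≫ gammaInv A = 𝟙 _ :=
  @IsIso.hom_inv_id _ _ _ _ A.gammaMap (Groth.Agent.S8255.result A)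

@[reassoc (attr := simp)]
lemma gammaInv_gammaMap (A : QCAlg S) : gammaInv A ≫ A.gammaMap = 𝟙 _ :=
  @IsIso.inv_hom_id _ _ _ _ A.gammaMap (Groth.Agent.S8255.result A)

lemma str_gammaInv (A : QCAlg S) : A.str ≫ gammaInv A = A.π.c := by
  rw [← A.π_c_gammaMap, Category.assoc, gammaMap_gammaInv, Category.comp_id]

lemma gammaAff_gammaInv_app (A : QCAlg S) (U : S.Opens) (hU : IsAffineOpen U) :
    A.gammaAff U hU ≫ (gammaInv A).app (op U) = 𝟙 _ := by
  rw [← A.gammaMap_app U hU, ← NatTrans.comp_app, gammaMap_gammaInv]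
  rfl

instance isIso_gammaInv (A : QCAlg S) : IsIso (gammaInv A) :=
  @IsIso.inv_isIso _ _ _ _ A.gammaMap (Groth.Agent.S8255.result A)

end Groth.Agent.Lib.Helper13.RelSpecFun
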