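import Mathlib
import Groth.Agent.Lib.Helper78.DVRDominate
import Groth.Agent.Lib.Helper85.KrullAkizukiField

/-!
# Pointwise valuative criterion of flatness: commutative algebra preliminaries (helper13)

* `krullDimLE_one_of_forall_mem`: a Noetherian local domain all of whose nonzero primes contain a
  fixed nonzero element has dimension `≤ 1`.
* `exists_prime_dimLEOne`: in a Noetherian local ring, a prime `P` not containing `x ∈ 𝔪` is
  contained in a prime `P₁` not containing `x` with `C ⧸ P₁` of dimension `≤ 1`.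
* `exists_dvr_integral_residue`: a one-dimensional Noetherian local domain is dominated by a
  discrete valuation ring whose residue field is integral over it (Krull–Akizuki).
-/

set_option autoImplicit false
universe u
open IsLocalRing

namespace Groth.Agent.Lib.Helper13.ValFlatPt

section CoheightOne

theorem krullDimLE_one_of_forall_mem (D : Type u) [CommRing D] [IsDomain D] [IsNoetherianRing D]
    [IsLocalRing D] (x : D) (hx0 : x ≠ 0)
    (hx : ∀ (𝔯 : Ideal D), 𝔯.IsPrime → 𝔯 ≠ ⊥ → x ∈ 𝔯) :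
    Ring.KrullDimLE 1 D := by
  classical
  rw [Ring.krullDimLE_one_iff_of_isPrime_bot]
  intro 𝔯 h𝔯0 h𝔯
  have hxr : x ∈ 𝔯 := hx 𝔯 h𝔯 h𝔯0
  have hxm : x ∈ maximalIdeal D := IsLocalRing.le_maximalIdeal h𝔯.ne_top hxr
  have hT : ((Ideal.span {x} : Ideal D).minimalPrimes).Finite :=
    Ideal.finite_minimalPrimes_of_isNoetherianRing D _
  have hspanx : (Ideal.span {x} : Ideal D) ≤ maximalIdeal D := by
    rw [Ideal.span_le, Set.singleton_subset_iff]; exact hxm
  -- every element of `𝔪` lies in a minimal prime over `x`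
  have hcover : ((maximalIdeal D : Ideal D) : Set D) ⊆ ⋃ K ∈ hT.toFinset, (K : Set D) := by
    intro y hy
    simp only [Set.mem_iUnion, Set.Finite.mem_toFinset, SetLike.mem_coe, exists_prop]
    by_cases hy0 : y = 0
    · obtain ⟨p, hp, -⟩ := Ideal.exists_minimalPrimes_le hspanx
      exact ⟨p, hp, hy0 ▸ p.zero_mem⟩
    · have hspany : (Ideal.span {y} : Ideal D) ≤ maximalIdeal D := by
        rw [Ideal.span_le, Set.singleton_subset_iff]; exact hy
      obtain ⟨𝔰, h𝔰, -⟩ := Ideal.exists_minimalPrimes_le hspany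
      haveI : 𝔰.IsPrime := h𝔰.1.1
      have hy𝔰 : y ∈ 𝔰 := h𝔰.1.2 (Ideal.mem_span_singleton_self y)
      have h𝔰0 : 𝔰 ≠ ⊥ := fun h => hy0 (by rw [h] at hy𝔰; exact hy𝔰)
      have hx𝔰 : x ∈ 𝔰 := hx 𝔰 inferInstance h𝔰0
      have hspanx𝔰 : (Ideal.span {x} : Ideal D) ≤ 𝔰 := by
        rw [Ideal.span_le, Set.singleton_subset_iff]; exact hx𝔰
      obtain ⟨p, hp, hp𝔰⟩ := Ideal.exists_minimalPrimes_le hspanx𝔰
      haveI : p.IsPrime := hp.1.1
      have hxp : x ∈ p := hp.1.2 (Ideal.mem_span_singleton_self x)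
      have hp0 : p ≠ ⊥ := fun h => hx0 (by rw [h] at hxp; exact hxp)
      have hht : 𝔰.height ≤ 1 :=
        Ideal.height_le_one_of_isPrincipal_of_mem_minimalPrimes (Ideal.span {y}) 𝔰 h𝔰
      have hpeq : p = 𝔰 := by
        by_contra hne
        have hlt : p < 𝔰 := lt_of_le_of_ne hp𝔰 hne
        have h1 := Ideal.height_add_one_le_of_lt_of_isPrime hlt
        have h2 : (1 : ℕ∞) ≤ p.height := by
          rw [Order.one_le_iff_ne_zero]
          intro h0
          exact hp0 (Ideal.height_eq_zero_iff_eq_bot.mp h0)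
        have h3 : (1 : ℕ∞) + 1 ≤ 𝔰.height := le_trans (by gcongr) h1
        have h4 : (1 : ℕ∞) + 1 ≤ 1 := h3.trans hht
        exact absurd h4 (by decide)
      exact ⟨p, hp, hpeq ▸ hy𝔰⟩
  obtain ⟨K, hK, hmK⟩ := (Ideal.subset_union_prime (R := D) (s := hT.toFinset) (f := fun K => K)
    ⊥ ⊥ (fun K hK _ _ => by
      rw [Set.Finite.mem_toFinset] at hK
      exact hK.1.1)).mp hcover
  rw [Set.Finite.mem_toFinset] at hK
  haveI : K.IsPrime := hK.1.1
  have hKm : K = maximalIdeal D := le_antisymm (IsLocalRing.le_maximalIdeal hK.1.1.ne_top) hmK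
  have hmht : (maximalIdeal D).height ≤ 1 := by
    rw [← hKm]
    exact Ideal.height_le_one_of_isPrincipal_of_mem_minimalPrimes (Ideal.span {x}) K hK
  have h𝔯m : 𝔯 = maximalIdeal D := by
    by_contra hne
    have hlt : 𝔯 < maximalIdeal D :=
      lt_of_le_of_ne (IsLocalRing.le_maximalIdeal h𝔯.ne_top) hne
    have h1 := Ideal.height_add_one_le_of_lt_of_isPrime hlt
    have h2 : (1 : ℕ∞) ≤ 𝔯.height := by
      rw [Order.one_le_iff_ne_zero]
      intro h0
      exact h𝔯0 (Ideal.height_eq_zero_iff_eq_bot.mp h0)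
    have h3 : (1 : ℕ∞) + 1 ≤ (maximalIdeal D).height := le_trans (by gcongr) h1
    have h4 : (1 : ℕ∞) + 1 ≤ 1 := h3.trans hmht
    exact absurd h4 (by decide)
  rw [h𝔯m]
  exact IsLocalRing.maximalIdeal.isMaximal D

theorem exists_prime_dimLEOne (C : Type u) [CommRing C] [IsNoetherianRing C] [IsLocalRing C]
    (P : Ideal C) [P.IsPrime] (x : C) (hxP : x ∉ P) :
    ∃ (P₁ : Ideal C) (_ : P₁.IsPrime), P ≤ P₁ ∧ x ∉ P₁ ∧ Ring.KrullDimLE 1 (C ⧸ P₁) := by
  -- a maximal element among primes containing `P` and avoiding `x`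
  let 𝒮 : Set (Ideal C) := {Q | Q.IsPrime ∧ P ≤ Q ∧ x ∉ Q}
  have h𝒮 : 𝒮.Nonempty := ⟨P, inferInstance, le_rfl, hxP⟩
  obtain ⟨P₁, hP₁, hmax⟩ := set_has_maximal_iff_noetherian.mpr
    (inferInstance : IsNoetherian C C) 𝒮 h𝒮
  obtain ⟨hP₁prime, hPP₁, hxP₁⟩ := hP₁
  haveI := hP₁prime
  refine ⟨P₁, hP₁prime, hPP₁, hxP₁, ?_⟩
  haveI : IsLocalRing (C ⧸ P₁) :=
    IsLocalRing.of_surjective' (Ideal.Quotient.mk P₁) Ideal.Quotient.mk_surjective
  apply krullDimLE_one_of_forall_mem (C ⧸ P₁) (Ideal.Quotient.mk P₁ x)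
  · intro h
    exact hxP₁ (Ideal.Quotient.eq_zero_iff_mem.mp h)
  · intro 𝔯 h𝔯 h𝔯0
    haveI := h𝔯
    let Q := 𝔯.comap (Ideal.Quotient.mk P₁)
    have hQprime : Q.IsPrime := Ideal.comap_isPrime _ _
    have hP₁Q : P₁ ≤ Q := by
      intro a ha
      rw [Ideal.mem_comap, Ideal.Quotient.eq_zero_iff_mem.mpr ha]
      exact 𝔯.zero_mem
    have hne : P₁ ≠ Q := by
      intro h
      apply h𝔯0
      rw [eq_bot_iff]
      intro b hb
      obtain ⟨a, rfl⟩ := Ideal.Quotient.mk_surjective b
      have : a ∈ Q := hb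
      rw [← h] at this
      rw [Ideal.mem_bot]
      exact Ideal.Quotient.eq_zero_iff_mem.mpr this
    by_contra hx𝔯
    have hQ𝒮 : Q ∈ 𝒮 := ⟨hQprime, hPP₁.trans hP₁Q, fun h => hx𝔯 h⟩
    exact hmax Q hQ𝒮 (lt_of_le_of_ne hP₁Q hne)

end CoheightOne

section DVR

/-- A one-dimensional Noetherian local domain is dominated by a discrete valuation ring all of
whose elements are, modulo the maximal ideal, integral over the domain. -/
theorem exists_dvr_integral_residue (D : Type u) [CommRing D] [IsDomain D] [IsNoetherianRing D]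
    [IsLocalRing D] [Ring.KrullDimLE 1 D] (hD : ¬ IsField D) :
    ∃ (R' : Type u) (_ : CommRing R') (_ : IsDomain R') (_ : IsDiscreteValuationRing R')
      (_ : Algebra D R'), Function.Injective (algebraMap D R') ∧
        (maximalIdeal R').comap (algebraMap D R') = maximalIdeal D ∧
        ∀ r : R', ∃ f : Polynomial D, f.Monic ∧ Polynomial.aeval r f ∈ maximalIdeal R' := by
  classical
  obtain ⟨O, hO, hmem, hlt⟩ := Groth.Agent.Lib.Helper78.exists_dvr_of_dim_one D hD (FractionRing D)
  have hφmem : ∀ a, algebraMap D (FractionRing D) a ∈ O.toSubring := fun a => hmem _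
  let ψ : D →+* O := (algebraMap D (FractionRing D)).codRestrict O.toSubring hφmem
  letI algDO : Algebra D O := ψ.toAlgebra
  haveI : IsScalarTower D O (FractionRing D) := IsScalarTower.of_algebraMap_eq (fun _ => rfl)
  have hinjK : Function.Injective (algebraMap D (FractionRing D)) := IsFractionRing.injective _ _
  have hinjOK : Function.Injective (algebraMap O (FractionRing D)) := Subtype.val_injective
  have hinj : Function.Injective (algebraMap D O) := by
    intro b b' hb
    exact hinjK (congrArg Subtype.val hb)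
  have hmax : (maximalIdeal O).comap (algebraMap D O) = maximalIdeal D := by
    ext b
    change algebraMap D O b ∈ maximalIdeal O ↔ b ∈ maximalIdeal D
    rw [O.valuation_lt_one_iff]
    change O.valuation (algebraMap D (FractionRing D) b) < 1 ↔ _
    constructor
    · intro hb
      by_contra hby
      have hu : IsUnit b := by
        by_contra hnu
        exact hby hnu
      obtain ⟨c, hc⟩ := hu.exists_right_inv
      have h4 : O.valuation (algebraMap D (FractionRing D) b) *
          O.valuation (algebraMap D (FractionRing D) c) = 1 := by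
        rw [← map_mul, ← map_mul, hc, map_one, map_one]
      have h5 : O.valuation (algebraMap D (FractionRing D) c) ≤ 1 :=
        (O.valuation_le_one_iff _).mpr (hmem c)
      have h6 : O.valuation (algebraMap D (FractionRing D) b) *
          O.valuation (algebraMap D (FractionRing D) c) < 1 := by
        calc _ ≤ O.valuation (algebraMap D (FractionRing D) b) * 1 := by gcongr
          _ = O.valuation (algebraMap D (FractionRing D) b) := mul_one _
          _ < 1 := hb
      exact absurd h4 h6.ne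
    · intro hb
      exact hlt b hb
  refine ⟨O, inferInstance, inferInstance, hO, algDO, hinj, hmax, ?_⟩
  -- a nonzero element of the maximal ideal
  obtain ⟨a, ham, ha0⟩ : ∃ a, a ∈ maximalIdeal D ∧ a ≠ 0 := by
    by_contra hcon
    push Not at hcon
    apply hD
    rw [IsLocalRing.isField_iff_maximalIdeal_eq, eq_bot_iff]
    intro a ha
    rw [Ideal.mem_bot]
    exact hcon a ha
  haveI hfin : Module.Finite D (O ⧸ (Ideal.span {algebraMap D O a} : Ideal O)) :=
    Groth.Agent.Lib.Helper85.KrullAkizuki.sandwich_finite_quotient D (FractionRing D)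
      (FractionRing D) O hinjOK ha0
  haveI : Algebra.IsIntegral D (O ⧸ (Ideal.span {algebraMap D O a} : Ideal O)) :=
    Algebra.IsIntegral.of_finite D _
  have hle : (Ideal.span {algebraMap D O a} : Ideal O) ≤ maximalIdeal O := by
    rw [Ideal.span_le, Set.singleton_subset_iff]
    have : a ∈ (maximalIdeal O).comap (algebraMap D O) := by rw [hmax]; exact ham
    exact this
  intro r
  obtain ⟨f, hf, hfr⟩ := Algebra.IsIntegral.isIntegral (R := D)
    (Ideal.Quotient.mk (Ideal.span {algebraMap D O a} : Ideal O) r)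
  refine ⟨f, hf, hle ?_⟩
  rw [← Ideal.Quotient.eq_zero_iff_mem]
  have h1 : Polynomial.aeval (Ideal.Quotient.mk (Ideal.span {algebraMap D O a} : Ideal O) r) f =
      Ideal.Quotient.mk (Ideal.span {algebraMap D O a} : Ideal O) (Polynomial.aeval r f) := by
    rw [← Ideal.Quotient.mkₐ_eq_mk D, ← Polynomial.aeval_algHom_apply]
  rw [← h1]
  exact hfr

end DVR

end Groth.Agent.Lib.Helper13.ValFlatPt
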