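import Mathlib
import Groth.Agent.Lib.Helper12.ValFlatC
import Groth.Agent.Lib.Helper13.ValFlatPtA

/-!
# Pointwise valuative criterion of flatness: the complete local core (helper13)

Variant of `Helper12.ValFlatB.flat_localized_complete` in which only discrete valuation rings
dominating `C` whose residue field is integral over the base are used.
-/

set_option autoImplicit false
universe u
open TensorProduct IsLocalRing

namespace Groth.Agent.Lib.Helper13.ValFlatPt

attribute [local instance] Algebra.TensorProduct.rightAlgebra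

section Core
variable (A : Type u) [CommRing A] (B : Type u) [CommRing B] [Algebra A B]
  (M : Type u) [AddCommGroup M] [Module A M] [Module B M] [IsScalarTower A B M]
  (C : Type u) [CommRing C] [IsLocalRing C] [IsNoetherianRing C]
  [IsAdicComplete (IsLocalRing.maximalIdeal C) C] [Algebra A C]

/-- Flatness of the base changes of `M` to discrete valuation rings dominating `C` whose residue
field is integral over `A`. -/
def DvrHyp : Prop :=
  ∀ (R : Type u) [CommRing R] [IsDomain R] [IsDiscreteValuationRing R] [Algebra C R]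
    [IsLocalHom (algebraMap C R)] [Algebra A R] [IsScalarTower A C R],
    (∀ r : R, ∃ f : Polynomial A, f.Monic ∧ Polynomial.aeval r f ∈ maximalIdeal R) →
      Module.Flat R (R ⊗[A] M)

variable [IsNoetherianRing (C ⊗[A] B)] [Module.Finite (C ⊗[A] B) ((C ⊗[A] B) ⊗[B] M)]

open Groth.Agent.Lib.Helper12.ValFlatB in
/-- The flattening ideal of `C ⊗ M` is contained in every prime of `C`. -/
theorem le_prime' (hsurj : ∀ c : C, ∃ a : A, c - algebraMap A C a ∈ maximalIdeal C)
    (H : DvrHyp A M C)
    (I : Ideal C) (hIm : I ≤ IsLocalRing.maximalIdeal C) (hI : FlProp A B M C I)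
    (hmin : ∀ J : Ideal C, FlProp A B M C J → I ≤ J) (P : Ideal C) [P.IsPrime] : I ≤ P := by
  by_contra hIP
  obtain ⟨x, hxI, hxP⟩ := SetLike.not_le_iff_exists.mp hIP
  obtain ⟨P₁, hP₁, -, hxP₁, hdim⟩ := exists_prime_dimLEOne C P x hxP
  haveI := hP₁
  haveI := hdim
  have hxm : x ∈ maximalIdeal C := hIm hxI
  haveI hlq : IsLocalHom (Ideal.Quotient.mk P₁) :=
    IsLocalHom.of_surjective _ Ideal.Quotient.mk_surjective
  haveI : IsLocalRing (C ⧸ P₁) :=
    IsLocalRing.of_surjective' (Ideal.Quotient.mk P₁) Ideal.Quotient.mk_surjective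
  have hnf : ¬ IsField (C ⧸ P₁) := by
    intro hf
    have h1 : P₁ = maximalIdeal C :=
      IsLocalRing.eq_maximalIdeal (Ideal.Quotient.maximal_of_isField P₁ hf)
    exact hxP₁ (h1 ▸ hxm)
  obtain ⟨R', _, _, _, _, hinjD, hmaxD, hres⟩ := exists_dvr_integral_residue (C ⧸ P₁) hnf
  letI algCR : Algebra C R' := ((algebraMap (C ⧸ P₁) R').comp (Ideal.Quotient.mk P₁)).toAlgebra
  letI algAR : Algebra A R' := ((algebraMap C R').comp (algebraMap A C)).toAlgebra
  haveI : IsScalarTower A C R' := IsScalarTower.of_algebraMap_eq (fun _ => rfl)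
  have hker : RingHom.ker (algebraMap C R') = P₁ := by
    change RingHom.ker ((algebraMap (C ⧸ P₁) R').comp (Ideal.Quotient.mk P₁)) = P₁
    rw [RingHom.ker_comp_of_injective _ hinjD, Ideal.mk_ker]
  have hcm : (IsLocalRing.maximalIdeal (C ⧸ P₁)).comap (Ideal.Quotient.mk P₁) =
      IsLocalRing.maximalIdeal C :=
    ((IsLocalRing.local_hom_TFAE (Ideal.Quotient.mk P₁)).out 0 4).mp hlq
  haveI hloc : IsLocalHom (algebraMap C R') := by
    apply ((IsLocalRing.local_hom_TFAE (algebraMap C R')).out 0 4).mpr
    change Ideal.comap ((algebraMap (C ⧸ P₁) R').comp (Ideal.Quotient.mk P₁)) _ = _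
    rw [← Ideal.comap_comap, hmaxD]
    exact hcm
  -- residue integrality over `A`
  have hresA : ∀ r : R', ∃ f : Polynomial A, f.Monic ∧
      Polynomial.aeval r f ∈ maximalIdeal R' := by
    intro r
    obtain ⟨f, hf, hfr⟩ := hres r
    let ρ : A →+* ResidueField C := (residue C).comp (algebraMap A C)
    have hρ : Function.Surjective ρ := by
      intro y
      obtain ⟨c, rfl⟩ := residue_surjective y
      obtain ⟨a, ha⟩ := hsurj c
      refine ⟨a, ?_⟩
      change residue C (algebraMap A C a) = residue C c
      rw [← sub_eq_zero, ← map_sub, residue_eq_zero_iff]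
      have : algebraMap A C a - c = -(c - algebraMap A C a) := by ring
      rw [this]
      exact neg_mem ha
    let σ : (C ⧸ P₁) →+* ResidueField C := Ideal.Quotient.lift P₁ (residue C) (fun a ha => by
      rw [residue_eq_zero_iff]
      exact IsLocalRing.le_maximalIdeal (Ideal.IsPrime.ne_top inferInstance) ha)
    let χ : ResidueField C →+* ResidueField R' := ResidueField.map (algebraMap C R')
    have hfσ : (f.map σ).Monic := hf.map σ
    obtain ⟨g, hg, -, hgm⟩ := Polynomial.lifts_and_natDegree_eq_and_monic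
      (Polynomial.map_surjective ρ hρ (f.map σ) |> fun ⟨p, hp⟩ =>
        (Polynomial.mem_lifts _).mpr ⟨p, hp⟩) hfσ
    refine ⟨g, hgm, ?_⟩
    rw [← residue_eq_zero_iff]
    have e1 : (residue R').comp (algebraMap A R') = χ.comp ρ := by
      ext a
      change residue R' (algebraMap C R' (algebraMap A C a)) =
        ResidueField.map (algebraMap C R') (residue C (algebraMap A C a))
      rw [ResidueField.map_residue]
    have e2 : χ.comp σ = (residue R').comp (algebraMap (C ⧸ P₁) R') := by
      ext c
      change ResidueField.map (algebraMap C R') (residue C c) =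
        residue R' (algebraMap (C ⧸ P₁) R' (Ideal.Quotient.mk P₁ c))
      rw [ResidueField.map_residue]
      rfl
    have h1 : residue R' (Polynomial.aeval r g) =
        Polynomial.eval₂ ((residue R').comp (algebraMap A R')) (residue R' r) g := by
      rw [Polynomial.aeval_def, Polynomial.hom_eval₂]
    have h2 : residue R' (Polynomial.aeval r f) =
        Polynomial.eval₂ ((residue R').comp (algebraMap (C ⧸ P₁) R')) (residue R' r) f := by
      rw [Polynomial.aeval_def, Polynomial.hom_eval₂]
    rw [h1, e1, ← Polynomial.eval₂_map, hg, Polynomial.eval₂_map, e2, ← h2,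
      residue_eq_zero_iff]
    exact hfr
  haveI := H R' hresA
  have key := le_ker_of_flat A B M C R' I hIm hI hmin
  rw [hker] at key
  exact hxP₁ (key hxI)

variable (Q R'' : Type u) [CommRing Q] [CommRing R''] [Algebra A Q] [Algebra A R''] [Algebra C R'']
  [Algebra Q R''] [IsScalarTower A C R''] [IsScalarTower A Q R'']

open Groth.Agent.Lib.Helper12.ValFlatB in
/-- **Core** (pointwise form): flatness over the complete local ring `C` at the primes over its
closed point. -/
theorem flat_localized_complete_pt
    (hsurj : ∀ c : C, ∃ a : A, c - algebraMap A C a ∈ maximalIdeal C)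
    (H : DvrHyp A M C)
    (hQ : Module.Flat Q (Q ⊗[A] M)) (hinj : Function.Injective (algebraMap C R''))
    (q : Ideal (C ⊗[A] B)) [q.IsPrime]
    (hq : q.comap (algebraMap C (C ⊗[A] B)) = IsLocalRing.maximalIdeal C) :
    Module.Flat C (LocalizedModule q.primeCompl ((C ⊗[A] B) ⊗[B] M)) := by
  obtain ⟨I, hIm, hI, hmin⟩ := Groth.Agent.S6925.result C (C ⊗[A] B) ((C ⊗[A] B) ⊗[B] M)
  have hle : I ≤ nilradical C := by
    rw [nilradical_eq_sInf]
    refine le_sInf (fun P hP => ?_)
    haveI : P.IsPrime := hP
    exact le_prime' A B M C hsurj H I hIm hI hmin P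
  have hnil : IsNilpotent I := by
    obtain ⟨n, hn⟩ := IsNoetherianRing.isNilpotent_nilradical C
    refine ⟨n, ?_⟩
    rw [Ideal.zero_eq_bot, eq_bot_iff, ← Ideal.zero_eq_bot, ← hn]
    exact Ideal.pow_right_mono hle n
  haveI := hI q hq
  haveI : Module.Flat R'' (R'' ⊗[C] ((C ⊗[A] B) ⊗[B] M)) :=
    Groth.Agent.Lib.Helper12.ValFlatA.flat_generic (Q := Q) M
  haveI : Module.Flat R'' (R'' ⊗[C] LocalizedModule q.primeCompl ((C ⊗[A] B) ⊗[B] M)) :=
    Groth.Agent.Lib.Helper12.ValFlatA.flat_baseChange_localizedModule q.primeCompl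
      ((C ⊗[A] B) ⊗[B] M)
  exact Groth.Agent.H76.SquareFlat.flat_of_injective_of_nilpotent I
    (LocalizedModule q.primeCompl ((C ⊗[A] B) ⊗[B] M)) hinj hnil

end Core

end Groth.Agent.Lib.Helper13.ValFlatPt
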