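import Mathlib
import Groth.Agent.Lib.Helper13.ValFlatPtB

/-!
# Pointwise valuative criterion of flatness: torsion-freeness over a DVR (helper13)

`A` a ring, `B₀` an `A`-algebra, `q` a prime of `B₀`, `R` a discrete valuation ring over `A` whose
residue field is integral over `A`.  If `B₀ ⊗[A] R` has no `ϖ`-torsion at the primes lying over
`q` and the closed point of `R`, then `R ⊗[A] (B₀)_q` is flat over `R`.
-/

set_option autoImplicit false
universe u
open TensorProduct IsLocalRing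

namespace Groth.Agent.Lib.Helper13.ValFlatPt

section Torsion
variable (A : Type u) [CommRing A] (B₀ : Type u) [CommRing B₀] [Algebra A B₀]
  (q : Ideal B₀) [q.IsPrime]
  (R : Type u) [CommRing R] [Algebra A R]

/-- The localization map `B₀ ⊗ R → (B₀)_q ⊗ R`. -/
noncomputable def jMap : B₀ ⊗[A] R →ₐ[A] Localization.AtPrime q ⊗[A] R :=
  Algebra.TensorProduct.map (IsScalarTower.toAlgHom A B₀ (Localization.AtPrime q)) (AlgHom.id A R)

theorem jMap_tmul (b : B₀) (r : R) :
    jMap A B₀ q R (b ⊗ₜ r) = algebraMap B₀ (Localization.AtPrime q) b ⊗ₜ r := by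
  simp [jMap]

theorem jMap_eq_rTensor (x : B₀ ⊗[A] R) :
    jMap A B₀ q R x =
      AlgebraTensorModule.rTensor A R (Algebra.linearMap B₀ (Localization.AtPrime q)) x := by
  induction x using TensorProduct.induction_on with
  | zero => simp
  | tmul b r => rw [jMap_tmul]; rfl
  | add x y hx hy => rw [map_add, map_add, hx, hy]

theorem smul_eq_mul_left (s : B₀) (z : Localization.AtPrime q ⊗[A] R) :
    s • z = (algebraMap B₀ (Localization.AtPrime q) s ⊗ₜ[A] (1 : R)) * z := by
  induction z using TensorProduct.induction_on with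
  | zero => simp
  | tmul b r =>
    rw [TensorProduct.smul_tmul', Algebra.TensorProduct.tmul_mul_tmul, one_mul, Algebra.smul_def]
  | add x y hx hy => rw [smul_add, mul_add, hx, hy]

theorem smul_eq_mul_left' (s : B₀) (z : B₀ ⊗[A] R) :
    s • z = (s ⊗ₜ[A] (1 : R)) * z := by
  induction z using TensorProduct.induction_on with
  | zero => simp
  | tmul b r =>
    rw [TensorProduct.smul_tmul', Algebra.TensorProduct.tmul_mul_tmul, one_mul, smul_eq_mul]
  | add x y hx hy => rw [smul_add, mul_add, hx, hy]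

theorem jMap_surj (z : Localization.AtPrime q ⊗[A] R) :
    ∃ s ∈ q.primeCompl, ∃ b' : B₀ ⊗[A] R,
      (algebraMap B₀ (Localization.AtPrime q) s ⊗ₜ[A] (1 : R)) * z = jMap A B₀ q R b' := by
  obtain ⟨⟨b', s⟩, h⟩ := IsLocalizedModule.surj q.primeCompl
    (AlgebraTensorModule.rTensor A R (Algebra.linearMap B₀ (Localization.AtPrime q))) z
  refine ⟨s.1, s.2, b', ?_⟩
  rw [jMap_eq_rTensor, ← smul_eq_mul_left]
  exact h

theorem jMap_eq_zero (c : B₀ ⊗[A] R) (hc : jMap A B₀ q R c = 0) :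
    ∃ t ∈ q.primeCompl, (t ⊗ₜ[A] (1 : R)) * c = 0 := by
  rw [jMap_eq_rTensor] at hc
  have h0 : AlgebraTensorModule.rTensor A R (Algebra.linearMap B₀ (Localization.AtPrime q)) c =
      AlgebraTensorModule.rTensor A R (Algebra.linearMap B₀ (Localization.AtPrime q)) 0 := by
    rw [hc, map_zero]
  obtain ⟨t, ht⟩ := IsLocalizedModule.exists_of_eq (S := q.primeCompl) h0
  refine ⟨t.1, t.2, ?_⟩
  rw [← smul_eq_mul_left']
  rw [smul_zero] at ht
  exact ht

end Torsion

section Generic
variable {S X : Type u} [CommRing S] [CommRing X] [Algebra S X]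

/-- If the images of a generating set of `X` are integral over `S` modulo `J`, then `X ⧸ J` is
integral over `S`. -/
theorem isIntegral_quotient_of_generators (J : Ideal X) (G : Set X)
    (hG : Algebra.adjoin S G = ⊤)
    (h : ∀ g ∈ G, ∃ f : Polynomial S, f.Monic ∧ Polynomial.aeval g f ∈ J) :
    Algebra.IsIntegral S (X ⧸ J) := by
  refine ⟨fun y => ?_⟩
  obtain ⟨x, rfl⟩ := Ideal.Quotient.mk_surjective y
  have hx : x ∈ Algebra.adjoin S G := by rw [hG]; trivial
  induction hx using Algebra.adjoin_induction with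
  | mem g hg =>
    obtain ⟨f, hf, hfg⟩ := h g hg
    refine ⟨f, hf, ?_⟩
    have h1 : Polynomial.eval₂ (algebraMap S (X ⧸ J)) (Ideal.Quotient.mk J g) f =
        Ideal.Quotient.mk J (Polynomial.aeval g f) := by
      rw [Polynomial.aeval_def, Polynomial.hom_eval₂]
      rfl
    rw [h1]
    exact Ideal.Quotient.eq_zero_iff_mem.mpr hfg
  | algebraMap r =>
    have : Ideal.Quotient.mk J (algebraMap S X r) = algebraMap S (X ⧸ J) r := rfl
    rw [this]
    exact isIntegral_algebraMap
  | add x y _ _ hx hy => rw [map_add]; exact IsIntegral.add hx hy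
  | mul x y _ _ hx hy => rw [map_mul]; exact IsIntegral.mul hx hy

/-- Lying over modulo `J`: a proper ideal `𝔞 ⊇ J` is contained in a prime over the closed point
of the local ring `S`, provided `X ⧸ J` is integral over `S`. -/
theorem exists_prime_ge_of_integral [IsLocalRing S] (J 𝔞 : Ideal X) (hJ𝔞 : J ≤ 𝔞) (h𝔞 : 𝔞 ≠ ⊤)
    (hint : Algebra.IsIntegral S (X ⧸ J)) :
    ∃ 𝔫 : Ideal X, 𝔫.IsPrime ∧ 𝔞 ≤ 𝔫 ∧ 𝔫.comap (algebraMap S X) = maximalIdeal S := by
  let I : Ideal (X ⧸ J) := 𝔞.map (Ideal.Quotient.mk J)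
  have hIcomap : I.comap (Ideal.Quotient.mk J) = 𝔞 := by
    rw [Ideal.comap_map_of_surjective' _ Ideal.Quotient.mk_surjective, Ideal.mk_ker,
      sup_eq_left.mpr hJ𝔞]
  have hIP : I.comap (algebraMap S (X ⧸ J)) ≤ maximalIdeal S := by
    apply IsLocalRing.le_maximalIdeal
    intro htop
    have h1 : (1 : S) ∈ I.comap (algebraMap S (X ⧸ J)) := by rw [htop]; trivial
    rw [Ideal.mem_comap, map_one] at h1
    have h2 : (1 : X) ∈ I.comap (Ideal.Quotient.mk J) := by
      rw [Ideal.mem_comap, map_one]; exact h1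
    rw [hIcomap] at h2
    exact h𝔞 ((Ideal.eq_top_iff_one _).mpr h2)
  obtain ⟨Qb, hQbI, hQbprime, hQb⟩ :=
    Ideal.exists_ideal_over_prime_of_isIntegral (maximalIdeal S) I hIP
  haveI := hQbprime
  refine ⟨Qb.comap (Ideal.Quotient.mk J), Ideal.comap_isPrime _ _, ?_, ?_⟩
  · intro a ha
    exact hQbI (Ideal.mem_map_of_mem _ ha)
  · rw [← hQb, Ideal.comap_comap]
    rfl

end Generic

section Torsion2
variable (A : Type u) [CommRing A] (B₀ : Type u) [CommRing B₀] [Algebra A B₀]
  (q : Ideal B₀) [q.IsPrime]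
  (R : Type u) [CommRing R] [Algebra A R]
variable [IsDomain R] [IsDiscreteValuationRing R]

/-- **Key lemma**: no `ϖ`-torsion in `(B₀)_q ⊗ R`. -/
theorem eq_zero_of_mul_eq_zero (ϖ : R) (hϖ : Irreducible ϖ)
    (hres : ∀ r : R, ∃ f : Polynomial A, f.Monic ∧ Polynomial.aeval r f ∈ maximalIdeal R)
    (H : ∀ b' : B₀ ⊗[A] R, ((1 : B₀) ⊗ₜ[A] ϖ) * b' = 0 →
      ∀ (q' : Ideal (B₀ ⊗[A] R)) [q'.IsPrime],
        q'.comap (Algebra.TensorProduct.includeLeftRingHom) = q →
        q'.comap (Algebra.TensorProduct.includeRight : R →ₐ[A] B₀ ⊗[A] R).toRingHom =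
          maximalIdeal R →
        ∃ s, s ∉ q' ∧ s * b' = 0)
    (z : Localization.AtPrime q ⊗[A] R)
    (hz : ((1 : Localization.AtPrime q) ⊗ₜ[A] ϖ) * z = 0) : z = 0 := by
  classical
  by_contra hz0
  let 𝔞 : Ideal (Localization.AtPrime q ⊗[A] R) :=
    (Ideal.span ({z} : Set (Localization.AtPrime q ⊗[A] R))).annihilator
  have h𝔞 : ∀ y : (Localization.AtPrime q ⊗[A] R), y ∈ 𝔞 ↔ y * z = 0 := fun y => by
    change y ∈ (Submodule.span (Localization.AtPrime q ⊗[A] R)
      ({z} : Set (Localization.AtPrime q ⊗[A] R))).annihilator ↔ _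
    rw [Submodule.mem_annihilator_span_singleton, smul_eq_mul]
  let J : Ideal (Localization.AtPrime q ⊗[A] R) :=
    Ideal.span {((1 : (Localization.AtPrime q)) ⊗ₜ[A] ϖ : (Localization.AtPrime q ⊗[A] R))}
  have hJ𝔞 : J ≤ 𝔞 := by
    rw [Ideal.span_le, Set.singleton_subset_iff]
    exact (h𝔞 _).mpr hz
  have h𝔞top : 𝔞 ≠ ⊤ := by
    intro htop
    have h1 : (1 : Localization.AtPrime q ⊗[A] R) ∈ 𝔞 := by rw [htop]; trivial
    rw [h𝔞, one_mul] at h1
    exact hz0 h1
  -- integrality
  let G : Set (Localization.AtPrime q ⊗[A] R) :=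
    Set.range (fun r : R => ((1 : Localization.AtPrime q) ⊗ₜ[A] r))
  have hG : Algebra.adjoin (Localization.AtPrime q) G = ⊤ := by
    have hall : ∀ x : Localization.AtPrime q ⊗[A] R,
        x ∈ Algebra.adjoin (Localization.AtPrime q) G := by
      intro x
      induction x using TensorProduct.induction_on with
      | zero => exact Subalgebra.zero_mem _
      | tmul b r =>
        have : (b ⊗ₜ[A] r : Localization.AtPrime q ⊗[A] R) =
            b • ((1 : Localization.AtPrime q) ⊗ₜ[A] r) := by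
          rw [TensorProduct.smul_tmul', smul_eq_mul, mul_one]
        rw [this]
        exact Subalgebra.smul_mem _ (Algebra.subset_adjoin (Set.mem_range_self r)) b
      | add x y hx hy => exact Subalgebra.add_mem _ hx hy
    exact eq_top_iff.mpr (fun x _ => hall x)
  have hGint : ∀ g ∈ G, ∃ f : Polynomial (Localization.AtPrime q), f.Monic ∧
      Polynomial.aeval g f ∈ J := by
    rintro _ ⟨r, rfl⟩
    obtain ⟨f, hf, hfr⟩ := hres r
    refine ⟨f.map (algebraMap A (Localization.AtPrime q)), hf.map _, ?_⟩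
    rw [Polynomial.aeval_def, Polynomial.eval₂_map]
    have e1 : (algebraMap (Localization.AtPrime q) (Localization.AtPrime q ⊗[A] R)).comp
        (algebraMap A (Localization.AtPrime q)) =
        ((Algebra.TensorProduct.includeRight :
          R →ₐ[A] Localization.AtPrime q ⊗[A] R).toRingHom).comp (algebraMap A R) := by
      ext a
      change algebraMap (Localization.AtPrime q) (Localization.AtPrime q ⊗[A] R)
        (algebraMap A (Localization.AtPrime q) a) = (1 : Localization.AtPrime q) ⊗ₜ[A]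
          (algebraMap A R a)
      rw [Algebra.TensorProduct.algebraMap_apply, Algebra.algebraMap_self, RingHom.id_apply,
        Algebra.algebraMap_eq_smul_one, Algebra.algebraMap_eq_smul_one (R := A) (A := R),
        TensorProduct.smul_tmul]
    rw [e1]
    have e2 : Polynomial.eval₂ (((Algebra.TensorProduct.includeRight :
          R →ₐ[A] Localization.AtPrime q ⊗[A] R).toRingHom).comp (algebraMap A R))
        ((1 : Localization.AtPrime q) ⊗ₜ[A] r) f =
        (Algebra.TensorProduct.includeRight :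
          R →ₐ[A] Localization.AtPrime q ⊗[A] R).toRingHom
          (Polynomial.eval₂ (algebraMap A R) r f) := by
      rw [Polynomial.hom_eval₂]
      rfl
    rw [e2]
    have hmem : Polynomial.eval₂ (algebraMap A R) r f ∈ Ideal.span {ϖ} := by
      rw [← hϖ.maximalIdeal_eq]
      exact hfr
    obtain ⟨c, hc⟩ := Ideal.mem_span_singleton'.mp hmem
    change ((1 : Localization.AtPrime q) ⊗ₜ[A] (Polynomial.eval₂ (algebraMap A R) r f)) ∈ J
    rw [← hc]
    have : ((1 : Localization.AtPrime q) ⊗ₜ[A] (c * ϖ) : Localization.AtPrime q ⊗[A] R) =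
        ((1 : Localization.AtPrime q) ⊗ₜ[A] c) * ((1 : Localization.AtPrime q) ⊗ₜ[A] ϖ) := by
      rw [Algebra.TensorProduct.tmul_mul_tmul, one_mul]
    rw [this]
    exact Ideal.mul_mem_left _ _ (Ideal.mem_span_singleton_self _)
  obtain ⟨𝔫, h𝔫prime, h𝔞𝔫, h𝔫incl'⟩ := exists_prime_ge_of_integral J 𝔞 hJ𝔞 h𝔞top
    (isIntegral_quotient_of_generators J G hG hGint)
  haveI := h𝔫prime
  let incl : (Localization.AtPrime q) →+* (Localization.AtPrime q ⊗[A] R) :=
    Algebra.TensorProduct.includeLeftRingHom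
  have h𝔫incl : 𝔫.comap incl = maximalIdeal (Localization.AtPrime q) := by
    rw [← h𝔫incl']
    rfl
  have hϖ𝔫 : ((1 : (Localization.AtPrime q)) ⊗ₜ[A] ϖ : (Localization.AtPrime q ⊗[A] R)) ∈ 𝔫 :=
    h𝔞𝔫 ((h𝔞 _).mpr hz)
  -- the prime of `B₀ ⊗ R`
  let q' : Ideal (B₀ ⊗[A] R) := 𝔫.comap (jMap A B₀ q R).toRingHom
  haveI hq'prime : q'.IsPrime := Ideal.comap_isPrime _ _
  have hq'1 : q'.comap (Algebra.TensorProduct.includeLeftRingHom) = q := by
    have e : (jMap A B₀ q R).toRingHom.comp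
        (Algebra.TensorProduct.includeLeftRingHom : B₀ →+* B₀ ⊗[A] R) =
        incl.comp (algebraMap B₀ (Localization.AtPrime q)) := by
      ext b
      change jMap A B₀ q R (b ⊗ₜ 1) = _
      rw [jMap_tmul]
      rfl
    change (𝔫.comap (jMap A B₀ q R).toRingHom).comap _ = q
    rw [Ideal.comap_comap, e, ← Ideal.comap_comap, h𝔫incl]
    exact IsLocalization.AtPrime.comap_maximalIdeal (Localization.AtPrime q) q
  have hq'2 : q'.comap (Algebra.TensorProduct.includeRight : R →ₐ[A] B₀ ⊗[A] R).toRingHom =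
      maximalIdeal R := by
    have hprime : (q'.comap
        (Algebra.TensorProduct.includeRight : R →ₐ[A] B₀ ⊗[A] R).toRingHom).IsPrime :=
      Ideal.comap_isPrime _ _
    apply le_antisymm (IsLocalRing.le_maximalIdeal hprime.ne_top)
    rw [hϖ.maximalIdeal_eq, Ideal.span_le, Set.singleton_subset_iff]
    change jMap A B₀ q R ((1 : B₀) ⊗ₜ[A] ϖ) ∈ 𝔫
    rw [jMap_tmul, map_one]
    exact hϖ𝔫
  -- write `z` as a fraction
  obtain ⟨s, hs, b', hsb'⟩ := jMap_surj A B₀ q R z
  have h1 : jMap A B₀ q R (((1 : B₀) ⊗ₜ[A] ϖ) * b') = 0 := by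
    rw [map_mul, jMap_tmul, map_one, ← hsb', ← mul_assoc,
      mul_comm ((1 : (Localization.AtPrime q)) ⊗ₜ[A] ϖ) _, mul_assoc, hz, mul_zero]
  obtain ⟨t, ht, htb'⟩ := jMap_eq_zero A B₀ q R _ h1
  have h2 : ((1 : B₀) ⊗ₜ[A] ϖ) * ((t ⊗ₜ[A] (1 : R)) * b') = 0 := by
    rw [← mul_assoc, mul_comm ((1 : B₀) ⊗ₜ[A] ϖ) _, mul_assoc]
    exact htb'
  obtain ⟨σ, hσ, hσb⟩ := H _ h2 q' hq'1 hq'2
  have h3 : (jMap A B₀ q R σ *
      ((algebraMap B₀ (Localization.AtPrime q) t ⊗ₜ[A] (1 : R)) * (algebraMap B₀ (Localization.AtPrime q) s ⊗ₜ[A] (1 : R)))) * z = 0 := by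
    have := congrArg (jMap A B₀ q R) hσb
    rw [map_mul, map_mul, jMap_tmul, map_zero, ← hsb'] at this
    rw [mul_assoc, mul_assoc]
    exact this
  have h4 := h𝔞𝔫 ((h𝔞 _).mpr h3)
  rcases h𝔫prime.mem_or_mem h4 with h5 | h5
  · exact hσ h5
  · rw [Algebra.TensorProduct.tmul_mul_tmul, one_mul, ← map_mul] at h5
    have h6 : algebraMap B₀ (Localization.AtPrime q) (t * s) ∈ maximalIdeal (Localization.AtPrime q) := by
      rw [← h𝔫incl]
      exact h5
    have h7 : IsUnit (algebraMap B₀ (Localization.AtPrime q) (t * s)) :=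
      IsLocalization.map_units (Localization.AtPrime q) (⟨t * s, q.primeCompl.mul_mem ht hs⟩ : q.primeCompl)
    exact (IsLocalRing.mem_maximalIdeal _).mp h6 h7

/-- `R ⊗[A] (B₀)_q` is flat over the discrete valuation ring `R`. -/
theorem flat_tensor_localization
    (hres : ∀ r : R, ∃ f : Polynomial A, f.Monic ∧ Polynomial.aeval r f ∈ maximalIdeal R)
    (H : ∀ (ϖ : R), Irreducible ϖ → ∀ b' : B₀ ⊗[A] R, ((1 : B₀) ⊗ₜ[A] ϖ) * b' = 0 →
      ∀ (q' : Ideal (B₀ ⊗[A] R)) [q'.IsPrime],
        q'.comap (Algebra.TensorProduct.includeLeftRingHom) = q →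
        q'.comap (Algebra.TensorProduct.includeRight : R →ₐ[A] B₀ ⊗[A] R).toRingHom =
          maximalIdeal R →
        ∃ s, s ∉ q' ∧ s * b' = 0) :
    Module.Flat R (R ⊗[A] Localization.AtPrime q) := by
  obtain ⟨ϖ, hϖ⟩ := IsDiscreteValuationRing.exists_irreducible R
  -- `ϖ` is a nonzerodivisor on the module
  have key : ∀ m : R ⊗[A] Localization.AtPrime q, ϖ • m = 0 → m = 0 := by
    intro m hm
    let c := Algebra.TensorProduct.comm A R (Localization.AtPrime q)
    have hc : ∀ m : R ⊗[A] Localization.AtPrime q,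
        c (ϖ • m) = ((1 : Localization.AtPrime q) ⊗ₜ[A] ϖ) * c m := by
      intro m
      induction m using TensorProduct.induction_on with
      | zero => simp
      | tmul r b =>
        rw [TensorProduct.smul_tmul', Algebra.TensorProduct.comm_tmul,
          Algebra.TensorProduct.comm_tmul, Algebra.TensorProduct.tmul_mul_tmul, one_mul,
          smul_eq_mul]
      | add x y hx hy => rw [smul_add, map_add, map_add, mul_add, hx, hy]
    have h1 : ((1 : Localization.AtPrime q) ⊗ₜ[A] ϖ) * c m = 0 := by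
      rw [← hc, hm, map_zero]
    have h2 := eq_zero_of_mul_eq_zero A B₀ q R ϖ hϖ hres (H ϖ hϖ) (c m) h1
    exact c.injective (by rw [h2, map_zero])
  have keypow : ∀ (n : ℕ) (m : R ⊗[A] Localization.AtPrime q), ϖ ^ n • m = 0 → m = 0 := by
    intro n
    induction n with
    | zero => intro m hm; simpa using hm
    | succ n ih =>
      intro m hm
      apply ih
      apply key
      rw [← mul_smul, ← pow_succ']
      exact hm
  rw [Module.Flat.flat_iff_torsion_eq_bot_of_isBezout, eq_bot_iff]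
  intro m hm
  rw [Submodule.mem_torsion_iff] at hm
  obtain ⟨⟨r, hr⟩, hrm⟩ := hm
  have hr0 : r ≠ 0 := nonZeroDivisors.ne_zero hr
  obtain ⟨n, u, hu⟩ := IsDiscreteValuationRing.eq_unit_mul_pow_irreducible hr0 hϖ
  rw [Submodule.mem_bot]
  apply keypow n
  have h1 : (u : R) • (ϖ ^ n • m) = 0 := by
    rw [← mul_smul, ← hu]
    exact hrm
  have h2 := congrArg (fun y => ((u⁻¹ : Rˣ) : R) • y) h1
  simp only [smul_zero] at h2
  rw [← mul_smul, Units.inv_mul, one_smul] at h2
  exact h2

end Torsion2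

end Groth.Agent.Lib.Helper13.ValFlatPt
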