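import Mathlib
import Groth.Agent.Lib.Helper13.ValFlatPtC

/-!
# Pointwise valuative criterion of flatness, local affine form (helper13)

`A` a reduced Noetherian local ring, `B₀` an `A`-algebra of finite type, `q` a prime of `B₀` over
the maximal ideal of `A`.  If for every discrete valuation ring `R` and local homomorphism
`A → R`, the ring `B₀ ⊗[A] R` has no `ϖ`-torsion at the primes over `q` and the closed point of
`R`, then `(B₀)_q` is flat over `A` (EGA IV 11.8.1, pointwise form).
-/

set_option autoImplicit false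
universe u
open TensorProduct IsLocalRing

namespace Groth.Agent.Lib.Helper13.ValFlatPt

attribute [local instance] Algebra.TensorProduct.rightAlgebra

section Main
variable (A : Type u) [CommRing A] [IsLocalRing A] [IsNoetherianRing A] [IsReduced A]
  (B₀ : Type u) [CommRing B₀] [Algebra A B₀] [Algebra.FiniteType A B₀]
  (q : Ideal B₀) [q.IsPrime]

local notation "𝔪" => IsLocalRing.maximalIdeal A
local notation "C" => AdicCompletion (IsLocalRing.maximalIdeal A) A
local notation "Bq" => Localization.AtPrime q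

theorem isNoetherianRing_tensor_localization (C' : Type u) [CommRing C'] [IsNoetherianRing C']
    [Algebra A C'] : IsNoetherianRing (C' ⊗[A] Localization.AtPrime q) := by
  haveI : Algebra.EssFiniteType B₀ (Localization.AtPrime q) :=
    Algebra.EssFiniteType.of_isLocalization _ q.primeCompl
  haveI : Algebra.EssFiniteType A (Localization.AtPrime q) :=
    Algebra.EssFiniteType.comp A B₀ (Localization.AtPrime q)
  haveI : Algebra.EssFiniteType C' (C' ⊗[A] Localization.AtPrime q) := inferInstance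
  have h0 := Algebra.FiniteType.isNoetherianRing C'
    (Algebra.EssFiniteType.subalgebra C' (C' ⊗[A] Localization.AtPrime q))
  haveI : IsNoetherianRing
      (Algebra.EssFiniteType.subalgebra C' (C' ⊗[A] Localization.AtPrime q)) := h0
  exact IsLocalization.isNoetherianRing
    (Algebra.EssFiniteType.submonoid C' (C' ⊗[A] Localization.AtPrime q)) _ inferInstance

/-- A prime of `Â ⊗ (B₀)_q` over the closed points of both factors. -/
theorem exists_prime_over_closed (hq : q.comap (algebraMap A B₀) = maximalIdeal A) :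
    ∃ (Q' : Ideal (C ⊗[A] Bq)) (_ : Q'.IsPrime),
      Q'.comap (algebraMap C (C ⊗[A] Bq)) = IsLocalRing.maximalIdeal C ∧
      Q'.comap (algebraMap Bq (C ⊗[A] Bq)) = IsLocalRing.maximalIdeal Bq := by
  let K := ResidueField Bq
  have hzero : ∀ a : A, a ∈ 𝔪 → algebraMap A K a = 0 := fun a ha => by
    rw [IsScalarTower.algebraMap_apply A Bq K, IsScalarTower.algebraMap_apply A B₀ Bq]
    change residue Bq _ = 0
    rw [residue_eq_zero_iff, ← Localization.AtPrime.map_eq_maximalIdeal]
    apply Ideal.mem_map_of_mem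
    have : a ∈ q.comap (algebraMap A B₀) := by rw [hq]; exact ha
    exact this
  let ψ₂ : (A ⧸ 𝔪) →ₐ[A] K := Ideal.Quotient.liftₐ 𝔪 (Algebra.ofId A K) hzero
  let ψ : C →ₐ[A] K := ψ₂.comp ((AdicCompletion.evalOneₐ 𝔪).restrictScalars A)
  let β : Bq →ₐ[A] K := IsScalarTower.toAlgHom A Bq K
  obtain ⟨Q', hQ', h1, h2⟩ :=
    Groth.Agent.Lib.Helper12.ValFlatC.exists_prime_of_algHoms ψ β
  refine ⟨Q', hQ', ?_, ?_⟩
  · rw [h1]
    letI := Ideal.Quotient.field 𝔪
    have hinj2 : Function.Injective ψ₂ := ψ₂.toRingHom.injective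
    have hker : RingHom.ker ψ.toRingHom = RingHom.ker (AdicCompletion.evalOneₐ 𝔪).toRingHom := by
      ext c
      rw [RingHom.mem_ker, RingHom.mem_ker]
      change ψ₂ (AdicCompletion.evalOneₐ 𝔪 c) = 0 ↔ AdicCompletion.evalOneₐ 𝔪 c = 0
      exact map_eq_zero_iff ψ₂ hinj2
    rw [hker]
    have hmax : (RingHom.ker (AdicCompletion.evalOneₐ 𝔪).toRingHom).IsMaximal :=
      RingHom.ker_isMaximal_of_surjective _ (AdicCompletion.evalOneₐ_surjective 𝔪)
    exact IsLocalRing.eq_maximalIdeal hmax
  · rw [h2]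
    exact IsLocalRing.ker_residue

/-- **Pointwise valuative criterion of flatness** (EGA IV 11.8.1), local affine form. -/
theorem flat_localization_atPrime_of_forall_dvr
    (hq : q.comap (algebraMap A B₀) = maximalIdeal A)
    (H : ∀ (R : Type u) [CommRing R] [IsDomain R] [IsDiscreteValuationRing R] [Algebra A R]
      [IsLocalHom (algebraMap A R)] (ϖ : R), Irreducible ϖ →
      ∀ b' : B₀ ⊗[A] R, ((1 : B₀) ⊗ₜ[A] ϖ) * b' = 0 →
      ∀ (q' : Ideal (B₀ ⊗[A] R)) [q'.IsPrime],
        q'.comap (Algebra.TensorProduct.includeLeftRingHom) = q →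
        q'.comap (Algebra.TensorProduct.includeRight : R →ₐ[A] B₀ ⊗[A] R).toRingHom =
          maximalIdeal R →
        ∃ s, s ∉ q' ∧ s * b' = 0) :
    Module.Flat A (Localization.AtPrime q) := by
  have hm : 𝔪 ≠ ⊤ := Ideal.IsPrime.ne_top inferInstance
  haveI hN : IsNoetherianRing C := Groth.Agent.S0543.result A 𝔪
  have hmax := Groth.Agent.Lib.Helper29.maximalIdeal_adicCompletion_eq_map A 𝔪 hm
  haveI hcomp : IsAdicComplete (IsLocalRing.maximalIdeal C) C := by
    rw [hmax]
    exact AdicCompletion.isAdicComplete_self _ (IsNoetherian.noetherian _)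
  haveI hlocAC : IsLocalHom (algebraMap A C) :=
    Groth.Agent.Lib.Helper29.isLocalHom_algebraMap_adicCompletion A 𝔪 hm
  -- surjectivity on residue fields
  have hsurj : ∀ c : C, ∃ a : A, c - algebraMap A C a ∈ maximalIdeal C := by
    intro c
    obtain ⟨a, ha⟩ := Ideal.Quotient.mk_surjective (AdicCompletion.evalOneₐ 𝔪 c)
    refine ⟨a, ?_⟩
    letI := Ideal.Quotient.field 𝔪
    have hkermax : (RingHom.ker (AdicCompletion.evalOneₐ 𝔪).toRingHom).IsMaximal :=
      RingHom.ker_isMaximal_of_surjective _ (AdicCompletion.evalOneₐ_surjective 𝔪)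
    rw [← IsLocalRing.eq_maximalIdeal hkermax, RingHom.mem_ker]
    change AdicCompletion.evalOneₐ 𝔪 (c - algebraMap A C a) = 0
    rw [map_sub, AlgHom.commutes, sub_eq_zero, ← ha]
    rfl
  obtain ⟨Q, _, _, hQinj, hQss⟩ := Groth.Agent.Lib.Helper12.ValFlatC.exists_generic_algebra A
  haveI hQflat : Module.Flat Q (Q ⊗[A] Bq) := by
    haveI := Module.projective_of_isSemisimpleRing Q (Q ⊗[A] Bq)
    infer_instance
  haveI : IsNoetherianRing (C ⊗[A] Bq) := isNoetherianRing_tensor_localization A B₀ q C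
  obtain ⟨Q', hQ', hQ'C, hQ'B⟩ := exists_prime_over_closed A B₀ q hq
  -- the DVR hypothesis
  have HD : DvrHyp A Bq C := by
    intro R _ _ _ _ _ _ _ hres
    haveI : IsLocalHom (algebraMap A R) := by
      rw [IsScalarTower.algebraMap_eq A C R]
      exact RingHom.isLocalHom_comp _ _
    exact flat_tensor_localization A B₀ q R hres (fun ϖ hϖ => H R ϖ hϖ)
  haveI := Groth.Agent.Lib.Helper12.ValFlatB.isScalarTower_aux A C A Q
  have hinj' : Function.Injective (algebraMap C (C ⊗[A] Q)) := by
    have h0 : Function.Injective (Algebra.TensorProduct.includeLeft : C →ₐ[A] C ⊗[A] Q) :=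
      Algebra.TensorProduct.includeLeft_injective hQinj
    intro x y hxy
    exact h0 hxy
  have hflatC := flat_localized_complete_pt A Bq Bq C Q (C ⊗[A] Q) hsurj HD hQflat hinj' Q' hQ'C
  have hflatA : Module.Flat A (LocalizedModule Q'.primeCompl ((C ⊗[A] Bq) ⊗[Bq] Bq)) :=
    Module.Flat.trans A C _
  haveI : Q'.LiesOver (maximalIdeal Bq) := ⟨hQ'B.symm⟩
  haveI : Module.Flat Bq (C ⊗[A] Bq) :=
    Module.Flat.of_linearEquiv (Algebra.IsPushout.equiv A Bq C (C ⊗[A] Bq)).toLinearEquiv.symm
  have hfl : Module.Flat A (LocalizedModule (maximalIdeal Bq).primeCompl Bq) :=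
    (Groth.Agent.Lib.Helper12.FlatAtFlat.flatAt_iff_of_flat (A' := A) (B' := Bq)
      (C' := C ⊗[A] Bq) (h := TensorProduct.mk Bq (C ⊗[A] Bq) Bq 1)
      (TensorProduct.isBaseChange Bq Bq (C ⊗[A] Bq)) Q' (maximalIdeal Bq)).mpr hflatA
  -- localizing a local ring at its maximal ideal does nothing
  haveI : IsLocalization (maximalIdeal Bq).primeCompl Bq :=
    IsLocalization.of_le_isUnit (fun x hx => by
      by_contra hnu
      exact hx ((IsLocalRing.mem_maximalIdeal _).mpr hnu))
  haveI : IsLocalizedModule (maximalIdeal Bq).primeCompl (LinearMap.id : Bq →ₗ[Bq] Bq) :=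
    isLocalizedModule_id (maximalIdeal Bq).primeCompl Bq Bq
  let e : LocalizedModule (maximalIdeal Bq).primeCompl Bq ≃ₗ[Bq] Bq :=
    IsLocalizedModule.iso (maximalIdeal Bq).primeCompl (LinearMap.id : Bq →ₗ[Bq] Bq)
  exact Module.Flat.of_linearEquiv (e.restrictScalars A).symm

end Main

end Groth.Agent.Lib.Helper13.ValFlatPt
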