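import Mathlib
import Groth.Agent.Lib.Helper13.ValFlatPtD

/-!
# Pointwise valuative criterion of flatness: the torsion hypothesis (helper13)

`TorsHyp A B₀ q R`: the ring `B₀ ⊗[A] R` has no `ϖ`-torsion at the primes lying over `q` and over
the closed point of the discrete valuation ring `R`.  It follows from flatness at these primes of
any pushout of `B₀ ← A → R` (`torsHyp_of_isPushout`) and is invariant under isomorphisms of `R`
(`torsHyp_of_algEquiv`).
-/

set_option autoImplicit false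
universe u
open TensorProduct IsLocalRing

namespace Groth.Agent.Lib.Helper13.ValFlatPt

section Def
variable (A : Type u) [CommRing A] (B₀ : Type u) [CommRing B₀] [Algebra A B₀]
  (q : Ideal B₀) (R : Type u) [CommRing R] [IsLocalRing R] [Algebra A R]

/-- No `ϖ`-torsion in `B₀ ⊗[A] R` at the primes over `q` and the closed point of `R`. -/
def TorsHyp : Prop :=
  ∀ (ϖ : R), Irreducible ϖ → ∀ b' : B₀ ⊗[A] R, ((1 : B₀) ⊗ₜ[A] ϖ) * b' = 0 →
    ∀ (q' : Ideal (B₀ ⊗[A] R)) [q'.IsPrime],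
      q'.comap (Algebra.TensorProduct.includeLeftRingHom) = q →
      q'.comap (Algebra.TensorProduct.includeRight : R →ₐ[A] B₀ ⊗[A] R).toRingHom =
        maximalIdeal R →
      ∃ s, s ∉ q' ∧ s * b' = 0

end Def

section Pushout
variable (A : Type u) [CommRing A] (B₀ : Type u) [CommRing B₀] [Algebra A B₀]
  (q : Ideal B₀) (R : Type u) [CommRing R] [IsDomain R] [IsLocalRing R] [Algebra A R]
  (B' : Type u) [CommRing B'] [Algebra A B'] [Algebra B₀ B'] [Algebra R B']
  [IsScalarTower A B₀ B'] [IsScalarTower A R B'] [Algebra.IsPushout A B₀ R B']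

/-- Flatness over `R` at the primes of a pushout `B'` of `B₀ ← A → R` lying over `q` and the closed
point of `R` implies the torsion hypothesis. -/
theorem torsHyp_of_isPushout
    (H : ∀ (q' : Ideal B') [q'.IsPrime], q'.comap (algebraMap B₀ B') = q →
      q'.comap (algebraMap R B') = maximalIdeal R → Module.Flat R (Localization.AtPrime q')) :
    TorsHyp A B₀ q R := by
  intro ϖ hϖ b' hb' q' _ hq'1 hq'2
  let ε := Algebra.IsPushout.equiv A B₀ R B'
  let q'' : Ideal B' := q'.comap ε.symm.toRingEquiv.toRingHom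
  haveI hq''prime : q''.IsPrime := Ideal.comap_isPrime _ _
  have hmem : ∀ y : B', y ∈ q'' ↔ ε.symm y ∈ q' := fun y => Iff.rfl
  have h1 : q''.comap (algebraMap B₀ B') = q := by
    rw [← hq'1]
    ext b
    change ε.symm (algebraMap B₀ B' b) ∈ q' ↔ (b ⊗ₜ[A] (1 : R) : B₀ ⊗[A] R) ∈ q'
    rw [Algebra.IsPushout.equiv_symm_algebraMap_left]
  have h2 : q''.comap (algebraMap R B') = maximalIdeal R := by
    rw [← hq'2]
    ext r
    change ε.symm (algebraMap R B' r) ∈ q' ↔ ((1 : B₀) ⊗ₜ[A] r : B₀ ⊗[A] R) ∈ q'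
    rw [Algebra.IsPushout.equiv_symm_algebraMap_right]
  haveI := H q'' h1 h2
  -- `ε b'` dies in the localization
  have hϖ0 : ϖ ≠ 0 := hϖ.ne_zero
  have hreg : IsSMulRegular (Localization.AtPrime q'') ϖ :=
    Module.Flat.isSMulRegular_of_nonZeroDivisors (mem_nonZeroDivisors_of_ne_zero hϖ0)
  have h3 : ϖ • (algebraMap B' (Localization.AtPrime q'') (ε b')) = 0 := by
    rw [Algebra.smul_def, IsScalarTower.algebraMap_apply R B' (Localization.AtPrime q''),
      ← map_mul]
    have : algebraMap R B' ϖ * ε b' = ε (((1 : B₀) ⊗ₜ[A] ϖ) * b') := by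
      rw [map_mul, Algebra.IsPushout.equiv_tmul, map_one, one_mul]
    rw [this, hb', map_zero, map_zero]
  have h4 : algebraMap B' (Localization.AtPrime q'') (ε b') = 0 :=
    hreg (by
      change ϖ • (algebraMap B' (Localization.AtPrime q'') (ε b')) = ϖ • (0 : Localization.AtPrime q'')
      rw [h3, smul_zero])
  obtain ⟨⟨s'', hs''⟩, hs⟩ := (IsLocalization.map_eq_zero_iff q''.primeCompl
    (Localization.AtPrime q'') (ε b')).mp h4
  refine ⟨ε.symm s'', fun h => hs'' ((hmem _).mpr h), ?_⟩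
  apply ε.injective
  rw [map_mul, ε.apply_symm_apply, map_zero]
  exact hs

end Pushout

section Transport
variable (A : Type u) [CommRing A] (B₀ : Type u) [CommRing B₀] [Algebra A B₀]
  (q : Ideal B₀) (R R'' : Type u) [CommRing R] [IsLocalRing R] [Algebra A R]
  [CommRing R''] [IsLocalRing R''] [Algebra A R'']

/-- The torsion hypothesis is invariant under isomorphisms of the valuation ring. -/
theorem torsHyp_of_algEquiv (e : R ≃ₐ[A] R'') (H : TorsHyp A B₀ q R'') : TorsHyp A B₀ q R := by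
  intro ϖ hϖ b' hb' q' _ hq'1 hq'2
  let E : B₀ ⊗[A] R ≃ₐ[A] B₀ ⊗[A] R'' := Algebra.TensorProduct.congr AlgEquiv.refl e
  have hE : ∀ (b : B₀) (r : R), E (b ⊗ₜ r) = b ⊗ₜ e r := fun b r => by
    simp [E]
  have hEs : ∀ (b : B₀) (r : R''), E.symm (b ⊗ₜ r) = b ⊗ₜ e.symm r := fun b r => by
    rw [E.symm_apply_eq, hE, e.apply_symm_apply]
  let q'' : Ideal (B₀ ⊗[A] R'') := q'.comap E.symm.toRingEquiv.toRingHom
  haveI : q''.IsPrime := Ideal.comap_isPrime _ _
  have hmem : ∀ y, y ∈ q'' ↔ E.symm y ∈ q' := fun y => Iff.rfl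
  have hϖ' : Irreducible (e ϖ) := (MulEquiv.irreducible_iff e.toMulEquiv).mpr hϖ
  have h0 : ((1 : B₀) ⊗ₜ[A] (e ϖ)) * E b' = 0 := by
    rw [← hE, ← map_mul, hb', map_zero]
  have h1 : q''.comap (Algebra.TensorProduct.includeLeftRingHom) = q := by
    rw [← hq'1]
    ext b
    change E.symm (b ⊗ₜ 1) ∈ q' ↔ (b ⊗ₜ[A] (1 : R) : B₀ ⊗[A] R) ∈ q'
    rw [hEs, map_one]
  have h2 : q''.comap (Algebra.TensorProduct.includeRight : R'' →ₐ[A] B₀ ⊗[A] R'').toRingHom =
      maximalIdeal R'' := by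
    ext r
    change E.symm (1 ⊗ₜ r) ∈ q' ↔ _
    rw [hEs]
    have h3 : ((1 : B₀) ⊗ₜ[A] e.symm r ∈ q') ↔ e.symm r ∈ maximalIdeal R := by
      rw [← hq'2]
      rfl
    rw [h3, IsLocalRing.mem_maximalIdeal, IsLocalRing.mem_maximalIdeal, mem_nonunits_iff,
      mem_nonunits_iff]
    exact not_congr (MulEquiv.isUnit_map e.symm.toMulEquiv)
  obtain ⟨s, hs, hsb⟩ := H (e ϖ) hϖ' (E b') h0 q'' h1 h2
  refine ⟨E.symm s, fun h => hs ((hmem _).mpr h), ?_⟩
  apply E.injective
  rw [map_mul, E.apply_symm_apply, map_zero]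
  exact hsb

end Transport

section Wrapper
variable (A : Type u) [CommRing A] [IsLocalRing A] [IsNoetherianRing A] [IsReduced A]
  (B₀ : Type u) [CommRing B₀] [Algebra A B₀] [Algebra.FiniteType A B₀]
  (q : Ideal B₀) [q.IsPrime]

/-- **Pointwise valuative criterion of flatness**, in terms of `TorsHyp`. -/
theorem flat_localization_atPrime_of_torsHyp
    (hq : q.comap (algebraMap A B₀) = maximalIdeal A)
    (H : ∀ (R : Type u) [CommRing R] [IsDomain R] [IsDiscreteValuationRing R] [Algebra A R]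
      [IsLocalHom (algebraMap A R)], TorsHyp A B₀ q R) :
    Module.Flat A (Localization.AtPrime q) :=
  flat_localization_atPrime_of_forall_dvr A B₀ q hq
    (fun R _ _ _ _ _ ϖ hϖ b' hb' q' _ h1 h2 => H R ϖ hϖ b' hb' q' h1 h2)

end Wrapper

end Groth.Agent.Lib.Helper13.ValFlatPt
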