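import Mathlib
import Groth.Agent.Lib.Helper13.ValFlatPtE
import Groth.Agent.Lib.Helper14.FlatBaseChangeStalk

/-!
# Pointwise valuative criterion of flatness over a local base `Spec A` (helper13)
-/

set_option autoImplicit false

namespace Groth.Agent.Lib.Helper13.ValFlatPt

open CategoryTheory AlgebraicGeometry Limits TopologicalSpace TensorProduct IsLocalRing

universe u

/-- `primeIdealOf` is injective. -/
theorem primeIdealOf_injective {X : Scheme.{u}} {U : X.Opens} (hU : IsAffineOpen U)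
    (a b : U) (h : hU.primeIdealOf a = hU.primeIdealOf b) : (a : X) = b := by
  rw [← hU.fromSpec_primeIdealOf a, ← hU.fromSpec_primeIdealOf b, h]

/-- In an affine scheme with local ring of global sections, the prime of a closed point is the
maximal ideal. -/
theorem primeIdealOf_eq_maximalIdeal_of_isClosed {X : Scheme.{u}} {U : X.Opens}
    (hU : IsAffineOpen U) [IsLocalRing Γ(X, U)] (a : U) (ha : IsClosed {(a : X)}) :
    (hU.primeIdealOf a).asIdeal = maximalIdeal Γ(X, U) :=
  IsLocalRing.eq_maximalIdeal (hU.primeIdealOf_isMaximal_of_isClosed a ha)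

attribute [-instance]
  AlgebraicGeometry.instAlgebraCarrierObjOppositeOpensCarrierCarrierCommRingCatPresheafOpOpensTopOfOverSpecOfIsAffine

set_option backward.isDefEq.respectTransparency.types false in
/-- **Pointwise valuative criterion of flatness** over the spectrum of a reduced Noetherian local
ring. -/
theorem flat_stalkMap_of_forall_dvr_Spec (A : Type u) [CommRing A] [IsLocalRing A]
    [IsNoetherianRing A] [IsReduced A]
    {X : Scheme.{u}} (f : X ⟶ Spec (CommRingCat.of A)) [LocallyOfFinitePresentation f] (x : X)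
    (hx : f x = IsLocalRing.closedPoint A)
    (H : ∀ (A' : Type u) [CommRing A'] [IsDomain A'] [IsDiscreteValuationRing A']
      (φ : A →+* A') [IsLocalHom φ],
      ∀ x' : ↥(pullback f (Spec.map (CommRingCat.ofHom φ))),
        (pullback.fst f (Spec.map (CommRingCat.ofHom φ))) x' = x →
        (pullback.snd f (Spec.map (CommRingCat.ofHom φ))) x' = IsLocalRing.closedPoint A' →
        ((pullback.snd f (Spec.map (CommRingCat.ofHom φ))).stalkMap x').hom.Flat) :
    (f.stalkMap x).hom.Flat := by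
  have hS : IsAffineOpen (⊤ : (Spec (CommRingCat.of A)).Opens) := isAffineOpen_top _
  obtain ⟨_, ⟨W, hW, rfl⟩, hxW, -⟩ :=
    X.isBasis_affineOpens.exists_subset_of_mem_open (Set.mem_univ x) isOpen_univ
  have hUSX : W ≤ f ⁻¹ᵁ ⊤ := le_top
  -- the ring of global sections of the base
  let eA : Γ(Spec (CommRingCat.of A), ⊤) ≃+* A :=
    (Scheme.ΓSpecIso (CommRingCat.of A)).commRingCatIsoToRingEquiv
  haveI : IsLocalRing Γ(Spec (CommRingCat.of A), ⊤) := eA.symm.isLocalRing
  haveI : IsNoetherianRing Γ(Spec (CommRingCat.of A), ⊤) :=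
    isNoetherianRing_of_ringEquiv A eA.symm
  haveI : IsReduced Γ(Spec (CommRingCat.of A), ⊤) := isReduced_of_injective eA eA.injective
  algebraize [(f.appLE ⊤ W hUSX).hom]
  have hfp : (f.appLE ⊤ W hUSX).hom.FinitePresentation :=
    HasRingHomProperty.appLE (P := @LocallyOfFinitePresentation) f inferInstance ⟨⊤, hS⟩ ⟨W, hW⟩
      hUSX
  haveI : Algebra.FinitePresentation Γ(Spec (CommRingCat.of A), ⊤) Γ(X, W) := hfp
  haveI : Algebra.FiniteType Γ(Spec (CommRingCat.of A), ⊤) Γ(X, W) := inferInstance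
  have hq : (hW.primeIdealOf ⟨x, hxW⟩).asIdeal.comap
      (algebraMap Γ(Spec (CommRingCat.of A), ⊤) Γ(X, W)) =
      maximalIdeal Γ(Spec (CommRingCat.of A), ⊤) := by
    have h1 := IsAffineOpen.comap_primeIdealOf_appLE (f := f) ⊤ hS W hW hUSX hxW
    have h2 : (hS.primeIdealOf ⟨f x, hUSX hxW⟩).asIdeal =
        maximalIdeal Γ(Spec (CommRingCat.of A), ⊤) := by
      apply primeIdealOf_eq_maximalIdeal_of_isClosed hS
      change IsClosed {f x}
      rw [hx]
      exact IsLocalRing.isClosed_singleton_closedPoint A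
    rw [← h2, ← h1]
    rfl
  rw [Groth.Agent.Lib.Helper14.flat_stalkMap_iff_flat_localization f ⊤ hS W hW hUSX x hxW]
  apply flat_localization_atPrime_of_torsHyp Γ(Spec (CommRingCat.of A), ⊤) Γ(X, W)
    (hW.primeIdealOf ⟨x, hxW⟩).asIdeal hq
  intro R _ _ _ _ _
  -- the local homomorphism `A → R`
  let φ : A →+* R := (algebraMap Γ(Spec (CommRingCat.of A), ⊤) R).comp eA.symm.toRingHom
  haveI : IsLocalHom eA.symm.toRingHom :=
    ⟨fun a ha => (MulEquiv.isUnit_map eA.symm).mp ha⟩
  haveI : IsLocalHom φ := RingHom.isLocalHom_comp _ _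
  have H' := H R φ
  generalize hg : Spec.map (CommRingCat.ofHom φ) = g at H'
  have hS' : IsAffineOpen (⊤ : (Spec (CommRingCat.of R)).Opens) := isAffineOpen_top _
  have Hpb : IsPullback (pullback.fst f g) (pullback.snd f g) f g := IsPullback.of_hasPullback f g
  have hUST : (⊤ : (Spec (CommRingCat.of R)).Opens) ≤ g ⁻¹ᵁ ⊤ := le_top
  obtain ⟨UY, hUYdef⟩ : ∃ UY : (pullback f g).Opens,
      UY = (pullback.fst f g) ⁻¹ᵁ W ⊓ (pullback.snd f g) ⁻¹ᵁ ⊤ := ⟨_, rfl⟩
  have hiso := isIso_pushoutSection_of_isAffineOpen Hpb hUST hUSX hUYdef hS hS' hW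
  have hpush := (isIso_pushoutSection_iff Hpb hUST hUSX hUYdef).mp hiso
  have hUY : IsAffineOpen UY := by
    have : IsAffine (Scheme.Opens.toScheme (⊤ : (Spec (CommRingCat.of A)).Opens)) := hS
    have : IsAffine (Scheme.Opens.toScheme (⊤ : (Spec (CommRingCat.of R)).Opens)) := hS'
    have : IsAffine (Scheme.Opens.toScheme W) := hW
    exact .of_isIso (Scheme.Hom.isPullback_resLE Hpb hUST hUSX hUYdef).isoPullback.hom
  have e1 : UY ≤ (pullback.fst f g) ⁻¹ᵁ W := hUYdef ▸ inf_le_left
  have e2 : UY ≤ (pullback.snd f g) ⁻¹ᵁ ⊤ := hUYdef ▸ inf_le_right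
  -- the ring of global sections of `Spec R`
  let eR : Γ(Spec (CommRingCat.of R), ⊤) ≃+* R :=
    (Scheme.ΓSpecIso (CommRingCat.of R)).commRingCatIsoToRingEquiv
  haveI : IsLocalRing Γ(Spec (CommRingCat.of R), ⊤) := eR.symm.isLocalRing
  haveI : IsDomain Γ(Spec (CommRingCat.of R), ⊤) := eR.injective.isDomain eR.toRingHom
  algebraize [(g.appLE ⊤ ⊤ hUST).hom,
    ((pullback.fst f g).appLE W UY e1).hom, ((pullback.snd f g).appLE ⊤ UY e2).hom,
    (((pullback.fst f g).appLE W UY e1).hom.comp (f.appLE ⊤ W hUSX).hom)]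
  have : IsScalarTower Γ(Spec (CommRingCat.of A), ⊤) Γ(X, W) Γ(pullback f g, UY) :=
    .of_algebraMap_eq' rfl
  have : IsScalarTower Γ(Spec (CommRingCat.of A), ⊤) Γ(Spec (CommRingCat.of R), ⊤)
      Γ(pullback f g, UY) := .of_algebraMap_eq' congr($(hpush.w).hom)
  have hP : Algebra.IsPushout Γ(Spec (CommRingCat.of A), ⊤) Γ(X, W)
      Γ(Spec (CommRingCat.of R), ⊤) Γ(pullback f g, UY) :=
    CommRingCat.isPushout_iff_isPushout.mp hpush
  -- compatibility of `eR` with the algebra structures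
  have htop : g.appLE ⊤ ⊤ hUST = g.appTop := by
    rw [Scheme.Hom.appLE]
    simp
  have hcompat : ∀ a : Γ(Spec (CommRingCat.of A), ⊤),
      eR (algebraMap Γ(Spec (CommRingCat.of A), ⊤) Γ(Spec (CommRingCat.of R), ⊤) a) =
        algebraMap Γ(Spec (CommRingCat.of A), ⊤) R a := by
    intro a
    change (Scheme.ΓSpecIso (CommRingCat.of R)).hom.hom ((g.appLE ⊤ ⊤ hUST).hom a) = _
    rw [htop, ← hg]
    have hnat := Scheme.ΓSpecIso_naturality (CommRingCat.ofHom φ)
    have h3 := congrArg (fun ψ => ψ.hom a) hnat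
    simp only [CommRingCat.hom_comp, RingHom.comp_apply] at h3
    rw [h3]
    change (algebraMap Γ(Spec (CommRingCat.of A), ⊤) R) (eA.symm (eA a)) = _
    rw [eA.symm_apply_apply]
  let e : R ≃ₐ[Γ(Spec (CommRingCat.of A), ⊤)] Γ(Spec (CommRingCat.of R), ⊤) :=
    AlgEquiv.ofRingEquiv (f := eR.symm) (fun a => by
      rw [RingEquiv.symm_apply_eq]
      exact (hcompat a).symm)
  apply torsHyp_of_algEquiv _ _ _ R Γ(Spec (CommRingCat.of R), ⊤) e
  apply torsHyp_of_isPushout Γ(Spec (CommRingCat.of A), ⊤) Γ(X, W) _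
    Γ(Spec (CommRingCat.of R), ⊤) Γ(pullback f g, UY)
  intro q'' _ hq''1 hq''2
  -- the point of the fibre product
  have hx'UY : hUY.fromSpec ⟨q'', inferInstance⟩ ∈ UY := by
    have h1 : hUY.fromSpec ⟨q'', inferInstance⟩ ∈ Set.range hUY.fromSpec := ⟨_, rfl⟩
    rw [hUY.range_fromSpec] at h1
    exact h1
  have hprime : hUY.primeIdealOf ⟨hUY.fromSpec ⟨q'', inferInstance⟩, hx'UY⟩ =
      ⟨q'', inferInstance⟩ := by
    apply hUY.fromSpec.isOpenEmbedding.injective
    exact hUY.fromSpec_primeIdealOf _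
  have hfst : (pullback.fst f g) (hUY.fromSpec ⟨q'', inferInstance⟩) = x := by
    have h1 := IsAffineOpen.comap_primeIdealOf_appLE (f := pullback.fst f g) W hW UY hUY e1 hx'UY
    have h2 : hW.primeIdealOf ⟨(pullback.fst f g) (hUY.fromSpec ⟨q'', inferInstance⟩),
        e1 hx'UY⟩ = hW.primeIdealOf ⟨x, hxW⟩ := by
      rw [← h1, hprime]
      apply PrimeSpectrum.ext
      exact hq''1
    exact primeIdealOf_injective hW _ _ h2
  have hsnd : (pullback.snd f g) (hUY.fromSpec ⟨q'', inferInstance⟩) = closedPoint R := by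
    have h1 := IsAffineOpen.comap_primeIdealOf_appLE (f := pullback.snd f g) ⊤ hS' UY hUY e2 hx'UY
    have h2 : hS'.primeIdealOf ⟨(pullback.snd f g) (hUY.fromSpec ⟨q'', inferInstance⟩),
        e2 hx'UY⟩ = hS'.primeIdealOf ⟨closedPoint R, trivial⟩ := by
      rw [← h1, hprime]
      apply PrimeSpectrum.ext
      rw [primeIdealOf_eq_maximalIdeal_of_isClosed hS' ⟨closedPoint R, trivial⟩
        (IsLocalRing.isClosed_singleton_closedPoint R)]
      exact hq''2
    exact primeIdealOf_injective hS' _ _ h2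
  have hflat := H' _ hfst hsnd
  have h2 := (Groth.Agent.Lib.Helper14.flat_stalkMap_iff_flat_localization (pullback.snd f g)
    ⊤ hS' UY hUY e2 _ hx'UY).mp hflat
  have key : ∀ (I J : Ideal Γ(pullback f g, UY)) [I.IsPrime] [J.IsPrime], I = J →
      Module.Flat Γ(Spec (CommRingCat.of R), ⊤) (Localization.AtPrime I) →
      Module.Flat Γ(Spec (CommRingCat.of R), ⊤) (Localization.AtPrime J) := by
    intro I J _ _ h; subst h; exact id
  exact key _ _ (congrArg PrimeSpectrum.asIdeal hprime) h2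

end Groth.Agent.Lib.Helper13.ValFlatPt
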