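import Groth.Agent.Lib.Helper13.Chevalley

/-!
# Retrocompactness of the fibre-dimension loci (EGA IV 13.1.3 + 9.x, helper13)

For `f : X ⟶ S` locally of finite presentation, the open set `{x | dim_x X_{f x} ≤ n}` is
retrocompact in `X`.
-/

set_option autoImplicit false

namespace Groth.Agent.Lib.Helper13.Chevalley

open AlgebraicGeometry CategoryTheory CategoryTheory.Limits TensorProduct

universe u

section AffineFP

variable (A B : Type u) [CommRing A] [CommRing B] [Algebra A B] [Algebra.FinitePresentation A B]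

/-- For a finitely presented algebra, the locus of local fibre dimension `≤ n` in `Spec B` is
quasi-compact (by Noetherian approximation). -/
theorem isCompact_fibreDimAt_le_of_affine (n : ℕ) :
    IsCompact {q : Spec (.of B) |
      FlatMor.fibreDimAt (Spec.map (CommRingCat.ofHom (algebraMap A B))) q ≤ n} := by
  classical
  let P := Algebra.Presentation.ofFinitePresentation A B
  let A₀ := P.Core
  let B₀ := P.ModelOfHasCoeffs P.Core
  haveI : IsNoetherianRing A₀ := Algebra.FiniteType.isNoetherianRing ℤ A₀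
  haveI : Algebra.FiniteType A₀ B₀ := inferInstance
  haveI : IsNoetherianRing B₀ := Algebra.FiniteType.isNoetherianRing A₀ B₀
  let ε : A ⊗[A₀] B₀ ≃ₐ[A] B := P.tensorModelOfHasCoeffsEquiv P.Core
  let β : B₀ →+* B :=
    (ε.toAlgHom.toRingHom).comp (Algebra.TensorProduct.includeRight :
      B₀ →ₐ[A₀] A ⊗[A₀] B₀).toRingHom
  have hpush : IsPushout (CommRingCat.ofHom (algebraMap A₀ A))
      (CommRingCat.ofHom (algebraMap A₀ B₀))
      (CommRingCat.ofHom (algebraMap A B)) (CommRingCat.ofHom β) := by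
    refine (CommRingCat.isPushout_tensorProduct A₀ A B₀).of_iso (Iso.refl _) (Iso.refl _)
      (Iso.refl _) ε.toRingEquiv.toCommRingCatIso (by simp) (by simp) ?_ ?_
    · ext x
      show ε (x ⊗ₜ[A₀] (1 : B₀)) = algebraMap A B x
      have hx1 : (x ⊗ₜ[A₀] (1 : B₀) : A ⊗[A₀] B₀) = x • (1 : A ⊗[A₀] B₀) := by
        rw [Algebra.TensorProduct.one_def, TensorProduct.smul_tmul', smul_eq_mul, mul_one]
      rw [hx1, map_smul, map_one, Algebra.smul_def, mul_one]
    · refine CommRingCat.hom_ext (RingHom.ext fun x => ?_)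
      rfl
  have hpb := (isPullback_SpecMap_of_isPushout _ _ _ _ hpush).flip
  set f₀ := Spec.map (CommRingCat.ofHom (algebraMap A₀ B₀)) with hf₀
  haveI : LocallyOfFiniteType f₀ := by
    rw [hf₀, HasRingHomProperty.Spec_iff (P := @LocallyOfFiniteType)]
    exact (RingHom.finiteType_algebraMap (A := A₀) (B := B₀)).mpr inferInstance
  have hset : {q : Spec (.of B) |
      FlatMor.fibreDimAt (Spec.map (CommRingCat.ofHom (algebraMap A B))) q ≤ n} =
      (Spec.map (CommRingCat.ofHom β)) ⁻¹' {q₀ | FlatMor.fibreDimAt f₀ q₀ ≤ n} := by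
    ext q
    simp only [Set.mem_setOf_eq, Set.mem_preimage]
    rw [Groth.Agent.Lib.Helper55.fibreDimAt_eq_of_isPullback f₀
      (Spec.map (CommRingCat.ofHom (algebraMap A₀ A))) (Spec.map (CommRingCat.ofHom β))
      (Spec.map (CommRingCat.ofHom (algebraMap A B))) hpb q]
  rw [hset]
  haveI : TopologicalSpace.NoetherianSpace (Spec (.of B₀)) :=
    inferInstanceAs (TopologicalSpace.NoetherianSpace (PrimeSpectrum B₀))
  exact QuasiCompact.isCompact_preimage (f := Spec.map (CommRingCat.ofHom β)) _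
    (isOpen_fibreDimAt_le f₀ n) (TopologicalSpace.NoetherianSpace.isCompact _)

end AffineFP

section Global

variable {X S : Scheme.{u}} (f : X ⟶ S) [LocallyOfFinitePresentation f]

/-- On an affine chart, the locus of fibre dimension `≤ n` is quasi-compact. -/
theorem isCompact_fibreDimAt_le_inter_of_isAffineOpen (n : ℕ) {U : X.Opens} {V : S.Opens}
    (hU : IsAffineOpen U) (hV : IsAffineOpen V) (e : U ≤ f ⁻¹ᵁ V) :
    IsCompact ({x : X | FlatMor.fibreDimAt f x ≤ n} ∩ U) := by
  set φ := f.appLE V U e with hφ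
  letI : Algebra Γ(S, V) Γ(X, U) := φ.hom.toAlgebra
  haveI : Algebra.FinitePresentation Γ(S, V) Γ(X, U) := f.finitePresentation_appLE hV hU e
  have hcomm : Spec.map φ ≫ hV.fromSpec = hU.fromSpec ≫ f :=
    IsAffineOpen.SpecMap_appLE_fromSpec f hV hU e
  have hc := (isCompact_fibreDimAt_le_of_affine Γ(S, V) Γ(X, U) n).image
    hU.fromSpec.continuous
  have hset : {x : X | FlatMor.fibreDimAt f x ≤ n} ∩ U =
      hU.fromSpec '' {q : Spec Γ(X, U) | FlatMor.fibreDimAt (Spec.map φ) q ≤ n} := by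
    ext y
    constructor
    · rintro ⟨hyE, hyU⟩
      refine ⟨hU.primeIdealOf ⟨y, hyU⟩, ?_, hU.fromSpec_primeIdealOf ⟨y, hyU⟩⟩
      show FlatMor.fibreDimAt (Spec.map φ) _ ≤ n
      rw [← Groth.Agent.S7408.result f (Spec.map φ) hU.fromSpec hV.fromSpec hcomm,
        hU.fromSpec_primeIdealOf ⟨y, hyU⟩]
      exact hyE
    · rintro ⟨q, hq, rfl⟩
      refine ⟨?_, ?_⟩
      · show FlatMor.fibreDimAt f _ ≤ n
        rw [Groth.Agent.S7408.result f (Spec.map φ) hU.fromSpec hV.fromSpec hcomm]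
        exact hq
      · have : hU.fromSpec q ∈ Set.range hU.fromSpec := ⟨q, rfl⟩
        rw [hU.range_fromSpec] at this
        exact this
  rw [hset]
  exact hc

/-- **Retrocompactness of the loci of bounded fibre dimension** for morphisms locally of finite
presentation. -/
theorem isRetrocompact_fibreDimAt_le (n : ℕ) :
    IsRetrocompact {x : X | FlatMor.fibreDimAt f x ≤ n} := by
  classical
  intro K hK hKo
  have hex : ∀ x : K, ∃ (U : X.Opens) (V : S.Opens), IsAffineOpen U ∧ IsAffineOpen V ∧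
      (x : X) ∈ U ∧ (U : Set X) ⊆ K ∧ U ≤ f ⁻¹ᵁ V := by
    intro x
    obtain ⟨V, hV, hfxV, -⟩ := exists_isAffineOpen_mem_and_subset (x := f x.1) (U := ⊤) trivial
    obtain ⟨U, hU, hxU, hUle⟩ := exists_isAffineOpen_mem_and_subset (x := x.1)
      (U := (⟨K, hKo⟩ : X.Opens) ⊓ f ⁻¹ᵁ V) ⟨x.2, hfxV⟩
    exact ⟨U, V, hU, hV, hxU, fun t ht => (hUle ht).1, hUle.trans inf_le_right⟩
  choose U V hU hV hxU hUK hUV using hex
  obtain ⟨t, ht⟩ := hK.elim_finite_subcover (fun x : K => (U x : Set X)) (fun x => (U x).2)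
    (fun y hy => Set.mem_iUnion.mpr ⟨⟨y, hy⟩, hxU ⟨y, hy⟩⟩)
  have hEK : {x : X | FlatMor.fibreDimAt f x ≤ n} ∩ K =
      ⋃ x ∈ t, ({x : X | FlatMor.fibreDimAt f x ≤ n} ∩ U x) := by
    ext y
    simp only [Set.mem_inter_iff, Set.mem_iUnion, exists_prop]
    constructor
    · rintro ⟨hyE, hyK⟩
      obtain ⟨x, hx⟩ := Set.mem_iUnion.mp (ht hyK)
      obtain ⟨hxt, hyU⟩ := Set.mem_iUnion.mp hx
      exact ⟨x, hxt, hyE, hyU⟩
    · rintro ⟨x, -, hyE, hyU⟩
      exact ⟨hyE, hUK x hyU⟩
  rw [hEK]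
  exact t.finite_toSet.isCompact_biUnion fun x _ =>
    isCompact_fibreDimAt_le_inter_of_isAffineOpen f n (hU x) (hV x) (hUV x)

end Global

end Groth.Agent.Lib.Helper13.Chevalley
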