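import Mathlib
import Groth.Agent.Lib.Helper13.GenSplit
import Groth.Agent.Lib.Helper12.ConstrTop

set_option autoImplicit false

namespace Groth.Agent.Lib.Helper13.GenFibreCons

open TensorProduct Topology

universe u

section FieldExt

/-- The Krull dimension of a finite type algebra over a field is invariant under extension of
the base field. -/
theorem ringKrullDim_tensor_field_ext (k k' C : Type u) [Field k] [Field k'] [Algebra k k']
    [CommRing C] [Algebra k C] [Algebra.FiniteType k C] :
    ringKrullDim (k' ⊗[k] C) = ringKrullDim C := by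
  obtain ⟨a, ha, d, H⟩ := Groth.Agent.Lib.Helper13.GenSplit.exists_forall_ringKrullDim_eq_of_isDomain
    (R := k) (S := C)
  rw [H k' ((map_ne_zero_iff _ (algebraMap k k').injective).mpr ha)]
  rw [← H k (by simpa using ha)]
  exact ringKrullDim_eq_of_ringEquiv (Algebra.TensorProduct.lid k C).toRingEquiv

theorem ringKrullDim_tensor_eq_of_field_ext {A B : Type u} [CommRing A] [CommRing B] [Algebra A B]
    [Algebra.FiniteType A B] (k k' : Type u) [Field k] [Field k'] [Algebra A k] [Algebra A k']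
    [Algebra k k'] [IsScalarTower A k k'] :
    ringKrullDim (k' ⊗[A] B) = ringKrullDim (k ⊗[A] B) := by
  rw [← ringKrullDim_tensor_field_ext k k' (k ⊗[A] B)]
  exact (ringKrullDim_eq_of_ringEquiv
    (Algebra.TensorProduct.cancelBaseChange A k k' k' B).toRingEquiv).symm

end FieldExt

section Noeth

variable {A₀ B₀ : Type u} [CommRing A₀] [IsNoetherianRing A₀] [CommRing B₀] [Algebra A₀ B₀]
  [Algebra.FiniteType A₀ B₀]

theorem constructible_dim_of_isNoetherianRing :
    (∀ m : WithBot ℕ∞, IsConstructible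
      ((fun p : PrimeSpectrum A₀ => ringKrullDim (p.asIdeal.ResidueField ⊗[A₀] B₀)) ⁻¹' {m})) ∧
      (Set.range fun p : PrimeSpectrum A₀ =>
        ringKrullDim (p.asIdeal.ResidueField ⊗[A₀] B₀)).Finite := by
  refine (Groth.Agent.Lib.Helper12.ConstrTop.constructible_function_iff _).2 ?_
  intro Y hYc hYi
  have hη := hYi.isGenericPoint_genericPoint hYc
  set η := hYi.genericPoint with hηdef
  have hY : Y = PrimeSpectrum.zeroLocus (η.asIdeal : Set A₀) := by
    rw [← PrimeSpectrum.closure_singleton]; exact hη.def.symm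
  haveI : IsDomain (A₀ ⧸ η.asIdeal) := Ideal.Quotient.isDomain _
  obtain ⟨a', ha', d, H⟩ :=
    Groth.Agent.Lib.Helper13.GenSplit.exists_forall_ringKrullDim_eq_of_isDomain
      (R := A₀ ⧸ η.asIdeal) (S := (A₀ ⧸ η.asIdeal) ⊗[A₀] B₀)
  obtain ⟨a, rfl⟩ := Ideal.Quotient.mk_surjective a'
  have haη : a ∉ η.asIdeal := fun h => ha' (Ideal.Quotient.eq_zero_iff_mem.mpr h)
  have hconst : ∀ p ∈ (PrimeSpectrum.basicOpen a : Set (PrimeSpectrum A₀)) ∩ Y,
      ringKrullDim (p.asIdeal.ResidueField ⊗[A₀] B₀) = d := by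
    rintro p ⟨hpa, hpY⟩
    rw [hY] at hpY
    have hle : η.asIdeal ≤ p.asIdeal := (PrimeSpectrum.mem_zeroLocus _ _).mp hpY
    letI : Algebra (A₀ ⧸ η.asIdeal) p.asIdeal.ResidueField :=
      (Ideal.Quotient.lift η.asIdeal (algebraMap A₀ p.asIdeal.ResidueField) (fun x hx =>
        Ideal.algebraMap_residueField_eq_zero.mpr (hle hx))).toAlgebra
    haveI : IsScalarTower A₀ (A₀ ⧸ η.asIdeal) p.asIdeal.ResidueField :=
      IsScalarTower.of_algebraMap_eq fun x => rfl
    have hk : algebraMap (A₀ ⧸ η.asIdeal) p.asIdeal.ResidueField (Ideal.Quotient.mk _ a) ≠ 0 := by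
      show algebraMap A₀ p.asIdeal.ResidueField a ≠ 0
      rw [Ne, Ideal.algebraMap_residueField_eq_zero]
      exact hpa
    rw [← H p.asIdeal.ResidueField hk]
    exact (ringKrullDim_eq_of_ringEquiv
      (Algebra.TensorProduct.cancelBaseChange A₀ (A₀ ⧸ η.asIdeal) p.asIdeal.ResidueField
        p.asIdeal.ResidueField B₀).toRingEquiv).symm
  refine ⟨PrimeSpectrum.basicOpen a, (PrimeSpectrum.basicOpen a).2, ⟨η, haη, hη.mem⟩, ?_⟩
  intro p hp q hq
  rw [hconst p hp, hconst q hq]

end Noeth

section General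

variable {A B : Type u} [CommRing A] [CommRing B] [Algebra A B]

/-- Base change invariance of the fibre ring dimension. -/
theorem ringKrullDim_fiber_baseChange (A₀ B₀ : Type u) [CommRing A₀] [CommRing B₀] [Algebra A₀ A]
    [Algebra A₀ B₀] [Algebra.FiniteType A₀ B₀] (e : A ⊗[A₀] B₀ ≃ₐ[A] B) (p : PrimeSpectrum A) :
    ringKrullDim (p.asIdeal.ResidueField ⊗[A] B) =
      ringKrullDim ((PrimeSpectrum.comap (algebraMap A₀ A) p).asIdeal.ResidueField ⊗[A₀] B₀) := by
  set p₀ := PrimeSpectrum.comap (algebraMap A₀ A) p with hp₀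
  let ψ : p₀.asIdeal.ResidueField →+* p.asIdeal.ResidueField :=
    Ideal.ResidueField.map p₀.asIdeal p.asIdeal (algebraMap A₀ A) rfl
  letI : Algebra p₀.asIdeal.ResidueField p.asIdeal.ResidueField := ψ.toAlgebra
  haveI : IsScalarTower A₀ p₀.asIdeal.ResidueField p.asIdeal.ResidueField :=
    IsScalarTower.of_algebraMap_eq fun x => by
      show _ = ψ (algebraMap A₀ p₀.asIdeal.ResidueField x)
      rw [Ideal.ResidueField.map_algebraMap, ← IsScalarTower.algebraMap_apply]
  rw [← ringKrullDim_tensor_eq_of_field_ext (A := A₀) (B := B₀) p₀.asIdeal.ResidueField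
    p.asIdeal.ResidueField]
  have e1 : p.asIdeal.ResidueField ⊗[A] (A ⊗[A₀] B₀) ≃ₐ[p.asIdeal.ResidueField]
      p.asIdeal.ResidueField ⊗[A] B :=
    Algebra.TensorProduct.congr AlgEquiv.refl e
  rw [← ringKrullDim_eq_of_ringEquiv e1.toRingEquiv]
  exact ringKrullDim_eq_of_ringEquiv
    (Algebra.TensorProduct.cancelBaseChange A₀ A p.asIdeal.ResidueField
      p.asIdeal.ResidueField B₀).toRingEquiv

variable [Algebra.FinitePresentation A B]

/-- For a finitely presented algebra, the fibre ring dimension is a constructible function on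
the spectrum of the base. -/
theorem constructible_dim :
    (∀ m : WithBot ℕ∞, IsConstructible
      ((fun p : PrimeSpectrum A => ringKrullDim (p.asIdeal.ResidueField ⊗[A] B)) ⁻¹' {m})) ∧
      (Set.range fun p : PrimeSpectrum A =>
        ringKrullDim (p.asIdeal.ResidueField ⊗[A] B)).Finite := by
  classical
  let P := Algebra.Presentation.ofFinitePresentation A B
  haveI : IsNoetherianRing P.Core := Algebra.FiniteType.isNoetherianRing ℤ P.Core
  have key : ∀ p : PrimeSpectrum A, ringKrullDim (p.asIdeal.ResidueField ⊗[A] B) =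
      ringKrullDim ((PrimeSpectrum.comap (algebraMap P.Core A) p).asIdeal.ResidueField ⊗[P.Core]
        P.ModelOfHasCoeffs P.Core) :=
    ringKrullDim_fiber_baseChange P.Core (P.ModelOfHasCoeffs P.Core)
      (P.tensorModelOfHasCoeffsEquiv P.Core)
  obtain ⟨h1, h2⟩ := constructible_dim_of_isNoetherianRing (A₀ := P.Core)
    (B₀ := P.ModelOfHasCoeffs P.Core)
  constructor
  · intro m
    have : ((fun p : PrimeSpectrum A => ringKrullDim (p.asIdeal.ResidueField ⊗[A] B)) ⁻¹' {m}) =
        PrimeSpectrum.comap (algebraMap P.Core A) ⁻¹'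
          ((fun p : PrimeSpectrum P.Core => ringKrullDim (p.asIdeal.ResidueField ⊗[P.Core]
            P.ModelOfHasCoeffs P.Core)) ⁻¹' {m}) := by
      ext p
      simp only [Set.mem_preimage, Set.mem_singleton_iff]
      rw [key p]
    rw [this]
    obtain ⟨S, hS⟩ := PrimeSpectrum.exists_constructibleSetData_iff.mpr (h1 m)
    rw [← hS, ← PrimeSpectrum.ConstructibleSetData.toSet_map]
    exact PrimeSpectrum.ConstructibleSetData.isConstructible_toSet _
  · refine h2.subset ?_
    rintro _ ⟨p, rfl⟩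
    exact ⟨PrimeSpectrum.comap (algebraMap P.Core A) p, (key p).symm⟩

end General

end Groth.Agent.Lib.Helper13.GenFibreCons
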