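import Mathlib
import Groth.Agent.Lib.Helper13.GenFibreCons
import Groth.Agent.Lib.Helper12.ConstrTop

set_option autoImplicit false

namespace Groth.Agent.Lib.Helper13.FibreDimDescent

open TensorProduct Topology
open Groth.Agent.Lib.Helper13.GenFibreCons

universe u

section Limit

variable {A₀ A : Type u} [CommRing A₀] [CommRing A] [Algebra A₀ A]

/-- A point of `Spec A₀` not in the image of `Spec A` is already not in the image of the spectrum
of a finitely generated subalgebra. -/
theorem exists_finset_notMem_range_comap (η : PrimeSpectrum A₀)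
    (h : η ∉ Set.range (PrimeSpectrum.comap (algebraMap A₀ A))) :
    ∃ s : Finset A, η ∉ Set.range
      (PrimeSpectrum.comap (algebraMap A₀ (Algebra.adjoin A₀ (s : Set A)))) := by
  classical
  rw [PrimeSpectrum.mem_range_comap_iff] at h
  have hle : η.asIdeal ≤ (η.asIdeal.map (algebraMap A₀ A)).comap (algebraMap A₀ A) :=
    Ideal.le_comap_map
  obtain ⟨x, hx, hxη⟩ : ∃ x, x ∈ (η.asIdeal.map (algebraMap A₀ A)).comap (algebraMap A₀ A) ∧
      x ∉ η.asIdeal := by
    by_contra hcon
    push Not at hcon
    exact h (le_antisymm hcon hle)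
  rw [Ideal.mem_comap] at hx
  have hx' : algebraMap A₀ A x ∈ Submodule.span A ((algebraMap A₀ A) '' (η.asIdeal : Set A₀)) := hx
  rw [Submodule.mem_span_image_iff_exists_fun] at hx'
  obtain ⟨t, ht, c, hc⟩ := hx'
  let s : Finset A := Finset.univ.image c
  refine ⟨s, ?_⟩
  rw [PrimeSpectrum.mem_range_comap_iff]
  intro heq
  apply hxη
  rw [← heq, Ideal.mem_comap]
  have hcs : ∀ i : t, c i ∈ Algebra.adjoin A₀ (s : Set A) := fun i =>
    Algebra.subset_adjoin (by simp [s])
  have hsum : algebraMap A₀ (Algebra.adjoin A₀ (s : Set A)) x =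
      ∑ i : t, (⟨c i, hcs i⟩ : Algebra.adjoin A₀ (s : Set A)) *
        algebraMap A₀ (Algebra.adjoin A₀ (s : Set A)) (i : A₀) := by
    apply Subtype.ext
    rw [AddSubmonoidClass.coe_finset_sum]
    simp only [Subalgebra.coe_algebraMap, MulMemClass.coe_mul, ← hc, smul_eq_mul]
  rw [hsum]
  exact Ideal.sum_mem _ (fun i _ => Ideal.mul_mem_left _ _ (Ideal.mem_map_of_mem _ (ht i.2)))

end Limit

section Descent

variable {A B : Type u} [CommRing A] [CommRing B] [Algebra A B] [Algebra.FinitePresentation A B]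

/-- Noetherian descent of a finitely presented algebra all of whose fibre rings have Krull
dimension `d`: the model over a finitely generated `ℤ`-algebra can be chosen with the same
property. -/
theorem exists_model_forall_ringKrullDim_eq (d : WithBot ℕ∞)
    (hd : ∀ p : PrimeSpectrum A, ringKrullDim (p.asIdeal.ResidueField ⊗[A] B) = d) :
    ∃ (A₁ : Type u) (_ : CommRing A₁) (_ : Algebra A₁ A) (B₁ : Type u) (_ : CommRing B₁)
      (_ : Algebra A₁ B₁), Algebra.FiniteType ℤ A₁ ∧ Algebra.FinitePresentation A₁ B₁ ∧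
      Nonempty (A ⊗[A₁] B₁ ≃ₐ[A] B) ∧
      ∀ p₁ : PrimeSpectrum A₁, ringKrullDim (p₁.asIdeal.ResidueField ⊗[A₁] B₁) = d := by
  classical
  let P := Algebra.Presentation.ofFinitePresentation A B
  haveI : IsNoetherianRing P.Core := Algebra.FiniteType.isNoetherianRing ℤ P.Core
  have key : ∀ p : PrimeSpectrum A, ringKrullDim (p.asIdeal.ResidueField ⊗[A] B) =
      ringKrullDim ((PrimeSpectrum.comap (algebraMap P.Core A) p).asIdeal.ResidueField ⊗[P.Core]
        P.ModelOfHasCoeffs P.Core) :=
    ringKrullDim_fiber_baseChange P.Core (P.ModelOfHasCoeffs P.Core)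
      (P.tensorModelOfHasCoeffsEquiv P.Core)
  obtain ⟨h1, -⟩ := constructible_dim_of_isNoetherianRing (A₀ := P.Core)
    (B₀ := P.ModelOfHasCoeffs P.Core)
  set E₀ : Set (PrimeSpectrum P.Core) :=
    (fun p : PrimeSpectrum P.Core => ringKrullDim (p.asIdeal.ResidueField ⊗[P.Core]
      P.ModelOfHasCoeffs P.Core)) ⁻¹' {d} with hE₀
  have hrange : Set.range (PrimeSpectrum.comap (algebraMap P.Core A)) ⊆ E₀ := by
    rintro _ ⟨p, rfl⟩
    show ringKrullDim _ = d
    rw [← key p]
    exact hd p
  -- the directed family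
  let E : Finset A → Set (PrimeSpectrum P.Core) := fun s =>
    E₀ ∪ (Set.range (PrimeSpectrum.comap
      (algebraMap P.Core (Algebra.adjoin P.Core (s : Set A)))))ᶜ
  have hmono : Monotone E := by
    intro s s' hss'
    refine Set.union_subset_union_right _ (Set.compl_subset_compl.mpr ?_)
    rintro _ ⟨q, rfl⟩
    have hle : Algebra.adjoin P.Core (s : Set A) ≤ Algebra.adjoin P.Core (s' : Set A) :=
      Algebra.adjoin_mono (by exact_mod_cast hss')
    refine ⟨PrimeSpectrum.comap (Subalgebra.inclusion hle).toRingHom q, ?_⟩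
    rw [← PrimeSpectrum.comap_comp_apply]
    congr 2
  have hE : ∀ s, IsConstructible (E s) := by
    intro s
    refine (h1 d).union (IsConstructible.compl ?_)
    apply PrimeSpectrum.isConstructible_range_comap
    rw [RingHom.finitePresentation_algebraMap]
    haveI : Algebra.FiniteType P.Core (Algebra.adjoin P.Core (s : Set A)) :=
      (Subalgebra.fg_iff_finiteType _).mp (Subalgebra.fg_adjoin_finset s)
    exact Algebra.FinitePresentation.of_finiteType.mp inferInstance
  have hirr : ∀ Y : Set (PrimeSpectrum P.Core), IsClosed Y → IsIrreducible Y →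
      ∃ s, Y ⊆ closure (E s ∩ Y) := by
    intro Y hYc hYi
    have hη := hYi.isGenericPoint_genericPoint hYc
    set η := hYi.genericPoint with hηdef
    have hsuff : ∀ s, η ∈ E s → Y ⊆ closure (E s ∩ Y) := by
      intro s hs
      have h1 : ({η} : Set _) ⊆ E s ∩ Y := Set.singleton_subset_iff.2 ⟨hs, hη.mem⟩
      calc Y = closure {η} := hη.def.symm
        _ ⊆ closure (E s ∩ Y) := closure_mono h1
    by_cases hηE : η ∈ E₀
    · exact ⟨∅, hsuff ∅ (Or.inl hηE)⟩
    · have hηr : η ∉ Set.range (PrimeSpectrum.comap (algebraMap P.Core A)) :=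
        fun h => hηE (hrange h)
      obtain ⟨s, hs⟩ := exists_finset_notMem_range_comap η hηr
      exact ⟨s, hsuff s (Or.inr hs)⟩
  obtain ⟨s, hs⟩ := Groth.Agent.Lib.Helper12.ConstrTop.eq_of_directed_constructible_cover
    E hmono hE hirr
  have hsub : Set.range (PrimeSpectrum.comap
      (algebraMap P.Core (Algebra.adjoin P.Core (s : Set A)))) ⊆ E₀ := by
    intro q hq
    have : q ∈ E s := hs ▸ Set.mem_univ q
    rcases this with h | h
    · exact h
    · exact absurd hq h
  haveI : Algebra.FiniteType P.Core (Algebra.adjoin P.Core (s : Set A)) :=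
    (Subalgebra.fg_iff_finiteType _).mp (Subalgebra.fg_adjoin_finset s)
  refine ⟨Algebra.adjoin P.Core (s : Set A), inferInstance, inferInstance,
    (Algebra.adjoin P.Core (s : Set A)) ⊗[P.Core] P.ModelOfHasCoeffs P.Core, inferInstance,
    inferInstance, ?_, inferInstance, ⟨?_⟩, ?_⟩
  · exact Algebra.FiniteType.trans (S := P.Core) inferInstance inferInstance
  · exact (Algebra.TensorProduct.cancelBaseChange P.Core (Algebra.adjoin P.Core (s : Set A)) A A
      (P.ModelOfHasCoeffs P.Core)).trans (P.tensorModelOfHasCoeffsEquiv P.Core)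
  · intro p₁
    rw [ringKrullDim_fiber_baseChange P.Core (P.ModelOfHasCoeffs P.Core) AlgEquiv.refl p₁]
    exact hsub ⟨p₁, rfl⟩

end Descent

end Groth.Agent.Lib.Helper13.FibreDimDescent
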