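import Groth.Agent.Lib.Helper13.GenFibre

/-!
# Spreading geometric non-reducedness from the generic fibre (helper13)

Ring level: `exists_forall_not_isReduced_fiber_of_elem`, `exists_fg_subalgebra_nilpotent` (a nilpotent
of `K ⊗ B` lives over a finitely generated subalgebra of `K`), and
`exists_forall_exists_field_not_isReduced`.
-/

set_option autoImplicit false

namespace Groth.Agent.Lib.Helper13.GenFibre3

open TensorProduct Groth.Agent.Lib.Helper13.GenFibre

universe u

section Elem

variable {A B : Type u} [CommRing A] [CommRing B] [Algebra A B]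

/-- Element-wise form of `exists_forall_not_isReduced_fiber`. -/
theorem exists_forall_not_isReduced_fiber_of_elem [Algebra.FiniteType A B]
    (hp : (nilradical A).IsPrime) (b : B) (n : ℕ) (t₀ : A) (ht₀ : t₀ ∉ nilradical A)
    (hn : algebraMap A B t₀ * b ^ n ∈ (nilradical A).map (algebraMap A B))
    (hb : ∀ t : A, t ∉ nilradical A →
      algebraMap A B t * b ∉ (nilradical A).map (algebraMap A B)) :
    ∃ a : A, a ∉ nilradical A ∧ ∀ (P : Ideal A) [P.IsPrime], a ∉ P →
      ¬ IsReduced (P.Fiber B) := by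
  classical
  obtain ⟨a₁, ha₁, hB⟩ := exists_forall_mul_notMem_map hp b hb
  refine ⟨a₁ * t₀, ?_, ?_⟩
  · intro hmem
    rcases hp.mem_or_mem hmem with h | h
    · exact ha₁ h
    · exact ht₀ h
  · intro P hP haP hred
    have ha₁P : a₁ ∉ P := fun h => haP (P.mul_mem_right _ h)
    have ht₀P : t₀ ∉ P := fun h => haP (P.mul_mem_left _ h)
    have hpP : nilradical A ≤ P := nilradical_le_prime P
    have h1 : ((1 : P.ResidueField) ⊗ₜ[A] (b ^ n) : P.Fiber B) = 0 := by
      rw [one_tmul_eq_zero_iff]
      exact ⟨t₀, ht₀P, Ideal.map_mono hpP hn⟩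
    have h2 : IsNilpotent ((1 : P.ResidueField) ⊗ₜ[A] b : P.Fiber B) := by
      refine ⟨n, ?_⟩
      rw [Algebra.TensorProduct.tmul_pow, one_pow, h1]
    have h3 := hred.eq_zero _ h2
    obtain ⟨t, ht, htm⟩ := (one_tmul_eq_zero_iff P b).mp h3
    exact hB P hP ha₁P t ht htm

end Elem

section Descent

variable {A B : Type u} [CommRing A] [CommRing B] [Algebra A B]
variable (K : Type u) [Field K] [Algebra A K]

/-- `rTensor` along an algebra map is the algebra map on tensor products. -/
theorem rTensor_eq_map {S T : Type u} [CommRing S] [CommRing T] [Algebra A S] [Algebra A T]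
    (g : S →ₐ[A] T) (x : S ⊗[A] B) :
    LinearMap.rTensor B g.toLinearMap x = Algebra.TensorProduct.map g (AlgHom.id A B) x := by
  induction x using TensorProduct.induction_on with
  | zero => simp
  | tmul s b => simp
  | add x y hx hy => rw [map_add, map_add, hx, hy]

/-- A nonzero nilpotent of `K ⊗ B` descends to a finitely generated subalgebra of `K`. -/
theorem exists_fg_subalgebra_nilpotent (t : K ⊗[A] B) (n : ℕ) (htn : t ^ n = 0) :
    ∃ (A'' : Subalgebra A K) (_ : A''.FG) (b'' : A'' ⊗[A] B), b'' ^ n = 0 ∧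
      Algebra.TensorProduct.map A''.val (AlgHom.id A B) b'' = t := by
  obtain ⟨A₁, hA₁, u₁, hu₁⟩ := TensorProduct.Algebra.exists_of_fg (R := A) (S := K) (N := B) t
  have h0 : LinearMap.rTensor B A₁.val.toLinearMap (u₁ ^ n) =
      LinearMap.rTensor B A₁.val.toLinearMap (0 : A₁ ⊗[A] B) := by
    rw [map_zero, rTensor_eq_map, map_pow, ← rTensor_eq_map, hu₁, htn]
  obtain ⟨A'', hle, hfg, hA''⟩ := TensorProduct.Algebra.eq_of_fg_of_subtype_eq hA₁ h0
  refine ⟨A'', hfg, LinearMap.rTensor B (Subalgebra.inclusion hle).toLinearMap u₁, ?_, ?_⟩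
  · rw [rTensor_eq_map, ← map_pow, ← rTensor_eq_map, hA'', map_zero]
  · rw [rTensor_eq_map, ← AlgHom.comp_apply, ← Algebra.TensorProduct.map_comp]
    have : A''.val.comp (Subalgebra.inclusion hle) = A₁.val := by ext; rfl
    rw [this, AlgHom.comp_id, ← rTensor_eq_map, hu₁]

/-- **Spreading geometric non-reducedness**: if `K ⊗ B` is non-reduced for a field `K` over the
generic point, then over a neighbourhood of the generic point every point has a field over it with
non-reduced fibre. -/
theorem exists_forall_exists_field_not_isReduced [Algebra.FiniteType A B]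
    (hker : RingHom.ker (algebraMap A K) = nilradical A) (h : ¬ IsReduced (K ⊗[A] B)) :
    ∃ a : A, a ∉ nilradical A ∧ ∀ (P : Ideal A) [P.IsPrime], a ∉ P →
      ∃ (k : Type u) (_ : Field k) (_ : Algebra A k),
        RingHom.ker (algebraMap A k) = P ∧ ¬ IsReduced (k ⊗[A] B) := by
  classical
  rw [isReduced_iff] at h
  push Not at h
  obtain ⟨t, ⟨n, htn⟩, ht0⟩ := h
  obtain ⟨A'', hfg, b'', hb''n, hb''t⟩ := exists_fg_subalgebra_nilpotent K t n htn
  have hft'' : Algebra.FiniteType A A'' := A''.fg_iff_finiteType.mp hfg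
  have hftB'' : Algebra.FiniteType A'' (A'' ⊗[A] B) := Algebra.FiniteType.baseChange A''
  have hnil'' : nilradical A'' = ⊥ := nilradical_eq_zero A''
  have hp'' : (nilradical A'').IsPrime := hnil'' ▸ Ideal.isPrime_bot
  have hmapbot : (nilradical A'').map (algebraMap A'' (A'' ⊗[A] B)) = ⊥ := by
    rw [hnil'', Ideal.map_bot]
  -- the comparison map
  set μ := Algebra.TensorProduct.map A''.val (AlgHom.id A B) with hμ
  have hβ : ∀ s : A'', s ∉ nilradical A'' →
      algebraMap A'' (A'' ⊗[A] B) s * b'' ∉ (nilradical A'').map (algebraMap A'' (A'' ⊗[A] B)) := by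
    intro s hs hmem
    rw [hmapbot, Ideal.mem_bot] at hmem
    have hs0 : (s : K) ≠ 0 := by
      intro h0
      apply hs
      rw [hnil'', Ideal.mem_bot]
      exact Subtype.ext h0
    have h1 : μ (algebraMap A'' (A'' ⊗[A] B) s * b'') = ((s : K) ⊗ₜ[A] (1 : B)) * t := by
      rw [map_mul, hb''t, Algebra.TensorProduct.algebraMap_apply, hμ,
        Algebra.TensorProduct.map_tmul]
      simp
    rw [hmem, map_zero] at h1
    apply ht0
    have h2 : (((s : K)⁻¹) ⊗ₜ[A] (1 : B)) * (((s : K) ⊗ₜ[A] (1 : B)) * t) = t := by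
      rw [← mul_assoc, Algebra.TensorProduct.tmul_mul_tmul, inv_mul_cancel₀ hs0, mul_one,
        ← Algebra.TensorProduct.one_def, one_mul]
    rw [← h2, ← h1, mul_zero]
  have hα : algebraMap A'' (A'' ⊗[A] B) 1 * b'' ^ n ∈
      (nilradical A'').map (algebraMap A'' (A'' ⊗[A] B)) := by
    rw [map_one, one_mul, hb''n]
    exact Ideal.zero_mem _
  have h1n : (1 : A'') ∉ nilradical A'' := by
    rw [hnil'', Ideal.mem_bot]; exact one_ne_zero
  obtain ⟨a'', ha'', hA''⟩ := exists_forall_not_isReduced_fiber_of_elem (A := A'')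
    (B := A'' ⊗[A] B) hp'' b'' n 1 h1n hα hβ
  have ha''0 : a'' ≠ 0 := by
    intro h0; apply ha''; rw [h0]; exact Ideal.zero_mem _
  -- weak Chevalley for `A → A''[1/a'']`
  set L := Localization.Away a'' with hL
  have hftL : Algebra.FiniteType A L := by
    have : Algebra.FinitePresentation A'' L := IsLocalization.Away.finitePresentation a''
    have : Algebra.FiniteType A'' L := Algebra.FiniteType.of_finitePresentation
    exact Algebra.FiniteType.trans hft'' this
  have hinjL : Function.Injective (algebraMap A'' L) :=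
    IsLocalization.injective L (powers_le_nonZeroDivisors_of_noZeroDivisors ha''0)
  have hAK : ∀ x : A, ((algebraMap A A'' x : A'') : K) = algebraMap A K x := fun x => rfl
  have hp : (nilradical A).IsPrime := by
    rw [← hker]; exact RingHom.ker_isPrime _
  haveI : (nilradical A).IsPrime := hp
  have hntgen : Nontrivial ((nilradical A).Fiber L) := by
    rw [nontrivial_fiber_iff]
    intro x hx hmem
    have hbot : (nilradical A).map (algebraMap A L) = ⊥ := by
      rw [Ideal.map_eq_bot_iff_le_ker]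
      intro y hy
      rw [RingHom.mem_ker, IsScalarTower.algebraMap_apply A A'' L]
      have : algebraMap A A'' y = 0 := by
        apply Subtype.ext
        rw [hAK]
        rw [← hker] at hy
        exact hy
      rw [this, map_zero]
    rw [hbot, Ideal.mem_bot, mul_one, IsScalarTower.algebraMap_apply A A'' L] at hmem
    rw [← map_zero (algebraMap A'' L)] at hmem
    have h0 := hinjL hmem
    apply hx
    rw [← hker, RingHom.mem_ker, ← hAK, h0]
    rfl
  obtain ⟨a, ha, hA⟩ := exists_forall_nontrivial_fiber (A := A) (B := L) (nilradical A) rfl hntgen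
  refine ⟨a, ha, fun P hP haP => ?_⟩
  have hntP : Nontrivial (P.Fiber L) := hA P haP
  obtain ⟨Q⟩ := (PrimeSpectrum.nonempty_iff_nontrivial).mpr hntP
  let q := (PrimeSpectrum.preimageEquivFiber A L ⟨P, hP⟩).symm Q
  have hq : q.1.asIdeal.comap (algebraMap A L) = P :=
    congrArg PrimeSpectrum.asIdeal q.2
  let P'' : Ideal A'' := q.1.asIdeal.comap (algebraMap A'' L)
  haveI hP''prime : P''.IsPrime := Ideal.IsPrime.comap _
  have ha''P'' : a'' ∉ P'' := by
    intro hmem
    have hu : IsUnit (algebraMap A'' L a'') := IsLocalization.Away.algebraMap_isUnit a''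
    exact q.1.isPrime.ne_top (Ideal.eq_top_of_isUnit_mem _ hmem hu)
  have hP''P : P''.comap (algebraMap A A'') = P := by
    rw [← hq, Ideal.comap_comap, ← IsScalarTower.algebraMap_eq]
  refine ⟨P''.ResidueField, inferInstance, inferInstance, ?_, ?_⟩
  · rw [IsScalarTower.algebraMap_eq A A'' P''.ResidueField, ← RingHom.comap_ker,
      Ideal.ker_algebraMap_residueField, hP''P]
  · intro hred
    apply hA'' P'' ha''P''
    let e := Algebra.TensorProduct.cancelBaseChange A A'' A'' P''.ResidueField B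
    exact isReduced_of_injective e e.injective

end Descent

open AlgebraicGeometry CategoryTheory Limits TopologicalSpace

section GenChart

variable {X Y : Scheme.{u}}

/-- Chart of the base change of `f` along `Spec R → W ⊆ Y` given by an affine open `U ≤ f⁻¹ W`. -/
noncomputable def genChart (f : X ⟶ Y) {W : Y.Opens} (hW : IsAffineOpen W) {U : X.Opens}
    (hU : IsAffineOpen U) (e : U ≤ f ⁻¹ᵁ W) {R : CommRingCat.{u}} (ψ : Γ(Y, W) ⟶ R) :
    pullback (Spec.map (f.appLE W U e)) (Spec.map ψ) ⟶
      pullback f (Spec.map ψ ≫ hW.fromSpec) :=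
  pullback.map _ _ _ _ hU.fromSpec (𝟙 _) hW.fromSpec
    (IsAffineOpen.SpecMap_appLE_fromSpec f hW hU e) (by simp)

instance (f : X ⟶ Y) {W : Y.Opens} (hW : IsAffineOpen W) {U : X.Opens}
    (hU : IsAffineOpen U) (e : U ≤ f ⁻¹ᵁ W) {R : CommRingCat.{u}} (ψ : Γ(Y, W) ⟶ R) :
    IsOpenImmersion (genChart f hW hU e ψ) := by
  unfold genChart
  infer_instance

theorem range_genChart (f : X ⟶ Y) {W : Y.Opens} (hW : IsAffineOpen W) {U : X.Opens}
    (hU : IsAffineOpen U) (e : U ≤ f ⁻¹ᵁ W) {R : CommRingCat.{u}} (ψ : Γ(Y, W) ⟶ R) :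
    Set.range (genChart f hW hU e ψ) =
      (pullback.fst f (Spec.map ψ ≫ hW.fromSpec)) ⁻¹' U := by
  unfold genChart
  rw [Scheme.Pullback.range_map, hU.range_fromSpec]
  have : Set.range (𝟙 (Spec R) : Spec R ⟶ Spec R) = Set.univ :=
    Set.range_eq_univ.mpr (fun x => ⟨x, rfl⟩)
  rw [this, Set.preimage_univ, Set.inter_univ]

theorem isReduced_genChart_iff (f : X ⟶ Y) {W : Y.Opens} (hW : IsAffineOpen W) {U : X.Opens}
    (hU : IsAffineOpen U) (e : U ≤ f ⁻¹ᵁ W) {R : CommRingCat.{u}} (ψ : Γ(Y, W) ⟶ R) :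
    letI : Algebra Γ(Y, W) Γ(X, U) := (f.appLE W U e).hom.toAlgebra
    letI : Algebra Γ(Y, W) R := ψ.hom.toAlgebra
    IsReduced (pullback (Spec.map (f.appLE W U e)) (Spec.map ψ)) ↔
      _root_.IsReduced (TensorProduct Γ(Y, W) Γ(X, U) R) := by
  letI : Algebra Γ(Y, W) Γ(X, U) := (f.appLE W U e).hom.toAlgebra
  letI : Algebra Γ(Y, W) R := ψ.hom.toAlgebra
  rw [← affine_isReduced_iff (.of (TensorProduct Γ(Y, W) Γ(X, U) R))]
  constructor
  · intro h
    exact isReduced_of_isOpenImmersion (pullbackSpecIso Γ(Y, W) Γ(X, U) R).inv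
  · intro h
    exact isReduced_of_isOpenImmersion (pullbackSpecIso Γ(Y, W) Γ(X, U) R).hom

/-- If all affine charts of a base change are reduced, so is the base change. -/
theorem isReduced_pullback_of_charts (f : X ⟶ Y) {W : Y.Opens} (hW : IsAffineOpen W)
    {R : CommRingCat.{u}} (ψ : Γ(Y, W) ⟶ R)
    (H : ∀ (U : X.Opens) (hU : IsAffineOpen U) (e : U ≤ f ⁻¹ᵁ W),
      IsReduced (pullback (Spec.map (f.appLE W U e)) (Spec.map ψ))) :
    IsReduced (pullback f (Spec.map ψ ≫ hW.fromSpec)) := by
  let J := {U : X.affineOpens // (U : X.Opens) ≤ f ⁻¹ᵁ W}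
  let 𝒰 : (pullback f (Spec.map ψ ≫ hW.fromSpec)).OpenCover :=
    Scheme.Cover.mkOfCovers J
      (fun U => pullback (Spec.map (f.appLE W U.1 U.2)) (Spec.map ψ))
      (fun U => genChart f hW U.1.2 U.2 ψ)
      (by
        intro x
        have hxW : pullback.fst f (Spec.map ψ ≫ hW.fromSpec) x ∈ f ⁻¹ᵁ W := by
          show f (pullback.fst f (Spec.map ψ ≫ hW.fromSpec) x) ∈ W
          rw [← Scheme.Hom.comp_apply, pullback.condition, Scheme.Hom.comp_apply,
            Scheme.Hom.comp_apply]
          have : hW.fromSpec (Spec.map ψ (pullback.snd f (Spec.map ψ ≫ hW.fromSpec) x)) ∈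
              Set.range hW.fromSpec := ⟨_, rfl⟩
          rwa [hW.range_fromSpec] at this
        obtain ⟨U, hU, hxU, hUW⟩ := exists_isAffineOpen_mem_and_subset hxW
        have : x ∈ Set.range (genChart f hW hU hUW ψ) := by
          rw [range_genChart]
          exact hxU
        obtain ⟨y, hy⟩ := this
        exact ⟨⟨⟨U, hU⟩, hUW⟩, y, hy⟩)
      (fun U => inferInstance)
  have : ∀ i, IsReduced (𝒰.X i) := fun U => H U.1.1 U.1.2 U.2
  exact IsReduced.of_openCover _ 𝒰

end GenChart

section RingForm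

variable {A B : Type u} [CommRing A] [CommRing B] [Algebra A B]

/-- `exists_forall_exists_field_not_isReduced` with the algebra structures given by ring
homomorphisms and the tensor product in the order `B ⊗ K`. -/
theorem exists_forall_exists_ringHom_not_isReduced [Algebra.FiniteType A B]
    (K : Type u) [Field K] (ψ₀ : A →+* K) (hker : RingHom.ker ψ₀ = nilradical A)
    (h : ¬ (letI := ψ₀.toAlgebra; IsReduced (B ⊗[A] K))) :
    ∃ a : A, a ∉ nilradical A ∧ ∀ (P : Ideal A) [P.IsPrime], a ∉ P →
      ∃ (k : Type u) (_ : Field k) (ψ : A →+* k), RingHom.ker ψ = P ∧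
        ¬ (letI := ψ.toAlgebra; IsReduced (B ⊗[A] k)) := by
  letI := ψ₀.toAlgebra
  have h' : ¬ IsReduced (K ⊗[A] B) := by
    intro hred
    apply h
    let e := Algebra.TensorProduct.comm A B K
    exact isReduced_of_injective e e.injective
  obtain ⟨a, ha, hA⟩ := exists_forall_exists_field_not_isReduced (A := A) (B := B) K hker h'
  refine ⟨a, ha, fun P hP haP => ?_⟩
  obtain ⟨k, hk, inst, hkerk, hnr⟩ := hA P haP
  obtain ⟨ψ, hψ⟩ : ∃ ψ : A →+* k, ψ = algebraMap A k := ⟨_, rfl⟩
  have hinst : inst = ψ.toAlgebra := Algebra.algebra_ext _ _ (fun r => by rw [hψ]; rfl)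
  subst hinst
  refine ⟨k, hk, ψ, ?_, ?_⟩
  · rw [← hkerk]; rfl
  · intro hred
    apply hnr
    letI := ψ.toAlgebra
    let e := Algebra.TensorProduct.comm A k B
    exact isReduced_of_injective e e.injective

end RingForm

section GeomRed

variable {X Y : Scheme.{u}}

theorem not_geometricallyReduced_fiber_iff (f : X ⟶ Y) (y : Y) :
    ¬ GeometricallyReduced (f.fiberToSpecResidueField y) ↔
      ∃ (K : Type u) (_ : Field K) (t : Spec (.of K) ⟶ Spec (Y.residueField y)),
        ¬ IsReduced (pullback f (t ≫ Y.fromSpecResidueField y)) := by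
  rw [geometricallyReduced_iff, geometrically_iff_of_isClosedUnderIsomorphisms]
  push Not
  constructor
  · rintro ⟨K, hK, t, hnr⟩
    refine ⟨K, hK, t, fun hred => hnr ?_⟩
    exact isReduced_of_isOpenImmersion
      (pullbackLeftPullbackSndIso f (Y.fromSpecResidueField y) t).hom
  · rintro ⟨K, hK, t, hnr⟩
    refine ⟨K, hK, t, fun hred => hnr ?_⟩
    have hred' : IsReduced (pullback (pullback.snd f (Y.fromSpecResidueField y)) t) := hred
    exact isReduced_of_isOpenImmersion
      (pullbackLeftPullbackSndIso f (Y.fromSpecResidueField y) t).inv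

theorem not_geometricallyReduced_of_not_isReduced_pullback (f : X ⟶ Y) {k : Type u} [Field k]
    (s : Spec (.of k) ⟶ Y) (h : ¬ IsReduced (pullback f s)) :
    ¬ GeometricallyReduced (f.fiberToSpecResidueField (s (IsLocalRing.closedPoint k))) := by
  rw [not_geometricallyReduced_fiber_iff]
  refine ⟨k, inferInstance, Spec.map (Y.descResidueField (Scheme.stalkClosedPointTo s)), ?_⟩
  rwa [Scheme.descResidueField_stalkClosedPointTo_fromSpecResidueField]

theorem exists_eq_SpecMap_comp_fromSpec {W : Y.Opens} (hW : IsAffineOpen W) {R : CommRingCat.{u}}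
    (s : Spec R ⟶ Y) (hs : Set.range s ⊆ W) :
    ∃ ψ : Γ(Y, W) ⟶ R, s = Spec.map ψ ≫ hW.fromSpec := by
  have hs' : Set.range s ⊆ Set.range hW.fromSpec := by rw [hW.range_fromSpec]; exact hs
  refine ⟨Spec.preimage (IsOpenImmersion.lift hW.fromSpec s hs'), ?_⟩
  rw [Spec.map_preimage, IsOpenImmersion.lift_fac]

end GeomRed

end Groth.Agent.Lib.Helper13.GenFibre3
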