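import Groth.Agent.Lib.Helper13.LimDescent5
import Mathlib.AlgebraicGeometry.Morphisms.FormallyUnramified

/-!
# Relative descent through cofiltered limits, part 6 (helper13)

`exists_formallyUnramified_pullback_fst` (descent of formally unramified morphisms, via the
diagonal being an open immersion).
-/

set_option autoImplicit false
universe v u

open CategoryTheory Limits AlgebraicGeometry Topology

namespace Groth.Agent.Lib.Helper13.LimDescent

section Unramified

variable {J : Type u} [SmallCategory J] (E : J ⥤ Scheme.{u}) (cE : Cone E) (j₀ : J)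
  {X₀ : Scheme.{u}}
variable [hE : ∀ {i j : J} (f : i ⟶ j), IsAffineHom (E.map f)]

set_option backward.isDefEq.respectTransparency false in
/-- **Descent of formally unramified morphisms** (locally of finite type). -/
theorem exists_formallyUnramified_pullback_fst [IsCofiltered J] (hcE : IsLimit cE)
    [CompactSpace (E.obj j₀)] [QuasiSeparatedSpace (E.obj j₀)] [CompactSpace X₀]
    [QuasiSeparatedSpace X₀] (f₀ : X₀ ⟶ E.obj j₀) [LocallyOfFiniteType f₀]
    (h : FormallyUnramified (pullback.fst (cE.π.app j₀) f₀)) :
    ∃ k : Over j₀, FormallyUnramified (pullback.fst (E.map k.hom) f₀) := by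
  have h' : IsOpenImmersion (pullback.diagonal (pullback.fst (cE.π.app j₀) f₀)) := inferInstance
  have key : ∃ k : Over j₀, IsOpenImmersion (pullback.diagonal (pullback.fst (E.map k.hom) f₀)) := by
    refine diagonal_step E cE j₀ f₀ @IsOpenImmersion ?_ h'
    refine relStep E cE j₀ (pullback.diagonal f₀) (pullback.fst f₀ f₀ ≫ f₀) @IsOpenImmersion ?_
    intro f₀' hf₀' hP
    have : LocallyOfFinitePresentation f₀' := by
      rw [hf₀']
      exact (liftTop_prop_iff E j₀ _ _ @LocallyOfFinitePresentation).mpr inferInstance
    exact exists_isOpenImmersion_pullback_fst (sys E j₀ (pullback.fst f₀ f₀ ≫ f₀))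
      (sysCone E cE j₀ _) (top j₀) (isLimitSysCone E cE j₀ _ hcE) f₀' hP
  obtain ⟨k, hk⟩ := key
  exact ⟨k, inferInstance⟩

end Unramified

end Groth.Agent.Lib.Helper13.LimDescent
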