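/-
Helper library (helper13): constructibility of the locus of points at which the fibres of a
morphism locally of finite presentation are Cohen–Macaulay (EGA IV 9.9.2/9.9.3 for CM).
-/
import Groth.Agent.Lib.Helper13.CMChart
import Groth.Agent.S4961
import Groth.Agent.Lib.Helper2.GenericFlatness
import Groth.Agent.Lib.Helper12.ConstrTop

set_option autoImplicit false
open CategoryTheory AlgebraicGeometry Limits
universe u

namespace Groth.Agent.Lib.Helper13.CMCons

open Groth.Agent.Lib.Helper55 Groth.Agent.Lib.Helper13.CMChart Topology Groth.Agent.S2595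

/-- The local ring at `x` of the fibre of `f` through `x` is Cohen–Macaulay. -/
def CMFib {X S : Scheme.{u}} (f : X ⟶ S) (x : X) : Prop :=
  LocCoh.IsCohenMacaulayLocalRing ((f.fiber (f x)).presheaf.stalk (f.asFiber x))

theorem cmFib_iff_quot {X S : Scheme.{u}} (f : X ⟶ S) (x : X) :
    CMFib f x ↔ LocCoh.IsCohenMacaulayLocalRing (X.presheaf.stalk x ⧸
      Ideal.map (f.stalkMap x).hom (IsLocalRing.maximalIdeal (S.presheaf.stalk (f x)))) := by
  obtain ⟨E⟩ := nonempty_stalk_fiber_equiv f (f x) (f.asFiber x) x (f.fiberι_asFiber x)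
  exact ⟨Groth.Agent.Lib.Helper29.isCohenMacaulayLocalRing_of_ringEquiv E.symm,
    Groth.Agent.Lib.Helper29.isCohenMacaulayLocalRing_of_ringEquiv E⟩

theorem isCMAt_iff_cmFib_of_flat {X S : Scheme.{u}} (f : X ⟶ S) (x : X)
    (h : (f.stalkMap x).hom.Flat) : MoreMor.IsCMAt f x ↔ CMFib f x :=
  ⟨fun h' => h'.2, fun h' => ⟨h, h'⟩⟩

theorem cmFib_comp_openImmersion_left_iff {A B C : Scheme.{u}} (j : A ⟶ B) [IsOpenImmersion j]
    (h : B ⟶ C) (z : A) : CMFib (j ≫ h) z ↔ CMFib h (j z) := by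
  rw [cmFib_iff_quot, cmFib_iff_quot]
  let φ : B.presheaf.stalk (j z) ≃+* A.presheaf.stalk z :=
    (asIso (j.stalkMap z)).commRingCatIsoToRingEquiv
  have hJ : Ideal.map ((j ≫ h).stalkMap z).hom
      (IsLocalRing.maximalIdeal (C.presheaf.stalk ((j ≫ h) z))) =
      Ideal.map (φ : B.presheaf.stalk (j z) →+* A.presheaf.stalk z)
        (Ideal.map (h.stalkMap (j z)).hom
          (IsLocalRing.maximalIdeal (C.presheaf.stalk (h (j z))))) := by
    rw [Ideal.map_map, Scheme.Hom.stalkMap_comp]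
    rfl
  exact ⟨Groth.Agent.Lib.Helper29.isCohenMacaulayLocalRing_of_ringEquiv
      (Ideal.quotientEquiv _ _ φ hJ).symm,
    Groth.Agent.Lib.Helper29.isCohenMacaulayLocalRing_of_ringEquiv
      (Ideal.quotientEquiv _ _ φ hJ)⟩

theorem cmFib_comp_openImmersion_right_iff {A B C : Scheme.{u}} (h : A ⟶ B) (v : B ⟶ C)
    [IsOpenImmersion v] (z : A) : CMFib (h ≫ v) z ↔ CMFib h z := by
  rw [cmFib_iff_quot, cmFib_iff_quot]
  have hbij : Function.Bijective (v.stalkMap (h z)).hom :=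
    ConcreteCategory.bijective_of_isIso (v.stalkMap (h z))
  have hm : Ideal.map (v.stalkMap (h z)).hom
      (IsLocalRing.maximalIdeal (C.presheaf.stalk (v (h z)))) =
      IsLocalRing.maximalIdeal (B.presheaf.stalk (h z)) := by
    let ψ : C.presheaf.stalk (v (h z)) ≃+* B.presheaf.stalk (h z) :=
      RingEquiv.ofBijective (v.stalkMap (h z)).hom hbij
    exact IsLocalRing.map_ringEquiv_maximalIdeal ψ
  have hJ : Ideal.map ((h ≫ v).stalkMap z).hom
      (IsLocalRing.maximalIdeal (C.presheaf.stalk ((h ≫ v) z))) =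
      Ideal.map (h.stalkMap z).hom (IsLocalRing.maximalIdeal (B.presheaf.stalk (h z))) := by
    rw [← hm, Ideal.map_map, Scheme.Hom.stalkMap_comp]
    rfl
  exact ⟨Groth.Agent.Lib.Helper29.isCohenMacaulayLocalRing_of_ringEquiv
      (Ideal.quotEquivOfEq hJ),
    Groth.Agent.Lib.Helper29.isCohenMacaulayLocalRing_of_ringEquiv
      (Ideal.quotEquivOfEq hJ).symm⟩

theorem cmFib_iff_of_openImmersion_square {A B X Y : Scheme.{u}} (j : A ⟶ X) (v : B ⟶ Y)
    [IsOpenImmersion j] [IsOpenImmersion v] (f₁ : A ⟶ B) (f : X ⟶ Y) (h : f₁ ≫ v = j ≫ f) (z : A) :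
    CMFib f₁ z ↔ CMFib f (j z) := by
  rw [← cmFib_comp_openImmersion_right_iff f₁ v z, ← cmFib_comp_openImmersion_left_iff j f z]
  have gen : ∀ k : A ⟶ Y, k = j ≫ f → (CMFib k z ↔ CMFib (j ≫ f) z) := by
    rintro k rfl
    exact Iff.rfl
  exact gen _ h

/-- Base change invariance. -/
theorem cmFib_iff_of_isPullback {X Y X' Y' : Scheme.{u}} {f : X ⟶ Y} {f' : X' ⟶ Y'} {g' : X' ⟶ X}
    {g : Y' ⟶ Y} [LocallyOfFiniteType f] (hc : IsPullback g' f' f g) (x' : X') :
    CMFib f' x' ↔ CMFib f (g' x') :=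
  Groth.Agent.Lib.Helper24.isCohenMacaulayLocalRing_fibre_stalk_iff_of_isPullback hc x'
    (isLocallyNoetherian_fiber f _) (Or.inr inferInstance)

/-- A point of a pullback square over a compatible pair of points. -/
theorem exists_preimage_of_isPullback {X Y X' Y' : Scheme.{u}} {f : X ⟶ Y} {f' : X' ⟶ Y'}
    {g' : X' ⟶ X} {g : Y' ⟶ Y} (hc : IsPullback g' f' f g) (x : X) (y' : Y') (h : f x = g y') :
    ∃ x' : X', g' x' = x ∧ f' x' = y' := by
  obtain ⟨w, hw1, hw2⟩ := Scheme.Pullback.exists_preimage_pullback x y' h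
  refine ⟨hc.isoPullback.inv w, ?_, ?_⟩
  · rw [← Scheme.Hom.comp_apply, hc.isoPullback_inv_fst]
    exact hw1
  · rw [← Scheme.Hom.comp_apply, hc.isoPullback_inv_snd]
    exact hw2

/-- **Noetherian case**: the Cohen–Macaulay fibre locus is constructible. -/
theorem isConstructible_cmFib_noeth {X₀ : Scheme.{u}} (A₀ : CommRingCat.{u}) [IsNoetherianRing A₀]
    (f₀ : X₀ ⟶ Spec A₀) [LocallyOfFiniteType f₀] [QuasiCompact f₀] :
    IsConstructible {x : X₀ | CMFib f₀ x} := by
  haveI hX₀ : IsLocallyNoetherian X₀ := LocallyOfFiniteType.isLocallyNoetherian f₀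
  haveI : CompactSpace X₀ := QuasiCompact.compactSpace_of_compactSpace f₀
  haveI : IsNoetherian X₀ := {}
  haveI : TopologicalSpace.NoetherianSpace X₀ := inferInstance
  rw [Groth.Agent.Lib.Helper12.ConstrTop.isConstructible_iff_forall_irreducible_closed]
  intro Z hZc hZi
  have hqs : QuasiSober X₀ := inferInstance
  obtain ⟨ξ, hξ⟩ := hqs.sober hZi hZc
  -- the integral closed subscheme `T = Spec (A₀/P)` of the base, `P` the image of `ξ`
  let η : PrimeSpectrum A₀ := f₀ ξ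
  let P : Ideal A₀ := η.asIdeal
  let iT : Spec (CommRingCat.of (A₀ ⧸ P)) ⟶ Spec A₀ :=
    Spec.map (CommRingCat.ofHom (Ideal.Quotient.mk P))
  haveI hiT : IsClosedImmersion iT :=
    IsClosedImmersion.spec_of_surjective _ Ideal.Quotient.mk_surjective
  haveI : IsDomain (A₀ ⧸ P) := Ideal.Quotient.isDomain P
  haveI : IsIntegral (Spec (CommRingCat.of (A₀ ⧸ P))) := inferInstance
  let fT := pullback.snd f₀ iT
  let jT := pullback.fst f₀ iT
  obtain ⟨U, hUd, hUfl, hUfp⟩ := Groth.Agent.Lib.Helper2.generic_flatness_reduced fT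
  let X' : (pullback f₀ iT).Opens := fT ⁻¹ᵁ U
  let g : (X' : Scheme.{u}) ⟶ (U : Scheme.{u}) := fT ∣_ U
  let j : (X' : Scheme.{u}) ⟶ X₀ := X'.ι ≫ jT
  have hpb : IsPullback j g f₀ (U.ι ≫ iT) :=
    (isPullback_morphismRestrict fT U).flip.paste_horiz (IsPullback.of_hasPullback f₀ iT)
  -- the CM locus of `g` is open
  have hWopen : IsOpen {x' : (X' : Scheme.{u}) | MoreMor.IsCMAt g x'} :=
    Groth.Agent.S4961.result g
  have hW : ∀ x' : (X' : Scheme.{u}), MoreMor.IsCMAt g x' ↔ CMFib f₀ (j x') := fun x' =>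
    (isCMAt_iff_cmFib_of_flat g x' (Flat.stalkMap g x')).trans (cmFib_iff_of_isPullback hpb x')
  -- topology
  have hξmem : ξ ∈ Z := hξ.mem
  have hj : IsEmbedding j := by
    have h1 : IsEmbedding jT := jT.isClosedEmbedding.isEmbedding
    have h2 : IsEmbedding X'.ι := X'.ι.isOpenEmbedding.isEmbedding
    exact h1.comp h2
  obtain ⟨O, hO, hOW⟩ := hj.isInducing.isOpen_iff.mp hWopen
  have hiTe : IsEmbedding iT := iT.isClosedEmbedding.isEmbedding
  obtain ⟨D₀, hD₀, hD₀U⟩ := hiTe.isInducing.isOpen_iff.mp U.2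
  let D : Set X₀ := f₀ ⁻¹' D₀
  have hD : IsOpen D := hD₀.preimage f₀.continuous
  have hrange : Set.range iT = PrimeSpectrum.zeroLocus (P : Set A₀) := by
    have := range_comap_of_surjective _ (Ideal.Quotient.mk P)
      Ideal.Quotient.mk_surjective
    rw [Ideal.mk_ker] at this
    exact this
  have hA : ∀ z ∈ Z, z ∈ D → ∃ x' : (X' : Scheme.{u}), j x' = z := by
    intro z hzZ hzD
    have hs : ξ ⤳ z := by
      rw [specializes_iff_mem_closure, hξ.def]
      exact hzZ
    have hs' : η ⤳ f₀ z := hs.map f₀.continuous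
    have hmem : f₀ z ∈ Set.range iT := by
      rw [hrange]
      exact (PrimeSpectrum.le_iff_specializes η (f₀ z)).mpr hs'
    obtain ⟨t, ht⟩ := hmem
    have htU : t ∈ U := by
      have : t ∈ iT ⁻¹' D₀ := by
        rw [Set.mem_preimage, ht]
        exact hzD
      rw [hD₀U] at this
      exact this
    obtain ⟨x', hx'1, -⟩ := exists_preimage_of_isPullback hpb z ⟨t, htU⟩
      (by rw [Scheme.Hom.comp_apply]; exact ht.symm)
    exact ⟨x', hx'1⟩
  have hkey : ∀ z ∈ Z, z ∈ D → (CMFib f₀ z ↔ z ∈ O) := by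
    intro z hzZ hzD
    obtain ⟨x', rfl⟩ := hA z hzZ hzD
    rw [← hW x']
    have : x' ∈ j ⁻¹' O ↔ MoreMor.IsCMAt g x' := by
      rw [hOW]
      rfl
    exact this.symm
  have hξD : ξ ∈ D := by
    obtain ⟨t, htU⟩ := hUd.nonempty
    have h1 : iT t ∈ D₀ := by
      have : t ∈ iT ⁻¹' D₀ := by
        rw [hD₀U]
        exact htU
      exact this
    have h2 : η ⤳ iT t := by
      rw [← PrimeSpectrum.le_iff_specializes]
      have : iT t ∈ Set.range iT := ⟨t, rfl⟩
      rw [hrange] at this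
      exact this
    exact h2.mem_open hD₀ h1
  by_cases hξO : ξ ∈ O
  · right
    refine ⟨D ∩ O, hD.inter hO, ⟨ξ, ⟨hξD, hξO⟩, hξmem⟩, ?_⟩
    rintro z ⟨⟨hzD, hzO⟩, hzZ⟩
    exact (hkey z hzZ hzD).mpr hzO
  · left
    have hsub : (Subtype.val ⁻¹' {x | CMFib f₀ x} : Set Z) ⊆ (Subtype.val ⁻¹' D : Set Z)ᶜ := by
      rintro ⟨z, hzZ⟩ hzE hzD
      have hzO : z ∈ O := (hkey z hzZ hzD).mp hzE
      have hs : ξ ⤳ z := by
        rw [specializes_iff_mem_closure, hξ.def]
        exact hzZ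
      exact hξO (hs.mem_open hO hzO)
    have hopenD : IsOpen (Subtype.val ⁻¹' D : Set Z) := hD.preimage continuous_subtype_val
    have hdense : Dense (Subtype.val ⁻¹' D : Set Z) := by
      haveI : IrreducibleSpace Z := (isIrreducible_iff_irreducibleSpace (s := Z)).1 hZi
      exact hopenD.dense ⟨⟨ξ, hξmem⟩, hξD⟩
    have hnd : IsNowhereDense ((Subtype.val ⁻¹' D : Set Z)ᶜ) := by
      rw [hopenD.isClosed_compl.isNowhereDense_iff, interior_compl, hdense.closure_eq,
        Set.compl_univ]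
    exact hnd.mono hsub

open Groth.Agent.Lib.Helper23 in
/-- **EGA IV 9.9.3 (CM)**: for `f` locally of finite presentation, the set of points at which the
fibre through the point is Cohen–Macaulay is locally constructible. -/
theorem isLocallyConstructible_cmFib {X S : Scheme.{u}} (f : X ⟶ S)
    [LocallyOfFinitePresentation f] : IsLocallyConstructible {x : X | CMFib f x} := by
  intro x₀
  obtain ⟨W, hW, hx₀W, -⟩ := exists_isAffineOpen_mem_and_subset (x := f x₀) (U := ⊤) trivial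
  obtain ⟨V, hV, hx₀V, eV⟩ := exists_isAffineOpen_mem_and_subset (x := x₀) (U := f ⁻¹ᵁ W) hx₀W
  refine ⟨V, V.2.mem_nhds hx₀V, V.2, ?_⟩
  let f₁ : (V : Scheme.{u}) ⟶ (W : Scheme.{u}) := f.resLE W V eV
  have hf₁ : f₁ ≫ W.ι = V.ι ≫ f := Scheme.Hom.resLE_comp_ι f eV
  haveI : IsAffine (V : Scheme.{u}) := hV
  haveI : IsAffine (W : Scheme.{u}) := hW
  haveI hf₁fp : LocallyOfFinitePresentation f₁ := inferInstance
  haveI hf₁qc : QuasiCompact f₁ := inferInstance
  haveI hf₁qs : QuasiSeparated f₁ := inferInstance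
  obtain ⟨i, X₀, f₀, q, hf₀fp, hf₀qc, hf₀qs, hpb⟩ := descends_noeth f₁
  haveI := isNoetherianRing_noethRing (W : Scheme.{u}) i
  let f₀' : X₀ ⟶ Spec (noethRing (W : Scheme.{u}) i) := f₀
  haveI hf₀'fp : LocallyOfFinitePresentation f₀' := hf₀fp
  haveI hf₀'qc : QuasiCompact f₀' := hf₀qc
  haveI hf₀lft : LocallyOfFiniteType f₀' := inferInstance
  have hpb' : IsPullback q f₁ f₀' ((noethCone (W : Scheme.{u})).π.app i) := hpb
  have hcons := isConstructible_cmFib_noeth (noethRing (W : Scheme.{u}) i) f₀'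
  have hpre := q.isConstructible_preimage hcons
  have hset : ((Subtype.val : ↥V → X) ⁻¹' {x | CMFib f x}) =
      (q : ↥(V : Scheme.{u}) → X₀) ⁻¹' {x | CMFib f₀' x} := by
    ext z
    exact (cmFib_iff_of_openImmersion_square V.ι W.ι f₁ f hf₁ z).symm.trans
      (cmFib_iff_of_isPullback hpb' z)
  rw [← hset] at hpre
  exact hpre

end Groth.Agent.Lib.Helper13.CMCons
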