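/-
Helper library (helper13): codepth of the local rings of the fibres of a morphism
(EGA IV 9.9.3 / 12.1.1 for the codepth): constructibility and openness on the flat locus.
-/
import Groth.Agent.Lib.Helper13.CMCons
import Groth.Agent.Lib.Helper29.FlatAscent
import Groth.Agent.S2678
import Groth.Agent.S2699
import Groth.Agent.Lib.Helper24.CMFibreBaseChange
import Groth.Agent.Lib.Helper82.CMPoly

set_option autoImplicit false
open CategoryTheory AlgebraicGeometry Limits
universe u

namespace Groth.Agent.Lib.Helper13.CodepthFib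

open Groth.Agent.Lib.Helper55 Groth.Agent.Lib.Helper13.CMChart Topology TopologicalSpace
open Groth.Agent.Lib.Helper29 IsLocalRing

section Algebra

/-- The local ring `R` has codepth at most `n`: `dim R ≤ depth R + n`. -/
def CdLE (R : Type u) [CommRing R] [IsLocalRing R] (n : ℕ) : Prop :=
  ringKrullDim R ≤ ((LocCoh.depth R R : ℕ∞) : WithBot ℕ∞) + n

theorem cdLE_iff_of_ringEquiv {R R' : Type u} [CommRing R] [CommRing R'] [IsLocalRing R]
    [IsLocalRing R'] [IsNoetherianRing R] (e : R ≃+* R') (n : ℕ) : CdLE R n ↔ CdLE R' n := by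
  unfold CdLE
  rw [ringKrullDim_eq_of_ringEquiv e, depth_self_eq_of_ringEquiv e]

/-- Arithmetic: cancellation of a finite summand. -/
theorem add_le_add_add_iff (a : ℕ) (x : WithBot ℕ∞) (d : ℕ∞) (n : ℕ) :
    (a : WithBot ℕ∞) + x ≤ (((a : ℕ∞) + d : ℕ∞) : WithBot ℕ∞) + n ↔
      x ≤ ((d : ℕ∞) : WithBot ℕ∞) + n := by
  induction x with
  | bot => simp
  | coe x =>
    have h1 : ((a : ℕ) : WithBot ℕ∞) + ((x : ℕ∞) : WithBot ℕ∞) =
        (((a : ℕ∞) + x : ℕ∞) : WithBot ℕ∞) := by
      rw [WithBot.coe_add]; rfl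
    have h2 : (((a : ℕ∞) + d : ℕ∞) : WithBot ℕ∞) + ((n : ℕ) : WithBot ℕ∞) =
        (((a : ℕ∞) + (d + n) : ℕ∞) : WithBot ℕ∞) := by
      rw [← add_assoc, WithBot.coe_add]; rfl
    have h3 : ((d : ℕ∞) : WithBot ℕ∞) + ((n : ℕ) : WithBot ℕ∞) = ((d + n : ℕ∞) : WithBot ℕ∞) := by
      rw [WithBot.coe_add]; rfl
    rw [h1, h2, h3, WithBot.coe_le_coe, WithBot.coe_le_coe]
    exact WithTop.add_le_add_iff_left (ENat.coe_ne_top a)

variable (A B : Type u) [CommRing A] [CommRing B] [IsLocalRing A] [IsLocalRing B]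
  [IsNoetherianRing A] [IsNoetherianRing B] [Algebra A B] [Module.Flat A B]
  [IsLocalHom (algebraMap A B)]

/-- For a flat local homomorphism `A → B` of Noetherian local rings with `A` Cohen–Macaulay, the
closed fibre `B/m_A B` and `B` have the same codepth. -/
theorem cdLE_fibRing_iff_of_flat
    (hCM : Module.supportDim A A = ((LocCoh.depth A A : ℕ∞) : WithBot ℕ∞)) (n : ℕ) :
    CdLE (EGA4.FibRing A B) n ↔ CdLE B n := by
  unfold CdLE
  rw [depth_self_eq_add_of_flat A B, ringKrullDim_eq_add_of_flat A B]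
  rw [Module.supportDim_self_eq_ringKrullDim] at hCM
  have hfin : ringKrullDim A ≠ ⊤ := ringKrullDim_ne_top
  have hbot : ringKrullDim A ≠ ⊥ := ringKrullDim_ne_bot
  obtain ⟨a, ha⟩ : ∃ a : ℕ, LocCoh.depth A A = a := by
    cases h : LocCoh.depth A A with
    | top => rw [h] at hCM; exact absurd hCM hfin
    | coe a => exact ⟨a, rfl⟩
  rw [ha] at hCM ⊢
  rw [hCM]
  exact (add_le_add_add_iff a _ _ n).symm

end Algebra

section QuotReg

/-- `A` is a quotient of a regular ring. -/
def QuotReg (A : Type u) [CommRing A] : Prop :=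
  ∃ (R : Type u) (_ : CommRing R) (_ : IsRegularRing R) (φ : R →+* A), Function.Surjective φ

theorem QuotReg.isNoetherianRing {A : Type u} [CommRing A] (h : QuotReg A) : IsNoetherianRing A := by
  obtain ⟨R, _, _, φ, hφ⟩ := h
  exact isNoetherianRing_of_surjective R A φ hφ

theorem QuotReg.of_finiteType {A B : Type u} [CommRing A] [CommRing B] [Algebra A B]
    [Algebra.FiniteType A B] (h : QuotReg A) : QuotReg B := by
  obtain ⟨R, _, _, φ, hφ⟩ := h
  obtain ⟨m, g, hg⟩ := Algebra.FiniteType.iff_quotient_mvPolynomial''.mp ‹Algebra.FiniteType A B›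
  refine ⟨MvPolynomial (Fin m) R, inferInstance, inferInstance,
    (g : MvPolynomial (Fin m) A →+* B).comp (MvPolynomial.map φ), ?_⟩
  exact hg.comp (MvPolynomial.map_surjective φ hφ)

theorem QuotReg.of_surjective {A B : Type u} [CommRing A] [CommRing B] (h : QuotReg A)
    (ψ : A →+* B) (hψ : Function.Surjective ψ) : QuotReg B := by
  obtain ⟨R, _, _, φ, hφ⟩ := h
  exact ⟨R, inferInstance, inferInstance, ψ.comp φ, hψ.comp hφ⟩

theorem QuotReg.of_isRegularRing (R : Type u) [CommRing R] [IsRegularRing R] : QuotReg R :=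
  ⟨R, inferInstance, inferInstance, RingHom.id R, Function.surjective_id⟩

/-- Over a quotient of a regular ring, the codepth is upper semicontinuous. -/
theorem isOpen_cdLE_localization {B : Type u} [CommRing B] (hB : QuotReg B) (n : ℕ) :
    IsOpen {p : PrimeSpectrum B | CdLE (Localization.AtPrime p.asIdeal) n} := by
  obtain ⟨R, _, _, φ, hφ⟩ := hB
  letI := φ.toAlgebra
  have h := Groth.Agent.S2678.result R B hφ B n
  have hset : {p : PrimeSpectrum B | CdLE (Localization.AtPrime p.asIdeal) n} =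
      {p : PrimeSpectrum B |
        Module.supportDim (Localization.AtPrime p.asIdeal)
            (LocalizedModule p.asIdeal.primeCompl B) ≤
          ((LocCoh.depth (Localization.AtPrime p.asIdeal)
            (LocalizedModule p.asIdeal.primeCompl B) : ℕ∞) : WithBot ℕ∞) + n} := by
    ext p
    simp only [Set.mem_setOf_eq]
    unfold CdLE
    rw [depth_localizedModule_self, Module.supportDim_eq_of_equiv (localizedModuleSelfEquiv B p.asIdeal),
      Module.supportDim_self_eq_ringKrullDim]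
  rw [hset]
  exact h

end QuotReg

section Scheme

/-- The local ring of the fibre of `f` through `x` has codepth at most `n`. -/
def CdFib {X S : Scheme.{u}} (f : X ⟶ S) (n : ℕ) (x : X) : Prop :=
  CdLE ((f.fiber (f x)).presheaf.stalk (f.asFiber x)) n

/-- The local ring of `X` at `x` has codepth at most `n`. -/
def CdStalk (X : Scheme.{u}) (n : ℕ) (x : X) : Prop := CdLE (X.presheaf.stalk x) n

/-- On a scheme locally of finite type over a quotient of a regular ring, the codepth of the local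
rings is upper semicontinuous. -/
theorem isOpen_cdStalk {X : Scheme.{u}} {A₀ : CommRingCat.{u}} (hA₀ : QuotReg A₀)
    (f : X ⟶ Spec A₀) [LocallyOfFiniteType f] (n : ℕ) : IsOpen {x : X | CdStalk X n x} := by
  haveI : IsNoetherianRing A₀ := hA₀.isNoetherianRing
  haveI hX : IsLocallyNoetherian X := LocallyOfFiniteType.isLocallyNoetherian f
  rw [isOpen_iff_forall_mem_open]
  intro x hx
  obtain ⟨U, hU, hxU, -⟩ := exists_isAffineOpen_mem_and_subset (x := x) (U := ⊤) trivial
  let φA : A₀ ⟶ Γ(X, U) := Spec.preimage (hU.fromSpec ≫ f)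
  letI : Algebra A₀ Γ(X, U) := φA.hom.toAlgebra
  have ha : hU.fromSpec ≫ f = Spec.map (CommRingCat.ofHom (algebraMap A₀ Γ(X, U))) :=
    (Spec.map_preimage _).symm
  haveI hft : Algebra.FiniteType A₀ Γ(X, U) := by
    have h1 : LocallyOfFiniteType (hU.fromSpec ≫ f) := inferInstance
    rw [ha, HasRingHomProperty.Spec_iff (P := @LocallyOfFiniteType)] at h1
    exact h1
  have hB : QuotReg Γ(X, U) := hA₀.of_finiteType
  have hO := isOpen_cdLE_localization hB n
  have hkey : ∀ p : PrimeSpectrum Γ(X, U),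
      CdStalk X n (hU.fromSpec p) ↔ CdLE (Localization.AtPrime p.asIdeal) n := by
    intro p
    obtain ⟨e⟩ := Groth.Agent.Lib.Helper24.nonempty_stalk_ringEquiv_localization hU.fromSpec p
    exact cdLE_iff_of_ringEquiv e n
  refine ⟨hU.fromSpec '' {p : PrimeSpectrum Γ(X, U) | CdLE (Localization.AtPrime p.asIdeal) n},
    ?_, hU.fromSpec.isOpenEmbedding.isOpenMap _ hO, ?_⟩
  · rintro _ ⟨p, hp, rfl⟩
    exact (hkey p).mpr hp
  · have hxr : x ∈ Set.range hU.fromSpec := by
      rw [hU.range_fromSpec]; exact hxU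
    obtain ⟨p, rfl⟩ := hxr
    exact ⟨p, (hkey p).mp hx, rfl⟩

/-- At a point where `f` is flat and the base is Cohen–Macaulay, the codepth of the fibre equals
the codepth of the total space. -/
theorem cdFib_iff_cdStalk_of_flat {X S : Scheme.{u}} (f : X ⟶ S) [IsLocallyNoetherian X]
    [IsLocallyNoetherian S] (n : ℕ) (x : X) (hflat : (f.stalkMap x).hom.Flat)
    (hCM : LocCoh.IsCohenMacaulayLocalRing (S.presheaf.stalk (f x))) :
    CdFib f n x ↔ CdStalk X n x := by
  obtain ⟨E⟩ := nonempty_stalk_fiber_equiv f (f x) (f.asFiber x) x (f.fiberι_asFiber x)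
  letI : Algebra (S.presheaf.stalk (f x)) (X.presheaf.stalk x) := (f.stalkMap x).hom.toAlgebra
  haveI : Module.Flat (S.presheaf.stalk (f x)) (X.presheaf.stalk x) := hflat
  haveI : IsLocalHom (algebraMap (S.presheaf.stalk (f x)) (X.presheaf.stalk x)) :=
    inferInstanceAs (IsLocalHom (f.stalkMap x).hom)
  have h1 := cdLE_fibRing_iff_of_flat (S.presheaf.stalk (f x)) (X.presheaf.stalk x)
    hCM.supportDim_eq_depth n
  refine Iff.trans ?_ h1
  exact (cdLE_iff_of_ringEquiv (R := EGA4.FibRing (S.presheaf.stalk (f x)) (X.presheaf.stalk x))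
    E n).symm

end Scheme

section Invariance

/-- The closed fibre ring of a local homomorphism is local. -/
theorem isLocalRing_quot_map {A B : Type u} [CommRing A] [CommRing B] [IsLocalRing A]
    [IsLocalRing B] (φ : A →+* B) [IsLocalHom φ] :
    IsLocalRing (B ⧸ Ideal.map φ (maximalIdeal A)) := by
  haveI : Nontrivial (B ⧸ Ideal.map φ (maximalIdeal A)) := by
    apply Ideal.Quotient.nontrivial_iff.mpr
    have hle : Ideal.map φ (maximalIdeal A) ≤ maximalIdeal B := IsLocalRing.map_maximalIdeal_le φ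
    exact (hle.trans_lt (maximalIdeal.isMaximal B).lt_top).ne
  exact IsLocalRing.of_surjective' (Ideal.Quotient.mk _) Ideal.Quotient.mk_surjective

attribute [local instance] isLocalRing_quot_map

theorem cdFib_iff_quot {X S : Scheme.{u}} (f : X ⟶ S) [LocallyOfFiniteType f] (n : ℕ) (x : X) :
    CdFib f n x ↔ CdLE (X.presheaf.stalk x ⧸
      Ideal.map (f.stalkMap x).hom (maximalIdeal (S.presheaf.stalk (f x)))) n := by
  obtain ⟨E⟩ := nonempty_stalk_fiber_equiv f (f x) (f.asFiber x) x (f.fiberι_asFiber x)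
  haveI := isLocallyNoetherian_fiber f (f x)
  exact (cdLE_iff_of_ringEquiv E.symm n)

theorem cdFib_comp_openImmersion_left_iff {A B C : Scheme.{u}} (j : A ⟶ B) [IsOpenImmersion j]
    (h : B ⟶ C) [LocallyOfFiniteType h] (n : ℕ) (z : A) :
    CdFib (j ≫ h) n z ↔ CdFib h n (j z) := by
  rw [cdFib_iff_quot, cdFib_iff_quot]
  let φ : B.presheaf.stalk (j z) ≃+* A.presheaf.stalk z :=
    (asIso (j.stalkMap z)).commRingCatIsoToRingEquiv
  have hJ : Ideal.map ((j ≫ h).stalkMap z).hom
      (IsLocalRing.maximalIdeal (C.presheaf.stalk ((j ≫ h) z))) =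
      Ideal.map (φ : B.presheaf.stalk (j z) →+* A.presheaf.stalk z)
        (Ideal.map (h.stalkMap (j z)).hom
          (IsLocalRing.maximalIdeal (C.presheaf.stalk (h (j z))))) := by
    rw [Ideal.map_map, Scheme.Hom.stalkMap_comp]
    rfl
  haveI := isLocallyNoetherian_fiber (j ≫ h) ((j ≫ h) z)
  obtain ⟨E⟩ := nonempty_stalk_fiber_equiv (j ≫ h) ((j ≫ h) z) ((j ≫ h).asFiber z) z
    ((j ≫ h).fiberι_asFiber z)
  haveI : IsNoetherianRing (A.presheaf.stalk z ⧸ Ideal.map ((j ≫ h).stalkMap z).hom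
      (IsLocalRing.maximalIdeal (C.presheaf.stalk ((j ≫ h) z)))) :=
    isNoetherianRing_of_ringEquiv _ E.symm
  exact (cdLE_iff_of_ringEquiv (Ideal.quotientEquiv _ _ φ hJ).symm n)

theorem cdFib_comp_openImmersion_right_iff {A B C : Scheme.{u}} (h : A ⟶ B) (v : B ⟶ C)
    [IsOpenImmersion v] [LocallyOfFiniteType h] (n : ℕ) (z : A) :
    CdFib (h ≫ v) n z ↔ CdFib h n z := by
  rw [cdFib_iff_quot, cdFib_iff_quot]
  have hbij : Function.Bijective (v.stalkMap (h z)).hom :=
    ConcreteCategory.bijective_of_isIso (v.stalkMap (h z))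
  have hm : Ideal.map (v.stalkMap (h z)).hom
      (IsLocalRing.maximalIdeal (C.presheaf.stalk (v (h z)))) =
      IsLocalRing.maximalIdeal (B.presheaf.stalk (h z)) := by
    let ψ : C.presheaf.stalk (v (h z)) ≃+* B.presheaf.stalk (h z) :=
      RingEquiv.ofBijective (v.stalkMap (h z)).hom hbij
    exact IsLocalRing.map_ringEquiv_maximalIdeal ψ
  have hJ : Ideal.map ((h ≫ v).stalkMap z).hom
      (IsLocalRing.maximalIdeal (C.presheaf.stalk ((h ≫ v) z))) =
      Ideal.map (h.stalkMap z).hom (IsLocalRing.maximalIdeal (B.presheaf.stalk (h z))) := by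
    rw [← hm, Ideal.map_map, Scheme.Hom.stalkMap_comp]
    rfl
  haveI := isLocallyNoetherian_fiber (h ≫ v) ((h ≫ v) z)
  obtain ⟨E⟩ := nonempty_stalk_fiber_equiv (h ≫ v) ((h ≫ v) z) ((h ≫ v).asFiber z) z
    ((h ≫ v).fiberι_asFiber z)
  haveI : IsNoetherianRing (A.presheaf.stalk z ⧸ Ideal.map ((h ≫ v).stalkMap z).hom
      (IsLocalRing.maximalIdeal (C.presheaf.stalk ((h ≫ v) z)))) :=
    isNoetherianRing_of_ringEquiv _ E.symm
  exact (cdLE_iff_of_ringEquiv (Ideal.quotEquivOfEq hJ) n)

theorem cdFib_iff_of_openImmersion_square {A B X Y : Scheme.{u}} (j : A ⟶ X) (v : B ⟶ Y)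
    [IsOpenImmersion j] [IsOpenImmersion v] (f₁ : A ⟶ B) (f : X ⟶ Y) [LocallyOfFiniteType f]
    [LocallyOfFiniteType f₁] (h : f₁ ≫ v = j ≫ f) (n : ℕ) (z : A) :
    CdFib f₁ n z ↔ CdFib f n (j z) := by
  rw [← cdFib_comp_openImmersion_right_iff f₁ v n z, ← cdFib_comp_openImmersion_left_iff j f n z]
  have gen : ∀ k : A ⟶ Y, k = j ≫ f → (CdFib k n z ↔ CdFib (j ≫ f) n z) := by
    rintro k rfl
    exact Iff.rfl
  exact gen _ h

end Invariance

section BaseChange

open TensorProduct Groth.Agent.Lib.Helper24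

theorem le_add_iff_of_add_eq {a a' : WithBot ℕ∞} {d d' : ℕ∞} (ha : a ≠ ⊤) (ha0 : a ≠ ⊥)
    (ha' : a' ≠ ⊤) (ha'0 : a' ≠ ⊥)
    (h : a + ((d' : ℕ∞) : WithBot ℕ∞) = a' + ((d : ℕ∞) : WithBot ℕ∞)) (n : ℕ) :
    a ≤ ((d : ℕ∞) : WithBot ℕ∞) + n ↔ a' ≤ ((d' : ℕ∞) : WithBot ℕ∞) + n := by
  induction a with
  | bot => exact absurd rfl ha0
  | coe a =>
  induction a' with
  | bot => exact absurd rfl ha'0
  | coe a' =>
  induction a with
  | top => exact absurd rfl ha
  | coe a =>
  induction a' with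
  | top => exact absurd rfl ha'
  | coe a' =>
  have hn : ((n : ℕ) : WithBot ℕ∞) = (((n : ℕ∞)) : WithBot ℕ∞) := rfl
  rw [hn, ← WithBot.coe_add, ← WithBot.coe_add, WithBot.coe_le_coe, WithBot.coe_le_coe]
  rw [← WithBot.coe_add, ← WithBot.coe_add, WithBot.coe_inj] at h
  induction d with
  | top =>
    have : d' = ⊤ := by
      by_contra hd'
      lift d' to ℕ using hd'
      rw [add_top] at h
      exact absurd h (by exact_mod_cast ENat.coe_ne_top (a + d'))
    subst this
    simp
  | coe d =>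
    have hd' : d' ≠ ⊤ := by
      rintro rfl
      rw [add_top] at h
      exact absurd h.symm (by exact_mod_cast ENat.coe_ne_top (a' + d))
    lift d' to ℕ using hd'
    have h' : a + d' = a' + d := by exact_mod_cast h
    constructor
    · intro h1
      have : a ≤ d + n := by exact_mod_cast h1
      exact_mod_cast (show a' ≤ d' + n by omega)
    · intro h1
      have : a' ≤ d' + n := by exact_mod_cast h1
      exact_mod_cast (show a ≤ d + n by omega)

/-- The codepth of the local rings of an algebra of finite type over a field is invariant under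
extension of the base field. -/
theorem cdLE_tensor_field_iff (k K A : Type u) [Field k] [Field K] [Algebra k K] [CommRing A]
    [Algebra k A] [Algebra.FiniteType k A] (𝔓 : Ideal (A ⊗[k] K)) [𝔓.IsPrime] (n : ℕ) :
    CdLE (Localization.AtPrime 𝔓) n ↔ CdLE (Localization.AtPrime (𝔓.under A)) n := by
  haveI : IsNoetherianRing A := Algebra.FiniteType.isNoetherianRing k A
  haveI : IsNoetherianRing (A ⊗[k] K) := isNoetherianRing_tensor_of_essFiniteType_left k K A
  have h := (Groth.Agent.S2699.result k A K (Or.inl inferInstance) 𝔓 n).1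
  haveI : IsNoetherianRing (Localization.AtPrime 𝔓) :=
    IsLocalization.isNoetherianRing 𝔓.primeCompl _ inferInstance
  haveI : IsNoetherianRing (Localization.AtPrime (𝔓.under A)) :=
    IsLocalization.isNoetherianRing (𝔓.under A).primeCompl _ inferInstance
  exact (le_add_iff_of_add_eq ringKrullDim_ne_top ringKrullDim_ne_bot ringKrullDim_ne_top
    ringKrullDim_ne_bot h n).symm

variable {k : Type u} [Field k] (K : Type u) [Field K] [Algebra k K] {Z : Scheme.{u}}
  (q : Z ⟶ Spec (CommRingCat.of k)) [LocallyOfFiniteType q]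

/-- Invariance of the codepth of local rings under extension of the base field. -/
theorem cdStalk_pullback_field_iff (n : ℕ)
    (z : ↥(pullback q (Spec.map (CommRingCat.ofHom (algebraMap k K))))) :
    CdStalk (pullback q (Spec.map (CommRingCat.ofHom (algebraMap k K)))) n z ↔
      CdStalk Z n (pullback.fst q (Spec.map (CommRingCat.ofHom (algebraMap k K))) z) := by
  haveI : IsLocallyNoetherian Z := LocallyOfFiniteType.isLocallyNoetherian q
  let g := Spec.map (CommRingCat.ofHom (algebraMap k K))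
  change CdStalk (pullback q g) n z ↔ CdStalk Z n (pullback.fst q g z)
  obtain ⟨U, hU, hxU, -⟩ :=
    exists_isAffineOpen_mem_and_subset (x := pullback.fst q g z) (U := ⊤) trivial
  let φA : CommRingCat.of k ⟶ Γ(Z, U) := Spec.preimage (hU.fromSpec ≫ q)
  let _ : Algebra k Γ(Z, U) := φA.hom.toAlgebra
  have ha : hU.fromSpec ≫ q = Spec.map (CommRingCat.ofHom (algebraMap k Γ(Z, U))) :=
    (Spec.map_preimage _).symm
  have hb : 𝟙 (Spec (CommRingCat.of K)) ≫ g = Spec.map (CommRingCat.ofHom (algebraMap k K)) :=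
    Category.id_comp _
  have hNA : IsNoetherianRing Γ(Z, U) := IsLocallyNoetherian.component_noetherian ⟨U, hU⟩
  haveI hftA : Algebra.FiniteType k Γ(Z, U) := by
    have h1 : LocallyOfFiniteType (hU.fromSpec ≫ q) := inferInstance
    rw [ha, HasRingHomProperty.Spec_iff (P := @LocallyOfFiniteType)] at h1
    exact h1
  have hNC : IsNoetherianRing (Γ(Z, U) ⊗[k] K) :=
    isNoetherianRing_tensor_of_essFiniteType_left k K _
  set c := pullbackChart q g hU.fromSpec (𝟙 (Spec (CommRingCat.of K))) ha hb with hc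
  have hzc : z ∈ Set.range c := by
    rw [hc, range_pullbackChart, hU.range_fromSpec]
    refine ⟨hxU, ?_⟩
    simp
  obtain ⟨𝔓, rfl⟩ := hzc
  have h𝔓 : (𝔓 : PrimeSpectrum (Γ(Z, U) ⊗[k] K)).asIdeal.IsPrime := 𝔓.2
  have hfst : pullback.fst q g (c 𝔓) =
      hU.fromSpec (Spec.map (CommRingCat.ofHom (Algebra.TensorProduct.includeLeftRingHom :
        Γ(Z, U) →+* Γ(Z, U) ⊗[k] K)) 𝔓) := by
    have := congr(($(pullbackChart_fst q g hU.fromSpec (𝟙 (Spec (CommRingCat.of K))) ha hb)) 𝔓)
    exact this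
  obtain ⟨e1⟩ := nonempty_stalk_ringEquiv_localization c 𝔓
  obtain ⟨e2⟩ := nonempty_stalk_ringEquiv_localization hU.fromSpec
    (Spec.map (CommRingCat.ofHom (Algebra.TensorProduct.includeLeftRingHom :
        Γ(Z, U) →+* Γ(Z, U) ⊗[k] K)) 𝔓)
  have hiff := cdLE_tensor_field_iff k K Γ(Z, U) 𝔓.asIdeal n
  haveI : IsLocallyNoetherian (pullback q g) := by
    haveI : LocallyOfFiniteType (pullback.snd q g) :=
      MorphismProperty.pullback_snd (P := @LocallyOfFiniteType) _ _ inferInstance
    exact LocallyOfFiniteType.isLocallyNoetherian (pullback.snd q g)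
  unfold CdStalk
  rw [hfst, cdLE_iff_of_ringEquiv e1 n, cdLE_iff_of_ringEquiv e2 n]
  exact hiff

/-- Invariance of the codepth of local rings under extension of the base field, for an arbitrary
cartesian square. -/
theorem cdStalk_iff_of_isPullback_field {P : Scheme.{u}} (p₁ : P ⟶ Z)
    (p₂ : P ⟶ Spec (CommRingCat.of K))
    (h : IsPullback p₁ p₂ q (Spec.map (CommRingCat.ofHom (algebraMap k K)))) (n : ℕ) (z : P) :
    CdStalk P n z ↔ CdStalk Z n (p₁ z) := by
  have h3 : pullback.fst q (Spec.map (CommRingCat.ofHom (algebraMap k K))) (h.isoPullback.hom z) =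
      p₁ z := by
    have := congr(($(h.isoPullback_hom_fst)) z)
    exact this
  let e : ↑((pullback q (Spec.map (CommRingCat.ofHom (algebraMap k K)))).presheaf.stalk
      (h.isoPullback.hom z)) ≃+* ↑(P.presheaf.stalk z) :=
    (asIso (h.isoPullback.hom.stalkMap z)).commRingCatIsoToRingEquiv
  haveI : IsLocallyNoetherian (pullback q (Spec.map (CommRingCat.ofHom (algebraMap k K)))) := by
    haveI : LocallyOfFiniteType (pullback.snd q (Spec.map (CommRingCat.ofHom (algebraMap k K)))) :=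
      MorphismProperty.pullback_snd (P := @LocallyOfFiniteType) _ _ inferInstance
    exact LocallyOfFiniteType.isLocallyNoetherian
      (pullback.snd q (Spec.map (CommRingCat.ofHom (algebraMap k K))))
  rw [← h3]
  unfold CdStalk
  rw [← cdLE_iff_of_ringEquiv e n]
  exact cdStalk_pullback_field_iff K q n _

end BaseChange

section FibreBaseChange

open Groth.Agent.Lib.Helper24

variable {X Y X' Y' : Scheme.{u}} {f : X ⟶ Y} {f' : X' ⟶ Y'} {g' : X' ⟶ X} {g : Y' ⟶ Y}

/-- Transport along an equality of base points. -/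
theorem cdFib_congr (f : X ⟶ Y) (n : ℕ) (s : Y) (x : X)
    (hx : f x = s) (z : ↥(f.fiber s)) (hz : f.fiberι s z = x) :
    CdStalk (f.fiber s) n z ↔ CdFib f n x := by
  subst hx
  have : z = f.asFiber x := by
    apply (f.fiberι (f x)).isEmbedding.injective
    rw [hz, f.fiberι_asFiber]
  rw [this]
  rfl

set_option backward.isDefEq.respectTransparency.types false in
/-- **The codepth of the local rings of the fibres is invariant under base change.** -/
theorem cdFib_iff_of_isPullback [LocallyOfFiniteType f] (hc : IsPullback g' f' f g) (n : ℕ)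
    (x' : X') : CdFib f' n x' ↔ CdFib f n (g' x') := by
  have hpb := isPullback_fiberToSpecResidueField_of_isPullback hc (f' x')
  let _ : Algebra ↑(Y.residueField (g (f' x'))) ↑(Y'.residueField (f' x')) :=
    (g.residueFieldMap (f' x')).hom.toAlgebra
  let q' : (f.fiber (g (f' x'))) ⟶ Spec (CommRingCat.of ↑(Y.residueField (g (f' x')))) :=
    f.fiberToSpecResidueField (g (f' x'))
  haveI : LocallyOfFiniteType q' :=
    MorphismProperty.pullback_snd (P := @LocallyOfFiniteType) _ _ ‹_›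
  have h1 := cdStalk_iff_of_isPullback_field
    (k := ↑(Y.residueField (g (f' x')))) (↑(Y'.residueField (f' x'))) q' _ _ hpb n
    (f'.asFiber x')
  refine Iff.trans h1 ?_
  have hx : f (g' x') = g (f' x') := by
    have := congr(($(hc.w)) x')
    exact this
  refine cdFib_congr f n (g (f' x')) (g' x') hx _ ?_
  have h2 : pullback.map f' (Y'.fromSpecResidueField (f' x')) f
      (Y.fromSpecResidueField (g (f' x'))) g' (Spec.map (g.residueFieldMap (f' x'))) g
      hc.w.symm (by simp) ≫ f.fiberι (g (f' x')) = f'.fiberι (f' x') ≫ g' :=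
    pullback.lift_fst _ _ _
  have := congr(($h2) (f'.asFiber x'))
  rw [Scheme.Hom.comp_apply, Scheme.Hom.comp_apply, f'.fiberι_asFiber] at this
  exact this

end FibreBaseChange

section Constructible

/-- A Noetherian local ring of codepth `0` is Cohen–Macaulay. -/
theorem supportDim_eq_depth_of_cdLE_zero {A : Type u} [CommRing A] [IsLocalRing A]
    [IsNoetherianRing A] (h : CdLE A 0) :
    Module.supportDim A A = ((LocCoh.depth A A : ℕ∞) : WithBot ℕ∞) := by
  apply le_antisymm
  · rw [Module.supportDim_self_eq_ringKrullDim]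
    have h' : ringKrullDim A ≤ ((LocCoh.depth A A : ℕ∞) : WithBot ℕ∞) + ((0 : ℕ) : WithBot ℕ∞) := h
    rw [Nat.cast_zero, add_zero] at h'
    exact h'
  · exact depth_le_supportDim A A

/-- Variant of `cdFib_iff_cdStalk_of_flat` with the Cohen–Macaulay hypothesis in codepth form. -/
theorem cdFib_iff_cdStalk_of_flat' {X S : Scheme.{u}} (f : X ⟶ S) [IsLocallyNoetherian X]
    [IsLocallyNoetherian S] (n : ℕ) (x : X) (hflat : (f.stalkMap x).hom.Flat)
    (hCM : CdStalk S 0 (f x)) : CdFib f n x ↔ CdStalk X n x :=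
  cdFib_iff_cdStalk_of_flat f n x hflat
    { supportDim_eq_depth := supportDim_eq_depth_of_cdLE_zero hCM }

/-- Local rings of an open subscheme. -/
theorem cdStalk_opens_iff {T : Scheme.{u}} [IsLocallyNoetherian T] (U : T.Opens) (n : ℕ)
    (u : (U : Scheme.{u})) : CdStalk (U : Scheme.{u}) n u ↔ CdStalk T n (U.ι u) := by
  let e : T.presheaf.stalk (U.ι u) ≃+* (U : Scheme.{u}).presheaf.stalk u :=
    (asIso (U.ι.stalkMap u)).commRingCatIsoToRingEquiv
  exact (cdLE_iff_of_ringEquiv e n).symm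

/-- The local ring at the generic point of an integral scheme has codepth `0`. -/
theorem cdStalk_genericPoint (T : Scheme.{u}) [IsIntegral T] : CdStalk T 0 (genericPoint T) := by
  unfold CdStalk CdLE
  have h0 : ringKrullDim (T.presheaf.stalk (genericPoint T)) = 0 :=
    ringKrullDim_eq_zero_of_field (T.functionField)
  rw [h0, Nat.cast_zero, add_zero]
  exact WithBot.coe_le_coe.mpr zero_le

/-- **Noetherian case**: the locus where the fibre has codepth at most `n` is constructible. -/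
theorem isConstructible_cdFib_noeth {X₀ : Scheme.{u}} (A₀ : CommRingCat.{u}) (hA₀ : QuotReg A₀)
    (f₀ : X₀ ⟶ Spec A₀) [LocallyOfFiniteType f₀] [QuasiCompact f₀] (n : ℕ) :
    IsConstructible {x : X₀ | CdFib f₀ n x} := by
  haveI : IsNoetherianRing A₀ := hA₀.isNoetherianRing
  haveI hX₀ : IsLocallyNoetherian X₀ := LocallyOfFiniteType.isLocallyNoetherian f₀
  haveI : CompactSpace X₀ := QuasiCompact.compactSpace_of_compactSpace f₀
  haveI : IsNoetherian X₀ := {}
  haveI : TopologicalSpace.NoetherianSpace X₀ := inferInstance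
  rw [Groth.Agent.Lib.Helper12.ConstrTop.isConstructible_iff_forall_irreducible_closed]
  intro Z hZc hZi
  have hqs : QuasiSober X₀ := inferInstance
  obtain ⟨ξ, hξ⟩ := hqs.sober hZi hZc
  let η : PrimeSpectrum A₀ := f₀ ξ
  let P : Ideal A₀ := η.asIdeal
  let iT : Spec (CommRingCat.of (A₀ ⧸ P)) ⟶ Spec A₀ :=
    Spec.map (CommRingCat.ofHom (Ideal.Quotient.mk P))
  haveI hiT : IsClosedImmersion iT :=
    IsClosedImmersion.spec_of_surjective _ Ideal.Quotient.mk_surjective
  haveI : IsDomain (A₀ ⧸ P) := Ideal.Quotient.isDomain P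
  haveI : IsIntegral (Spec (CommRingCat.of (A₀ ⧸ P))) := inferInstance
  have hAT : QuotReg (CommRingCat.of (A₀ ⧸ P)) :=
    hA₀.of_surjective (Ideal.Quotient.mk P) Ideal.Quotient.mk_surjective
  haveI : IsNoetherianRing (A₀ ⧸ P) := inferInstance
  haveI : IsLocallyNoetherian (Spec (CommRingCat.of (A₀ ⧸ P))) := inferInstance
  let fT := pullback.snd f₀ iT
  let jT := pullback.fst f₀ iT
  obtain ⟨U, hUd, hUfl, hUfp⟩ := Groth.Agent.Lib.Helper2.generic_flatness_reduced fT
  let X' : (pullback f₀ iT).Opens := fT ⁻¹ᵁ U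
  let g : (X' : Scheme.{u}) ⟶ (U : Scheme.{u}) := fT ∣_ U
  let j : (X' : Scheme.{u}) ⟶ X₀ := X'.ι ≫ jT
  have hpb : IsPullback j g f₀ (U.ι ≫ iT) :=
    (isPullback_morphismRestrict fT U).flip.paste_horiz (IsPullback.of_hasPullback f₀ iT)
  haveI : IsLocallyNoetherian (U : Scheme.{u}) :=
    LocallyOfFiniteType.isLocallyNoetherian U.ι
  haveI hgU : LocallyOfFiniteType (g ≫ U.ι) := inferInstance
  haveI : IsLocallyNoetherian (X' : Scheme.{u}) :=
    LocallyOfFiniteType.isLocallyNoetherian (g ≫ U.ι)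
  -- the CM locus of `T`
  have hVopen : IsOpen {t : ↥(Spec (CommRingCat.of (A₀ ⧸ P))) |
      CdStalk (Spec (CommRingCat.of (A₀ ⧸ P))) 0 t} :=
    isOpen_cdStalk hAT (𝟙 (Spec (CommRingCat.of (A₀ ⧸ P)))) 0
  -- the codepth locus of the total space `X'`
  have hWopen : IsOpen {x' : (X' : Scheme.{u}) | CdStalk (X' : Scheme.{u}) n x'} :=
    isOpen_cdStalk hAT (g ≫ U.ι) n
  have hW : ∀ x' : (X' : Scheme.{u}),
      CdStalk (Spec (CommRingCat.of (A₀ ⧸ P))) 0 (U.ι (g x')) →
      (CdStalk (X' : Scheme.{u}) n x' ↔ CdFib f₀ n (j x')) := fun x' hx' =>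
    (cdFib_iff_cdStalk_of_flat' g n x' (Flat.stalkMap g x')
      ((cdStalk_opens_iff U 0 (g x')).mpr hx')).symm.trans (cdFib_iff_of_isPullback hpb n x')
  -- topology
  have hξmem : ξ ∈ Z := hξ.mem
  have hj : IsEmbedding j := by
    have h1 : IsEmbedding jT := jT.isClosedEmbedding.isEmbedding
    have h2 : IsEmbedding X'.ι := X'.ι.isOpenEmbedding.isEmbedding
    exact h1.comp h2
  obtain ⟨O, hO, hOW⟩ := hj.isInducing.isOpen_iff.mp hWopen
  have hiTe : IsEmbedding iT := iT.isClosedEmbedding.isEmbedding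
  obtain ⟨D₀, hD₀, hD₀U⟩ := hiTe.isInducing.isOpen_iff.mp (U.2.inter hVopen)
  let D : Set X₀ := f₀ ⁻¹' D₀
  have hD : IsOpen D := hD₀.preimage f₀.continuous
  have hrange : Set.range iT = PrimeSpectrum.zeroLocus (P : Set A₀) := by
    have := range_comap_of_surjective _ (Ideal.Quotient.mk P)
      Ideal.Quotient.mk_surjective
    rw [Ideal.mk_ker] at this
    exact this
  have hA : ∀ z ∈ Z, z ∈ D → ∃ x' : (X' : Scheme.{u}), j x' = z ∧
      CdStalk (Spec (CommRingCat.of (A₀ ⧸ P))) 0 (U.ι (g x')) := by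
    intro z hzZ hzD
    have hs : ξ ⤳ z := by
      rw [specializes_iff_mem_closure, hξ.def]
      exact hzZ
    have hs' : η ⤳ f₀ z := hs.map f₀.continuous
    have hmem : f₀ z ∈ Set.range iT := by
      rw [hrange]
      exact (PrimeSpectrum.le_iff_specializes η (f₀ z)).mpr hs'
    obtain ⟨t, ht⟩ := hmem
    have htUV : t ∈ (U : Set ↥(Spec (CommRingCat.of (A₀ ⧸ P)))) ∩
        {t | CdStalk (Spec (CommRingCat.of (A₀ ⧸ P))) 0 t} := by
      have : t ∈ iT ⁻¹' D₀ := by
        rw [Set.mem_preimage, ht]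
        exact hzD
      rw [hD₀U] at this
      exact this
    obtain ⟨x', hx'1, hx'2⟩ := Groth.Agent.Lib.Helper13.CMCons.exists_preimage_of_isPullback hpb z
      ⟨t, htUV.1⟩ (by rw [Scheme.Hom.comp_apply]; exact ht.symm)
    refine ⟨x', hx'1, ?_⟩
    rw [hx'2]
    exact htUV.2
  have hkey : ∀ z ∈ Z, z ∈ D → (CdFib f₀ n z ↔ z ∈ O) := by
    intro z hzZ hzD
    obtain ⟨x', rfl, hx'⟩ := hA z hzZ hzD
    rw [← hW x' hx']
    have : x' ∈ j ⁻¹' O ↔ CdStalk (X' : Scheme.{u}) n x' := by
      rw [hOW]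
      rfl
    exact this.symm
  have hξD : ξ ∈ D := by
    obtain ⟨t₁, ht₁U⟩ := hUd.nonempty
    have hgenU : genericPoint ↥(Spec (CommRingCat.of (A₀ ⧸ P))) ∈
        (U : Set ↥(Spec (CommRingCat.of (A₀ ⧸ P)))) :=
      ((genericPoint_spec ↥(Spec (CommRingCat.of (A₀ ⧸ P)))).mem_open_set_iff U.2).mpr
        ⟨t₁, trivial, ht₁U⟩
    have h1 : iT (genericPoint ↥(Spec (CommRingCat.of (A₀ ⧸ P)))) ∈ D₀ := by
      have : genericPoint ↥(Spec (CommRingCat.of (A₀ ⧸ P))) ∈ iT ⁻¹' D₀ := by
        rw [hD₀U]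
        exact ⟨hgenU, cdStalk_genericPoint _⟩
      exact this
    have h2 : η ⤳ iT (genericPoint ↥(Spec (CommRingCat.of (A₀ ⧸ P)))) := by
      rw [← PrimeSpectrum.le_iff_specializes]
      have : iT (genericPoint ↥(Spec (CommRingCat.of (A₀ ⧸ P)))) ∈ Set.range iT := ⟨_, rfl⟩
      rw [hrange] at this
      exact this
    exact h2.mem_open hD₀ h1
  by_cases hξO : ξ ∈ O
  · right
    refine ⟨D ∩ O, hD.inter hO, ⟨ξ, ⟨hξD, hξO⟩, hξmem⟩, ?_⟩
    rintro z ⟨⟨hzD, hzO⟩, hzZ⟩
    exact (hkey z hzZ hzD).mpr hzO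
  · left
    have hsub : (Subtype.val ⁻¹' {x | CdFib f₀ n x} : Set Z) ⊆ (Subtype.val ⁻¹' D : Set Z)ᶜ := by
      rintro ⟨z, hzZ⟩ hzE hzD
      have hzO : z ∈ O := (hkey z hzZ hzD).mp hzE
      have hs : ξ ⤳ z := by
        rw [specializes_iff_mem_closure, hξ.def]
        exact hzZ
      exact hξO (hs.mem_open hO hzO)
    have hopenD : IsOpen (Subtype.val ⁻¹' D : Set Z) := hD.preimage continuous_subtype_val
    have hdense : Dense (Subtype.val ⁻¹' D : Set Z) := by
      haveI : IrreducibleSpace Z := (isIrreducible_iff_irreducibleSpace (s := Z)).1 hZi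
      exact hopenD.dense ⟨⟨ξ, hξmem⟩, hξD⟩
    have hnd : IsNowhereDense ((Subtype.val ⁻¹' D : Set Z)ᶜ) := by
      rw [hopenD.isClosed_compl.isNowhereDense_iff, interior_compl, hdense.closure_eq,
        Set.compl_univ]
    exact hnd.mono hsub

end Constructible

section Assembly

open Groth.Agent.Lib.Helper23

attribute [local instance] ulZAlgebra in
theorem quotReg_adjoin_ulZ (B : Type u) [CommRing B] (s : Finset B) :
    QuotReg (Algebra.adjoin (ULift.{u} ℤ) (s : Set B)) := by
  haveI : IsRegularRing (ULift.{u} ℤ) :=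
    IsRegularRing.of_ringEquiv (ULift.ringEquiv : ULift.{u} ℤ ≃+* ℤ).symm
  haveI : Algebra.FiniteType (ULift.{u} ℤ) (Algebra.adjoin (ULift.{u} ℤ) (s : Set B)) :=
    (Subalgebra.fg_iff_finiteType _).mp (Subalgebra.fg_adjoin_finset s)
  exact (QuotReg.of_isRegularRing (ULift.{u} ℤ)).of_finiteType

theorem quotReg_noethRing (S : Scheme.{u}) (j : (Finset Γ(S, ⊤))ᵒᵖ) : QuotReg (noethRing S j) :=
  quotReg_adjoin_ulZ _ _

/-- **EGA IV 9.9.3 (codepth)**: for `f` locally of finite presentation, the set of points at which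
the local ring of the fibre has codepth at most `n` is locally constructible. -/
theorem isLocallyConstructible_cdFib {X S : Scheme.{u}} (f : X ⟶ S)
    [LocallyOfFinitePresentation f] (n : ℕ) : IsLocallyConstructible {x : X | CdFib f n x} := by
  intro x₀
  obtain ⟨W, hW, hx₀W, -⟩ := exists_isAffineOpen_mem_and_subset (x := f x₀) (U := ⊤) trivial
  obtain ⟨V, hV, hx₀V, eV⟩ := exists_isAffineOpen_mem_and_subset (x := x₀) (U := f ⁻¹ᵁ W) hx₀W
  refine ⟨V, V.2.mem_nhds hx₀V, V.2, ?_⟩
  let f₁ : (V : Scheme.{u}) ⟶ (W : Scheme.{u}) := f.resLE W V eV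
  have hf₁ : f₁ ≫ W.ι = V.ι ≫ f := Scheme.Hom.resLE_comp_ι f eV
  haveI : IsAffine (V : Scheme.{u}) := hV
  haveI : IsAffine (W : Scheme.{u}) := hW
  haveI hf₁fp : LocallyOfFinitePresentation f₁ := inferInstance
  haveI hf₁qc : QuasiCompact f₁ := inferInstance
  haveI hf₁qs : QuasiSeparated f₁ := inferInstance
  obtain ⟨i, X₀, f₀, q, hf₀fp, hf₀qc, hf₀qs, hpb⟩ := descends_noeth f₁
  let f₀' : X₀ ⟶ Spec (noethRing (W : Scheme.{u}) i) := f₀
  haveI hf₀'fp : LocallyOfFinitePresentation f₀' := hf₀fp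
  haveI hf₀'qc : QuasiCompact f₀' := hf₀qc
  haveI hf₀lft : LocallyOfFiniteType f₀' := inferInstance
  have hpb' : IsPullback q f₁ f₀' ((noethCone (W : Scheme.{u})).π.app i) := hpb
  have hcons := isConstructible_cdFib_noeth (noethRing (W : Scheme.{u}) i)
    (quotReg_noethRing _ i) f₀' n
  have hpre := q.isConstructible_preimage hcons
  have hset : ((Subtype.val : ↥V → X) ⁻¹' {x | CdFib f n x}) =
      (q : ↥(V : Scheme.{u}) → X₀) ⁻¹' {x | CdFib f₀' n x} := by
    ext z
    exact (cdFib_iff_of_openImmersion_square V.ι W.ι f₁ f hf₁ n z).symm.trans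
      (cdFib_iff_of_isPullback hpb' n z)
  rw [← hset] at hpre
  exact hpre

end Assembly

section Exact

variable (R : Type u) [CommRing R] [IsLocalRing R] [IsNoetherianRing R]

/-- Dimension and depth of a Noetherian local ring as natural numbers. -/
theorem exists_nat_dim_depth :
    ∃ a d : ℕ, ringKrullDim R = (a : WithBot ℕ∞) ∧ LocCoh.depth R R = (d : ℕ∞) ∧ d ≤ a := by
  have h1 : ((LocCoh.depth R R : ℕ∞) : WithBot ℕ∞) ≤ ringKrullDim R := by
    rw [← Module.supportDim_self_eq_ringKrullDim]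
    exact depth_le_supportDim R R
  have hfin : ringKrullDim R ≠ ⊤ := ringKrullDim_ne_top
  have hbot : ringKrullDim R ≠ ⊥ := ringKrullDim_ne_bot
  generalize ringKrullDim R = x at h1 hfin hbot
  induction x with
  | bot => exact absurd rfl hbot
  | coe x =>
    induction x with
    | top => exact absurd rfl hfin
    | coe a =>
      have h2 : LocCoh.depth R R ≤ (a : ℕ∞) := WithBot.coe_le_coe.mp h1
      have h3 : LocCoh.depth R R ≠ ⊤ := fun h => by
        rw [h] at h2
        exact absurd h2 (by simp)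
      generalize LocCoh.depth R R = y at h2 h3
      lift y to ℕ using h3
      exact ⟨a, y, rfl, rfl, by exact_mod_cast h2⟩

theorem cdEq_zero_iff :
    ringKrullDim R = ((LocCoh.depth R R : ℕ∞) : WithBot ℕ∞) + ((0 : ℕ) : WithBot ℕ∞) ↔
      CdLE R 0 := by
  obtain ⟨a, d, ha, hd, hda⟩ := exists_nat_dim_depth R
  unfold CdLE
  rw [ha, hd]
  constructor
  · intro h
    rw [h]
  · intro h
    have h' : (a : ℕ) ≤ d + 0 := by exact_mod_cast h
    have : a = d + 0 := by omega
    rw [this]
    push_cast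
    rfl

theorem cdEq_succ_iff (m : ℕ) :
    ringKrullDim R = ((LocCoh.depth R R : ℕ∞) : WithBot ℕ∞) + ((m + 1 : ℕ) : WithBot ℕ∞) ↔
      CdLE R (m + 1) ∧ ¬ CdLE R m := by
  obtain ⟨a, d, ha, hd, hda⟩ := exists_nat_dim_depth R
  unfold CdLE
  rw [ha, hd]
  have e1 : ((a : ℕ) : WithBot ℕ∞) = (((d : ℕ) : ℕ∞) : WithBot ℕ∞) + ((m + 1 : ℕ) : WithBot ℕ∞) ↔
      a = d + (m + 1) := by
    constructor
    · intro h
      exact_mod_cast h
    · intro h
      rw [h]
      push_cast
      rfl
  have e2 : ((a : ℕ) : WithBot ℕ∞) ≤ (((d : ℕ) : ℕ∞) : WithBot ℕ∞) + ((m + 1 : ℕ) : WithBot ℕ∞) ↔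
      a ≤ d + (m + 1) := by
    constructor
    · intro h
      exact_mod_cast h
    · intro h
      exact_mod_cast h
  have e3 : ((a : ℕ) : WithBot ℕ∞) ≤ (((d : ℕ) : ℕ∞) : WithBot ℕ∞) + ((m : ℕ) : WithBot ℕ∞) ↔
      a ≤ d + m := by
    constructor
    · intro h
      exact_mod_cast h
    · intro h
      exact_mod_cast h
  rw [e1, e2, e3]
  omega

end Exact

theorem isLocallyConstructible_compl {T : Type*} [TopologicalSpace T] {s : Set T}
    (hs : IsLocallyConstructible s) : IsLocallyConstructible sᶜ := by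
  intro x
  obtain ⟨U, hxU, hU, h⟩ := hs x
  refine ⟨U, hxU, hU, ?_⟩
  have : (Subtype.val ⁻¹' sᶜ : Set U) = (Subtype.val ⁻¹' s : Set U)ᶜ := Set.preimage_compl
  rw [this]
  exact h.compl

/-- **EGA IV 9.9.3 (codepth `= n`)**. -/
theorem isLocallyConstructible_cdFib_eq {X S : Scheme.{u}} (f : X ⟶ S)
    [LocallyOfFinitePresentation f] (n : ℕ) :
    IsLocallyConstructible {x : X |
      ringKrullDim ((f.fiber (f x)).presheaf.stalk (f.asFiber x)) =
        ((LocCoh.depth ((f.fiber (f x)).presheaf.stalk (f.asFiber x))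
          ((f.fiber (f x)).presheaf.stalk (f.asFiber x)) : ℕ∞) : WithBot ℕ∞) + n} := by
  have hN : ∀ x : X, IsNoetherianRing ((f.fiber (f x)).presheaf.stalk (f.asFiber x)) := by
    intro x
    haveI := isLocallyNoetherian_fiber f (f x)
    infer_instance
  cases n with
  | zero =>
    have hset : {x : X |
        ringKrullDim ((f.fiber (f x)).presheaf.stalk (f.asFiber x)) =
          ((LocCoh.depth ((f.fiber (f x)).presheaf.stalk (f.asFiber x))
            ((f.fiber (f x)).presheaf.stalk (f.asFiber x)) : ℕ∞) : WithBot ℕ∞) + ((0 : ℕ) : WithBot ℕ∞)} =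
        {x : X | CdFib f 0 x} := by
      ext x
      haveI := hN x
      exact cdEq_zero_iff _
    rw [hset]
    exact isLocallyConstructible_cdFib f 0
  | succ m =>
    have hset : {x : X |
        ringKrullDim ((f.fiber (f x)).presheaf.stalk (f.asFiber x)) =
          ((LocCoh.depth ((f.fiber (f x)).presheaf.stalk (f.asFiber x))
            ((f.fiber (f x)).presheaf.stalk (f.asFiber x)) : ℕ∞) : WithBot ℕ∞) +
              ((m + 1 : ℕ) : WithBot ℕ∞)} =
        {x : X | CdFib f (m + 1) x} ∩ {x : X | CdFib f m x}ᶜ := by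
      ext x
      haveI := hN x
      exact cdEq_succ_iff _ m
    rw [hset]
    exact (isLocallyConstructible_cdFib f (m + 1)).inter
      (isLocallyConstructible_compl (isLocallyConstructible_cdFib f m))

end Groth.Agent.Lib.Helper13.CodepthFib
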