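/-
Helper library (helper13): the locus where a flat morphism locally of finite presentation has
fibre local rings of codepth at most `n` is open (EGA IV 12.1.1 (i) for the codepth).
-/
import Groth.Agent.Lib.Helper13.CodepthFib
import Groth.Agent.Lib.Helper12.FlatCxDVRCrit
import Groth.Agent.Lib.Helper23.FlatFibreDim
import Groth.Agent.Lib.Helper78.FlatLocusBC
import Groth.Agent.S2075

set_option autoImplicit false
open CategoryTheory AlgebraicGeometry Limits
universe u

namespace Groth.Agent.Lib.Helper13.CodepthOpen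

open Groth.Agent.Lib.Helper13.CodepthFib Topology TopologicalSpace
open Groth.Agent.Lib.Helper29 IsLocalRing

/-- The local rings of the spectrum of a regular ring are Cohen–Macaulay. -/
theorem isCohenMacaulayLocalRing_stalk_of_isRegularRing (R : Type u) [CommRing R] [IsRegularRing R]
    (y : Spec (CommRingCat.of R)) :
    LocCoh.IsCohenMacaulayLocalRing ((Spec (CommRingCat.of R)).presheaf.stalk y) := by
  obtain ⟨e⟩ := Groth.Agent.Lib.Helper24.nonempty_stalk_ringEquiv_localization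
    (𝟙 (Spec (CommRingCat.of R))) y
  have h := (Groth.Agent.Lib.Helper82.CMPoly.isCohenMacaulayRing_of_isRegularRing
    R).isCohenMacaulayLocalRing_localization y.asIdeal
  exact isCohenMacaulayLocalRing_of_ringEquiv e.symm h

/-- **Noetherian case**: for a flat morphism locally of finite type to the spectrum of a quotient of
a regular ring, the locus where the fibre has codepth at most `n` is stable under generization. -/
theorem stableUnderGeneralization_cdFib_noeth {X₀ : Scheme.{u}} (A₀ : CommRingCat.{u})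
    (hA₀ : QuotReg A₀) (f₀ : X₀ ⟶ Spec A₀) [LocallyOfFiniteType f₀] [Flat f₀] (n : ℕ) :
    StableUnderGeneralization {x : X₀ | CdFib f₀ n x} := by
  haveI : IsNoetherianRing A₀ := hA₀.isNoetherianRing
  haveI hX₀ : IsLocallyNoetherian X₀ := LocallyOfFiniteType.isLocallyNoetherian f₀
  intro x x' hxx' hx
  by_cases hne : x' = x
  · rw [hne]; exact hx
  obtain ⟨U, hU, hxU, -⟩ := exists_isAffineOpen_mem_and_subset (x := x) (U := ⊤) trivial
  have hx'U : x' ∈ U := hxx'.mem_open U.isOpen hxU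
  have hxr : x ∈ Set.range hU.fromSpec := by rw [hU.range_fromSpec]; exact hxU
  have hxr' : x' ∈ Set.range hU.fromSpec := by rw [hU.range_fromSpec]; exact hx'U
  obtain ⟨(p : PrimeSpectrum Γ(X₀, U)), hp⟩ := hxr
  obtain ⟨(p' : PrimeSpectrum Γ(X₀, U)), hp'⟩ := hxr'
  haveI : IsNoetherianRing Γ(X₀, U) := IsLocallyNoetherian.component_noetherian ⟨U, hU⟩
  have hspec : p' ⤳ p := by
    have h0 : hU.fromSpec p' ⤳ hU.fromSpec p := by rw [hp, hp']; exact hxx'
    exact hU.fromSpec.isOpenEmbedding.isInducing.specializes_iff.mp h0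
  have hle : p' ≤ p := (PrimeSpectrum.le_iff_specializes p' p).mpr hspec
  have hlt : p' < p := lt_of_le_of_ne hle (fun e => hne (by rw [← hp', ← hp, e]))
  obtain ⟨R, _, _, _, _, h1, h2⟩ := Groth.Agent.Lib.Helper12.FlatCx.exists_dvr_of_lt p' p hlt
  let h : Spec (CommRingCat.of R) ⟶ X₀ :=
    Spec.map (CommRingCat.ofHom (algebraMap Γ(X₀, U) R)) ≫ hU.fromSpec
  let g : Spec (CommRingCat.of R) ⟶ Spec A₀ := h ≫ f₀
  let σ : Spec (CommRingCat.of R) ⟶ pullback f₀ g := pullback.lift h (𝟙 _) (by simp [g])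
  have hσ1 : σ ≫ pullback.fst f₀ g = h := pullback.lift_fst _ _ _
  let c : Spec (CommRingCat.of R) := closedPoint R
  let η : Spec (CommRingCat.of R) := (⊥ : PrimeSpectrum R)
  have hhc : h c = x := by
    change hU.fromSpec (PrimeSpectrum.comap (algebraMap Γ(X₀, U) R) (closedPoint R)) = x
    rw [h2, hp]
  have hhη : h η = x' := by
    change hU.fromSpec (PrimeSpectrum.comap (algebraMap Γ(X₀, U) R) ⊥) = x'
    rw [h1, hp']
  have hz : pullback.fst f₀ g (σ c) = x := by
    rw [← Scheme.Hom.comp_apply, hσ1, hhc]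
  have hz' : pullback.fst f₀ g (σ η) = x' := by
    rw [← Scheme.Hom.comp_apply, hσ1, hhη]
  have hpb : ∀ w, CdFib (pullback.snd f₀ g) n w ↔ CdFib f₀ n (pullback.fst f₀ g w) :=
    fun w => cdFib_iff_of_isPullback (IsPullback.of_hasPullback f₀ g) n w
  haveI : IsLocallyNoetherian (pullback f₀ g) :=
    LocallyOfFiniteType.isLocallyNoetherian (pullback.snd f₀ g)
  have hst : ∀ w, CdFib (pullback.snd f₀ g) n w ↔ CdStalk (pullback f₀ g) n w :=
    fun w => cdFib_iff_cdStalk_of_flat (pullback.snd f₀ g) n w (Flat.stalkMap _ w)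
      (isCohenMacaulayLocalRing_stalk_of_isRegularRing R _)
  have hopen := isOpen_cdStalk (QuotReg.of_isRegularRing R) (pullback.snd f₀ g) n
  have hηc : η ⤳ c := (PrimeSpectrum.le_iff_specializes _ _).mp bot_le
  have hσs : σ η ⤳ σ c := hηc.map σ.continuous
  have hzE : CdStalk (pullback f₀ g) n (σ c) := by
    rw [← hst, hpb, hz]; exact hx
  have hz'E : CdStalk (pullback f₀ g) n (σ η) := hσs.mem_open hopen hzE
  have := (hpb (σ η)).mp ((hst _).mpr hz'E)
  rw [hz'] at this
  exact this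

/-- **Noetherian case**: for a flat morphism of finite type to the spectrum of a quotient of
a regular ring, the locus where the fibre has codepth at most `n` is open. -/
theorem isOpen_cdFib_of_flat_noeth {X₀ : Scheme.{u}} (A₀ : CommRingCat.{u})
    (hA₀ : QuotReg A₀) (f₀ : X₀ ⟶ Spec A₀) [LocallyOfFiniteType f₀] [QuasiCompact f₀] [Flat f₀]
    (n : ℕ) : IsOpen {x : X₀ | CdFib f₀ n x} :=
  Groth.Agent.Lib.Helper23.FlatFibreDim.isOpen_of_isLocallyConstructible_of_stableUnderGeneralization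
    (isConstructible_cdFib_noeth A₀ hA₀ f₀ n).isLocallyConstructible
    (stableUnderGeneralization_cdFib_noeth A₀ hA₀ f₀ n)

open Groth.Agent.Lib.Helper23 in
/-- **EGA IV 12.1.1 (i) for the codepth, flat case**: for a flat morphism locally of finite
presentation, the locus where the fibre has codepth at most `n` is open. -/
theorem isOpen_cdFib_of_flat {X Y : Scheme.{u}} (g : X ⟶ Y) [Flat g]
    [LocallyOfFinitePresentation g] (n : ℕ) : IsOpen {x : X | CdFib g n x} := by
  rw [isOpen_iff_forall_mem_open]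
  intro x₀ hx₀
  obtain ⟨W, hW, hx₀W, -⟩ := exists_isAffineOpen_mem_and_subset (x := g x₀) (U := ⊤) trivial
  obtain ⟨V, hV, hx₀V, eV⟩ := exists_isAffineOpen_mem_and_subset (x := x₀) (U := g ⁻¹ᵁ W) hx₀W
  suffices h : IsOpen ((Subtype.val : ↥V → X) ⁻¹' {x | CdFib g n x}) by
    refine ⟨Subtype.val '' ((Subtype.val : ↥V → X) ⁻¹' {x | CdFib g n x}), ?_,
      V.2.isOpenMap_subtype_val _ h, ⟨⟨x₀, hx₀V⟩, hx₀, rfl⟩⟩
    rintro _ ⟨z, hz, rfl⟩
    exact hz
  let f₁ : (V : Scheme.{u}) ⟶ (W : Scheme.{u}) := g.resLE W V eV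
  have hf₁ : f₁ ≫ W.ι = V.ι ≫ g := Scheme.Hom.resLE_comp_ι g eV
  haveI : IsAffine (V : Scheme.{u}) := hV
  haveI : IsAffine (W : Scheme.{u}) := hW
  haveI hf₁fp : LocallyOfFinitePresentation f₁ := inferInstance
  haveI hf₁qc : QuasiCompact f₁ := inferInstance
  haveI hf₁qs : QuasiSeparated f₁ := inferInstance
  haveI hf₁fl : Flat f₁ := inferInstance
  obtain ⟨i, X₀, f₀, q, hf₀fp, hf₀qc, hf₀qs, hpb⟩ := descends_noeth f₁
  haveI : CompactSpace X₀ := QuasiCompact.compactSpace_of_compactSpace f₀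
  haveI : QuasiSeparatedSpace X₀ := quasiSeparatedSpace_of_quasiSeparated f₀
  have hY : IsPullback ((noethCone (W : Scheme.{u})).π.app i) (𝟙 (noethCone (W : Scheme.{u})).pt)
      (𝟙 ((noethDiagram (W : Scheme.{u})).obj i)) ((noethCone (W : Scheme.{u})).π.app i) :=
    IsPullback.of_id_snd
  obtain ⟨j, φ, Xj, Yj, fj, gj, pY, pX, hY2, hX2, hfl⟩ :=
    Groth.Agent.S2075.result (noethDiagram (W : Scheme.{u})) (noethCone (W : Scheme.{u}))
      (isLimitNoethCone (W : Scheme.{u})) i f₀ (𝟙 ((noethDiagram (W : Scheme.{u})).obj i)) f₁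
      (𝟙 (noethCone (W : Scheme.{u})).pt) ((noethCone (W : Scheme.{u})).π.app i) q hY hpb
  haveI : IsIso gj := hY2.isIso_snd_of_isIso
  haveI : LocallyOfFinitePresentation fj :=
    MorphismProperty.of_isPullback (P := @LocallyOfFinitePresentation) hX2 hf₀fp
  haveI : QuasiCompact fj := MorphismProperty.of_isPullback (P := @QuasiCompact) hX2 hf₀qc
  have hXj : IsPullback pX (fj ≫ gj) f₀ ((noethDiagram (W : Scheme.{u})).map φ) :=
    IsPullback.of_iso hX2 (Iso.refl _) (Iso.refl _) (asIso gj) (Iso.refl _) (by simp)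
      (by simp) (by simp) (by simpa using hY2.w)
  have hpb2 : IsPullback q f₁ f₀ ((noethCone (W : Scheme.{u})).π.app j ≫
      (noethDiagram (W : Scheme.{u})).map φ) :=
    (congrArg (IsPullback q f₁ f₀) ((noethCone (W : Scheme.{u})).w φ)).mpr hpb
  obtain ⟨qj, hqj⟩ : ∃ qj : (V : Scheme.{u}) ⟶ Xj,
      IsPullback qj f₁ (fj ≫ gj) ((noethCone (W : Scheme.{u})).π.app j) :=
    ⟨_, IsPullback.of_right' hpb2 hXj⟩
  let fj' : Xj ⟶ Spec (noethRing (W : Scheme.{u}) j) := fj ≫ gj
  haveI : LocallyOfFinitePresentation fj' :=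
    inferInstanceAs (LocallyOfFinitePresentation (fj ≫ gj))
  haveI : LocallyOfFiniteType fj' := inferInstance
  haveI : QuasiCompact fj' := inferInstanceAs (QuasiCompact (fj ≫ gj))
  haveI : Flat fj' := inferInstanceAs (Flat (fj ≫ gj))
  have hqj' : IsPullback qj f₁ fj' ((noethCone (W : Scheme.{u})).π.app j) := hqj
  have hopen := isOpen_cdFib_of_flat_noeth (noethRing (W : Scheme.{u}) j)
    (quotReg_noethRing _ j) fj' n
  have hset : ((Subtype.val : ↥V → X) ⁻¹' {x | CdFib g n x}) =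
      (qj : ↥(V : Scheme.{u}) → Xj) ⁻¹' {x | CdFib fj' n x} := by
    ext z
    exact (cdFib_iff_of_openImmersion_square V.ι W.ι f₁ g hf₁ n z).symm.trans
      (cdFib_iff_of_isPullback hqj' n z)
  rw [hset]
  exact hopen.preimage (Scheme.Hom.continuous _)

/-- **EGA IV 12.1.1 (i) for the codepth**: for `f` locally of finite presentation, the set of
points at which `f` is flat and the local ring of the fibre has codepth at most `n` is open. -/
theorem isOpen_flat_and_cdFib {X Y : Scheme.{u}} (f : X ⟶ Y) [LocallyOfFinitePresentation f]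
    (n : ℕ) : IsOpen {x : X | (f.stalkMap x).hom.Flat ∧ CdFib f n x} := by
  let W : X.Opens := ⟨{x | (f.stalkMap x).hom.Flat},
    Groth.Agent.Lib.Helper2.isOpen_flat_stalkMap_locus f⟩
  haveI : Flat (W.ι ≫ f) := Flat.of_stalkMap _ (fun p => by
    rw [Scheme.Hom.stalkMap_comp]
    have h1 : (f.stalkMap (W.ι p)).hom.Flat := p.2
    have h2 : (W.ι.stalkMap p).hom.Flat := Flat.stalkMap W.ι p
    exact h1.comp h2)
  have h := isOpen_cdFib_of_flat (W.ι ≫ f) n
  have hset : {x : X | (f.stalkMap x).hom.Flat ∧ CdFib f n x} =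
      W.ι '' {w | CdFib (W.ι ≫ f) n w} := by
    ext x
    constructor
    · rintro ⟨h1, h2⟩
      exact ⟨⟨x, h1⟩, (cdFib_comp_openImmersion_left_iff W.ι f n ⟨x, h1⟩).mpr h2, rfl⟩
    · rintro ⟨w, hw, rfl⟩
      exact ⟨w.2, (cdFib_comp_openImmersion_left_iff W.ι f n w).mp hw⟩
  rw [hset]
  exact W.ι.isOpenEmbedding.isOpenMap _ h

end Groth.Agent.Lib.Helper13.CodepthOpen
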