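/-
Helper library (helper13): properties of the local rings of the fibres of a morphism which are
invariant under ring isomorphisms and under extension of the base field; such properties are
invariant under arbitrary base change (generic version of the codepth plumbing in `CodepthFib`).
-/
import Groth.Agent.Lib.Helper13.CodepthFib

set_option autoImplicit false
open CategoryTheory AlgebraicGeometry Limits
universe u

namespace Groth.Agent.Lib.Helper13.FibLocProp

open Groth.Agent.Lib.Helper55 Groth.Agent.Lib.Helper13.CMChart Topology TopologicalSpace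
open Groth.Agent.Lib.Helper13.CodepthFib
open IsLocalRing TensorProduct

/-- A property of Noetherian rings which is invariant under isomorphisms. -/
structure IsoInv (P : ∀ (R : Type u) [CommRing R], Prop) : Prop where
  iso : ∀ {R R' : Type u} [CommRing R] [CommRing R'] [IsNoetherianRing R] [IsNoetherianRing R'],
    (R ≃+* R') → P R → P R'

theorem IsoInv.iso_iff {P : ∀ (R : Type u) [CommRing R], Prop} (hP : IsoInv P) {R R' : Type u}
    [CommRing R] [CommRing R'] [IsNoetherianRing R] (e : R ≃+* R') : P R ↔ P R' := by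
  haveI : IsNoetherianRing R' := isNoetherianRing_of_ringEquiv R e
  exact ⟨hP.iso e, hP.iso e.symm⟩

/-- A property of Noetherian rings which is invariant under isomorphisms and, for the local rings
of algebras of finite type over a field, under extension of the base field. -/
structure FieldInv (P : ∀ (R : Type u) [CommRing R], Prop) : Prop extends IsoInv P where
  field : ∀ (k K A : Type u) [Field k] [Field K] [Algebra k K] [CommRing A] [Algebra k A]
    [Algebra.FiniteType k A] (𝔓 : Ideal (A ⊗[k] K)) [𝔓.IsPrime],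
    P (Localization.AtPrime 𝔓) ↔ P (Localization.AtPrime (𝔓.under A))

variable (P : ∀ (R : Type u) [CommRing R], Prop)

/-- The local ring of the fibre of `f` through `x` has the property `P`. -/
def PFib {X S : Scheme.{u}} (f : X ⟶ S) (x : X) : Prop :=
  P ((f.fiber (f x)).presheaf.stalk (f.asFiber x))

/-- The local ring of `X` at `x` has the property `P`. -/
def PStalk (X : Scheme.{u}) (x : X) : Prop := P (X.presheaf.stalk x)

variable {P}

section Invariance

variable (hP : IsoInv P)
include hP

theorem pFib_iff_quot {X S : Scheme.{u}} (f : X ⟶ S) [LocallyOfFiniteType f] (x : X) :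
    PFib P f x ↔ P (X.presheaf.stalk x ⧸
      Ideal.map (f.stalkMap x).hom (maximalIdeal (S.presheaf.stalk (f x)))) := by
  obtain ⟨E⟩ := nonempty_stalk_fiber_equiv f (f x) (f.asFiber x) x (f.fiberι_asFiber x)
  haveI := isLocallyNoetherian_fiber f (f x)
  exact (hP.iso_iff E.symm)

theorem pFib_comp_openImmersion_left_iff {A B C : Scheme.{u}} (j : A ⟶ B) [IsOpenImmersion j]
    (h : B ⟶ C) [LocallyOfFiniteType h] (z : A) :
    PFib P (j ≫ h) z ↔ PFib P h (j z) := by
  rw [pFib_iff_quot hP, pFib_iff_quot hP]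
  let φ : B.presheaf.stalk (j z) ≃+* A.presheaf.stalk z :=
    (asIso (j.stalkMap z)).commRingCatIsoToRingEquiv
  have hJ : Ideal.map ((j ≫ h).stalkMap z).hom
      (IsLocalRing.maximalIdeal (C.presheaf.stalk ((j ≫ h) z))) =
      Ideal.map (φ : B.presheaf.stalk (j z) →+* A.presheaf.stalk z)
        (Ideal.map (h.stalkMap (j z)).hom
          (IsLocalRing.maximalIdeal (C.presheaf.stalk (h (j z))))) := by
    rw [Ideal.map_map, Scheme.Hom.stalkMap_comp]
    rfl
  haveI := isLocallyNoetherian_fiber (j ≫ h) ((j ≫ h) z)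
  obtain ⟨E⟩ := nonempty_stalk_fiber_equiv (j ≫ h) ((j ≫ h) z) ((j ≫ h).asFiber z) z
    ((j ≫ h).fiberι_asFiber z)
  haveI : IsNoetherianRing (A.presheaf.stalk z ⧸ Ideal.map ((j ≫ h).stalkMap z).hom
      (IsLocalRing.maximalIdeal (C.presheaf.stalk ((j ≫ h) z)))) :=
    isNoetherianRing_of_ringEquiv _ E.symm
  exact (hP.iso_iff (Ideal.quotientEquiv _ _ φ hJ).symm)

theorem pFib_comp_openImmersion_right_iff {A B C : Scheme.{u}} (h : A ⟶ B) (v : B ⟶ C)
    [IsOpenImmersion v] [LocallyOfFiniteType h] (z : A) :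
    PFib P (h ≫ v) z ↔ PFib P h z := by
  rw [pFib_iff_quot hP, pFib_iff_quot hP]
  have hbij : Function.Bijective (v.stalkMap (h z)).hom :=
    ConcreteCategory.bijective_of_isIso (v.stalkMap (h z))
  have hm : Ideal.map (v.stalkMap (h z)).hom
      (IsLocalRing.maximalIdeal (C.presheaf.stalk (v (h z)))) =
      IsLocalRing.maximalIdeal (B.presheaf.stalk (h z)) := by
    let ψ : C.presheaf.stalk (v (h z)) ≃+* B.presheaf.stalk (h z) :=
      RingEquiv.ofBijective (v.stalkMap (h z)).hom hbij
    exact IsLocalRing.map_ringEquiv_maximalIdeal ψ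
  have hJ : Ideal.map ((h ≫ v).stalkMap z).hom
      (IsLocalRing.maximalIdeal (C.presheaf.stalk ((h ≫ v) z))) =
      Ideal.map (h.stalkMap z).hom (IsLocalRing.maximalIdeal (B.presheaf.stalk (h z))) := by
    rw [← hm, Ideal.map_map, Scheme.Hom.stalkMap_comp]
    rfl
  haveI := isLocallyNoetherian_fiber (h ≫ v) ((h ≫ v) z)
  obtain ⟨E⟩ := nonempty_stalk_fiber_equiv (h ≫ v) ((h ≫ v) z) ((h ≫ v).asFiber z) z
    ((h ≫ v).fiberι_asFiber z)
  haveI : IsNoetherianRing (A.presheaf.stalk z ⧸ Ideal.map ((h ≫ v).stalkMap z).hom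
      (IsLocalRing.maximalIdeal (C.presheaf.stalk ((h ≫ v) z)))) :=
    isNoetherianRing_of_ringEquiv _ E.symm
  exact (hP.iso_iff (Ideal.quotEquivOfEq hJ))

theorem pFib_iff_of_openImmersion_square {A B X Y : Scheme.{u}} (j : A ⟶ X) (v : B ⟶ Y)
    [IsOpenImmersion j] [IsOpenImmersion v] (f₁ : A ⟶ B) (f : X ⟶ Y) [LocallyOfFiniteType f]
    [LocallyOfFiniteType f₁] (h : f₁ ≫ v = j ≫ f) (z : A) :
    PFib P f₁ z ↔ PFib P f (j z) := by
  rw [← pFib_comp_openImmersion_right_iff hP f₁ v z, ← pFib_comp_openImmersion_left_iff hP j f z]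
  have gen : ∀ k : A ⟶ Y, k = j ≫ f → (PFib P k z ↔ PFib P (j ≫ f) z) := by
    rintro k rfl
    exact Iff.rfl
  exact gen _ h

end Invariance

section BaseChange

open Groth.Agent.Lib.Helper24

variable (hP : FieldInv P)
include hP

variable {k : Type u} [Field k] (K : Type u) [Field K] [Algebra k K] {Z : Scheme.{u}}
  (q : Z ⟶ Spec (CommRingCat.of k)) [LocallyOfFiniteType q]

/-- Invariance of `P` for the local rings under extension of the base field. -/
theorem pStalk_pullback_field_iff
    (z : ↥(pullback q (Spec.map (CommRingCat.ofHom (algebraMap k K))))) :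
    PStalk P (pullback q (Spec.map (CommRingCat.ofHom (algebraMap k K)))) z ↔
      PStalk P Z (pullback.fst q (Spec.map (CommRingCat.ofHom (algebraMap k K))) z) := by
  haveI : IsLocallyNoetherian Z := LocallyOfFiniteType.isLocallyNoetherian q
  let g := Spec.map (CommRingCat.ofHom (algebraMap k K))
  change PStalk P (pullback q g) z ↔ PStalk P Z (pullback.fst q g z)
  obtain ⟨U, hU, hxU, -⟩ :=
    exists_isAffineOpen_mem_and_subset (x := pullback.fst q g z) (U := ⊤) trivial
  let φA : CommRingCat.of k ⟶ Γ(Z, U) := Spec.preimage (hU.fromSpec ≫ q)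
  let _ : Algebra k Γ(Z, U) := φA.hom.toAlgebra
  have ha : hU.fromSpec ≫ q = Spec.map (CommRingCat.ofHom (algebraMap k Γ(Z, U))) :=
    (Spec.map_preimage _).symm
  have hb : 𝟙 (Spec (CommRingCat.of K)) ≫ g = Spec.map (CommRingCat.ofHom (algebraMap k K)) :=
    Category.id_comp _
  have hNA : IsNoetherianRing Γ(Z, U) := IsLocallyNoetherian.component_noetherian ⟨U, hU⟩
  haveI hftA : Algebra.FiniteType k Γ(Z, U) := by
    have h1 : LocallyOfFiniteType (hU.fromSpec ≫ q) := inferInstance
    rw [ha, HasRingHomProperty.Spec_iff (P := @LocallyOfFiniteType)] at h1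
    exact h1
  have hNC : IsNoetherianRing (Γ(Z, U) ⊗[k] K) :=
    isNoetherianRing_tensor_of_essFiniteType_left k K _
  set c := pullbackChart q g hU.fromSpec (𝟙 (Spec (CommRingCat.of K))) ha hb with hc
  have hzc : z ∈ Set.range c := by
    rw [hc, range_pullbackChart, hU.range_fromSpec]
    refine ⟨hxU, ?_⟩
    simp
  obtain ⟨𝔓, rfl⟩ := hzc
  have h𝔓 : (𝔓 : PrimeSpectrum (Γ(Z, U) ⊗[k] K)).asIdeal.IsPrime := 𝔓.2
  have hfst : pullback.fst q g (c 𝔓) =
      hU.fromSpec (Spec.map (CommRingCat.ofHom (Algebra.TensorProduct.includeLeftRingHom :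
        Γ(Z, U) →+* Γ(Z, U) ⊗[k] K)) 𝔓) := by
    have := congr(($(pullbackChart_fst q g hU.fromSpec (𝟙 (Spec (CommRingCat.of K))) ha hb)) 𝔓)
    exact this
  obtain ⟨e1⟩ := nonempty_stalk_ringEquiv_localization c 𝔓
  obtain ⟨e2⟩ := nonempty_stalk_ringEquiv_localization hU.fromSpec
    (Spec.map (CommRingCat.ofHom (Algebra.TensorProduct.includeLeftRingHom :
        Γ(Z, U) →+* Γ(Z, U) ⊗[k] K)) 𝔓)
  have hiff := hP.field k K Γ(Z, U) 𝔓.asIdeal
  haveI : IsLocallyNoetherian (pullback q g) := by
    haveI : LocallyOfFiniteType (pullback.snd q g) :=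
      MorphismProperty.pullback_snd (P := @LocallyOfFiniteType) _ _ inferInstance
    exact LocallyOfFiniteType.isLocallyNoetherian (pullback.snd q g)
  unfold PStalk
  rw [hfst, hP.toIsoInv.iso_iff e1, hP.toIsoInv.iso_iff e2]
  exact hiff

/-- Invariance of `P` for the local rings under extension of the base field, for an arbitrary
cartesian square. -/
theorem pStalk_iff_of_isPullback_field {Q : Scheme.{u}} (p₁ : Q ⟶ Z)
    (p₂ : Q ⟶ Spec (CommRingCat.of K))
    (h : IsPullback p₁ p₂ q (Spec.map (CommRingCat.ofHom (algebraMap k K)))) (z : Q) :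
    PStalk P Q z ↔ PStalk P Z (p₁ z) := by
  have h3 : pullback.fst q (Spec.map (CommRingCat.ofHom (algebraMap k K))) (h.isoPullback.hom z) =
      p₁ z := by
    have := congr(($(h.isoPullback_hom_fst)) z)
    exact this
  let e : ↑((pullback q (Spec.map (CommRingCat.ofHom (algebraMap k K)))).presheaf.stalk
      (h.isoPullback.hom z)) ≃+* ↑(Q.presheaf.stalk z) :=
    (asIso (h.isoPullback.hom.stalkMap z)).commRingCatIsoToRingEquiv
  haveI : IsLocallyNoetherian (pullback q (Spec.map (CommRingCat.ofHom (algebraMap k K)))) := by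
    haveI : LocallyOfFiniteType (pullback.snd q (Spec.map (CommRingCat.ofHom (algebraMap k K)))) :=
      MorphismProperty.pullback_snd (P := @LocallyOfFiniteType) _ _ inferInstance
    exact LocallyOfFiniteType.isLocallyNoetherian
      (pullback.snd q (Spec.map (CommRingCat.ofHom (algebraMap k K))))
  rw [← h3]
  unfold PStalk
  rw [← hP.toIsoInv.iso_iff e]
  exact pStalk_pullback_field_iff hP K q _

end BaseChange

section FibreBaseChange

open Groth.Agent.Lib.Helper24

variable {X Y X' Y' : Scheme.{u}} {f : X ⟶ Y} {f' : X' ⟶ Y'} {g' : X' ⟶ X} {g : Y' ⟶ Y}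

/-- Transport along an equality of base points. -/
theorem pFib_congr (f : X ⟶ Y) (s : Y) (x : X)
    (hx : f x = s) (z : ↥(f.fiber s)) (hz : f.fiberι s z = x) :
    PStalk P (f.fiber s) z ↔ PFib P f x := by
  subst hx
  have : z = f.asFiber x := by
    apply (f.fiberι (f x)).isEmbedding.injective
    rw [hz, f.fiberι_asFiber]
  rw [this]
  rfl

set_option backward.isDefEq.respectTransparency.types false in
/-- **`P` for the local rings of the fibres is invariant under base change.** -/
theorem pFib_iff_of_isPullback (hP : FieldInv P) [LocallyOfFiniteType f]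
    (hc : IsPullback g' f' f g) (x' : X') : PFib P f' x' ↔ PFib P f (g' x') := by
  have hpb := isPullback_fiberToSpecResidueField_of_isPullback hc (f' x')
  let _ : Algebra ↑(Y.residueField (g (f' x'))) ↑(Y'.residueField (f' x')) :=
    (g.residueFieldMap (f' x')).hom.toAlgebra
  let q' : (f.fiber (g (f' x'))) ⟶ Spec (CommRingCat.of ↑(Y.residueField (g (f' x')))) :=
    f.fiberToSpecResidueField (g (f' x'))
  haveI : LocallyOfFiniteType q' :=
    MorphismProperty.pullback_snd (P := @LocallyOfFiniteType) _ _ ‹_›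
  have h1 := pStalk_iff_of_isPullback_field hP
    (k := ↑(Y.residueField (g (f' x')))) (↑(Y'.residueField (f' x'))) q' _ _ hpb
    (f'.asFiber x')
  refine Iff.trans h1 ?_
  have hx : f (g' x') = g (f' x') := by
    have := congr(($(hc.w)) x')
    exact this
  refine pFib_congr f (g (f' x')) (g' x') hx _ ?_
  have h2 : pullback.map f' (Y'.fromSpecResidueField (f' x')) f
      (Y.fromSpecResidueField (g (f' x'))) g' (Spec.map (g.residueFieldMap (f' x'))) g
      hc.w.symm (by simp) ≫ f.fiberι (g (f' x')) = f'.fiberι (f' x') ≫ g' :=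
    pullback.lift_fst _ _ _
  have := congr(($h2) (f'.asFiber x'))
  rw [Scheme.Hom.comp_apply, Scheme.Hom.comp_apply, f'.fiberι_asFiber] at this
  exact this

end FibreBaseChange

end Groth.Agent.Lib.Helper13.FibLocProp
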