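/-
Helper library (helper13): Serre's condition `(S_k)` for the local rings of the fibres of a
morphism, part A: the pointwise `(S_k)` inequality, `(S_k)` of a stalk in terms of generizations,
invariance under base change.
-/
import Groth.Agent.Lib.Helper13.FibLocProp
import Groth.Agent.Lib.Helper29.FieldBaseChangeSk
import Groth.Agent.Lib.Helper29.SkLift
import Groth.Agent.Lib.Helper29.FibreDescent

set_option autoImplicit false
open CategoryTheory AlgebraicGeometry Limits
universe u

namespace Groth.Agent.Lib.Helper13.SkFib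

open Groth.Agent.Lib.Helper13.CodepthFib Groth.Agent.Lib.Helper13.FibLocProp
open Groth.Agent.Lib.Helper29 IsLocalRing TensorProduct Topology TopologicalSpace

section Algebra

/-- The `(S_k)` inequality at the closed point of a local ring: `min (k, dim R) ≤ depth R`. -/
def SkIneq (k : ℕ) (R : Type u) [CommRing R] [IsLocalRing R] : Prop :=
  min (k : WithBot ℕ∞) (ringKrullDim R) ≤ ((LocCoh.depth R R : ℕ∞) : WithBot ℕ∞)

theorem skIneq_iff_of_ringEquiv {R R' : Type u} [CommRing R] [CommRing R'] [IsLocalRing R]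
    [IsLocalRing R'] [IsNoetherianRing R] (e : R ≃+* R') (k : ℕ) : SkIneq k R ↔ SkIneq k R' := by
  unfold SkIneq
  rw [ringKrullDim_eq_of_ringEquiv e, depth_self_eq_of_ringEquiv e]

/-- `(S_k)` of a localization in terms of the `(S_k)` inequalities at the smaller primes. -/
theorem hasSk_localization_iff_skIneq (k : ℕ) (B : Type u) [CommRing B] [IsNoetherianRing B]
    (q : Ideal B) [q.IsPrime] :
    LocCoh.HasSk k (Localization.AtPrime q) (Localization.AtPrime q) ↔
      ∀ (Q : Ideal B) [Q.IsPrime], Q ≤ q → SkIneq k (Localization.AtPrime Q) := by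
  rw [hasSk_localization_iff]
  refine forall_congr' fun Q => forall_congr' fun hQ => forall_congr' fun _ => ?_
  unfold SkIneq
  rw [IsLocalization.AtPrime.ringKrullDim_eq_height Q (Localization.AtPrime Q),
    min_natCast_coe_le_coe_iff]

/-- The `(S_k)` inequality in terms of the codepth: whenever the codepth exceeds `c`, the dimension
is at least `k + c + 1`. -/
theorem skIneq_iff_forall_cdLE (k : ℕ) (R : Type u) [CommRing R] [IsLocalRing R]
    [IsNoetherianRing R] :
    SkIneq k R ↔ ∀ c : ℕ, ¬ CdLE R c → ((k + c + 1 : ℕ) : WithBot ℕ∞) ≤ ringKrullDim R := by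
  obtain ⟨a, d, ha, hd, hda⟩ := exists_nat_dim_depth R
  unfold SkIneq CdLE
  rw [ha, hd]
  have e1 : min (k : WithBot ℕ∞) ((a : ℕ) : WithBot ℕ∞) ≤ (((d : ℕ) : ℕ∞) : WithBot ℕ∞) ↔
      min k a ≤ d := by
    have h : (k : WithBot ℕ∞) = (((k : ℕ∞)) : WithBot ℕ∞) := rfl
    have h' : ((a : ℕ) : WithBot ℕ∞) = (((a : ℕ∞)) : WithBot ℕ∞) := rfl
    rw [h, h', ← WithBot.coe_min, WithBot.coe_le_coe]
    rcases le_total k a with hka | hka
    · rw [min_eq_left hka, min_eq_left (by exact_mod_cast hka : (k : ℕ∞) ≤ (a : ℕ∞))]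
      exact Nat.cast_le
    · rw [min_eq_right hka, min_eq_right (by exact_mod_cast hka : (a : ℕ∞) ≤ (k : ℕ∞))]
      exact Nat.cast_le
  have e2 : ∀ c : ℕ, (((a : ℕ) : WithBot ℕ∞) ≤ (((d : ℕ) : ℕ∞) : WithBot ℕ∞) + (c : WithBot ℕ∞) ↔
      a ≤ d + c) := by
    intro c
    constructor
    · intro h
      exact_mod_cast h
    · intro h
      exact_mod_cast h
  have e3 : ∀ c : ℕ, (((k + c + 1 : ℕ) : WithBot ℕ∞) ≤ ((a : ℕ) : WithBot ℕ∞) ↔ k + c + 1 ≤ a) := by
    intro c
    constructor
    · intro h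
      exact_mod_cast h
    · intro h
      exact_mod_cast h
  rw [e1]
  simp only [e2, e3]
  constructor
  · intro h c hc
    have : min k a ≤ d := h
    rcases le_total k a with h1 | h1
    · rw [min_eq_left h1] at this
      omega
    · rw [min_eq_right h1] at this
      omega
  · intro h
    by_cases hda' : a ≤ d
    · exact (min_le_right _ _).trans hda'
    · have := h (a - d - 1) (by omega)
      exact (min_le_left _ _).trans (by omega)

/-- `(S_k)` is invariant under isomorphisms and under extension of the base field. -/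
theorem fieldInv_hasSk (k : ℕ) :
    FieldInv (fun (R : Type u) [CommRing R] => LocCoh.HasSk k R R) where
  iso := fun e h => hasSk_of_ringEquiv e.symm k h
  field := fun k₀ K A _ _ _ _ _ _ 𝔓 _ => by
    haveI : IsNoetherianRing A := Algebra.FiniteType.isNoetherianRing k₀ A
    haveI : IsNoetherianRing (A ⊗[k₀] K) :=
      Groth.Agent.Lib.Helper24.isNoetherianRing_tensor_of_essFiniteType_left k₀ K A
    have h := (codepth_and_hasSkAt_tensor_field k₀ K A (Or.inl inferInstance) 𝔓 k).2
    rw [hasSkAt_self_iff_hasSk_localization, hasSkAt_self_iff_hasSk_localization] at h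
    exact h.symm

end Algebra

section Stalk

/-- `(S_k)` of the local ring of a locally Noetherian scheme at `z` in terms of the `(S_k)`
inequalities at the generizations of `z`. -/
theorem hasSk_stalk_iff (k : ℕ) (F : Scheme.{u}) [IsLocallyNoetherian F] (z : F) :
    LocCoh.HasSk k (F.presheaf.stalk z) (F.presheaf.stalk z) ↔
      ∀ y : F, y ⤳ z → SkIneq k (F.presheaf.stalk y) := by
  obtain ⟨V, hV, hzV, -⟩ := exists_isAffineOpen_mem_and_subset (x := z) (U := ⊤) trivial
  haveI : IsNoetherianRing Γ(F, V) := IsLocallyNoetherian.component_noetherian ⟨V, hV⟩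
  have hzr : z ∈ Set.range hV.fromSpec := by rw [hV.range_fromSpec]; exact hzV
  obtain ⟨(q : PrimeSpectrum Γ(F, V)), rfl⟩ := hzr
  obtain ⟨e⟩ := Groth.Agent.Lib.Helper24.nonempty_stalk_ringEquiv_localization hV.fromSpec q
  haveI : IsNoetherianRing (Localization.AtPrime q.asIdeal) :=
    IsLocalization.isNoetherianRing q.asIdeal.primeCompl _ inferInstance
  have h1 : LocCoh.HasSk k (F.presheaf.stalk (hV.fromSpec q)) (F.presheaf.stalk (hV.fromSpec q)) ↔
      LocCoh.HasSk k (Localization.AtPrime q.asIdeal) (Localization.AtPrime q.asIdeal) :=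
    ⟨fun h => hasSk_of_ringEquiv e.symm k h, fun h => hasSk_of_ringEquiv e k h⟩
  rw [h1, hasSk_localization_iff_skIneq]
  constructor
  · intro H y hy
    have hyV : y ∈ V := hy.mem_open V.isOpen hzV
    have hyr : y ∈ Set.range hV.fromSpec := by rw [hV.range_fromSpec]; exact hyV
    obtain ⟨(Q : PrimeSpectrum Γ(F, V)), rfl⟩ := hyr
    have hspec : Q ⤳ q := hV.fromSpec.isOpenEmbedding.isInducing.specializes_iff.mp hy
    have hle : Q ≤ q := (PrimeSpectrum.le_iff_specializes Q q).mpr hspec
    obtain ⟨e'⟩ := Groth.Agent.Lib.Helper24.nonempty_stalk_ringEquiv_localization hV.fromSpec Q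
    haveI : IsNoetherianRing (Localization.AtPrime Q.asIdeal) :=
      IsLocalization.isNoetherianRing Q.asIdeal.primeCompl _ inferInstance
    exact (skIneq_iff_of_ringEquiv e'.symm k).mp (H Q.asIdeal hle)
  · intro H Q hQ hle
    have hspec : (⟨Q, hQ⟩ : PrimeSpectrum Γ(F, V)) ⤳ q :=
      (PrimeSpectrum.le_iff_specializes ⟨Q, hQ⟩ q).mp hle
    have hy : hV.fromSpec (⟨Q, hQ⟩ : PrimeSpectrum Γ(F, V)) ⤳ hV.fromSpec q :=
      hspec.map hV.fromSpec.continuous
    obtain ⟨e'⟩ := Groth.Agent.Lib.Helper24.nonempty_stalk_ringEquiv_localization hV.fromSpec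
      (⟨Q, hQ⟩ : PrimeSpectrum Γ(F, V))
    haveI : IsNoetherianRing (F.presheaf.stalk (hV.fromSpec (⟨Q, hQ⟩ : PrimeSpectrum Γ(F, V)))) :=
      inferInstance
    exact (skIneq_iff_of_ringEquiv e' k).mp (H _ hy)

/-- `(S_k)` passes to generizations. -/
theorem hasSk_stalk_of_specializes (k : ℕ) (F : Scheme.{u}) [IsLocallyNoetherian F] {z z' : F}
    (h : z' ⤳ z) (hz : LocCoh.HasSk k (F.presheaf.stalk z) (F.presheaf.stalk z)) :
    LocCoh.HasSk k (F.presheaf.stalk z') (F.presheaf.stalk z') := by
  rw [hasSk_stalk_iff] at hz ⊢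
  exact fun y hy => hz y (hy.trans h)

end Stalk

end Groth.Agent.Lib.Helper13.SkFib
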