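/-
Helper library (helper13): Serre's condition `(S_k)` for the local rings of the fibres of a
morphism, part B: fibrewise formulation via generizations in the fibre, dimension of the fibre
local rings along a closed irreducible subset of a flat family.
-/
import Groth.Agent.Lib.Helper13.SkFibA
import Groth.Agent.Lib.Helper2.GenericFlatness
import Groth.Agent.Lib.Helper29.DepthFlat2

set_option autoImplicit false
open CategoryTheory AlgebraicGeometry Limits
universe u

namespace Groth.Agent.Lib.Helper13.SkFib

open Groth.Agent.Lib.Helper13.CodepthFib Groth.Agent.Lib.Helper13.FibLocProp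
open Groth.Agent.Lib.Helper55 Groth.Agent.Lib.Helper13.CMChart
open Groth.Agent.Lib.Helper29 IsLocalRing TensorProduct Topology TopologicalSpace

/-- The local ring of the fibre of `g` through `x` satisfies `(S_k)`. -/
abbrev SkFib {X U : Scheme.{u}} (g : X ⟶ U) (k : ℕ) (x : X) : Prop :=
  PFib (fun (R : Type u) [CommRing R] => LocCoh.HasSk k R R) g x

/-- The dimension of the local ring of the fibre of `g` through `x`. -/
noncomputable def FD {X U : Scheme.{u}} (g : X ⟶ U) (x : X) : WithBot ℕ∞ :=
  ringKrullDim ((g.fiber (g x)).presheaf.stalk (g.asFiber x))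

section Order

open Order

/-- Chains above `y` in `β` followed by chains above an upper bound `w` of the image of `β`. -/
theorem coheight_add_le_of_strictMono {α β : Type*} [Preorder α] [Preorder β] (φ : β → α)
    (hφ : StrictMono φ) (w : α) (hw : ∀ b, φ b ≤ w) (y : β) :
    coheight y + coheight w ≤ coheight (φ y) := by
  have key : ∀ n : ℕ, ∀ y : β, (n : ℕ∞) ≤ coheight y → (n : ℕ∞) + coheight w ≤ coheight (φ y) := by
    intro n
    induction n with
    | zero =>
      intro y _
      rw [Nat.cast_zero, zero_add]
      exact coheight_anti (hw y)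
    | succ n ih =>
      intro y hy
      have h1 : ¬ coheight y ≤ (n : ℕ∞) := by
        intro h
        have : ((n + 1 : ℕ) : ℕ∞) ≤ (n : ℕ∞) := hy.trans h
        have : n + 1 ≤ n := by exact_mod_cast this
        omega
      rw [coheight_le_coe_iff] at h1
      push_neg at h1
      obtain ⟨y', hy', hn⟩ := h1
      have h2 := ih y' hn
      have h3 := coheight_add_one_le (hφ hy')
      calc ((n + 1 : ℕ) : ℕ∞) + coheight w = ((n : ℕ∞) + coheight w) + 1 := by
            push_cast; ring
        _ ≤ coheight (φ y') + 1 := by gcongr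
        _ ≤ coheight (φ y) := h3
  by_cases htop : coheight y = ⊤
  · have : coheight (φ y) = ⊤ := by
      rw [ENat.eq_top_iff_forall_ge]
      intro n
      exact le_self_add.trans (key n y (by rw [htop]; exact le_top))
    rw [this]
    exact le_top
  · lift coheight y to ℕ using htop with n hn
    exact key n y (by rw [← hn])

end Order

section Fibre

variable {X U : Scheme.{u}} (g : X ⟶ U)

/-- Transport of a property of local rings along an equality of base points. -/
theorem fiber_stalk_transport (Q : ∀ (R : Type u) [CommRing R] [IsLocalRing R], Prop)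
    (s : U) (x : X) (hx : g x = s) (y : ↥(g.fiber s)) (hy : g.fiberι s y = x) :
    Q ((g.fiber s).presheaf.stalk y) ↔ Q ((g.fiber (g x)).presheaf.stalk (g.asFiber x)) := by
  subst hx
  have : y = g.asFiber x := by
    apply (g.fiberι (g x)).isEmbedding.injective
    rw [hy, g.fiberι_asFiber]
  rw [this]

/-- **`(S_k)` of the fibre at `z` in terms of the generizations of `z` in its fibre.** -/
theorem skFib_iff_forall [LocallyOfFiniteType g] (k : ℕ) (z : X) :
    SkFib g k z ↔ ∀ x : X, x ⤳ z → g x = g z →
      ∀ c : ℕ, ¬ CdFib g c x → ((k + c + 1 : ℕ) : WithBot ℕ∞) ≤ FD g x := by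
  haveI := isLocallyNoetherian_fiber g (g z)
  change LocCoh.HasSk k ((g.fiber (g z)).presheaf.stalk (g.asFiber z))
    ((g.fiber (g z)).presheaf.stalk (g.asFiber z)) ↔ _
  rw [hasSk_stalk_iff]
  have hemb := (g.fiberι (g z)).isEmbedding
  let Q : ∀ (R : Type u) [CommRing R] [IsLocalRing R], Prop := fun R _ _ =>
    ∀ c : ℕ, ¬ CdLE R c → ((k + c + 1 : ℕ) : WithBot ℕ∞) ≤ ringKrullDim R
  constructor
  · intro H x hxz hgx c hc
    have hxr : x ∈ Set.range (g.fiberι (g z)) := by
      rw [Scheme.Hom.range_fiberι]
      exact hgx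
    obtain ⟨y, hy⟩ := hxr
    have hyz : y ⤳ g.asFiber z := by
      rw [← hemb.isInducing.specializes_iff, hy, g.fiberι_asFiber]
      exact hxz
    have h1 := H y hyz
    haveI : IsNoetherianRing ((g.fiber (g z)).presheaf.stalk y) := inferInstance
    rw [skIneq_iff_forall_cdLE] at h1
    have h2 := (fiber_stalk_transport g Q (g z) x hgx y hy).mp h1
    exact h2 c hc
  · intro H y hyz
    have hyz' : g.fiberι (g z) y ⤳ z := by
      have := hyz.map (g.fiberι (g z)).continuous
      rw [g.fiberι_asFiber] at this
      exact this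
    have hgy : g (g.fiberι (g z) y) = g z := by
      have : g.fiberι (g z) y ∈ g ⁻¹' {g z} := by
        rw [← Scheme.Hom.range_fiberι]
        exact ⟨y, rfl⟩
      exact this
    haveI : IsNoetherianRing ((g.fiber (g z)).presheaf.stalk y) := inferInstance
    rw [skIneq_iff_forall_cdLE]
    exact (fiber_stalk_transport g Q (g z) _ hgy y rfl).mpr (H _ hyz' hgy)

/-- Dimension formula at a point where `g` is flat. -/
theorem ringKrullDim_stalk_eq_add_fd [LocallyOfFiniteType g] [IsLocallyNoetherian U] (x : X)
    (hflat : (g.stalkMap x).hom.Flat) :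
    ringKrullDim (X.presheaf.stalk x) = ringKrullDim (U.presheaf.stalk (g x)) + FD g x := by
  haveI : IsLocallyNoetherian X := LocallyOfFiniteType.isLocallyNoetherian g
  obtain ⟨E⟩ := nonempty_stalk_fiber_equiv g (g x) (g.asFiber x) x (g.fiberι_asFiber x)
  unfold FD
  rw [← ringKrullDim_eq_of_ringEquiv E]
  algebraize [(g.stalkMap x).hom]
  haveI : IsLocalHom (algebraMap (U.presheaf.stalk (g x)) (X.presheaf.stalk x)) :=
    inferInstanceAs (IsLocalHom (g.stalkMap x).hom)
  exact ringKrullDim_eq_add_of_flat (U.presheaf.stalk (g x)) (X.presheaf.stalk x)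

end Fibre

section Dim

theorem withBot_enat_le_of_add_le_add_left {a p q : WithBot ℕ∞} (ha : a ≠ ⊤) (ha' : a ≠ ⊥)
    (h : a + q ≤ a + p) : q ≤ p := by
  induction a with
  | bot => exact absurd rfl ha'
  | coe a =>
  induction a with
  | top => exact absurd rfl ha
  | coe a =>
  induction p with
  | bot =>
    rw [WithBot.add_bot] at h
    induction q with
    | bot => exact le_rfl
    | coe q => exact absurd h (by rw [← WithBot.coe_add]; exact WithBot.coe_ne_bot ∘ le_bot_iff.mp)
  | coe p =>
  induction q with
  | bot => exact bot_le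
  | coe q =>
  rw [← WithBot.coe_add, ← WithBot.coe_add, WithBot.coe_le_coe] at h
  rw [WithBot.coe_le_coe]
  induction p with
  | top => exact le_top
  | coe p =>
  induction q with
  | top =>
    rw [add_top] at h
    exact absurd h (by
      rw [top_le_iff]
      exact_mod_cast ENat.coe_ne_top (a + p))
  | coe q =>
    have : a + q ≤ a + p := by exact_mod_cast h
    exact_mod_cast (show q ≤ p by omega)

open Order in
/-- **Fibre dimension along an irreducible closed subset.**  Let `g : X ⟶ U` be flat of finite
type over an integral locally Noetherian scheme and `w` a point of the generic fibre.  Over a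
neighbourhood of the generic point of `U`, the fibre local rings at the specializations of `w`
have dimension at least the dimension of the fibre local ring at `w`. -/
theorem exists_open_fd_le {X U : Scheme.{u}} [IsIntegral U] [IsLocallyNoetherian U] (g : X ⟶ U)
    [Flat g] [LocallyOfFiniteType g] [QuasiCompact g] (w : X) (hw : g w = genericPoint U) :
    ∃ UW : U.Opens, genericPoint U ∈ UW ∧ ∀ x : X, w ⤳ x → g x ∈ UW → FD g w ≤ FD g x := by
  haveI : IsLocallyNoetherian X := LocallyOfFiniteType.isLocallyNoetherian g
  let I : X.IdealSheafData :=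
    Scheme.IdealSheafData.vanishingIdeal ⟨closure {w}, isClosed_closure⟩
  let ι : I.subscheme ⟶ X := I.subschemeι
  have hr : Set.range ι = closure {w} := by
    rw [Scheme.IdealSheafData.range_subschemeι, Scheme.IdealSheafData.coe_support_vanishingIdeal]
    rfl
  obtain ⟨UW, hUWd, hUWfl, -⟩ := Groth.Agent.Lib.Helper2.generic_flatness_reduced (ι ≫ g)
  have hηUW : genericPoint U ∈ UW := by
    obtain ⟨t, ht⟩ := hUWd.nonempty
    exact ((genericPoint_spec U).mem_open_set_iff UW.isOpen).mpr ⟨t, trivial, ht⟩
  refine ⟨UW, hηUW, ?_⟩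
  intro x hwx hgx
  have hxr : x ∈ Set.range ι := by
    rw [hr]
    exact specializes_iff_mem_closure.mp hwx
  obtain ⟨x', rfl⟩ := hxr
  haveI : IsLocallyNoetherian I.subscheme := LocallyOfFiniteType.isLocallyNoetherian (ι ≫ g)
  -- flatness of the closed subscheme over `U` at `x'`
  have hx'U : x' ∈ (ι ≫ g) ⁻¹ᵁ UW := hgx
  have h1 := (Flat.iff_flat_stalkMap (f := (ι ≫ g) ∣_ UW)).mp hUWfl ⟨x', hx'U⟩
  have hflW : ((ι ≫ g).stalkMap x').hom.Flat :=
    (RingHom.Flat.respectsIso.arrow_mk_iso_iff
      (morphismRestrictStalkMap (ι ≫ g) UW ⟨x', hx'U⟩)).mp h1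
  -- the dimension formulas
  have hdW : ringKrullDim (I.subscheme.presheaf.stalk x') =
      ringKrullDim (U.presheaf.stalk (g (ι x'))) + FD (ι ≫ g) x' :=
    ringKrullDim_stalk_eq_add_fd (ι ≫ g) x' hflW
  have hdX := ringKrullDim_stalk_eq_add_fd g (ι x') (Flat.stalkMap g _)
  have hdw := ringKrullDim_stalk_eq_add_fd g w (Flat.stalkMap g _)
  have h0 : ringKrullDim (U.presheaf.stalk (g w)) = 0 := by
    rw [hw, ringKrullDim_stalk_eq_coheight]
    have : coheight (genericPoint U) = 0 := coheight_top (α := U)
    rw [this]
    rfl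
  rw [h0, zero_add] at hdw
  -- chains of generizations
  have hmono : StrictMono (ι : I.subscheme → X) := by
    intro a b hab
    rw [lt_iff_le_not_ge, Scheme.le_iff_specializes, Scheme.le_iff_specializes] at hab ⊢
    rw [ι.isEmbedding.isInducing.specializes_iff, ι.isEmbedding.isInducing.specializes_iff]
    exact hab
  have hub : ∀ b : I.subscheme, ι b ≤ w := by
    intro b
    rw [Scheme.le_iff_specializes, specializes_iff_mem_closure, ← hr]
    exact ⟨b, rfl⟩
  have hord := coheight_add_le_of_strictMono (ι : I.subscheme → X) hmono w hub x'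
  have hord' : ringKrullDim (I.subscheme.presheaf.stalk x') + ringKrullDim (X.presheaf.stalk w) ≤
      ringKrullDim (X.presheaf.stalk (ι x')) := by
    rw [ringKrullDim_stalk_eq_coheight, ringKrullDim_stalk_eq_coheight,
      ringKrullDim_stalk_eq_coheight, ← WithBot.coe_add, WithBot.coe_le_coe]
    exact hord
  -- the fibre of the closed subscheme has nonnegative dimension
  have hnn : (0 : WithBot ℕ∞) ≤ FD (ι ≫ g) x' := by
    unfold FD
    haveI := isLocallyNoetherian_fiber (ι ≫ g) ((ι ≫ g) x')
    exact ringKrullDim_nonneg_of_nontrivial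
  have ha : ringKrullDim (U.presheaf.stalk (g (ι x'))) ≤
      ringKrullDim (I.subscheme.presheaf.stalk x') := by
    rw [hdW]
    exact le_add_of_nonneg_right hnn
  refine withBot_enat_le_of_add_le_add_left (a := ringKrullDim (U.presheaf.stalk (g (ι x'))))
    ringKrullDim_ne_top ringKrullDim_ne_bot ?_
  rw [← hdX, ← hdw]
  exact (add_le_add ha le_rfl).trans hord'

end Dim

end Groth.Agent.Lib.Helper13.SkFib
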