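/-
Helper library (helper13): Serre's condition `(S_k)` for the local rings of the fibres of a
morphism, part C: in a flat family over an integral Noetherian base, `(S_k)` at a point of the
generic fibre spreads out to a neighbourhood.
-/
import Groth.Agent.Lib.Helper13.SkFibB
import Groth.Agent.Lib.Helper13.CodepthOpen

set_option autoImplicit false
open CategoryTheory AlgebraicGeometry Limits
universe u

namespace Groth.Agent.Lib.Helper13.SkFib

open Groth.Agent.Lib.Helper13.CodepthFib Groth.Agent.Lib.Helper13.FibLocProp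
open Groth.Agent.Lib.Helper13.CodepthOpen
open Groth.Agent.Lib.Helper55 Groth.Agent.Lib.Helper13.CMChart
open Groth.Agent.Lib.Helper29 IsLocalRing TensorProduct Topology TopologicalSpace

section Spread

variable {X U : Scheme.{u}} [IsIntegral U] [AlgebraicGeometry.IsNoetherian U] (g : X ⟶ U) [Flat g]
  [LocallyOfFinitePresentation g] [QuasiCompact g]

theorem cdLE_mono {R : Type u} [CommRing R] [IsLocalRing R] {c c' : ℕ} (h : c ≤ c')
    (hc : CdLE R c) : CdLE R c' := by
  unfold CdLE at hc ⊢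
  refine hc.trans (add_le_add le_rfl ?_)
  exact_mod_cast h

omit [IsIntegral U] [AlgebraicGeometry.IsNoetherian U] [Flat g] [QuasiCompact g] in
theorem exists_cdFib (x : X) : ∃ c : ℕ, CdFib g c x := by
  haveI := isLocallyNoetherian_fiber g (g x)
  obtain ⟨a, d, ha, hd, hda⟩ :=
    exists_nat_dim_depth ((g.fiber (g x)).presheaf.stalk (g.asFiber x))
  refine ⟨a, ?_⟩
  unfold CdFib CdLE
  rw [ha, hd]
  exact_mod_cast (show a ≤ d + a by omega)

/-- Along an irreducible closed subset, the fibre dimension is bounded below near a point of the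
generic fibre. -/
theorem exists_open_forall_fd_ge (ξ : X) (hξ : g ξ = genericPoint U) (W : Set X)
    (hWc : IsClosed W) (hWi : IsIrreducible W) (m : WithBot ℕ∞)
    (hm : ξ ∈ W → ∀ w, IsGenericPoint w W → m ≤ FD g w) :
    ∃ N : Set X, IsOpen N ∧ ξ ∈ N ∧ ∀ z ∈ N, ∀ x ∈ W, x ⤳ z → g x = g z → m ≤ FD g x := by
  by_cases hξW : ξ ∈ W
  · have hqs : QuasiSober X := inferInstance
    obtain ⟨w, hw⟩ := hqs.sober hWi hWc
    have hwξ : w ⤳ ξ := by
      rw [specializes_iff_mem_closure, hw.def]
      exact hξW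
    have hgw : g w = genericPoint U := by
      have h1 : g w ⤳ genericPoint U := hξ ▸ hwξ.map g.continuous
      have h2 : genericPoint U ⤳ g w := _root_.genericPoint_specializes _
      exact (h1.antisymm h2).eq
    obtain ⟨UW, hηUW, hUW⟩ := exists_open_fd_le g w hgw
    refine ⟨g ⁻¹' (UW : Set U), UW.isOpen.preimage g.continuous, ?_, ?_⟩
    · change g ξ ∈ UW
      rw [hξ]
      exact hηUW
    · intro z hz x hxW _ hgx
      have hwx : w ⤳ x := by
        rw [specializes_iff_mem_closure, hw.def]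
        exact hxW
      have hx : g x ∈ UW := by
        rw [hgx]
        exact hz
      exact (hm hξW w hw).trans (hUW x hwx hx)
  · refine ⟨Wᶜ, hWc.isOpen_compl, hξW, ?_⟩
    intro z hz x hxW hxz _
    exact absurd (hxz.mem_closed hWc hxW) hz

/-- **Spreading out `(S_k)` from the generic fibre.** -/
theorem exists_open_skFib (k : ℕ) (ξ : X) (hξ : g ξ = genericPoint U) (h : SkFib g k ξ) :
    ∃ N : Set X, IsOpen N ∧ ξ ∈ N ∧ ∀ z ∈ N, SkFib g k z := by
  haveI : LocallyOfFiniteType g := inferInstance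
  haveI : IsLocallyNoetherian X := LocallyOfFiniteType.isLocallyNoetherian g
  haveI : CompactSpace X := QuasiCompact.compactSpace_of_compactSpace g
  haveI : AlgebraicGeometry.IsNoetherian X := {}
  haveI : NoetherianSpace X := inferInstance
  -- the codepth is bounded
  have hopen : ∀ c : ℕ, IsOpen {x : X | CdFib g c x} := fun c => isOpen_cdFib_of_flat g c
  obtain ⟨n₀, hn₀⟩ : ∃ n₀ : ℕ, ∀ x : X, CdFib g n₀ x := by
    have hcov : (Set.univ : Set X) ⊆ ⋃ c : ℕ, {x : X | CdFib g c x} := by
      intro x _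
      obtain ⟨c, hc⟩ := exists_cdFib g x
      exact Set.mem_iUnion.mpr ⟨c, hc⟩
    have hdir : Directed (· ⊆ ·) (fun c : ℕ => {x : X | CdFib g c x}) := by
      intro a b
      exact ⟨max a b, fun x hx => cdLE_mono (le_max_left a b) hx,
        fun x hx => cdLE_mono (le_max_right a b) hx⟩
    obtain ⟨n₀, hn₀⟩ := isCompact_univ.elim_directed_cover _ hopen hcov hdir
    exact ⟨n₀, fun x => hn₀ (Set.mem_univ x)⟩
  -- for each `c`, a neighbourhood of `ξ` controlling the points of codepth `> c`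
  have hstep : ∀ c : ℕ, ∃ N : Set X, IsOpen N ∧ ξ ∈ N ∧ ∀ z ∈ N, ∀ x : X, x ⤳ z → g x = g z →
      ¬ CdFib g c x → ((k + c + 1 : ℕ) : WithBot ℕ∞) ≤ FD g x := by
    intro c
    have hZc : IsClosed {x : X | ¬ CdFib g c x} := by
      have : {x : X | ¬ CdFib g c x} = {x : X | CdFib g c x}ᶜ := rfl
      rw [this]
      exact (hopen c).isClosed_compl
    obtain ⟨S, hSf, hSc, hSi, hSU⟩ := NoetherianSpace.exists_finite_set_isClosed_irreducible hZc
    have hW : ∀ W ∈ S, ∃ N : Set X, IsOpen N ∧ ξ ∈ N ∧ ∀ z ∈ N, ∀ x ∈ W, x ⤳ z → g x = g z →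
        ((k + c + 1 : ℕ) : WithBot ℕ∞) ≤ FD g x := by
      intro W hWS
      refine exists_open_forall_fd_ge g ξ hξ W (hSc W hWS) (hSi W hWS) _ ?_
      intro hξW w hw
      have hwξ : w ⤳ ξ := by
        rw [specializes_iff_mem_closure, hw.def]
        exact hξW
      have hgw : g w = g ξ := by
        have h1 : g w ⤳ g ξ := hwξ.map g.continuous
        have h2 : g ξ ⤳ g w := hξ ▸ _root_.genericPoint_specializes _
        exact (h1.antisymm h2).eq
      have hwW : w ∈ W := hw.mem
      have hwc : ¬ CdFib g c w := by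
        have : w ∈ {x : X | ¬ CdFib g c x} := by
          rw [hSU]
          exact Set.mem_sUnion.mpr ⟨W, hWS, hwW⟩
        exact this
      exact (skFib_iff_forall g k ξ).mp h w hwξ hgw c hwc
    choose! N hNo hNξ hN using hW
    refine ⟨⋂ W ∈ S, N W, hSf.isOpen_biInter hNo, Set.mem_iInter₂.mpr hNξ, ?_⟩
    intro z hz x hxz hgx hxc
    have hxZ : x ∈ {x : X | ¬ CdFib g c x} := hxc
    rw [hSU] at hxZ
    obtain ⟨W, hWS, hxW⟩ := Set.mem_sUnion.mp hxZ
    exact hN W hWS z (Set.mem_iInter₂.mp hz W hWS) x hxW hxz hgx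
  choose N hNo hNξ hN using hstep
  refine ⟨⋂ c ∈ Finset.range n₀, N c, isOpen_biInter_finset (fun c _ => hNo c),
    Set.mem_iInter₂.mpr (fun c _ => hNξ c), ?_⟩
  intro z hz
  rw [skFib_iff_forall]
  intro x hxz hgx c hxc
  have hc : c < n₀ := by
    by_contra hcn
    exact hxc (cdLE_mono (not_lt.mp hcn) (hn₀ x))
  exact hN c z (Set.mem_iInter₂.mp hz c (Finset.mem_range.mpr hc)) x hxz hgx hxc

end Spread

end Groth.Agent.Lib.Helper13.SkFib
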