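/-
Helper library (helper13): Serre's condition `(S_k)` for the local rings of the fibres of a
morphism, part D: for a flat morphism locally of finite type over a locally Noetherian base, the
locus where the fibre satisfies `(S_k)` is stable under generization.
-/
import Groth.Agent.Lib.Helper13.SkFibC
import Groth.Agent.Lib.Helper29.DepthQuot

set_option autoImplicit false
open CategoryTheory AlgebraicGeometry Limits
universe u

namespace Groth.Agent.Lib.Helper13.SkFib

open Groth.Agent.Lib.Helper13.CodepthFib Groth.Agent.Lib.Helper13.FibLocProp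
open Groth.Agent.Lib.Helper13.CodepthOpen
open Groth.Agent.Lib.Helper55 Groth.Agent.Lib.Helper13.CMChart
open Groth.Agent.Lib.Helper29 IsLocalRing TensorProduct Topology TopologicalSpace

section Lift

/-- For a Noetherian local ring `A` and a non-zero-divisor `t` in the maximal ideal: if `A/tA`
satisfies `(S_k)`, then `A` satisfies `(S_k)` (proof of S2659, whose catenarity hypothesis is not
used). -/
theorem hasSk_of_hasSk_quotient_span_singleton (k : ℕ) (A : Type u) [CommRing A]
    [IsNoetherianRing A] [IsLocalRing A] (t : A) (ht : t ∈ IsLocalRing.maximalIdeal A)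
    (hreg : t ∈ nonZeroDivisors A)
    (hS : LocCoh.HasSk k (A ⧸ Ideal.span {t}) (A ⧸ Ideal.span {t})) : LocCoh.HasSk k A A := by
  rw [hasSk_self_iff] at hS ⊢
  -- primes containing `t`
  have key1 : ∀ (p : Ideal A) [p.IsPrime], t ∈ p →
      min ((k : ℕ∞) + 1) p.height ≤
        LocCoh.depth (Localization.AtPrime p) (Localization.AtPrime p) := by
    intro p _ htp
    have hIp : Ideal.span {t} ≤ p := (Ideal.span_singleton_le_iff_mem p).mpr htp
    have hP : (p.map (Ideal.Quotient.mk (Ideal.span {t}))).IsPrime :=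
      Ideal.map_isPrime_of_surjective Ideal.Quotient.mk_surjective (by rwa [Ideal.mk_ker])
    have : Module.Flat A (Localization.AtPrime p) := IsLocalization.flat _ p.primeCompl
    have hreg_p : IsSMulRegular (Localization.AtPrime p)
        (algebraMap A (Localization.AtPrime p) t) := by
      have h1 : IsSMulRegular (Localization.AtPrime p) t :=
        Module.Flat.isSMulRegular_of_nonZeroDivisors hreg
      intro a b hab
      apply h1
      simpa [Algebra.smul_def] using hab
    obtain ⟨hd, hh⟩ := depth_and_height_quotient_span_singleton A p t htp hreg_p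
    have h2 := hS (p.map (Ideal.Quotient.mk (Ideal.span {t})))
    rw [← hd, ← hh, min_add_add_right]
    gcongr
  intro p _
  by_cases htp : t ∈ p
  · refine le_trans ?_ (key1 p htp)
    exact min_le_min_right _ le_self_add
  · -- choose a minimal prime `q` over `p + (t)`
    have hJ : p ⊔ Ideal.span {t} ≠ ⊤ := by
      intro h
      have h1 : p ⊔ Ideal.span {t} ≤ IsLocalRing.maximalIdeal A :=
        sup_le (IsLocalRing.le_maximalIdeal (Ideal.IsPrime.ne_top inferInstance))
          ((Ideal.span_singleton_le_iff_mem _).mpr ht)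
      exact (IsLocalRing.maximalIdeal.isMaximal A).ne_top (top_le_iff.mp (h ▸ h1))
    obtain ⟨q, hq⟩ := Ideal.nonempty_minimalPrimes hJ
    have hqprime : q.IsPrime := hq.1.1
    have hpq : p ≤ q := le_sup_left.trans hq.1.2
    have htq : t ∈ q := hq.1.2 (Ideal.mem_sup_right (Ideal.mem_span_singleton_self t))
    have hlt : p < q := lt_of_le_of_ne hpq (fun h => htp (h ▸ htq))
    -- `ht(q/p) ≤ 1`
    have hq' : q.map (Ideal.Quotient.mk p) ∈
        ((Ideal.span {t}).map (Ideal.Quotient.mk p)).minimalPrimes := by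
      rw [Ideal.minimalPrimes_map_of_surjective Ideal.Quotient.mk_surjective, Ideal.mk_ker,
        sup_comm]
      exact ⟨q, hq, rfl⟩
    have hprinc : ((Ideal.span {t}).map (Ideal.Quotient.mk p)).IsPrincipal := by
      rw [Ideal.map_span, Set.image_singleton]
      exact ⟨⟨_, rfl⟩⟩
    have hht1 : (q.map (Ideal.Quotient.mk p)).height ≤ 1 :=
      Ideal.height_le_one_of_isPrincipal_of_mem_minimalPrimes _ _ hq'
    have h1 := depth_localization_le_depth_localization_add_height A hpq A
    rw [depth_localizedModule_self, depth_localizedModule_self] at h1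
    have h2 := key1 q htq
    have h3 : p.height + 1 ≤ q.height := Ideal.height_add_one_le_of_lt_of_isPrime hlt
    have h4 : min (k : ℕ∞) p.height + 1 ≤
        LocCoh.depth (Localization.AtPrime p) (Localization.AtPrime p) + 1 := by
      calc min (k : ℕ∞) p.height + 1 = min ((k : ℕ∞) + 1) (p.height + 1) :=
            (min_add_add_right _ _ _).symm
        _ ≤ min ((k : ℕ∞) + 1) q.height := min_le_min_left _ h3
        _ ≤ _ := h2
        _ ≤ _ := h1
        _ ≤ _ := by gcongr
    exact (ENat.add_le_add_iff_right ENat.one_ne_top).mp h4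

/-- Flat local homomorphism from a local domain with principal maximal ideal: `(S_k)` lifts from
the closed fibre. -/
theorem hasSk_of_hasSk_closedFibre (k : ℕ) {A B : Type u} [CommRing A] [CommRing B]
    [IsLocalRing A] [IsLocalRing B] [IsDomain A] [IsNoetherianRing B] (φ : A →+* B)
    [IsLocalHom φ] (hφ : φ.Flat) (a : A) (ha : maximalIdeal A = Ideal.span {a})
    (hS : LocCoh.HasSk k (B ⧸ Ideal.map φ (maximalIdeal A)) (B ⧸ Ideal.map φ (maximalIdeal A))) :
    LocCoh.HasSk k B B := by
  by_cases ha0 : a = 0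
  · have h0 : Ideal.map φ (maximalIdeal A) = ⊥ := by
      rw [ha, ha0, Ideal.map_span, Set.image_singleton, map_zero]
      exact Ideal.span_singleton_eq_bot.mpr rfl
    have e : (B ⧸ Ideal.map φ (maximalIdeal A)) ≃+* B :=
      (Ideal.quotEquivOfEq h0).trans (RingEquiv.quotientBot B)
    exact hasSk_of_ringEquiv e.symm k hS
  · have hmap : Ideal.map φ (maximalIdeal A) = Ideal.span {φ a} := by
      rw [ha, Ideal.map_span, Set.image_singleton]
    have hmem : φ a ∈ maximalIdeal B := by
      have h1 : a ∈ maximalIdeal A := by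
        rw [ha]
        exact Ideal.mem_span_singleton_self a
      exact (IsLocalRing.map_maximalIdeal_le φ) (Ideal.mem_map_of_mem φ h1)
    have hreg : φ a ∈ nonZeroDivisors B := by
      algebraize [φ]
      have h1 : IsSMulRegular B a :=
        Module.Flat.isSMulRegular_of_nonZeroDivisors (mem_nonZeroDivisors_of_ne_zero ha0)
      rw [mem_nonZeroDivisors_iff_right]
      intro b hb
      apply h1
      change a • b = a • 0
      rw [smul_zero, Algebra.smul_def, mul_comm]
      exact hb
    have e : (B ⧸ Ideal.map φ (maximalIdeal A)) ≃+* (B ⧸ Ideal.span {φ a}) :=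
      Ideal.quotEquivOfEq hmap
    haveI : IsNoetherianRing (B ⧸ Ideal.map φ (maximalIdeal A)) := inferInstance
    exact hasSk_of_hasSk_quotient_span_singleton k B (φ a) hmem hreg
      (hasSk_of_ringEquiv e.symm k hS)

end Lift

section Gen

theorem skFib_iff_quot {X S : Scheme.{u}} (f : X ⟶ S) [LocallyOfFiniteType f] (k : ℕ) (x : X) :
    SkFib f k x ↔ LocCoh.HasSk k (X.presheaf.stalk x ⧸
      Ideal.map (f.stalkMap x).hom (maximalIdeal (S.presheaf.stalk (f x))))
      (X.presheaf.stalk x ⧸
      Ideal.map (f.stalkMap x).hom (maximalIdeal (S.presheaf.stalk (f x)))) :=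
  pFib_iff_quot (fieldInv_hasSk k).toIsoInv f x

/-- The maximal ideal of a stalk of `Spec R` is generated by the prime. -/
theorem exists_maximalIdeal_stalk_Spec (R : Type u) [CommRing R] (y : Spec (CommRingCat.of R)) :
    ∃ ψ : R →+* ((Spec (CommRingCat.of R)).presheaf.stalk y),
      maximalIdeal ((Spec (CommRingCat.of R)).presheaf.stalk y) = Ideal.map ψ y.asIdeal := by
  let _ : Algebra R ((Spec (CommRingCat.of R)).presheaf.stalk y) :=
    StructureSheaf.stalkAlgebra R y
  have : IsLocalization.AtPrime ((Spec (CommRingCat.of R)).presheaf.stalk y) y.asIdeal :=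
    StructureSheaf.IsLocalization.to_stalk R y
  exact ⟨algebraMap R _, (IsLocalization.AtPrime.map_eq_maximalIdeal y.asIdeal _).symm⟩

/-- **Generization**: for a flat morphism locally of finite type over a locally Noetherian base,
the locus where the fibre satisfies `(S_k)` is stable under generization. -/
theorem stableUnderGeneralization_skFib {X₀ S : Scheme.{u}} [IsLocallyNoetherian S]
    (f₀ : X₀ ⟶ S) [LocallyOfFiniteType f₀] [Flat f₀] (k : ℕ) :
    StableUnderGeneralization {x : X₀ | SkFib f₀ k x} := by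
  haveI hX₀ : IsLocallyNoetherian X₀ := LocallyOfFiniteType.isLocallyNoetherian f₀
  intro x x' hxx' hx
  by_cases hne : x' = x
  · rw [hne]; exact hx
  obtain ⟨U, hU, hxU, -⟩ := exists_isAffineOpen_mem_and_subset (x := x) (U := ⊤) trivial
  have hx'U : x' ∈ U := hxx'.mem_open U.isOpen hxU
  have hxr : x ∈ Set.range hU.fromSpec := by rw [hU.range_fromSpec]; exact hxU
  have hxr' : x' ∈ Set.range hU.fromSpec := by rw [hU.range_fromSpec]; exact hx'U
  obtain ⟨(p : PrimeSpectrum Γ(X₀, U)), hp⟩ := hxr
  obtain ⟨(p' : PrimeSpectrum Γ(X₀, U)), hp'⟩ := hxr'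
  haveI : IsNoetherianRing Γ(X₀, U) := IsLocallyNoetherian.component_noetherian ⟨U, hU⟩
  have hspec : p' ⤳ p := by
    have h0 : hU.fromSpec p' ⤳ hU.fromSpec p := by rw [hp, hp']; exact hxx'
    exact hU.fromSpec.isOpenEmbedding.isInducing.specializes_iff.mp h0
  have hle : p' ≤ p := (PrimeSpectrum.le_iff_specializes p' p).mpr hspec
  have hlt : p' < p := lt_of_le_of_ne hle (fun e => hne (by rw [← hp', ← hp, e]))
  obtain ⟨R, _, _, _, _, h1, h2⟩ := Groth.Agent.Lib.Helper12.FlatCx.exists_dvr_of_lt p' p hlt
  let h : Spec (CommRingCat.of R) ⟶ X₀ :=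
    Spec.map (CommRingCat.ofHom (algebraMap Γ(X₀, U) R)) ≫ hU.fromSpec
  let g : Spec (CommRingCat.of R) ⟶ S := h ≫ f₀
  let σ : Spec (CommRingCat.of R) ⟶ pullback f₀ g := pullback.lift h (𝟙 _) (by simp [g])
  have hσ1 : σ ≫ pullback.fst f₀ g = h := pullback.lift_fst _ _ _
  have hσ2 : σ ≫ pullback.snd f₀ g = 𝟙 _ := pullback.lift_snd _ _ _
  let c : Spec (CommRingCat.of R) := closedPoint R
  let η : Spec (CommRingCat.of R) := (⊥ : PrimeSpectrum R)
  have hhc : h c = x := by
    change hU.fromSpec (PrimeSpectrum.comap (algebraMap Γ(X₀, U) R) (closedPoint R)) = x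
    rw [h2, hp]
  have hhη : h η = x' := by
    change hU.fromSpec (PrimeSpectrum.comap (algebraMap Γ(X₀, U) R) ⊥) = x'
    rw [h1, hp']
  have hz : pullback.fst f₀ g (σ c) = x := by
    rw [← Scheme.Hom.comp_apply, hσ1, hhc]
  have hz' : pullback.fst f₀ g (σ η) = x' := by
    rw [← Scheme.Hom.comp_apply, hσ1, hhη]
  have hsc : pullback.snd f₀ g (σ c) = c := by
    rw [← Scheme.Hom.comp_apply, hσ2]
    rfl
  have hsη : pullback.snd f₀ g (σ η) = η := by
    rw [← Scheme.Hom.comp_apply, hσ2]
    rfl
  have hpb : ∀ w, SkFib (pullback.snd f₀ g) k w ↔ SkFib f₀ k (pullback.fst f₀ g w) :=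
    fun w => pFib_iff_of_isPullback (fieldInv_hasSk k) (IsPullback.of_hasPullback f₀ g) w
  haveI : IsLocallyNoetherian (pullback f₀ g) :=
    LocallyOfFiniteType.isLocallyNoetherian (pullback.snd f₀ g)
  have hηc : η ⤳ c := (PrimeSpectrum.le_iff_specializes _ _).mp bot_le
  have hσs : σ η ⤳ σ c := hηc.map σ.continuous
  -- the closed fibre is `(S_k)` at `σ c`
  have hzE : SkFib (pullback.snd f₀ g) k (σ c) := by
    rw [hpb, hz]; exact hx
  -- hence so is the total space
  have hS1 : LocCoh.HasSk k ((pullback f₀ g).presheaf.stalk (σ c))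
      ((pullback f₀ g).presheaf.stalk (σ c)) := by
    rw [skFib_iff_quot] at hzE
    obtain ⟨ψ, hψ⟩ := exists_maximalIdeal_stalk_Spec R (pullback.snd f₀ g (σ c))
    obtain ⟨ϖ, hϖ⟩ := IsDiscreteValuationRing.exists_irreducible R
    have hI : (pullback.snd f₀ g (σ c)).asIdeal = maximalIdeal R := by
      rw [hsc]
      rfl
    have hm : maximalIdeal ((Spec (CommRingCat.of R)).presheaf.stalk (pullback.snd f₀ g (σ c))) =
        Ideal.span {ψ ϖ} := by
      rw [hψ, hI, hϖ.maximalIdeal_eq, Ideal.map_span, Set.image_singleton]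
    exact hasSk_of_hasSk_closedFibre k ((pullback.snd f₀ g).stalkMap (σ c)).hom
      (Flat.stalkMap _ _) (ψ ϖ) hm hzE
  -- and so are its generizations
  have hS2 := hasSk_stalk_of_specializes k (pullback f₀ g) hσs hS1
  -- the generic fibre
  have hz'E : SkFib (pullback.snd f₀ g) k (σ η) := by
    rw [skFib_iff_quot]
    obtain ⟨ψ, hψ⟩ := exists_maximalIdeal_stalk_Spec R (pullback.snd f₀ g (σ η))
    have hI : (pullback.snd f₀ g (σ η)).asIdeal = ⊥ := by
      rw [hsη]
      rfl
    have h0 : Ideal.map ((pullback.snd f₀ g).stalkMap (σ η)).hom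
        (maximalIdeal ((Spec (CommRingCat.of R)).presheaf.stalk (pullback.snd f₀ g (σ η)))) = ⊥ := by
      rw [hψ, hI, Ideal.map_bot, Ideal.map_bot]
    let e : ((pullback f₀ g).presheaf.stalk (σ η) ⧸
        Ideal.map ((pullback.snd f₀ g).stalkMap (σ η)).hom
          (maximalIdeal ((Spec (CommRingCat.of R)).presheaf.stalk (pullback.snd f₀ g (σ η))))) ≃+*
        (pullback f₀ g).presheaf.stalk (σ η) :=
      (Ideal.quotEquivOfEq h0).trans (RingEquiv.quotientBot _)
    exact hasSk_of_ringEquiv e k hS2
  have := (hpb (σ η)).mp hz'E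
  rw [hz'] at this
  exact this

end Gen

end Groth.Agent.Lib.Helper13.SkFib
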