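/-
Helper library (helper13): Serre's condition `(S_k)` for the local rings of the fibres of a
morphism, part E: constructibility (EGA IV 9.9.3) and openness in the flat case (EGA IV 12.1.6).
-/
import Groth.Agent.Lib.Helper13.SkFibD

set_option autoImplicit false
open CategoryTheory AlgebraicGeometry Limits
universe u

namespace Groth.Agent.Lib.Helper13.SkFib

open Groth.Agent.Lib.Helper13.CodepthFib Groth.Agent.Lib.Helper13.FibLocProp
open Groth.Agent.Lib.Helper13.CodepthOpen
open Groth.Agent.Lib.Helper55 Groth.Agent.Lib.Helper13.CMChart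
open Groth.Agent.Lib.Helper29 IsLocalRing TensorProduct Topology TopologicalSpace

section Constructible

/-- **Noetherian case**: the locus where the fibre satisfies `(S_k)` is constructible. -/
theorem isConstructible_skFib_noeth {X₀ : Scheme.{u}} (A₀ : CommRingCat.{u}) [IsNoetherianRing A₀]
    (f₀ : X₀ ⟶ Spec A₀) [LocallyOfFiniteType f₀] [QuasiCompact f₀] (k : ℕ) :
    IsConstructible {x : X₀ | SkFib f₀ k x} := by
  haveI hX₀ : IsLocallyNoetherian X₀ := LocallyOfFiniteType.isLocallyNoetherian f₀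
  haveI : CompactSpace X₀ := QuasiCompact.compactSpace_of_compactSpace f₀
  haveI : AlgebraicGeometry.IsNoetherian X₀ := {}
  haveI : TopologicalSpace.NoetherianSpace X₀ := inferInstance
  rw [Groth.Agent.Lib.Helper12.ConstrTop.isConstructible_iff_forall_irreducible_closed]
  intro Z hZc hZi
  have hqs : QuasiSober X₀ := inferInstance
  obtain ⟨ξ, hξ⟩ := hqs.sober hZi hZc
  let η : PrimeSpectrum A₀ := f₀ ξ
  let P : Ideal A₀ := η.asIdeal
  let iT : Spec (CommRingCat.of (A₀ ⧸ P)) ⟶ Spec A₀ :=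
    Spec.map (CommRingCat.ofHom (Ideal.Quotient.mk P))
  haveI hiT : IsClosedImmersion iT :=
    IsClosedImmersion.spec_of_surjective _ Ideal.Quotient.mk_surjective
  haveI : IsDomain (A₀ ⧸ P) := Ideal.Quotient.isDomain P
  haveI : IsIntegral (Spec (CommRingCat.of (A₀ ⧸ P))) := inferInstance
  haveI : IsNoetherianRing (A₀ ⧸ P) := inferInstance
  haveI : IsLocallyNoetherian (Spec (CommRingCat.of (A₀ ⧸ P))) := inferInstance
  let fT := pullback.snd f₀ iT
  let jT := pullback.fst f₀ iT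
  obtain ⟨U, hUd, hUfl, hUfp⟩ := Groth.Agent.Lib.Helper2.generic_flatness_reduced fT
  let X' : (pullback f₀ iT).Opens := fT ⁻¹ᵁ U
  let g : (X' : Scheme.{u}) ⟶ (U : Scheme.{u}) := fT ∣_ U
  let j : (X' : Scheme.{u}) ⟶ X₀ := X'.ι ≫ jT
  have hpb : IsPullback j g f₀ (U.ι ≫ iT) :=
    (isPullback_morphismRestrict fT U).flip.paste_horiz (IsPullback.of_hasPullback f₀ iT)
  haveI : IsLocallyNoetherian (U : Scheme.{u}) :=
    LocallyOfFiniteType.isLocallyNoetherian U.ι
  haveI : CompactSpace (U : Scheme.{u}) :=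
    isCompact_iff_compactSpace.mp (TopologicalSpace.NoetherianSpace.isCompact _)
  haveI : AlgebraicGeometry.IsNoetherian (U : Scheme.{u}) := {}
  haveI : Nonempty (U : Scheme.{u}) := by
    obtain ⟨t, ht⟩ := hUd.nonempty
    exact ⟨⟨t, ht⟩⟩
  haveI : IsIntegral (U : Scheme.{u}) := inferInstance
  haveI : Flat g := hUfl
  haveI : LocallyOfFinitePresentation g := hUfp
  haveI : LocallyOfFiniteType g := inferInstance
  haveI : QuasiCompact g := inferInstance
  have hW : ∀ x' : (X' : Scheme.{u}), SkFib g k x' ↔ SkFib f₀ k (j x') := fun x' =>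
    pFib_iff_of_isPullback (fieldInv_hasSk k) hpb x'
  -- topology
  have hξmem : ξ ∈ Z := hξ.mem
  have hj : IsEmbedding j := by
    have h1 : IsEmbedding jT := jT.isClosedEmbedding.isEmbedding
    have h2 : IsEmbedding X'.ι := X'.ι.isOpenEmbedding.isEmbedding
    exact h1.comp h2
  have hiTe : IsEmbedding iT := iT.isClosedEmbedding.isEmbedding
  obtain ⟨D₀, hD₀, hD₀U⟩ := hiTe.isInducing.isOpen_iff.mp U.2
  let D : Set X₀ := f₀ ⁻¹' D₀
  have hD : IsOpen D := hD₀.preimage f₀.continuous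
  have hrange : Set.range iT = PrimeSpectrum.zeroLocus (P : Set A₀) := by
    have := range_comap_of_surjective _ (Ideal.Quotient.mk P)
      Ideal.Quotient.mk_surjective
    rw [Ideal.mk_ker] at this
    exact this
  have hA : ∀ z ∈ Z, z ∈ D → ∃ x' : (X' : Scheme.{u}), j x' = z := by
    intro z hzZ hzD
    have hs : ξ ⤳ z := by
      rw [specializes_iff_mem_closure, hξ.def]
      exact hzZ
    have hs' : η ⤳ f₀ z := hs.map f₀.continuous
    have hmem : f₀ z ∈ Set.range iT := by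
      rw [hrange]
      exact (PrimeSpectrum.le_iff_specializes η (f₀ z)).mpr hs'
    obtain ⟨t, ht⟩ := hmem
    have htU : t ∈ (U : Set ↥(Spec (CommRingCat.of (A₀ ⧸ P)))) := by
      have : t ∈ iT ⁻¹' D₀ := by
        rw [Set.mem_preimage, ht]
        exact hzD
      rw [hD₀U] at this
      exact this
    obtain ⟨x', hx'1, -⟩ := Groth.Agent.Lib.Helper13.CMCons.exists_preimage_of_isPullback hpb z
      ⟨t, htU⟩ (by rw [Scheme.Hom.comp_apply]; exact ht.symm)
    exact ⟨x', hx'1⟩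
  have hξD : ξ ∈ D := by
    obtain ⟨t₁, ht₁U⟩ := hUd.nonempty
    have hgenU : genericPoint ↥(Spec (CommRingCat.of (A₀ ⧸ P))) ∈
        (U : Set ↥(Spec (CommRingCat.of (A₀ ⧸ P)))) :=
      ((genericPoint_spec ↥(Spec (CommRingCat.of (A₀ ⧸ P)))).mem_open_set_iff U.2).mpr
        ⟨t₁, trivial, ht₁U⟩
    have h1 : iT (genericPoint ↥(Spec (CommRingCat.of (A₀ ⧸ P)))) ∈ D₀ := by
      have : genericPoint ↥(Spec (CommRingCat.of (A₀ ⧸ P))) ∈ iT ⁻¹' D₀ := by
        rw [hD₀U]
        exact hgenU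
      exact this
    have h2 : η ⤳ iT (genericPoint ↥(Spec (CommRingCat.of (A₀ ⧸ P)))) := by
      rw [← PrimeSpectrum.le_iff_specializes]
      have : iT (genericPoint ↥(Spec (CommRingCat.of (A₀ ⧸ P)))) ∈ Set.range iT := ⟨_, rfl⟩
      rw [hrange] at this
      exact this
    exact h2.mem_open hD₀ h1
  obtain ⟨ξ', hξ'⟩ := hA ξ hξmem hξD
  -- `ξ'` lies over the generic point of `U`
  have hgξ' : g ξ' = genericPoint (U : Scheme.{u}) := by
    have hemb : IsEmbedding (U.ι ≫ iT) := hiTe.comp U.ι.isOpenEmbedding.isEmbedding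
    have hη : (U.ι ≫ iT) (g ξ') = η := by
      have h := congr(($(hpb.w)) ξ')
      change f₀ (j ξ') = (U.ι ≫ iT) (g ξ') at h
      rw [hξ'] at h
      exact h.symm
    have hgen : IsGenericPoint (g ξ') (⊤ : Set (U : Scheme.{u})) := by
      rw [IsGenericPoint, Set.top_eq_univ, Set.eq_univ_iff_forall]
      intro u
      rw [← specializes_iff_mem_closure, ← hemb.isInducing.specializes_iff, hη]
      have : (U.ι ≫ iT) u ∈ Set.range iT := ⟨U.ι u, rfl⟩
      rw [hrange] at this
      exact (PrimeSpectrum.le_iff_specializes η ((U.ι ≫ iT) u)).mp this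
    exact hgen.eq (genericPoint_spec (U : Scheme.{u}))
  by_cases hξE : SkFib f₀ k ξ
  · right
    obtain ⟨N, hNo, hξ'N, hN⟩ := exists_open_skFib g k ξ' hgξ' ((hW ξ').mpr (hξ' ▸ hξE))
    obtain ⟨O, hO, hON⟩ := hj.isInducing.isOpen_iff.mp hNo
    have hξO : ξ ∈ O := by
      have : ξ' ∈ j ⁻¹' O := by rw [hON]; exact hξ'N
      rw [Set.mem_preimage, hξ'] at this
      exact this
    refine ⟨D ∩ O, hD.inter hO, ⟨ξ, ⟨hξD, hξO⟩, hξmem⟩, ?_⟩
    rintro z ⟨⟨hzD, hzO⟩, hzZ⟩
    obtain ⟨x', rfl⟩ := hA z hzZ hzD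
    have : x' ∈ N := by
      rw [← hON]
      exact hzO
    exact (hW x').mp (hN x' this)
  · left
    have hsub : (Subtype.val ⁻¹' {x | SkFib f₀ k x} : Set Z) ⊆ (Subtype.val ⁻¹' D : Set Z)ᶜ := by
      rintro ⟨z, hzZ⟩ hzE hzD
      obtain ⟨x', hx'⟩ := hA z hzZ hzD
      have hs : ξ ⤳ z := by
        rw [specializes_iff_mem_closure, hξ.def]
        exact hzZ
      have hs' : ξ' ⤳ x' := by
        rw [← hj.isInducing.specializes_iff, hξ', hx']
        exact hs
      have h1 : SkFib g k x' := (hW x').mpr (by rw [hx']; exact hzE)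
      have h2 : SkFib g k ξ' := stableUnderGeneralization_skFib g k hs' h1
      exact hξE (hξ' ▸ (hW ξ').mp h2)
    have hopenD : IsOpen (Subtype.val ⁻¹' D : Set Z) := hD.preimage continuous_subtype_val
    have hdense : Dense (Subtype.val ⁻¹' D : Set Z) := by
      haveI : IrreducibleSpace Z := (isIrreducible_iff_irreducibleSpace (s := Z)).1 hZi
      exact hopenD.dense ⟨⟨ξ, hξmem⟩, hξD⟩
    have hnd : IsNowhereDense ((Subtype.val ⁻¹' D : Set Z)ᶜ) := by
      rw [hopenD.isClosed_compl.isNowhereDense_iff, interior_compl, hdense.closure_eq,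
        Set.compl_univ]
    exact hnd.mono hsub

end Constructible

section Assembly

open Groth.Agent.Lib.Helper23

/-- **EGA IV 9.9.3 (`(S_k)`)**: for `f` locally of finite presentation, the set of points at which
the local ring of the fibre satisfies `(S_k)` is locally constructible. -/
theorem isLocallyConstructible_skFib {X S : Scheme.{u}} (f : X ⟶ S)
    [LocallyOfFinitePresentation f] (k : ℕ) : IsLocallyConstructible {x : X | SkFib f k x} := by
  intro x₀
  obtain ⟨W, hW, hx₀W, -⟩ := exists_isAffineOpen_mem_and_subset (x := f x₀) (U := ⊤) trivial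
  obtain ⟨V, hV, hx₀V, eV⟩ := exists_isAffineOpen_mem_and_subset (x := x₀) (U := f ⁻¹ᵁ W) hx₀W
  refine ⟨V, V.2.mem_nhds hx₀V, V.2, ?_⟩
  let f₁ : (V : Scheme.{u}) ⟶ (W : Scheme.{u}) := f.resLE W V eV
  have hf₁ : f₁ ≫ W.ι = V.ι ≫ f := Scheme.Hom.resLE_comp_ι f eV
  haveI : IsAffine (V : Scheme.{u}) := hV
  haveI : IsAffine (W : Scheme.{u}) := hW
  haveI hf₁fp : LocallyOfFinitePresentation f₁ := inferInstance
  haveI hf₁qc : QuasiCompact f₁ := inferInstance
  haveI hf₁qs : QuasiSeparated f₁ := inferInstance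
  obtain ⟨i, X₀, f₀, q, hf₀fp, hf₀qc, hf₀qs, hpb⟩ := descends_noeth f₁
  let f₀' : X₀ ⟶ Spec (noethRing (W : Scheme.{u}) i) := f₀
  haveI hf₀'fp : LocallyOfFinitePresentation f₀' := hf₀fp
  haveI hf₀'qc : QuasiCompact f₀' := hf₀qc
  haveI hf₀lft : LocallyOfFiniteType f₀' := inferInstance
  have hpb' : IsPullback q f₁ f₀' ((noethCone (W : Scheme.{u})).π.app i) := hpb
  haveI : IsNoetherianRing (noethRing (W : Scheme.{u}) i) :=
    (quotReg_noethRing _ i).isNoetherianRing
  have hcons := isConstructible_skFib_noeth (noethRing (W : Scheme.{u}) i) f₀' k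
  have hpre := q.isConstructible_preimage hcons
  have hset : ((Subtype.val : ↥V → X) ⁻¹' {x | SkFib f k x}) =
      (q : ↥(V : Scheme.{u}) → X₀) ⁻¹' {x | SkFib f₀' k x} := by
    ext z
    exact (pFib_iff_of_openImmersion_square (fieldInv_hasSk k).toIsoInv V.ι W.ι f₁ f hf₁ z).symm.trans
      (pFib_iff_of_isPullback (fieldInv_hasSk k) hpb' z)
  rw [← hset] at hpre
  exact hpre

/-- **Noetherian case**: for a flat morphism of finite type to the spectrum of a Noetherian ring,
the locus where the fibre satisfies `(S_k)` is open. -/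
theorem isOpen_skFib_of_flat_noeth {X₀ : Scheme.{u}} (A₀ : CommRingCat.{u}) [IsNoetherianRing A₀]
    (f₀ : X₀ ⟶ Spec A₀) [LocallyOfFiniteType f₀] [QuasiCompact f₀] [Flat f₀]
    (k : ℕ) : IsOpen {x : X₀ | SkFib f₀ k x} :=
  Groth.Agent.Lib.Helper23.FlatFibreDim.isOpen_of_isLocallyConstructible_of_stableUnderGeneralization
    (isConstructible_skFib_noeth A₀ f₀ k).isLocallyConstructible
    (stableUnderGeneralization_skFib f₀ k)

/-- **EGA IV 12.1.6, flat case**: for a flat morphism locally of finite presentation, the locus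
where the fibre satisfies `(S_k)` is open. -/
theorem isOpen_skFib_of_flat {X Y : Scheme.{u}} (g : X ⟶ Y) [Flat g]
    [LocallyOfFinitePresentation g] (k : ℕ) : IsOpen {x : X | SkFib g k x} := by
  rw [isOpen_iff_forall_mem_open]
  intro x₀ hx₀
  obtain ⟨W, hW, hx₀W, -⟩ := exists_isAffineOpen_mem_and_subset (x := g x₀) (U := ⊤) trivial
  obtain ⟨V, hV, hx₀V, eV⟩ := exists_isAffineOpen_mem_and_subset (x := x₀) (U := g ⁻¹ᵁ W) hx₀W
  suffices h : IsOpen ((Subtype.val : ↥V → X) ⁻¹' {x | SkFib g k x}) by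
    refine ⟨Subtype.val '' ((Subtype.val : ↥V → X) ⁻¹' {x | SkFib g k x}), ?_,
      V.2.isOpenMap_subtype_val _ h, ⟨⟨x₀, hx₀V⟩, hx₀, rfl⟩⟩
    rintro _ ⟨z, hz, rfl⟩
    exact hz
  let f₁ : (V : Scheme.{u}) ⟶ (W : Scheme.{u}) := g.resLE W V eV
  have hf₁ : f₁ ≫ W.ι = V.ι ≫ g := Scheme.Hom.resLE_comp_ι g eV
  haveI : IsAffine (V : Scheme.{u}) := hV
  haveI : IsAffine (W : Scheme.{u}) := hW
  haveI hf₁fp : LocallyOfFinitePresentation f₁ := inferInstance
  haveI hf₁qc : QuasiCompact f₁ := inferInstance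
  haveI hf₁qs : QuasiSeparated f₁ := inferInstance
  haveI hf₁fl : Flat f₁ := inferInstance
  obtain ⟨i, X₀, f₀, q, hf₀fp, hf₀qc, hf₀qs, hpb⟩ := descends_noeth f₁
  haveI : CompactSpace X₀ := QuasiCompact.compactSpace_of_compactSpace f₀
  haveI : QuasiSeparatedSpace X₀ := quasiSeparatedSpace_of_quasiSeparated f₀
  have hY : IsPullback ((noethCone (W : Scheme.{u})).π.app i) (𝟙 (noethCone (W : Scheme.{u})).pt)
      (𝟙 ((noethDiagram (W : Scheme.{u})).obj i)) ((noethCone (W : Scheme.{u})).π.app i) :=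
    IsPullback.of_id_snd
  obtain ⟨j, φ, Xj, Yj, fj, gj, pY, pX, hY2, hX2, hfl⟩ :=
    Groth.Agent.S2075.result (noethDiagram (W : Scheme.{u})) (noethCone (W : Scheme.{u}))
      (isLimitNoethCone (W : Scheme.{u})) i f₀ (𝟙 ((noethDiagram (W : Scheme.{u})).obj i)) f₁
      (𝟙 (noethCone (W : Scheme.{u})).pt) ((noethCone (W : Scheme.{u})).π.app i) q hY hpb
  haveI : IsIso gj := hY2.isIso_snd_of_isIso
  haveI : LocallyOfFinitePresentation fj :=
    MorphismProperty.of_isPullback (P := @LocallyOfFinitePresentation) hX2 hf₀fp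
  haveI : QuasiCompact fj := MorphismProperty.of_isPullback (P := @QuasiCompact) hX2 hf₀qc
  have hXj : IsPullback pX (fj ≫ gj) f₀ ((noethDiagram (W : Scheme.{u})).map φ) :=
    IsPullback.of_iso hX2 (Iso.refl _) (Iso.refl _) (asIso gj) (Iso.refl _) (by simp)
      (by simp) (by simp) (by simpa using hY2.w)
  have hpb2 : IsPullback q f₁ f₀ ((noethCone (W : Scheme.{u})).π.app j ≫
      (noethDiagram (W : Scheme.{u})).map φ) :=
    (congrArg (IsPullback q f₁ f₀) ((noethCone (W : Scheme.{u})).w φ)).mpr hpb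
  obtain ⟨qj, hqj⟩ : ∃ qj : (V : Scheme.{u}) ⟶ Xj,
      IsPullback qj f₁ (fj ≫ gj) ((noethCone (W : Scheme.{u})).π.app j) :=
    ⟨_, IsPullback.of_right' hpb2 hXj⟩
  let fj' : Xj ⟶ Spec (noethRing (W : Scheme.{u}) j) := fj ≫ gj
  haveI : LocallyOfFinitePresentation fj' :=
    inferInstanceAs (LocallyOfFinitePresentation (fj ≫ gj))
  haveI : LocallyOfFiniteType fj' := inferInstance
  haveI : QuasiCompact fj' := inferInstanceAs (QuasiCompact (fj ≫ gj))
  haveI : Flat fj' := inferInstanceAs (Flat (fj ≫ gj))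
  have hqj' : IsPullback qj f₁ fj' ((noethCone (W : Scheme.{u})).π.app j) := hqj
  haveI : IsNoetherianRing (noethRing (W : Scheme.{u}) j) :=
    (quotReg_noethRing _ j).isNoetherianRing
  have hopen := isOpen_skFib_of_flat_noeth (noethRing (W : Scheme.{u}) j) fj' k
  have hset : ((Subtype.val : ↥V → X) ⁻¹' {x | SkFib g k x}) =
      (qj : ↥(V : Scheme.{u}) → Xj) ⁻¹' {x | SkFib fj' k x} := by
    ext z
    exact (pFib_iff_of_openImmersion_square (fieldInv_hasSk k).toIsoInv V.ι W.ι f₁ g hf₁ z).symm.trans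
      (pFib_iff_of_isPullback (fieldInv_hasSk k) hqj' z)
  rw [hset]
  exact hopen.preimage (Scheme.Hom.continuous _)

/-- **EGA IV 12.1.6**: for `f` locally of finite presentation, the set of points at which `f` is
flat and the local ring of the fibre satisfies `(S_k)` is open. -/
theorem isOpen_flat_and_skFib {X Y : Scheme.{u}} (f : X ⟶ Y) [LocallyOfFinitePresentation f]
    (k : ℕ) : IsOpen {x : X | (f.stalkMap x).hom.Flat ∧ SkFib f k x} := by
  let W : X.Opens := ⟨{x | (f.stalkMap x).hom.Flat},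
    Groth.Agent.Lib.Helper2.isOpen_flat_stalkMap_locus f⟩
  haveI : Flat (W.ι ≫ f) := Flat.of_stalkMap _ (fun p => by
    rw [Scheme.Hom.stalkMap_comp]
    have h1 : (f.stalkMap (W.ι p)).hom.Flat := p.2
    have h2 : (W.ι.stalkMap p).hom.Flat := Flat.stalkMap W.ι p
    exact h1.comp h2)
  have h := isOpen_skFib_of_flat (W.ι ≫ f) k
  have hset : {x : X | (f.stalkMap x).hom.Flat ∧ SkFib f k x} =
      W.ι '' {w | SkFib (W.ι ≫ f) k w} := by
    ext x
    constructor
    · rintro ⟨h1, h2⟩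
      exact ⟨⟨x, h1⟩, (pFib_comp_openImmersion_left_iff (fieldInv_hasSk k).toIsoInv W.ι f
        ⟨x, h1⟩).mpr h2, rfl⟩
    · rintro ⟨w, hw, rfl⟩
      exact ⟨w.2, (pFib_comp_openImmersion_left_iff (fieldInv_hasSk k).toIsoInv W.ι f w).mp hw⟩
  rw [hset]
  exact W.ι.isOpenEmbedding.isOpenMap _ h

end Assembly

end Groth.Agent.Lib.Helper13.SkFib
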