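/-
Helper library (helper13): generic assembly for a pointwise property `E f x` of the fibres of a
morphism `f` ("the fibre of `f` through `x` has the property at `x`").

If `E` is compatible with base change and open immersions, spreads out from the generic fibre of a
flat family over an integral Noetherian base and generizes in flat families over discrete valuation
rings, then the `E`-locus is locally constructible for `f` locally of finite presentation and open
for `f` flat and locally of finite presentation (pattern of EGA IV 9.9.x / 12.1.x).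
-/
import Groth.Agent.Lib.Helper13.SkFibE

set_option autoImplicit false
open CategoryTheory AlgebraicGeometry Limits
universe u

namespace Groth.Agent.Lib.Helper13.FamProp

open Groth.Agent.Lib.Helper13.CodepthFib Groth.Agent.Lib.Helper13.FibLocProp
open Groth.Agent.Lib.Helper13.CodepthOpen
open Groth.Agent.Lib.Helper55 Groth.Agent.Lib.Helper13.CMChart
open Groth.Agent.Lib.Helper29 IsLocalRing TensorProduct Topology TopologicalSpace

/-- A pointwise property of the fibres of morphisms of schemes which is compatible with base change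
and open immersions of the source, spreads out from the generic fibre of a flat family over an
integral Noetherian base, and generizes in flat families over discrete valuation rings. -/
structure IsFamProp (E : ∀ (X Y : Scheme.{u}) (_ : X ⟶ Y), X → Prop) : Prop where
  bc : ∀ {X Y X' Y' : Scheme.{u}} {f : X ⟶ Y} {f' : X' ⟶ Y'} {g' : X' ⟶ X} {g : Y' ⟶ Y}
    [LocallyOfFinitePresentation f], IsPullback g' f' f g → ∀ x' : X', E X' Y' f' x' ↔ E X Y f (g' x')
  leftImm : ∀ {A B C : Scheme.{u}} (j : A ⟶ B) [IsOpenImmersion j] (h : B ⟶ C)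
    [LocallyOfFinitePresentation h] (z : A), E A C (j ≫ h) z ↔ E B C h (j z)
  spread : ∀ {X U : Scheme.{u}} [IsIntegral U] [AlgebraicGeometry.IsNoetherian U] (g : X ⟶ U)
    [Flat g] [LocallyOfFinitePresentation g] [QuasiCompact g] (ξ : X),
    g ξ = genericPoint U → E X U g ξ → ∃ N : Set X, IsOpen N ∧ ξ ∈ N ∧ ∀ z ∈ N, E X U g z
  genDVR : ∀ (R : Type u) [CommRing R] [IsDomain R] [IsDiscreteValuationRing R] (P : Scheme.{u})
    (g : P ⟶ Spec (CommRingCat.of R)) [LocallyOfFinitePresentation g] [Flat g] (x₀ x' : P),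
    x' ⤳ x₀ → g x₀ = closedPoint R → g x' = (⊥ : PrimeSpectrum R) → E _ _ g x₀ → E _ _ g x'

variable {E : ∀ (X Y : Scheme.{u}) (_ : X ⟶ Y), X → Prop} (hE : IsFamProp E)
include hE

theorem rightImm {A B C : Scheme.{u}} (h : A ⟶ B) (v : B ⟶ C) [IsOpenImmersion v]
    [LocallyOfFinitePresentation h] (z : A) : E A C (h ≫ v) z ↔ E A B h z := by
  have hpb : IsPullback (𝟙 A) h (h ≫ v) v := by
    have h1 : IsPullback (𝟙 A) h h (𝟙 B) := IsPullback.of_id_fst
    have h2 : IsPullback (𝟙 B) (𝟙 B) v v := (IsKernelPair.id_of_mono v)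
    exact h1.paste_vert h2
  haveI : LocallyOfFinitePresentation (h ≫ v) := inferInstance
  exact (hE.bc hpb z).symm

theorem openImm_square {A B X Y : Scheme.{u}} (j : A ⟶ X) (v : B ⟶ Y)
    [IsOpenImmersion j] [IsOpenImmersion v] (f₁ : A ⟶ B) (f : X ⟶ Y) [LocallyOfFinitePresentation f]
    [LocallyOfFinitePresentation f₁] (h : f₁ ≫ v = j ≫ f) (z : A) :
    E A B f₁ z ↔ E X Y f (j z) := by
  rw [← rightImm hE f₁ v z, ← hE.leftImm j f z]
  have gen : ∀ k : A ⟶ Y, k = j ≫ f → (E A Y k z ↔ E A Y (j ≫ f) z) := by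
    rintro k rfl
    exact Iff.rfl
  exact gen _ h

/-- **Generization**: for a flat morphism locally of finite type over a locally Noetherian base,
the `E`-locus is stable under generization. -/
theorem stableUnderGeneralization {X₀ S : Scheme.{u}} [IsLocallyNoetherian S]
    (f₀ : X₀ ⟶ S) [LocallyOfFiniteType f₀] [Flat f₀] :
    StableUnderGeneralization {x : X₀ | E X₀ S f₀ x} := by
  haveI hX₀ : IsLocallyNoetherian X₀ := LocallyOfFiniteType.isLocallyNoetherian f₀
  intro x x' hxx' hx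
  by_cases hne : x' = x
  · rw [hne]; exact hx
  obtain ⟨U, hU, hxU, -⟩ := exists_isAffineOpen_mem_and_subset (x := x) (U := ⊤) trivial
  have hx'U : x' ∈ U := hxx'.mem_open U.isOpen hxU
  have hxr : x ∈ Set.range hU.fromSpec := by rw [hU.range_fromSpec]; exact hxU
  have hxr' : x' ∈ Set.range hU.fromSpec := by rw [hU.range_fromSpec]; exact hx'U
  obtain ⟨(p : PrimeSpectrum Γ(X₀, U)), hp⟩ := hxr
  obtain ⟨(p' : PrimeSpectrum Γ(X₀, U)), hp'⟩ := hxr'
  haveI : IsNoetherianRing Γ(X₀, U) := IsLocallyNoetherian.component_noetherian ⟨U, hU⟩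
  have hspec : p' ⤳ p := by
    have h0 : hU.fromSpec p' ⤳ hU.fromSpec p := by rw [hp, hp']; exact hxx'
    exact hU.fromSpec.isOpenEmbedding.isInducing.specializes_iff.mp h0
  have hle : p' ≤ p := (PrimeSpectrum.le_iff_specializes p' p).mpr hspec
  have hlt : p' < p := lt_of_le_of_ne hle (fun e => hne (by rw [← hp', ← hp, e]))
  obtain ⟨R, _, _, _, _, h1, h2⟩ := Groth.Agent.Lib.Helper12.FlatCx.exists_dvr_of_lt p' p hlt
  let h : Spec (CommRingCat.of R) ⟶ X₀ :=
    Spec.map (CommRingCat.ofHom (algebraMap Γ(X₀, U) R)) ≫ hU.fromSpec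
  let g : Spec (CommRingCat.of R) ⟶ S := h ≫ f₀
  let σ : Spec (CommRingCat.of R) ⟶ pullback f₀ g := pullback.lift h (𝟙 _) (by simp [g])
  have hσ1 : σ ≫ pullback.fst f₀ g = h := pullback.lift_fst _ _ _
  have hσ2 : σ ≫ pullback.snd f₀ g = 𝟙 _ := pullback.lift_snd _ _ _
  let c : Spec (CommRingCat.of R) := closedPoint R
  let η : Spec (CommRingCat.of R) := (⊥ : PrimeSpectrum R)
  have hhc : h c = x := by
    change hU.fromSpec (PrimeSpectrum.comap (algebraMap Γ(X₀, U) R) (closedPoint R)) = x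
    rw [h2, hp]
  have hhη : h η = x' := by
    change hU.fromSpec (PrimeSpectrum.comap (algebraMap Γ(X₀, U) R) ⊥) = x'
    rw [h1, hp']
  have hz : pullback.fst f₀ g (σ c) = x := by
    rw [← Scheme.Hom.comp_apply, hσ1, hhc]
  have hz' : pullback.fst f₀ g (σ η) = x' := by
    rw [← Scheme.Hom.comp_apply, hσ1, hhη]
  have hsc : pullback.snd f₀ g (σ c) = c := by
    rw [← Scheme.Hom.comp_apply, hσ2]
    rfl
  have hsη : pullback.snd f₀ g (σ η) = η := by
    rw [← Scheme.Hom.comp_apply, hσ2]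
    rfl
  have hpb : ∀ w, E _ _ (pullback.snd f₀ g) w ↔ E _ _ f₀ (pullback.fst f₀ g w) :=
    fun w => hE.bc (IsPullback.of_hasPullback f₀ g) w
  have hηc : η ⤳ c := (PrimeSpectrum.le_iff_specializes _ _).mp bot_le
  have hσs : σ η ⤳ σ c := hηc.map σ.continuous
  have hzE : E _ _ (pullback.snd f₀ g) (σ c) := by
    rw [hpb, hz]; exact hx
  have hz'E : E _ _ (pullback.snd f₀ g) (σ η) :=
    hE.genDVR R _ (pullback.snd f₀ g) (σ c) (σ η) hσs hsc hsη hzE
  have := (hpb (σ η)).mp hz'E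
  rw [hz'] at this
  exact this

section Constructible

/-- **Noetherian case**: the `E`-locus is constructible. -/
theorem isConstructible_noeth {X₀ : Scheme.{u}} (A₀ : CommRingCat.{u}) [IsNoetherianRing A₀]
    (f₀ : X₀ ⟶ Spec A₀) [LocallyOfFiniteType f₀] [QuasiCompact f₀] :
    IsConstructible {x : X₀ | E _ _ f₀ x} := by
  haveI hX₀ : IsLocallyNoetherian X₀ := LocallyOfFiniteType.isLocallyNoetherian f₀
  haveI : CompactSpace X₀ := QuasiCompact.compactSpace_of_compactSpace f₀
  haveI : AlgebraicGeometry.IsNoetherian X₀ := {}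
  haveI : TopologicalSpace.NoetherianSpace X₀ := inferInstance
  rw [Groth.Agent.Lib.Helper12.ConstrTop.isConstructible_iff_forall_irreducible_closed]
  intro Z hZc hZi
  have hqs : QuasiSober X₀ := inferInstance
  obtain ⟨ξ, hξ⟩ := hqs.sober hZi hZc
  let η : PrimeSpectrum A₀ := f₀ ξ
  let P : Ideal A₀ := η.asIdeal
  let iT : Spec (CommRingCat.of (A₀ ⧸ P)) ⟶ Spec A₀ :=
    Spec.map (CommRingCat.ofHom (Ideal.Quotient.mk P))
  haveI hiT : IsClosedImmersion iT :=
    IsClosedImmersion.spec_of_surjective _ Ideal.Quotient.mk_surjective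
  haveI : IsDomain (A₀ ⧸ P) := Ideal.Quotient.isDomain P
  haveI : IsIntegral (Spec (CommRingCat.of (A₀ ⧸ P))) := inferInstance
  haveI : IsNoetherianRing (A₀ ⧸ P) := inferInstance
  haveI : IsLocallyNoetherian (Spec (CommRingCat.of (A₀ ⧸ P))) := inferInstance
  let fT := pullback.snd f₀ iT
  let jT := pullback.fst f₀ iT
  obtain ⟨U, hUd, hUfl, hUfp⟩ := Groth.Agent.Lib.Helper2.generic_flatness_reduced fT
  let X' : (pullback f₀ iT).Opens := fT ⁻¹ᵁ U
  let g : (X' : Scheme.{u}) ⟶ (U : Scheme.{u}) := fT ∣_ U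
  let j : (X' : Scheme.{u}) ⟶ X₀ := X'.ι ≫ jT
  have hpb : IsPullback j g f₀ (U.ι ≫ iT) :=
    (isPullback_morphismRestrict fT U).flip.paste_horiz (IsPullback.of_hasPullback f₀ iT)
  haveI : IsLocallyNoetherian (U : Scheme.{u}) :=
    LocallyOfFiniteType.isLocallyNoetherian U.ι
  haveI : CompactSpace (U : Scheme.{u}) :=
    isCompact_iff_compactSpace.mp (TopologicalSpace.NoetherianSpace.isCompact _)
  haveI : AlgebraicGeometry.IsNoetherian (U : Scheme.{u}) := {}
  haveI : Nonempty (U : Scheme.{u}) := by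
    obtain ⟨t, ht⟩ := hUd.nonempty
    exact ⟨⟨t, ht⟩⟩
  haveI : IsIntegral (U : Scheme.{u}) := inferInstance
  haveI : Flat g := hUfl
  haveI : LocallyOfFinitePresentation g := hUfp
  haveI : LocallyOfFiniteType g := inferInstance
  haveI : QuasiCompact g := inferInstance
  have hW : ∀ x' : (X' : Scheme.{u}), E _ _ g x' ↔ E _ _ f₀ (j x') := fun x' => hE.bc hpb x'
  -- topology
  have hξmem : ξ ∈ Z := hξ.mem
  have hj : IsEmbedding j := by
    have h1 : IsEmbedding jT := jT.isClosedEmbedding.isEmbedding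
    have h2 : IsEmbedding X'.ι := X'.ι.isOpenEmbedding.isEmbedding
    exact h1.comp h2
  have hiTe : IsEmbedding iT := iT.isClosedEmbedding.isEmbedding
  obtain ⟨D₀, hD₀, hD₀U⟩ := hiTe.isInducing.isOpen_iff.mp U.2
  let D : Set X₀ := f₀ ⁻¹' D₀
  have hD : IsOpen D := hD₀.preimage f₀.continuous
  have hrange : Set.range iT = PrimeSpectrum.zeroLocus (P : Set A₀) := by
    have := range_comap_of_surjective _ (Ideal.Quotient.mk P)
      Ideal.Quotient.mk_surjective
    rw [Ideal.mk_ker] at this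
    exact this
  have hA : ∀ z ∈ Z, z ∈ D → ∃ x' : (X' : Scheme.{u}), j x' = z := by
    intro z hzZ hzD
    have hs : ξ ⤳ z := by
      rw [specializes_iff_mem_closure, hξ.def]
      exact hzZ
    have hs' : η ⤳ f₀ z := hs.map f₀.continuous
    have hmem : f₀ z ∈ Set.range iT := by
      rw [hrange]
      exact (PrimeSpectrum.le_iff_specializes η (f₀ z)).mpr hs'
    obtain ⟨t, ht⟩ := hmem
    have htU : t ∈ (U : Set ↥(Spec (CommRingCat.of (A₀ ⧸ P)))) := by
      have : t ∈ iT ⁻¹' D₀ := by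
        rw [Set.mem_preimage, ht]
        exact hzD
      rw [hD₀U] at this
      exact this
    obtain ⟨x', hx'1, -⟩ := Groth.Agent.Lib.Helper13.CMCons.exists_preimage_of_isPullback hpb z
      ⟨t, htU⟩ (by rw [Scheme.Hom.comp_apply]; exact ht.symm)
    exact ⟨x', hx'1⟩
  have hξD : ξ ∈ D := by
    obtain ⟨t₁, ht₁U⟩ := hUd.nonempty
    have hgenU : genericPoint ↥(Spec (CommRingCat.of (A₀ ⧸ P))) ∈
        (U : Set ↥(Spec (CommRingCat.of (A₀ ⧸ P)))) :=
      ((genericPoint_spec ↥(Spec (CommRingCat.of (A₀ ⧸ P)))).mem_open_set_iff U.2).mpr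
        ⟨t₁, trivial, ht₁U⟩
    have h1 : iT (genericPoint ↥(Spec (CommRingCat.of (A₀ ⧸ P)))) ∈ D₀ := by
      have : genericPoint ↥(Spec (CommRingCat.of (A₀ ⧸ P))) ∈ iT ⁻¹' D₀ := by
        rw [hD₀U]
        exact hgenU
      exact this
    have h2 : η ⤳ iT (genericPoint ↥(Spec (CommRingCat.of (A₀ ⧸ P)))) := by
      rw [← PrimeSpectrum.le_iff_specializes]
      have : iT (genericPoint ↥(Spec (CommRingCat.of (A₀ ⧸ P)))) ∈ Set.range iT := ⟨_, rfl⟩
      rw [hrange] at this
      exact this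
    exact h2.mem_open hD₀ h1
  obtain ⟨ξ', hξ'⟩ := hA ξ hξmem hξD
  -- `ξ'` lies over the generic point of `U`
  have hgξ' : g ξ' = genericPoint (U : Scheme.{u}) := by
    have hemb : IsEmbedding (U.ι ≫ iT) := hiTe.comp U.ι.isOpenEmbedding.isEmbedding
    have hη : (U.ι ≫ iT) (g ξ') = η := by
      have h := congr(($(hpb.w)) ξ')
      change f₀ (j ξ') = (U.ι ≫ iT) (g ξ') at h
      rw [hξ'] at h
      exact h.symm
    have hgen : IsGenericPoint (g ξ') (⊤ : Set (U : Scheme.{u})) := by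
      rw [IsGenericPoint, Set.top_eq_univ, Set.eq_univ_iff_forall]
      intro u
      rw [← specializes_iff_mem_closure, ← hemb.isInducing.specializes_iff, hη]
      have : (U.ι ≫ iT) u ∈ Set.range iT := ⟨U.ι u, rfl⟩
      rw [hrange] at this
      exact (PrimeSpectrum.le_iff_specializes η ((U.ι ≫ iT) u)).mp this
    exact hgen.eq (genericPoint_spec (U : Scheme.{u}))
  by_cases hξE : E _ _ f₀ ξ
  · right
    obtain ⟨N, hNo, hξ'N, hN⟩ := hE.spread g ξ' hgξ' ((hW ξ').mpr (hξ' ▸ hξE))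
    obtain ⟨O, hO, hON⟩ := hj.isInducing.isOpen_iff.mp hNo
    have hξO : ξ ∈ O := by
      have : ξ' ∈ j ⁻¹' O := by rw [hON]; exact hξ'N
      rw [Set.mem_preimage, hξ'] at this
      exact this
    refine ⟨D ∩ O, hD.inter hO, ⟨ξ, ⟨hξD, hξO⟩, hξmem⟩, ?_⟩
    rintro z ⟨⟨hzD, hzO⟩, hzZ⟩
    obtain ⟨x', rfl⟩ := hA z hzZ hzD
    have : x' ∈ N := by
      rw [← hON]
      exact hzO
    exact (hW x').mp (hN x' this)
  · left
    have hsub : (Subtype.val ⁻¹' {x | E _ _ f₀ x} : Set Z) ⊆ (Subtype.val ⁻¹' D : Set Z)ᶜ := by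
      rintro ⟨z, hzZ⟩ hzE hzD
      obtain ⟨x', hx'⟩ := hA z hzZ hzD
      have hs : ξ ⤳ z := by
        rw [specializes_iff_mem_closure, hξ.def]
        exact hzZ
      have hs' : ξ' ⤳ x' := by
        rw [← hj.isInducing.specializes_iff, hξ', hx']
        exact hs
      have h1 : E _ _ g x' := (hW x').mpr (by rw [hx']; exact hzE)
      have h2 : E _ _ g ξ' := stableUnderGeneralization hE g hs' h1
      exact hξE (hξ' ▸ (hW ξ').mp h2)
    have hopenD : IsOpen (Subtype.val ⁻¹' D : Set Z) := hD.preimage continuous_subtype_val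
    have hdense : Dense (Subtype.val ⁻¹' D : Set Z) := by
      haveI : IrreducibleSpace Z := (isIrreducible_iff_irreducibleSpace (s := Z)).1 hZi
      exact hopenD.dense ⟨⟨ξ, hξmem⟩, hξD⟩
    have hnd : IsNowhereDense ((Subtype.val ⁻¹' D : Set Z)ᶜ) := by
      rw [hopenD.isClosed_compl.isNowhereDense_iff, interior_compl, hdense.closure_eq,
        Set.compl_univ]
    exact hnd.mono hsub

end Constructible

section Assembly

open Groth.Agent.Lib.Helper23

/-- For `f` locally of finite presentation, the `E`-locus is locally constructible. -/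
theorem isLocallyConstructible {X S : Scheme.{u}} (f : X ⟶ S)
    [LocallyOfFinitePresentation f] : IsLocallyConstructible {x : X | E _ _ f x} := by
  intro x₀
  obtain ⟨W, hW, hx₀W, -⟩ := exists_isAffineOpen_mem_and_subset (x := f x₀) (U := ⊤) trivial
  obtain ⟨V, hV, hx₀V, eV⟩ := exists_isAffineOpen_mem_and_subset (x := x₀) (U := f ⁻¹ᵁ W) hx₀W
  refine ⟨V, V.2.mem_nhds hx₀V, V.2, ?_⟩
  let f₁ : (V : Scheme.{u}) ⟶ (W : Scheme.{u}) := f.resLE W V eV
  have hf₁ : f₁ ≫ W.ι = V.ι ≫ f := Scheme.Hom.resLE_comp_ι f eV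
  haveI : IsAffine (V : Scheme.{u}) := hV
  haveI : IsAffine (W : Scheme.{u}) := hW
  haveI hf₁fp : LocallyOfFinitePresentation f₁ := inferInstance
  haveI hf₁qc : QuasiCompact f₁ := inferInstance
  haveI hf₁qs : QuasiSeparated f₁ := inferInstance
  obtain ⟨i, X₀, f₀, q, hf₀fp, hf₀qc, hf₀qs, hpb⟩ := descends_noeth f₁
  let f₀' : X₀ ⟶ Spec (noethRing (W : Scheme.{u}) i) := f₀
  haveI hf₀'fp : LocallyOfFinitePresentation f₀' := hf₀fp
  haveI hf₀'qc : QuasiCompact f₀' := hf₀qc
  haveI hf₀lft : LocallyOfFiniteType f₀' := inferInstance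
  have hpb' : IsPullback q f₁ f₀' ((noethCone (W : Scheme.{u})).π.app i) := hpb
  haveI : IsNoetherianRing (noethRing (W : Scheme.{u}) i) :=
    (quotReg_noethRing _ i).isNoetherianRing
  have hcons := isConstructible_noeth hE (noethRing (W : Scheme.{u}) i) f₀'
  have hpre := q.isConstructible_preimage hcons
  have hset : ((Subtype.val : ↥V → X) ⁻¹' {x | E _ _ f x}) =
      (q : ↥(V : Scheme.{u}) → X₀) ⁻¹' {x | E _ _ f₀' x} := by
    ext z
    exact (openImm_square hE V.ι W.ι f₁ f hf₁ z).symm.trans (hE.bc hpb' z)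
  rw [← hset] at hpre
  exact hpre

/-- **Noetherian case**: for a flat morphism of finite type to the spectrum of a Noetherian ring,
the `E`-locus is open. -/
theorem isOpen_of_flat_noeth {X₀ : Scheme.{u}} (A₀ : CommRingCat.{u}) [IsNoetherianRing A₀]
    (f₀ : X₀ ⟶ Spec A₀) [LocallyOfFiniteType f₀] [QuasiCompact f₀] [Flat f₀] :
    IsOpen {x : X₀ | E _ _ f₀ x} :=
  Groth.Agent.Lib.Helper23.FlatFibreDim.isOpen_of_isLocallyConstructible_of_stableUnderGeneralization
    (isConstructible_noeth hE A₀ f₀).isLocallyConstructible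
    (stableUnderGeneralization hE f₀)

/-- For a flat morphism locally of finite presentation, the `E`-locus is open. -/
theorem isOpen_of_flat {X Y : Scheme.{u}} (g : X ⟶ Y) [Flat g]
    [LocallyOfFinitePresentation g] : IsOpen {x : X | E _ _ g x} := by
  rw [isOpen_iff_forall_mem_open]
  intro x₀ hx₀
  obtain ⟨W, hW, hx₀W, -⟩ := exists_isAffineOpen_mem_and_subset (x := g x₀) (U := ⊤) trivial
  obtain ⟨V, hV, hx₀V, eV⟩ := exists_isAffineOpen_mem_and_subset (x := x₀) (U := g ⁻¹ᵁ W) hx₀W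
  suffices h : IsOpen ((Subtype.val : ↥V → X) ⁻¹' {x | E _ _ g x}) by
    refine ⟨Subtype.val '' ((Subtype.val : ↥V → X) ⁻¹' {x | E _ _ g x}), ?_,
      V.2.isOpenMap_subtype_val _ h, ⟨⟨x₀, hx₀V⟩, hx₀, rfl⟩⟩
    rintro _ ⟨z, hz, rfl⟩
    exact hz
  let f₁ : (V : Scheme.{u}) ⟶ (W : Scheme.{u}) := g.resLE W V eV
  have hf₁ : f₁ ≫ W.ι = V.ι ≫ g := Scheme.Hom.resLE_comp_ι g eV
  haveI : IsAffine (V : Scheme.{u}) := hV
  haveI : IsAffine (W : Scheme.{u}) := hW
  haveI hf₁fp : LocallyOfFinitePresentation f₁ := inferInstance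
  haveI hf₁qc : QuasiCompact f₁ := inferInstance
  haveI hf₁qs : QuasiSeparated f₁ := inferInstance
  haveI hf₁fl : Flat f₁ := inferInstance
  obtain ⟨i, X₀, f₀, q, hf₀fp, hf₀qc, hf₀qs, hpb⟩ := descends_noeth f₁
  haveI : CompactSpace X₀ := QuasiCompact.compactSpace_of_compactSpace f₀
  haveI : QuasiSeparatedSpace X₀ := quasiSeparatedSpace_of_quasiSeparated f₀
  have hY : IsPullback ((noethCone (W : Scheme.{u})).π.app i) (𝟙 (noethCone (W : Scheme.{u})).pt)
      (𝟙 ((noethDiagram (W : Scheme.{u})).obj i)) ((noethCone (W : Scheme.{u})).π.app i) :=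
    IsPullback.of_id_snd
  obtain ⟨j, φ, Xj, Yj, fj, gj, pY, pX, hY2, hX2, hfl⟩ :=
    Groth.Agent.S2075.result (noethDiagram (W : Scheme.{u})) (noethCone (W : Scheme.{u}))
      (isLimitNoethCone (W : Scheme.{u})) i f₀ (𝟙 ((noethDiagram (W : Scheme.{u})).obj i)) f₁
      (𝟙 (noethCone (W : Scheme.{u})).pt) ((noethCone (W : Scheme.{u})).π.app i) q hY hpb
  haveI : IsIso gj := hY2.isIso_snd_of_isIso
  haveI : LocallyOfFinitePresentation fj :=
    MorphismProperty.of_isPullback (P := @LocallyOfFinitePresentation) hX2 hf₀fp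
  haveI : QuasiCompact fj := MorphismProperty.of_isPullback (P := @QuasiCompact) hX2 hf₀qc
  have hXj : IsPullback pX (fj ≫ gj) f₀ ((noethDiagram (W : Scheme.{u})).map φ) :=
    IsPullback.of_iso hX2 (Iso.refl _) (Iso.refl _) (asIso gj) (Iso.refl _) (by simp)
      (by simp) (by simp) (by simpa using hY2.w)
  have hpb2 : IsPullback q f₁ f₀ ((noethCone (W : Scheme.{u})).π.app j ≫
      (noethDiagram (W : Scheme.{u})).map φ) :=
    (congrArg (IsPullback q f₁ f₀) ((noethCone (W : Scheme.{u})).w φ)).mpr hpb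
  obtain ⟨qj, hqj⟩ : ∃ qj : (V : Scheme.{u}) ⟶ Xj,
      IsPullback qj f₁ (fj ≫ gj) ((noethCone (W : Scheme.{u})).π.app j) :=
    ⟨_, IsPullback.of_right' hpb2 hXj⟩
  let fj' : Xj ⟶ Spec (noethRing (W : Scheme.{u}) j) := fj ≫ gj
  haveI : LocallyOfFinitePresentation fj' :=
    inferInstanceAs (LocallyOfFinitePresentation (fj ≫ gj))
  haveI : LocallyOfFiniteType fj' := inferInstance
  haveI : QuasiCompact fj' := inferInstanceAs (QuasiCompact (fj ≫ gj))
  haveI : Flat fj' := inferInstanceAs (Flat (fj ≫ gj))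
  have hqj' : IsPullback qj f₁ fj' ((noethCone (W : Scheme.{u})).π.app j) := hqj
  haveI : IsNoetherianRing (noethRing (W : Scheme.{u}) j) :=
    (quotReg_noethRing _ j).isNoetherianRing
  have hopen := isOpen_of_flat_noeth hE (noethRing (W : Scheme.{u}) j) fj'
  have hset : ((Subtype.val : ↥V → X) ⁻¹' {x | E _ _ g x}) =
      (qj : ↥(V : Scheme.{u}) → Xj) ⁻¹' {x | E _ _ fj' x} := by
    ext z
    exact (openImm_square hE V.ι W.ι f₁ g hf₁ z).symm.trans (hE.bc hqj' z)
  rw [hset]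
  exact hopen.preimage (Scheme.Hom.continuous _)

/-- For `f` locally of finite presentation, the set of points at which `f` is flat and `E` holds
is open. -/
theorem isOpen_flat_and {X Y : Scheme.{u}} (f : X ⟶ Y) [LocallyOfFinitePresentation f] :
    IsOpen {x : X | (f.stalkMap x).hom.Flat ∧ E _ _ f x} := by
  let W : X.Opens := ⟨{x | (f.stalkMap x).hom.Flat},
    Groth.Agent.Lib.Helper2.isOpen_flat_stalkMap_locus f⟩
  haveI : Flat (W.ι ≫ f) := Flat.of_stalkMap _ (fun p => by
    rw [Scheme.Hom.stalkMap_comp]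
    have h1 : (f.stalkMap (W.ι p)).hom.Flat := p.2
    have h2 : (W.ι.stalkMap p).hom.Flat := Flat.stalkMap W.ι p
    exact h1.comp h2)
  have h := isOpen_of_flat hE (W.ι ≫ f)
  have hset : {x : X | (f.stalkMap x).hom.Flat ∧ E _ _ f x} =
      W.ι '' {w | E _ _ (W.ι ≫ f) w} := by
    ext x
    constructor
    · rintro ⟨h1, h2⟩
      exact ⟨⟨x, h1⟩, (hE.leftImm W.ι f ⟨x, h1⟩).mpr h2, rfl⟩
    · rintro ⟨w, hw, rfl⟩
      exact ⟨w.2, (hE.leftImm W.ι f w).mp hw⟩
  rw [hset]
  exact W.ι.isOpenEmbedding.isOpenMap _ h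

end Assembly

end Groth.Agent.Lib.Helper13.FamProp
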