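/-
Helper library (helper13): generic assembly for the constructibility of a pointwise property
`E f x` of the fibres of a morphism `f`.

Variant of `FamProp.IsFamProp` for properties that are not stable under generization: if `E` is
compatible with base change and open immersions, and both `E` and its negation spread out from a
point `ξ` of the generic fibre of a flat family over an integral Noetherian base to a neighbourhood
of `ξ` in the closure of `ξ`, then the `E`-locus is locally constructible for `f` locally of finite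
presentation (pattern of EGA IV 9.9.x).
-/
import Groth.Agent.Lib.Helper13.FamProp

set_option autoImplicit false
open CategoryTheory AlgebraicGeometry Limits
universe u

namespace Groth.Agent.Lib.Helper13.ConsProp

open Groth.Agent.Lib.Helper13.CodepthFib Groth.Agent.Lib.Helper13.FibLocProp
open Groth.Agent.Lib.Helper13.CodepthOpen
open Groth.Agent.Lib.Helper55 Groth.Agent.Lib.Helper13.CMChart
open Groth.Agent.Lib.Helper29 IsLocalRing TensorProduct Topology TopologicalSpace

/-- A pointwise property of the fibres of morphisms of schemes which is compatible with base change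
and open immersions of the source, and such that both the property and its negation spread out
from a point of the generic fibre of a flat family over an integral Noetherian base. -/
structure IsConsProp (E : ∀ (X Y : Scheme.{u}) (_ : X ⟶ Y), X → Prop) : Prop where
  bc : ∀ {X Y X' Y' : Scheme.{u}} {f : X ⟶ Y} {f' : X' ⟶ Y'} {g' : X' ⟶ X} {g : Y' ⟶ Y}
    [LocallyOfFinitePresentation f], IsPullback g' f' f g → ∀ x' : X', E X' Y' f' x' ↔ E X Y f (g' x')
  leftImm : ∀ {A B C : Scheme.{u}} (j : A ⟶ B) [IsOpenImmersion j] (h : B ⟶ C)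
    [LocallyOfFinitePresentation h] (z : A), E A C (j ≫ h) z ↔ E B C h (j z)
  spread : ∀ {X U : Scheme.{u}} [IsIntegral U] [AlgebraicGeometry.IsNoetherian U] (g : X ⟶ U)
    [Flat g] [LocallyOfFinitePresentation g] [QuasiCompact g] (ξ : X),
    g ξ = genericPoint U → E X U g ξ → ∃ N : Set X, IsOpen N ∧ ξ ∈ N ∧ ∀ z ∈ N, ξ ⤳ z → E X U g z
  negSpread : ∀ {X U : Scheme.{u}} [IsIntegral U] [AlgebraicGeometry.IsNoetherian U] (g : X ⟶ U)
    [Flat g] [LocallyOfFinitePresentation g] [QuasiCompact g] (ξ : X),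
    g ξ = genericPoint U → ¬ E X U g ξ →
      ∃ N : Set X, IsOpen N ∧ ξ ∈ N ∧ ∀ z ∈ N, ξ ⤳ z → ¬ E X U g z

/-- A `FamProp.IsFamProp` property is an `IsConsProp` property. -/
theorem _root_.Groth.Agent.Lib.Helper13.FamProp.IsFamProp.isConsProp
    {E : ∀ (X Y : Scheme.{u}) (_ : X ⟶ Y), X → Prop} (hE : FamProp.IsFamProp E) : IsConsProp E where
  bc := hE.bc
  leftImm := hE.leftImm
  spread := by
    intro X U _ _ g _ _ _ ξ hξ h
    obtain ⟨N, hN, hξN, hNE⟩ := hE.spread g ξ hξ h
    exact ⟨N, hN, hξN, fun z hz _ => hNE z hz⟩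
  negSpread := by
    intro X U _ _ g _ _ _ ξ _ h
    exact ⟨Set.univ, isOpen_univ, trivial, fun z _ hξz hz =>
      h (FamProp.stableUnderGeneralization hE g hξz hz)⟩

variable {E : ∀ (X Y : Scheme.{u}) (_ : X ⟶ Y), X → Prop} (hE : IsConsProp E)
include hE

theorem rightImm {A B C : Scheme.{u}} (h : A ⟶ B) (v : B ⟶ C) [IsOpenImmersion v]
    [LocallyOfFinitePresentation h] (z : A) : E A C (h ≫ v) z ↔ E A B h z := by
  have hpb : IsPullback (𝟙 A) h (h ≫ v) v := by
    have h1 : IsPullback (𝟙 A) h h (𝟙 B) := IsPullback.of_id_fst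
    have h2 : IsPullback (𝟙 B) (𝟙 B) v v := (IsKernelPair.id_of_mono v)
    exact h1.paste_vert h2
  haveI : LocallyOfFinitePresentation (h ≫ v) := inferInstance
  exact (hE.bc hpb z).symm

theorem openImm_square {A B X Y : Scheme.{u}} (j : A ⟶ X) (v : B ⟶ Y)
    [IsOpenImmersion j] [IsOpenImmersion v] (f₁ : A ⟶ B) (f : X ⟶ Y) [LocallyOfFinitePresentation f]
    [LocallyOfFinitePresentation f₁] (h : f₁ ≫ v = j ≫ f) (z : A) :
    E A B f₁ z ↔ E X Y f (j z) := by
  rw [← rightImm hE f₁ v z, ← hE.leftImm j f z]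
  have gen : ∀ k : A ⟶ Y, k = j ≫ f → (E A Y k z ↔ E A Y (j ≫ f) z) := by
    rintro k rfl
    exact Iff.rfl
  exact gen _ h

section Constructible

/-- **Noetherian case**: the `E`-locus is constructible. -/
theorem isConstructible_noeth {X₀ : Scheme.{u}} (A₀ : CommRingCat.{u}) [IsNoetherianRing A₀]
    (f₀ : X₀ ⟶ Spec A₀) [LocallyOfFiniteType f₀] [QuasiCompact f₀] :
    IsConstructible {x : X₀ | E _ _ f₀ x} := by
  haveI hX₀ : IsLocallyNoetherian X₀ := LocallyOfFiniteType.isLocallyNoetherian f₀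
  haveI : CompactSpace X₀ := QuasiCompact.compactSpace_of_compactSpace f₀
  haveI : AlgebraicGeometry.IsNoetherian X₀ := {}
  haveI : TopologicalSpace.NoetherianSpace X₀ := inferInstance
  rw [Groth.Agent.Lib.Helper12.ConstrTop.isConstructible_iff_forall_irreducible_closed]
  intro Z hZc hZi
  have hqs : QuasiSober X₀ := inferInstance
  obtain ⟨ξ, hξ⟩ := hqs.sober hZi hZc
  let η : PrimeSpectrum A₀ := f₀ ξ
  let P : Ideal A₀ := η.asIdeal
  let iT : Spec (CommRingCat.of (A₀ ⧸ P)) ⟶ Spec A₀ :=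
    Spec.map (CommRingCat.ofHom (Ideal.Quotient.mk P))
  haveI hiT : IsClosedImmersion iT :=
    IsClosedImmersion.spec_of_surjective _ Ideal.Quotient.mk_surjective
  haveI : IsDomain (A₀ ⧸ P) := Ideal.Quotient.isDomain P
  haveI : IsIntegral (Spec (CommRingCat.of (A₀ ⧸ P))) := inferInstance
  haveI : IsNoetherianRing (A₀ ⧸ P) := inferInstance
  haveI : IsLocallyNoetherian (Spec (CommRingCat.of (A₀ ⧸ P))) := inferInstance
  let fT := pullback.snd f₀ iT
  let jT := pullback.fst f₀ iT
  obtain ⟨U, hUd, hUfl, hUfp⟩ := Groth.Agent.Lib.Helper2.generic_flatness_reduced fT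
  let X' : (pullback f₀ iT).Opens := fT ⁻¹ᵁ U
  let g : (X' : Scheme.{u}) ⟶ (U : Scheme.{u}) := fT ∣_ U
  let j : (X' : Scheme.{u}) ⟶ X₀ := X'.ι ≫ jT
  have hpb : IsPullback j g f₀ (U.ι ≫ iT) :=
    (isPullback_morphismRestrict fT U).flip.paste_horiz (IsPullback.of_hasPullback f₀ iT)
  haveI : IsLocallyNoetherian (U : Scheme.{u}) :=
    LocallyOfFiniteType.isLocallyNoetherian U.ι
  haveI : CompactSpace (U : Scheme.{u}) :=
    isCompact_iff_compactSpace.mp (TopologicalSpace.NoetherianSpace.isCompact _)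
  haveI : AlgebraicGeometry.IsNoetherian (U : Scheme.{u}) := {}
  haveI : Nonempty (U : Scheme.{u}) := by
    obtain ⟨t, ht⟩ := hUd.nonempty
    exact ⟨⟨t, ht⟩⟩
  haveI : IsIntegral (U : Scheme.{u}) := inferInstance
  haveI : Flat g := hUfl
  haveI : LocallyOfFinitePresentation g := hUfp
  haveI : LocallyOfFiniteType g := inferInstance
  haveI : QuasiCompact g := inferInstance
  have hW : ∀ x' : (X' : Scheme.{u}), E _ _ g x' ↔ E _ _ f₀ (j x') := fun x' => hE.bc hpb x'
  -- topology
  have hξmem : ξ ∈ Z := hξ.mem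
  have hj : IsEmbedding j := by
    have h1 : IsEmbedding jT := jT.isClosedEmbedding.isEmbedding
    have h2 : IsEmbedding X'.ι := X'.ι.isOpenEmbedding.isEmbedding
    exact h1.comp h2
  have hiTe : IsEmbedding iT := iT.isClosedEmbedding.isEmbedding
  obtain ⟨D₀, hD₀, hD₀U⟩ := hiTe.isInducing.isOpen_iff.mp U.2
  let D : Set X₀ := f₀ ⁻¹' D₀
  have hD : IsOpen D := hD₀.preimage f₀.continuous
  have hrange : Set.range iT = PrimeSpectrum.zeroLocus (P : Set A₀) := by
    have := range_comap_of_surjective _ (Ideal.Quotient.mk P)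
      Ideal.Quotient.mk_surjective
    rw [Ideal.mk_ker] at this
    exact this
  have hA : ∀ z ∈ Z, z ∈ D → ∃ x' : (X' : Scheme.{u}), j x' = z := by
    intro z hzZ hzD
    have hs : ξ ⤳ z := by
      rw [specializes_iff_mem_closure, hξ.def]
      exact hzZ
    have hs' : η ⤳ f₀ z := hs.map f₀.continuous
    have hmem : f₀ z ∈ Set.range iT := by
      rw [hrange]
      exact (PrimeSpectrum.le_iff_specializes η (f₀ z)).mpr hs'
    obtain ⟨t, ht⟩ := hmem
    have htU : t ∈ (U : Set ↥(Spec (CommRingCat.of (A₀ ⧸ P)))) := by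
      have : t ∈ iT ⁻¹' D₀ := by
        rw [Set.mem_preimage, ht]
        exact hzD
      rw [hD₀U] at this
      exact this
    obtain ⟨x', hx'1, -⟩ := Groth.Agent.Lib.Helper13.CMCons.exists_preimage_of_isPullback hpb z
      ⟨t, htU⟩ (by rw [Scheme.Hom.comp_apply]; exact ht.symm)
    exact ⟨x', hx'1⟩
  have hξD : ξ ∈ D := by
    obtain ⟨t₁, ht₁U⟩ := hUd.nonempty
    have hgenU : genericPoint ↥(Spec (CommRingCat.of (A₀ ⧸ P))) ∈
        (U : Set ↥(Spec (CommRingCat.of (A₀ ⧸ P)))) :=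
      ((genericPoint_spec ↥(Spec (CommRingCat.of (A₀ ⧸ P)))).mem_open_set_iff U.2).mpr
        ⟨t₁, trivial, ht₁U⟩
    have h1 : iT (genericPoint ↥(Spec (CommRingCat.of (A₀ ⧸ P)))) ∈ D₀ := by
      have : genericPoint ↥(Spec (CommRingCat.of (A₀ ⧸ P))) ∈ iT ⁻¹' D₀ := by
        rw [hD₀U]
        exact hgenU
      exact this
    have h2 : η ⤳ iT (genericPoint ↥(Spec (CommRingCat.of (A₀ ⧸ P)))) := by
      rw [← PrimeSpectrum.le_iff_specializes]
      have : iT (genericPoint ↥(Spec (CommRingCat.of (A₀ ⧸ P)))) ∈ Set.range iT := ⟨_, rfl⟩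
      rw [hrange] at this
      exact this
    exact h2.mem_open hD₀ h1
  obtain ⟨ξ', hξ'⟩ := hA ξ hξmem hξD
  -- `ξ'` lies over the generic point of `U`
  have hgξ' : g ξ' = genericPoint (U : Scheme.{u}) := by
    have hemb : IsEmbedding (U.ι ≫ iT) := hiTe.comp U.ι.isOpenEmbedding.isEmbedding
    have hη : (U.ι ≫ iT) (g ξ') = η := by
      have h := congr(($(hpb.w)) ξ')
      change f₀ (j ξ') = (U.ι ≫ iT) (g ξ') at h
      rw [hξ'] at h
      exact h.symm
    have hgen : IsGenericPoint (g ξ') (⊤ : Set (U : Scheme.{u})) := by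
      rw [IsGenericPoint, Set.top_eq_univ, Set.eq_univ_iff_forall]
      intro u
      rw [← specializes_iff_mem_closure, ← hemb.isInducing.specializes_iff, hη]
      have : (U.ι ≫ iT) u ∈ Set.range iT := ⟨U.ι u, rfl⟩
      rw [hrange] at this
      exact (PrimeSpectrum.le_iff_specializes η ((U.ι ≫ iT) u)).mp this
    exact hgen.eq (genericPoint_spec (U : Scheme.{u}))
  by_cases hξE : E _ _ f₀ ξ
  · right
    obtain ⟨N, hNo, hξ'N, hN⟩ := hE.spread g ξ' hgξ' ((hW ξ').mpr (hξ' ▸ hξE))
    obtain ⟨O, hO, hON⟩ := hj.isInducing.isOpen_iff.mp hNo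
    have hξO : ξ ∈ O := by
      have : ξ' ∈ j ⁻¹' O := by rw [hON]; exact hξ'N
      rw [Set.mem_preimage, hξ'] at this
      exact this
    refine ⟨D ∩ O, hD.inter hO, ⟨ξ, ⟨hξD, hξO⟩, hξmem⟩, ?_⟩
    rintro z ⟨⟨hzD, hzO⟩, hzZ⟩
    obtain ⟨x', hx'⟩ := hA z hzZ hzD
    have hs : ξ ⤳ z := by
      rw [specializes_iff_mem_closure, hξ.def]
      exact hzZ
    have hs' : ξ' ⤳ x' := by
      rw [← hj.isInducing.specializes_iff, hξ', hx']
      exact hs
    have : x' ∈ N := by
      rw [← hON]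
      show j x' ∈ O
      rw [hx']
      exact hzO
    have h1 := (hW x').mp (hN x' this hs')
    rw [hx'] at h1
    exact h1
  · left
    obtain ⟨N, hNo, hξ'N, hN⟩ := hE.negSpread g ξ' hgξ'
      (fun h => hξE (hξ' ▸ (hW ξ').mp h))
    obtain ⟨O, hO, hON⟩ := hj.isInducing.isOpen_iff.mp hNo
    have hξO : ξ ∈ O := by
      have : ξ' ∈ j ⁻¹' O := by rw [hON]; exact hξ'N
      rw [Set.mem_preimage, hξ'] at this
      exact this
    have hsub : (Subtype.val ⁻¹' {x | E _ _ f₀ x} : Set Z) ⊆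
        (Subtype.val ⁻¹' (D ∩ O) : Set Z)ᶜ := by
      rintro ⟨z, hzZ⟩ hzE ⟨hzD, hzO⟩
      obtain ⟨x', hx'⟩ := hA z hzZ hzD
      have hs : ξ ⤳ z := by
        rw [specializes_iff_mem_closure, hξ.def]
        exact hzZ
      have hs' : ξ' ⤳ x' := by
        rw [← hj.isInducing.specializes_iff, hξ', hx']
        exact hs
      have h1 : E _ _ g x' := (hW x').mpr (by rw [hx']; exact hzE)
      have hx'N : x' ∈ N := by
        rw [← hON]
        show j x' ∈ O
        rw [hx']
        exact hzO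
      exact hN x' hx'N hs' h1
    have hopenD : IsOpen (Subtype.val ⁻¹' (D ∩ O) : Set Z) :=
      (hD.inter hO).preimage continuous_subtype_val
    have hdense : Dense (Subtype.val ⁻¹' (D ∩ O) : Set Z) := by
      haveI : IrreducibleSpace Z := (isIrreducible_iff_irreducibleSpace (s := Z)).1 hZi
      exact hopenD.dense ⟨⟨ξ, hξmem⟩, ⟨hξD, hξO⟩⟩
    have hnd : IsNowhereDense ((Subtype.val ⁻¹' (D ∩ O) : Set Z)ᶜ) := by
      rw [hopenD.isClosed_compl.isNowhereDense_iff, interior_compl, hdense.closure_eq,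
        Set.compl_univ]
    exact hnd.mono hsub

end Constructible

section Assembly

open Groth.Agent.Lib.Helper23

/-- For `f` locally of finite presentation, the `E`-locus is locally constructible. -/
theorem isLocallyConstructible {X S : Scheme.{u}} (f : X ⟶ S)
    [LocallyOfFinitePresentation f] : IsLocallyConstructible {x : X | E _ _ f x} := by
  intro x₀
  obtain ⟨W, hW, hx₀W, -⟩ := exists_isAffineOpen_mem_and_subset (x := f x₀) (U := ⊤) trivial
  obtain ⟨V, hV, hx₀V, eV⟩ := exists_isAffineOpen_mem_and_subset (x := x₀) (U := f ⁻¹ᵁ W) hx₀W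
  refine ⟨V, V.2.mem_nhds hx₀V, V.2, ?_⟩
  let f₁ : (V : Scheme.{u}) ⟶ (W : Scheme.{u}) := f.resLE W V eV
  have hf₁ : f₁ ≫ W.ι = V.ι ≫ f := Scheme.Hom.resLE_comp_ι f eV
  haveI : IsAffine (V : Scheme.{u}) := hV
  haveI : IsAffine (W : Scheme.{u}) := hW
  haveI hf₁fp : LocallyOfFinitePresentation f₁ := inferInstance
  haveI hf₁qc : QuasiCompact f₁ := inferInstance
  haveI hf₁qs : QuasiSeparated f₁ := inferInstance
  obtain ⟨i, X₀, f₀, q, hf₀fp, hf₀qc, hf₀qs, hpb⟩ := descends_noeth f₁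
  let f₀' : X₀ ⟶ Spec (noethRing (W : Scheme.{u}) i) := f₀
  haveI hf₀'fp : LocallyOfFinitePresentation f₀' := hf₀fp
  haveI hf₀'qc : QuasiCompact f₀' := hf₀qc
  haveI hf₀lft : LocallyOfFiniteType f₀' := inferInstance
  have hpb' : IsPullback q f₁ f₀' ((noethCone (W : Scheme.{u})).π.app i) := hpb
  haveI : IsNoetherianRing (noethRing (W : Scheme.{u}) i) :=
    (quotReg_noethRing _ i).isNoetherianRing
  have hcons := isConstructible_noeth hE (noethRing (W : Scheme.{u}) i) f₀'
  have hpre := q.isConstructible_preimage hcons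
  have hset : ((Subtype.val : ↥V → X) ⁻¹' {x | E _ _ f x}) =
      (q : ↥(V : Scheme.{u}) → X₀) ⁻¹' {x | E _ _ f₀' x} := by
    ext z
    exact (openImm_square hE V.ι W.ι f₁ f hf₁ z).symm.trans (hE.bc hpb' z)
  rw [← hset] at hpre
  exact hpre

end Assembly

end Groth.Agent.Lib.Helper13.ConsProp
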