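/-
Helper library (helper13): codepth of modules over local rings: invariance and behaviour under
flat local homomorphisms (algebraic part of EGA IV 12.1.1 (i) for modules).
-/
import Groth.Agent.Lib.Helper13.CodepthFib
import Groth.Agent.Lib.Helper87.SkTensor1
import Groth.Agent.S2598
import Groth.Agent.Lib.Helper29.FormalFibreCMModule

set_option autoImplicit false
open CategoryTheory AlgebraicGeometry Limits
universe u

namespace Groth.Agent.Lib.Helper13.MCodepth

open Groth.Agent.Lib.Helper13.CodepthFib Groth.Agent.Lib.Helper29 IsLocalRing TensorProduct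

section Algebra

/-- The module `E` over the local ring `R` has codepth at most `n`:
`dim Supp E ≤ depth E + n` (true for the zero module). -/
def MCd (R : Type u) [CommRing R] [IsLocalRing R] (E : Type u) [AddCommGroup E] [Module R E]
    (n : ℕ) : Prop :=
  Module.supportDim R E ≤ ((LocCoh.depth R E : ℕ∞) : WithBot ℕ∞) + n

theorem mcd_of_subsingleton (R : Type u) [CommRing R] [IsLocalRing R] (E : Type u)
    [AddCommGroup E] [Module R E] [Subsingleton E] (n : ℕ) : MCd R E n := by
  unfold MCd
  rw [Module.supportDim_eq_bot_of_subsingleton]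
  exact bot_le

/-- Codepth zero means zero or Cohen–Macaulay. -/
theorem mcd_zero_iff (R : Type u) [CommRing R] [IsLocalRing R] [IsNoetherianRing R] (E : Type u)
    [AddCommGroup E] [Module R E] [Module.Finite R E] :
    MCd R E 0 ↔ Subsingleton E ∨ LocCoh.IsCohenMacaulayModule R E := by
  unfold MCd LocCoh.IsCohenMacaulayModule
  rw [Nat.cast_zero, add_zero]
  constructor
  · intro h
    rcases subsingleton_or_nontrivial E with hE | hE
    · exact Or.inl hE
    · exact Or.inr (le_antisymm h (depth_le_supportDim R E))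
  · rintro (hE | hE)
    · rw [Module.supportDim_eq_bot_of_subsingleton]
      exact bot_le
    · exact le_of_eq hE

/-- The dimension of the support can be computed over a ring surjecting onto the base ring. -/
theorem supportDim_eq_of_surjective {R R' : Type u} [CommRing R] [CommRing R'] [Algebra R R']
    (hs : Function.Surjective (algebraMap R R')) (N : Type u) [AddCommGroup N] [Module R N]
    [Module R' N] [IsScalarTower R R' N] [Module.Finite R' N] :
    Module.supportDim R' N = Module.supportDim R N := by
  haveI : Module.Finite R R' := Module.Finite.of_surjective (Algebra.linearMap R R') hs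
  haveI : Module.Finite R N := Module.Finite.trans R' N
  rw [Module.supportDim_eq_ringKrullDim_quotient_annihilator,
    Module.supportDim_eq_ringKrullDim_quotient_annihilator]
  let f : R →+* R' ⧸ Module.annihilator R' N :=
    (Ideal.Quotient.mk (Module.annihilator R' N)).comp (algebraMap R R')
  have hf : Function.Surjective f := Ideal.Quotient.mk_surjective.comp hs
  have hker : RingHom.ker f = Module.annihilator R N := by
    ext r
    rw [RingHom.mem_ker, RingHom.comp_apply, Ideal.Quotient.eq_zero_iff_mem,
      Module.mem_annihilator, Module.mem_annihilator]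
    simp only [algebraMap_smul]
  exact (ringKrullDim_eq_of_ringEquiv
    ((Ideal.quotEquivOfEq hker.symm).trans (RingHom.quotientKerEquivOfSurjective hf))).symm

/-- The depth can be computed over a local ring surjecting onto the base ring. -/
theorem depth_eq_of_surjective {R R' : Type u} [CommRing R] [CommRing R'] [IsLocalRing R]
    [IsLocalRing R'] [IsNoetherianRing R] [Algebra R R']
    (hs : Function.Surjective (algebraMap R R')) (N : Type u) [AddCommGroup N] [Module R N]
    [Module R' N] [IsScalarTower R R' N] [Module.Finite R' N] :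
    LocCoh.depth R' N = LocCoh.depth R N := by
  haveI : Module.Finite R R' := Module.Finite.of_surjective (Algebra.linearMap R R') hs
  unfold LocCoh.depth
  rw [idealDepth_map_eq (A := R) (B := R') (maximalIdeal R) N,
    IsLocalRing.map_maximalIdeal_of_surjective _ hs]

theorem mcd_iff_of_surjective {R R' : Type u} [CommRing R] [CommRing R'] [IsLocalRing R]
    [IsLocalRing R'] [IsNoetherianRing R] [Algebra R R']
    (hs : Function.Surjective (algebraMap R R')) (N : Type u) [AddCommGroup N] [Module R N]
    [Module R' N] [IsScalarTower R R' N] [Module.Finite R' N] (n : ℕ) :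
    MCd R' N n ↔ MCd R N n := by
  unfold MCd
  rw [supportDim_eq_of_surjective hs N, depth_eq_of_surjective hs N]

/-- The codepth is invariant under semilinear isomorphisms. -/
theorem mcd_iff_of_semilinear {R R' : Type u} [CommRing R] [CommRing R'] [IsLocalRing R]
    [IsLocalRing R'] [IsNoetherianRing R] (e : R ≃+* R') {E E' : Type u} [AddCommGroup E]
    [Module R E] [Module.Finite R E] [AddCommGroup E'] [Module R' E'] (φ : E ≃+ E')
    (hφ : ∀ (r : R) (x : E), φ (r • x) = e r • φ x) (n : ℕ) : MCd R E n ↔ MCd R' E' n := by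
  letI : Algebra R R' := e.toRingHom.toAlgebra
  letI : Module R E' := Module.compHom E' e.toRingHom
  haveI : IsScalarTower R R' E' := IsScalarTower.of_algebraMap_smul (fun _ _ => rfl)
  let φl : E ≃ₗ[R] E' := { φ with map_smul' := fun r x => hφ r x }
  haveI : Module.Finite R E' := Module.Finite.equiv φl
  haveI : Module.Finite R' E' := Module.Finite.of_restrictScalars_finite R R' E'
  have hs : Function.Surjective (algebraMap R R') := e.surjective
  rw [mcd_iff_of_surjective hs E' n]
  unfold MCd
  unfold LocCoh.depth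
  rw [Module.supportDim_eq_of_equiv φl, idealDepth_congr (maximalIdeal R) φl]

/-- Arithmetic: cancellation of a finite summand on the right. -/
theorem add_le_add_add_iff' (c : ℕ) (x : WithBot ℕ∞) (d : ℕ∞) (n : ℕ) :
    x + (c : WithBot ℕ∞) ≤ (((d + (c : ℕ∞) : ℕ∞)) : WithBot ℕ∞) + n ↔
      x ≤ ((d : ℕ∞) : WithBot ℕ∞) + n := by
  rw [add_comm x, add_comm d]
  exact add_le_add_add_iff c x d n

section Flat

variable (A B : Type u) [CommRing A] [CommRing B] [IsLocalRing A] [IsLocalRing B]
  [IsNoetherianRing A] [IsNoetherianRing B] [Algebra A B] [IsLocalHom (algebraMap A B)]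

/-- A Cohen–Macaulay local ring has finite depth equal to its dimension. -/
theorem exists_nat_of_cm (R : Type u) [CommRing R] [IsLocalRing R] [IsNoetherianRing R]
    (hCM : Module.supportDim R R = ((LocCoh.depth R R : ℕ∞) : WithBot ℕ∞)) :
    ∃ a : ℕ, LocCoh.depth R R = a ∧ Module.supportDim R R = ((a : ℕ) : WithBot ℕ∞) := by
  have hfin : ringKrullDim R ≠ ⊤ := ringKrullDim_ne_top
  rw [Module.supportDim_self_eq_ringKrullDim] at hCM ⊢
  cases h : LocCoh.depth R R with
  | top => rw [h] at hCM; exact absurd hCM hfin
  | coe a => exact ⟨a, rfl, by rw [hCM, h]; rfl⟩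

/-- For a local homomorphism `A → B` of Noetherian local rings with `A` Cohen–Macaulay and a finite
`B`-module `E` flat over `A`, the closed fibre module `E/m_A E` over `B/m_A B` and `E` over `B`
have the same codepth. -/
theorem mcd_fibMod_iff_of_flat (E : Type u) [AddCommGroup E] [Module B E] [Module A E]
    [IsScalarTower A B E] [Module.Finite B E] [Module.Flat A E]
    (hCM : Module.supportDim A A = ((LocCoh.depth A A : ℕ∞) : WithBot ℕ∞)) (n : ℕ) :
    MCd (EGA4.FibRing A B) (EGA4.FibMod A B E) n ↔ MCd B E n := by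
  have hsurj : Function.Surjective (algebraMap B (EGA4.FibRing A B)) :=
    Ideal.Quotient.mk_surjective
  haveI : Module.Finite (EGA4.FibRing A B) (EGA4.FibMod A B E) :=
    Module.Finite.of_restrictScalars_finite B _ _
  rw [mcd_iff_of_surjective hsurj (EGA4.FibMod A B E) n]
  rcases subsingleton_or_nontrivial E with hE | hE
  · haveI : Subsingleton (EGA4.FibMod A B E) := by
      refine ⟨fun a b => ?_⟩
      obtain ⟨a', rfl⟩ := Submodule.mkQ_surjective _ a
      obtain ⟨b', rfl⟩ := Submodule.mkQ_surjective _ b
      rw [Subsingleton.elim a' b']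
    exact iff_of_true (mcd_of_subsingleton _ _ n) (mcd_of_subsingleton _ _ n)
  · obtain ⟨a, ha, ha'⟩ := exists_nat_of_cm A hCM
    have h1 := Groth.Agent.S2598.result A B A E
    have h2 := Groth.Agent.Lib.Helper93.DepthFlat.depth_tensor_of_flat (R := A) (S := B) A E
    let e : E ⊗[A] A ≃ₗ[B] E := AlgebraTensorModule.rid A B E
    rw [Module.supportDim_eq_of_equiv e] at h1
    have h2' : LocCoh.depth B E = LocCoh.depth A A + LocCoh.depth B (EGA4.FibMod A B E) := by
      rw [← h2]
      exact (idealDepth_congr _ e).symm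
    unfold MCd
    rw [h1, h2', ha, ha']
    exact (add_le_add_add_iff a _ _ n).symm

/-- For a flat local homomorphism `A → B` of Noetherian local rings with Cohen–Macaulay closed
fibre, the codepth of a finite `A`-module is invariant under base change to `B`. -/
theorem mcd_tensor_iff_of_flat [Module.Flat A B]
    (hF : Module.supportDim (EGA4.FibRing A B) (EGA4.FibRing A B) =
      ((LocCoh.depth (EGA4.FibRing A B) (EGA4.FibRing A B) : ℕ∞) : WithBot ℕ∞))
    (E : Type u) [AddCommGroup E] [Module A E] [Module.Finite A E] (n : ℕ) :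
    MCd B (B ⊗[A] E) n ↔ MCd A E n := by
  rcases subsingleton_or_nontrivial E with hE | hE
  · haveI : Subsingleton (B ⊗[A] E) := inferInstance
    exact iff_of_true (mcd_of_subsingleton _ _ n) (mcd_of_subsingleton _ _ n)
  · haveI : IsNoetherianRing (EGA4.FibRing A B) :=
      isNoetherianRing_of_surjective B _ (Ideal.Quotient.mk _) Ideal.Quotient.mk_surjective
    obtain ⟨c, hc, hc'⟩ := exists_nat_of_cm (EGA4.FibRing A B) hF
    have h1 := Groth.Agent.S2598.result A B E B
    have h2 := depth_tensor_eq_add_of_flat A B E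
    have heq : (EGA4.mB A B) • (⊤ : Submodule B B) = EGA4.mB A B := by
      rw [smul_eq_mul, Ideal.mul_top]
    have h3 : Module.supportDim B (EGA4.FibMod A B B) = ((c : ℕ) : WithBot ℕ∞) := by
      rw [Module.supportDim_eq_of_equiv (Submodule.quotEquivOfEq _ _ heq),
        Module.supportDim_quotient_eq_ringKrullDim,
        ← Module.supportDim_self_eq_ringKrullDim]
      exact hc'
    unfold MCd
    rw [h1, h2, h3, hc]
    exact add_le_add_add_iff' c _ _ n

/-- Variant of `mcd_tensor_iff_of_flat` for an abstract base change. -/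
theorem mcd_iff_of_isBaseChange [Module.Flat A B]
    (hF : Module.supportDim (EGA4.FibRing A B) (EGA4.FibRing A B) =
      ((LocCoh.depth (EGA4.FibRing A B) (EGA4.FibRing A B) : ℕ∞) : WithBot ℕ∞))
    (E : Type u) [AddCommGroup E] [Module A E] [Module.Finite A E]
    (E' : Type u) [AddCommGroup E'] [Module B E'] [Module A E'] [IsScalarTower A B E']
    (f : E →ₗ[A] E') (hf : IsBaseChange B f) (n : ℕ) : MCd B E' n ↔ MCd A E n := by
  rw [← mcd_tensor_iff_of_flat A B hF E n]
  unfold MCd LocCoh.depth
  rw [Module.supportDim_eq_of_equiv hf.equiv, idealDepth_congr _ hf.equiv]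

/-- Casting: inequalities of natural numbers in `WithBot ℕ∞`. -/
theorem nat_le_add_iff (p q r : ℕ) :
    ((p : ℕ) : WithBot ℕ∞) ≤ (((q : ℕ) : ℕ∞) : WithBot ℕ∞) + ((r : ℕ) : WithBot ℕ∞) ↔
      p ≤ q + r := by
  have hr : ((r : ℕ) : WithBot ℕ∞) = (((r : ℕ∞)) : WithBot ℕ∞) := rfl
  have hp : ((p : ℕ) : WithBot ℕ∞) = (((p : ℕ∞)) : WithBot ℕ∞) := rfl
  rw [hr, hp, ← WithBot.coe_add, WithBot.coe_le_coe]
  exact_mod_cast Iff.rfl

/-- If a flat local homomorphism of Noetherian local rings preserves the codepth, its closed fibre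
is Cohen–Macaulay. -/
theorem supportDim_fibRing_eq_depth_of_cdLE_iff [Module.Flat A B]
    (h : ∀ n : ℕ, CdLE B n ↔ CdLE A n) :
    Module.supportDim (EGA4.FibRing A B) (EGA4.FibRing A B) =
      ((LocCoh.depth (EGA4.FibRing A B) (EGA4.FibRing A B) : ℕ∞) : WithBot ℕ∞) := by
  haveI : IsNoetherianRing (EGA4.FibRing A B) :=
    isNoetherianRing_of_surjective B _ (Ideal.Quotient.mk _) Ideal.Quotient.mk_surjective
  obtain ⟨a, d, ha, hd, hda⟩ := exists_nat_dim_depth A
  obtain ⟨x, e, hx, he, hex⟩ := exists_nat_dim_depth (EGA4.FibRing A B)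
  have h1 := h (a - d)
  unfold CdLE at h1
  rw [depth_self_eq_add_of_flat A B, ringKrullDim_eq_add_of_flat A B] at h1
  change ringKrullDim A + ringKrullDim (EGA4.FibRing A B) ≤ _ ↔ _ at h1
  rw [ha, hx, hd, he] at h1
  have h2 : ((a : ℕ) : WithBot ℕ∞) + ((x : ℕ) : WithBot ℕ∞) = (((a + x : ℕ)) : WithBot ℕ∞) := by
    push_cast; rfl
  have h3 : ((d : ℕ) : ℕ∞) + ((e : ℕ) : ℕ∞) = (((d + e : ℕ)) : ℕ∞) := by push_cast; rfl
  rw [h2, h3, nat_le_add_iff, nat_le_add_iff] at h1
  have h4 : x ≤ e := by
    have := h1.mpr (by omega)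
    omega
  rw [Module.supportDim_self_eq_ringKrullDim, hx, he, show x = e from le_antisymm h4 hex]
  rfl

end Flat

end Algebra

end Groth.Agent.Lib.Helper13.MCodepth
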