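/-
Helper library (helper13): codepth of the stalks of the restriction of a module to the fibres of a
morphism (EGA IV 12.1.1 (i) for modules): scheme-level plumbing.
-/
import Groth.Agent.Lib.Helper13.MCodepth
import Groth.Agent.Lib.Helper13.CodepthOpen
import Groth.Agent.Lib.Helper16.FlatPull.Stalk
import Groth.Agent.Lib.Helper16.FlatPull.BaseChange
import Groth.Agent.Lib.Helper23.FibreFlatCons
import Groth.Agent.Lib.Helper58.ModApprox
import Groth.Agent.H46.FibreFree

set_option autoImplicit false
set_option linter.style.haveILetI false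
open CategoryTheory AlgebraicGeometry Limits
universe u

namespace Groth.Agent.Lib.Helper13.MCodepthSch

open Groth.Agent.Lib.Helper13.CodepthFib Groth.Agent.Lib.Helper13.MCodepth
open Groth.Agent.Lib.Helper29 IsLocalRing TensorProduct Topology TopologicalSpace

section Defs

variable {X S : Scheme.{u}}

/-- The stalk at `x` of the restriction of `F` to the fibre through `x` has codepth at most `n`
over the local ring of the fibre. -/
def MCdFib (f : X ⟶ S) (F : X.Modules) (n : ℕ) (x : X) : Prop :=
  MCd ((f.fiber (f x)).presheaf.stalk (f.asFiber x))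
    (((Scheme.Modules.pullback (f.fiberι (f x))).obj F).presheaf.stalk (f.asFiber x)) n

/-- The stalk of `F` at `x` has codepth at most `n` over the local ring of `X` at `x`. -/
def MCdStalk (F : X.Modules) (n : ℕ) (x : X) : Prop :=
  MCd (X.presheaf.stalk x) (F.presheaf.stalk x) n

/-- Algebraic form of `MCdFib`: the closed fibre of the stalk of `F` at `x` over the local
homomorphism `O_{S, f x} → O_{X, x}`. -/
def FibCdAt (f : X ⟶ S) (F : X.Modules) (n : ℕ) (x : X) : Prop :=
  letI := (f.stalkMap x).hom.toAlgebra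
  haveI : IsLocalHom (algebraMap (S.presheaf.stalk (f x)) (X.presheaf.stalk x)) :=
    inferInstanceAs (IsLocalHom (f.stalkMap x).hom)
  MCd (EGA4.FibRing (S.presheaf.stalk (f x)) (X.presheaf.stalk x))
    (EGA4.FibMod (S.presheaf.stalk (f x)) (X.presheaf.stalk x) (F.presheaf.stalk x)) n

end Defs

section Bridge

variable {X S : Scheme.{u}} (f : X ⟶ S) [LocallyOfFiniteType f] (F : X.Modules)
  [F.IsQuasicoherent] (hF : SheafOfModules.IsFinitePresentation (R := X.ringCatSheaf) F)

include hF in
/-- The stalk of the restriction of `F` to a fibre is the closed fibre of the stalk of `F`. -/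
theorem mcd_fibre_stalk_iff (s : S) (z : ↥(f.fiber s)) (n : ℕ) :
    MCd ((f.fiber s).presheaf.stalk z)
      (((Scheme.Modules.pullback (f.fiberι s)).obj F).presheaf.stalk z) n ↔
    FibCdAt f F n (f.fiberι s z) := by
  set x' := (f.fiberι s) z with hx'
  letI algAR : Algebra (S.presheaf.stalk (f x')) (X.presheaf.stalk x') :=
    (f.stalkMap x').hom.toAlgebra
  haveI hloc : IsLocalHom (algebraMap (S.presheaf.stalk (f x')) (X.presheaf.stalk x')) :=
    inferInstanceAs (IsLocalHom (f.stalkMap x').hom)
  letI algRO : Algebra (X.presheaf.stalk x') ((f.fiber s).presheaf.stalk z) :=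
    ((f.fiberι s).stalkMap z).hom.toAlgebra
  letI modRN : Module (X.presheaf.stalk x')
      (((Scheme.Modules.pullback (f.fiberι s)).obj F).presheaf.stalk z) :=
    FlatMod.moduleStalkOver (f.fiberι s) ((Scheme.Modules.pullback (f.fiberι s)).obj F) z
  haveI towRN : IsScalarTower (X.presheaf.stalk x') ((f.fiber s).presheaf.stalk z)
      (((Scheme.Modules.pullback (f.fiberι s)).obj F).presheaf.stalk z) :=
    IsScalarTower.of_compHom _ _ _
  obtain ⟨ψ, hψ⟩ := Groth.Agent.Lib.Helper16.FlatPull.exists_isBaseChange_stalk (f.fiberι s) F z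
  have hsurj : Function.Surjective
      (algebraMap (X.presheaf.stalk x') ((f.fiber s).presheaf.stalk z)) :=
    (f.fiberι s).stalkMap_surjective z
  have hker : RingHom.ker (algebraMap (X.presheaf.stalk x') ((f.fiber s).presheaf.stalk z)) =
      EGA4.mB (S.presheaf.stalk (f x')) (X.presheaf.stalk x') :=
    (le_antisymm (Groth.Agent.Lib.Helper49.map_le_ker f s z)
      (Groth.Agent.Lib.Helper49.ker_le_map f s z)).symm
  haveI fpM : Module.FinitePresentation (X.presheaf.stalk x') (F.presheaf.stalk x') :=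
    Groth.Agent.Lib.Helper49.finitePresentation_stalk_of_isFinitePresentation F hF x'
  haveI finM : Module.Finite (X.presheaf.stalk x') (F.presheaf.stalk x') := inferInstance
  -- the ring isomorphism
  let e : EGA4.FibRing (S.presheaf.stalk (f x')) (X.presheaf.stalk x') ≃+*
      (f.fiber s).presheaf.stalk z :=
    (Ideal.quotEquivOfEq hker.symm).trans (RingHom.quotientKerEquivOfSurjective hsurj)
  have he : ∀ b : X.presheaf.stalk x', e (Ideal.Quotient.mk _ b) =
      algebraMap (X.presheaf.stalk x') ((f.fiber s).presheaf.stalk z) b := fun b => rfl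
  -- the module isomorphism
  have hψsurj : Function.Surjective ψ :=
    Groth.Agent.H46.FibreFree.surjective_of_isBaseChange _ _ _ ψ hsurj hψ
  have hψker : LinearMap.ker ψ =
      EGA4.mB (S.presheaf.stalk (f x')) (X.presheaf.stalk x') •
        (⊤ : Submodule (X.presheaf.stalk x') (F.presheaf.stalk x')) := by
    apply le_antisymm
    · intro m hm
      rw [← hker]
      exact Groth.Agent.H46.FibreFree.mem_smul_top_of_map_eq_zero _ _ _ ψ hsurj hψ m hm
    · rw [Submodule.smul_le]
      intro b hb m _
      rw [LinearMap.mem_ker, map_smul, ← algebraMap_smul ((f.fiber s).presheaf.stalk z) b (ψ m)]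
      rw [← hker, RingHom.mem_ker] at hb
      rw [hb, zero_smul]
  let φ : EGA4.FibMod (S.presheaf.stalk (f x')) (X.presheaf.stalk x') (F.presheaf.stalk x')
      ≃ₗ[X.presheaf.stalk x']
      ((Scheme.Modules.pullback (f.fiberι s)).obj F).presheaf.stalk z :=
    (Submodule.quotEquivOfEq _ _ hψker.symm).trans (ψ.quotKerEquivOfSurjective hψsurj)
  have hφ : ∀ m : F.presheaf.stalk x', φ (Submodule.Quotient.mk m) = ψ m := fun m => rfl
  haveI : IsNoetherianRing (EGA4.FibRing (S.presheaf.stalk (f x')) (X.presheaf.stalk x')) :=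
    Groth.Agent.Lib.Helper55.isNoetherianRing_stalk_quotient f x'
  haveI : Module.Finite (EGA4.FibRing (S.presheaf.stalk (f x')) (X.presheaf.stalk x'))
      (EGA4.FibMod (S.presheaf.stalk (f x')) (X.presheaf.stalk x') (F.presheaf.stalk x')) :=
    Module.Finite.of_restrictScalars_finite (X.presheaf.stalk x') _ _
  refine (mcd_iff_of_semilinear e φ.toAddEquiv ?_ n).symm
  intro r x
  obtain ⟨b, rfl⟩ := Ideal.Quotient.mk_surjective r
  obtain ⟨m, rfl⟩ := Submodule.mkQ_surjective _ x
  change φ (Ideal.Quotient.mk _ b • Submodule.Quotient.mk m) = e (Ideal.Quotient.mk _ b) • φ (Submodule.Quotient.mk m)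
  rw [he, hφ, algebraMap_smul]
  change φ (Submodule.Quotient.mk (b • m)) = _
  rw [hφ, map_smul]

include hF in
theorem mcdFib_iff_fibCdAt (n : ℕ) (x : X) : MCdFib f F n x ↔ FibCdAt f F n x := by
  have h := mcd_fibre_stalk_iff f F hF (f x) (f.asFiber x) n
  rw [f.fiberι_asFiber x] at h
  exact h

end Bridge

section Noeth

/-- At a point where `F` is flat over a Cohen–Macaulay base, the codepth of the fibre module
equals the codepth of the stalk of `F`. -/
theorem fibCdAt_iff_mcdStalk_of_flat {X S : Scheme.{u}} (f : X ⟶ S) [IsLocallyNoetherian X]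
    [IsLocallyNoetherian S] (F : X.Modules)
    (hF : SheafOfModules.IsFinitePresentation (R := X.ringCatSheaf) F) (n : ℕ) (x : X)
    (hflat : FlatMod.IsFlatOverAt f F x)
    (hCM : LocCoh.IsCohenMacaulayLocalRing (S.presheaf.stalk (f x))) :
    FibCdAt f F n x ↔ MCdStalk F n x := by
  letI algAR : Algebra (S.presheaf.stalk (f x)) (X.presheaf.stalk x) :=
    (f.stalkMap x).hom.toAlgebra
  haveI hloc : IsLocalHom (algebraMap (S.presheaf.stalk (f x)) (X.presheaf.stalk x)) :=
    inferInstanceAs (IsLocalHom (f.stalkMap x).hom)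
  letI modAM : Module (S.presheaf.stalk (f x)) (F.presheaf.stalk x) :=
    FlatMod.moduleStalkOver f F x
  haveI towAM : IsScalarTower (S.presheaf.stalk (f x)) (X.presheaf.stalk x)
      (F.presheaf.stalk x) := IsScalarTower.of_compHom _ _ _
  haveI flat : Module.Flat (S.presheaf.stalk (f x)) (F.presheaf.stalk x) := hflat
  haveI fpM : Module.FinitePresentation (X.presheaf.stalk x) (F.presheaf.stalk x) :=
    Groth.Agent.Lib.Helper49.finitePresentation_stalk_of_isFinitePresentation F hF x
  haveI finM : Module.Finite (X.presheaf.stalk x) (F.presheaf.stalk x) := inferInstance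
  exact mcd_fibMod_iff_of_flat (S.presheaf.stalk (f x)) (X.presheaf.stalk x)
    (F.presheaf.stalk x) hCM.supportDim_eq_depth n

attribute [local instance] Groth.Agent.Lib.Helper45.stalkModuleSections in
/-- On a scheme locally of finite type over a quotient of a regular ring, the codepth of the stalks
of a coherent module is upper semicontinuous. -/
theorem isOpen_mcdStalk {X : Scheme.{u}} {A₀ : CommRingCat.{u}} (hA₀ : QuotReg A₀)
    (f : X ⟶ Spec A₀) [LocallyOfFiniteType f] (F : X.Modules) [F.IsQuasicoherent]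
    (hF : SheafOfModules.IsFinitePresentation (R := X.ringCatSheaf) F) (n : ℕ) :
    IsOpen {x : X | MCdStalk F n x} := by
  haveI : IsNoetherianRing A₀ := hA₀.isNoetherianRing
  haveI hX : IsLocallyNoetherian X := LocallyOfFiniteType.isLocallyNoetherian f
  rw [isOpen_iff_mem_nhds]
  intro x hx
  obtain ⟨U, hU, hxU, -⟩ := exists_isAffineOpen_mem_and_subset (x := x) (U := ⊤) trivial
  let φA : A₀ ⟶ Γ(X, U) := Spec.preimage (hU.fromSpec ≫ f)
  letI : Algebra A₀ Γ(X, U) := φA.hom.toAlgebra
  have ha : hU.fromSpec ≫ f = Spec.map (CommRingCat.ofHom (algebraMap A₀ Γ(X, U))) :=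
    (Spec.map_preimage _).symm
  haveI hft : Algebra.FiniteType A₀ Γ(X, U) := by
    have h1 : LocallyOfFiniteType (hU.fromSpec ≫ f) := inferInstance
    rw [ha, HasRingHomProperty.Spec_iff (P := @LocallyOfFiniteType)] at h1
    exact h1
  have hB : QuotReg Γ(X, U) := hA₀.of_finiteType
  haveI : IsNoetherianRing Γ(X, U) := hB.isNoetherianRing
  haveI : Module.FinitePresentation Γ(X, U) Γ(F, U) :=
    Groth.Agent.Lib.Helper49.finitePresentation_sections_of_isFinitePresentation F hF hU
  haveI : Module.Finite Γ(X, U) Γ(F, U) := inferInstance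
  obtain ⟨R, _, _, φ, hφ⟩ := hB
  letI := φ.toAlgebra
  have hT := Groth.Agent.S2678.result R Γ(X, U) hφ Γ(F, U) n
  have hkey : ∀ y : U, MCdStalk F n (y : X) ↔ hU.primeIdealOf y ∈
      {p : PrimeSpectrum Γ(X, U) |
        Module.supportDim (Localization.AtPrime p.asIdeal)
            (LocalizedModule p.asIdeal.primeCompl Γ(F, U)) ≤
          ((LocCoh.depth (Localization.AtPrime p.asIdeal)
            (LocalizedModule p.asIdeal.primeCompl Γ(F, U)) : ℕ∞) : WithBot ℕ∞) + n} := by
    intro y
    haveI := hU.isLocalization_stalk y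
    haveI := Groth.Agent.Lib.Helper45.isLocalizedModule_germₗ hU F y
    obtain ⟨h1, h2⟩ := depth_and_supportDim_eq_of_isLocalizedModule (hU.primeIdealOf y).asIdeal
      (X.presheaf.stalk (y : X)) (Groth.Agent.Lib.Helper45.germₗ F y)
    simp only [Set.mem_setOf_eq]
    unfold MCdStalk MCd
    rw [h1, h2]
  have hopen := hU.fromSpec.isOpenEmbedding.isOpenMap _ hT
  refine Filter.mem_of_superset (hopen.mem_nhds ?_) ?_
  · exact ⟨hU.primeIdealOf ⟨x, hxU⟩, (hkey ⟨x, hxU⟩).mp hx, hU.fromSpec_primeIdealOf ⟨x, hxU⟩⟩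
  · rintro _ ⟨q, hq, rfl⟩
    have hyU : hU.fromSpec q ∈ U := by
      have : hU.fromSpec q ∈ Set.range hU.fromSpec := ⟨q, rfl⟩
      rw [hU.range_fromSpec] at this
      exact this
    have hq' : hU.primeIdealOf ⟨hU.fromSpec q, hyU⟩ = q := by
      apply hU.fromSpec.isOpenEmbedding.injective
      exact hU.fromSpec_primeIdealOf ⟨hU.fromSpec q, hyU⟩
    refine (hkey ⟨hU.fromSpec q, hyU⟩).mpr ?_
    rw [hq']
    exact hq

end Noeth

section FieldBaseChange

variable {k : Type u} [Field k] (K : Type u) [Field K] [Algebra k K] {Z : Scheme.{u}}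
  (q : Z ⟶ Spec (CommRingCat.of k)) [LocallyOfFiniteType q]

/-- Invariance of the codepth of the stalks of a coherent module under extension of the base
field. -/
theorem mcdStalk_pullback_iff_of_isPullback_field {P : Scheme.{u}} (p₁ : P ⟶ Z)
    (p₂ : P ⟶ Spec (CommRingCat.of K))
    (h : IsPullback p₁ p₂ q (Spec.map (CommRingCat.ofHom (algebraMap k K))))
    (G : Z.Modules) [G.IsQuasicoherent]
    (hG : SheafOfModules.IsFinitePresentation (R := Z.ringCatSheaf) G) (n : ℕ) (z' : P) :
    MCdStalk ((Scheme.Modules.pullback p₁).obj G) n z' ↔ MCdStalk G n (p₁ z') := by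
  haveI : IsLocallyNoetherian Z := LocallyOfFiniteType.isLocallyNoetherian q
  haveI : LocallyOfFiniteType p₂ :=
    MorphismProperty.of_isPullback (P := @LocallyOfFiniteType) h inferInstance
  haveI : IsLocallyNoetherian P := LocallyOfFiniteType.isLocallyNoetherian p₂
  haveI hflatK : Flat (Spec.map (CommRingCat.ofHom (algebraMap k K))) := by
    rw [HasRingHomProperty.Spec_iff (P := @Flat)]
    exact RingHom.flat_algebraMap_iff.mpr inferInstance
  haveI : Flat p₁ := MorphismProperty.of_isPullback (P := @Flat) h.flip hflatK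
  letI algRR' : Algebra (Z.presheaf.stalk (p₁ z')) (P.presheaf.stalk z') :=
    (p₁.stalkMap z').hom.toAlgebra
  haveI hloc : IsLocalHom (algebraMap (Z.presheaf.stalk (p₁ z')) (P.presheaf.stalk z')) :=
    inferInstanceAs (IsLocalHom (p₁.stalkMap z').hom)
  haveI hfl : Module.Flat (Z.presheaf.stalk (p₁ z')) (P.presheaf.stalk z') :=
    Flat.stalkMap p₁ z'
  have hCM := supportDim_fibRing_eq_depth_of_cdLE_iff (Z.presheaf.stalk (p₁ z'))
    (P.presheaf.stalk z') (fun m => cdStalk_iff_of_isPullback_field K q p₁ p₂ h m z')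
  letI modRN : Module (Z.presheaf.stalk (p₁ z'))
      (((Scheme.Modules.pullback p₁).obj G).presheaf.stalk z') :=
    FlatMod.moduleStalkOver p₁ ((Scheme.Modules.pullback p₁).obj G) z'
  haveI towRN : IsScalarTower (Z.presheaf.stalk (p₁ z')) (P.presheaf.stalk z')
      (((Scheme.Modules.pullback p₁).obj G).presheaf.stalk z') :=
    IsScalarTower.of_compHom _ _ _
  obtain ⟨ψ, hψ⟩ := Groth.Agent.Lib.Helper16.FlatPull.exists_isBaseChange_stalk p₁ G z'
  haveI fpM : Module.FinitePresentation (Z.presheaf.stalk (p₁ z')) (G.presheaf.stalk (p₁ z')) :=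
    Groth.Agent.Lib.Helper49.finitePresentation_stalk_of_isFinitePresentation G hG (p₁ z')
  haveI finM : Module.Finite (Z.presheaf.stalk (p₁ z')) (G.presheaf.stalk (p₁ z')) :=
    inferInstance
  exact mcd_iff_of_isBaseChange (Z.presheaf.stalk (p₁ z')) (P.presheaf.stalk z') hCM
    (G.presheaf.stalk (p₁ z')) (((Scheme.Modules.pullback p₁).obj G).presheaf.stalk z') ψ hψ n

end FieldBaseChange

section FibreBaseChange

open Groth.Agent.Lib.Helper23.ConsLocusMod Groth.Agent.Lib.Helper23.FibreFlatCons

/-- The codepth of the stalks is invariant under isomorphisms of modules. -/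
theorem mcdStalk_iff_of_iso {T : Scheme.{u}} {G G' : T.Modules} (e : G ≅ G') (n : ℕ) (t : T) :
    MCdStalk G n t ↔ MCdStalk G' n t := by
  unfold MCdStalk MCd LocCoh.depth
  rw [Module.supportDim_eq_of_equiv (stalkLinearEquivOfIso e t),
    idealDepth_congr _ (stalkLinearEquivOfIso e t)]

variable {X Y X' Y' : Scheme.{u}} {f : X ⟶ Y} {f' : X' ⟶ Y'} {g' : X' ⟶ X} {g : Y' ⟶ Y}

/-- Transport along an equality of base points. -/
theorem mcdFib_congr (f : X ⟶ Y) (F : X.Modules) (n : ℕ) (s : Y) (x : X)
    (hx : f x = s) (z : ↥(f.fiber s)) (hz : f.fiberι s z = x) :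
    MCdStalk ((Scheme.Modules.pullback (f.fiberι s)).obj F) n z ↔ MCdFib f F n x := by
  subst hx
  have : z = f.asFiber x := by
    apply (f.fiberι (f x)).isEmbedding.injective
    rw [hz, f.fiberι_asFiber]
  rw [this]
  rfl

set_option backward.isDefEq.respectTransparency.types false in
/-- **The codepth of the stalks of the restriction of a module to the fibres is invariant under
base change.** -/
theorem mcdFib_iff_of_isPullback [LocallyOfFiniteType f] (hc : IsPullback g' f' f g)
    (F : X.Modules) [F.IsQuasicoherent]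
    (hF : SheafOfModules.IsFinitePresentation (R := X.ringCatSheaf) F) (n : ℕ) (x' : X') :
    MCdFib f' ((Scheme.Modules.pullback g').obj F) n x' ↔ MCdFib f F n (g' x') := by
  have hpb := isPullback_fiberToSpecResidueField_of_isPullback hc (f' x')
  let _ : Algebra ↑(Y.residueField (g (f' x'))) ↑(Y'.residueField (f' x')) :=
    (g.residueFieldMap (f' x')).hom.toAlgebra
  let q' : (f.fiber (g (f' x'))) ⟶ Spec (CommRingCat.of ↑(Y.residueField (g (f' x')))) :=
    f.fiberToSpecResidueField (g (f' x'))
  haveI : LocallyOfFiniteType q' :=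
    MorphismProperty.pullback_snd (P := @LocallyOfFiniteType) _ _ ‹_›
  let hm := pullback.map f' (Y'.fromSpecResidueField (f' x')) f
      (Y.fromSpecResidueField (g (f' x'))) g' (Spec.map (g.residueFieldMap (f' x'))) g
      hc.w.symm (by simp)
  have h2 : hm ≫ f.fiberι (g (f' x')) = f'.fiberι (f' x') ≫ g' := pullback.lift_fst _ _ _
  let G : (f.fiber (g (f' x'))).Modules :=
    (Scheme.Modules.pullback (f.fiberι (g (f' x')))).obj F
  haveI : G.IsQuasicoherent := isQCoh_pullback _ F
  have hG : SheafOfModules.IsFinitePresentation (R := (f.fiber (g (f' x'))).ringCatSheaf) G :=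
    isFP_pullback _ F hF
  have e : (Scheme.Modules.pullback (f'.fiberι (f' x'))).obj
      ((Scheme.Modules.pullback g').obj F) ≅ (Scheme.Modules.pullback hm).obj G :=
    pbSquare h2.symm F
  have h1 := mcdStalk_pullback_iff_of_isPullback_field
    (k := ↑(Y.residueField (g (f' x')))) (↑(Y'.residueField (f' x'))) q' hm _ hpb G hG n
    (f'.asFiber x')
  refine Iff.trans (mcdStalk_iff_of_iso e n (f'.asFiber x')) (Iff.trans h1 ?_)
  have hx : f (g' x') = g (f' x') := by
    have := congr(($(hc.w)) x')
    exact this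
  refine mcdFib_congr f F n (g (f' x')) (g' x') hx _ ?_
  have := congr(($h2) (f'.asFiber x'))
  rw [Scheme.Hom.comp_apply, Scheme.Hom.comp_apply, f'.fiberι_asFiber] at this
  exact this

/-- The codepth of the fibre modules is invariant under isomorphisms of modules. -/
theorem mcdFib_iff_of_iso (f : X ⟶ Y) {G G' : X.Modules} (e : G ≅ G') (n : ℕ) (x : X) :
    MCdFib f G n x ↔ MCdFib f G' n x :=
  mcdStalk_iff_of_iso ((Scheme.Modules.pullback (f.fiberι (f x))).mapIso e) n (f.asFiber x)

/-- A morphism is the base change of its composite with a monomorphism. -/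
theorem isPullback_id_comp_mono {A B C : Scheme.{u}} (h : A ⟶ B) (v : B ⟶ C) [Mono v] :
    IsPullback (𝟙 A) h (h ≫ v) v := by
  have hK : IsPullback (𝟙 B) (𝟙 B) v v := (IsKernelPair.id_of_mono v)
  have hL : IsPullback (𝟙 A) h h (𝟙 B) := IsPullback.of_horiz_isIso ⟨by simp⟩
  have sq : IsPullback (𝟙 A) (h ≫ 𝟙 B) (h ≫ v) v := hL.paste_vert hK
  rw [Category.comp_id] at sq
  exact sq

/-- Composing with a monomorphism on the target does not change the fibre modules. -/
theorem mcdFib_comp_mono_iff {A B C : Scheme.{u}} (h : A ⟶ B) (v : B ⟶ C) [Mono v]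
    [LocallyOfFiniteType (h ≫ v)] (G : A.Modules) [G.IsQuasicoherent]
    (hG : SheafOfModules.IsFinitePresentation (R := A.ringCatSheaf) G) (n : ℕ) (z : A) :
    MCdFib (h ≫ v) G n z ↔ MCdFib h G n z := by
  have sq := isPullback_id_comp_mono h v
  have h1 := mcdFib_iff_of_isPullback sq G hG n z
  rw [mcdFib_iff_of_iso h (pbId G) n z] at h1
  exact h1.symm

/-- Invariance of the codepth of the stalks of a coherent module under restriction to an open
subscheme. -/
theorem mcdStalk_pullback_iff_of_isOpenImmersion {P Z : Scheme.{u}} [IsLocallyNoetherian Z]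
    (k : P ⟶ Z) [IsOpenImmersion k] (G : Z.Modules) [G.IsQuasicoherent]
    (hG : SheafOfModules.IsFinitePresentation (R := Z.ringCatSheaf) G) (n : ℕ) (z' : P) :
    MCdStalk ((Scheme.Modules.pullback k).obj G) n z' ↔ MCdStalk G n (k z') := by
  let e : Z.presheaf.stalk (k z') ≃+* P.presheaf.stalk z' :=
    (asIso (k.stalkMap z')).commRingCatIsoToRingEquiv
  haveI : IsNoetherianRing (P.presheaf.stalk z') := isNoetherianRing_of_ringEquiv _ e
  letI algRR' : Algebra (Z.presheaf.stalk (k z')) (P.presheaf.stalk z') :=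
    (k.stalkMap z').hom.toAlgebra
  haveI hloc : IsLocalHom (algebraMap (Z.presheaf.stalk (k z')) (P.presheaf.stalk z')) :=
    inferInstanceAs (IsLocalHom (k.stalkMap z').hom)
  haveI hfl : Module.Flat (Z.presheaf.stalk (k z')) (P.presheaf.stalk z') :=
    RingHom.Flat.of_bijective (ConcreteCategory.bijective_of_isIso (k.stalkMap z'))
  have hCM := supportDim_fibRing_eq_depth_of_cdLE_iff (Z.presheaf.stalk (k z'))
    (P.presheaf.stalk z') (fun m => (cdLE_iff_of_ringEquiv e m).symm)
  letI modRN : Module (Z.presheaf.stalk (k z'))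
      (((Scheme.Modules.pullback k).obj G).presheaf.stalk z') :=
    FlatMod.moduleStalkOver k ((Scheme.Modules.pullback k).obj G) z'
  haveI towRN : IsScalarTower (Z.presheaf.stalk (k z')) (P.presheaf.stalk z')
      (((Scheme.Modules.pullback k).obj G).presheaf.stalk z') :=
    IsScalarTower.of_compHom _ _ _
  obtain ⟨ψ, hψ⟩ := Groth.Agent.Lib.Helper16.FlatPull.exists_isBaseChange_stalk k G z'
  haveI fpM : Module.FinitePresentation (Z.presheaf.stalk (k z')) (G.presheaf.stalk (k z')) :=
    Groth.Agent.Lib.Helper49.finitePresentation_stalk_of_isFinitePresentation G hG (k z')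
  haveI finM : Module.Finite (Z.presheaf.stalk (k z')) (G.presheaf.stalk (k z')) :=
    inferInstance
  exact mcd_iff_of_isBaseChange (Z.presheaf.stalk (k z')) (P.presheaf.stalk z') hCM
    (G.presheaf.stalk (k z')) (((Scheme.Modules.pullback k).obj G).presheaf.stalk z') ψ hψ n

/-- Restricting to an open subscheme of the source does not change the fibre modules. -/
theorem mcdFib_comp_openImmersion_left_iff {A B C : Scheme.{u}} (j : A ⟶ B) [IsOpenImmersion j]
    (h : B ⟶ C) [LocallyOfFiniteType h] (G : B.Modules) [G.IsQuasicoherent]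
    (hG : SheafOfModules.IsFinitePresentation (R := B.ringCatSheaf) G) (n : ℕ) (z : A) :
    MCdFib (j ≫ h) ((Scheme.Modules.pullback j).obj G) n z ↔ MCdFib h G n (j z) := by
  let c : C := (j ≫ h) z
  let k : (j ≫ h).fiber c ⟶ h.fiber c :=
    pullback.map (j ≫ h) (C.fromSpecResidueField c) h (C.fromSpecResidueField c) j (𝟙 _) (𝟙 _)
      (by simp) (by simp)
  haveI : IsOpenImmersion k := Scheme.pullback_map_isOpenImmersion _ _ _ _ _ _ _ _ _
  have hk : k ≫ h.fiberι c = (j ≫ h).fiberι c ≫ j := pullback.lift_fst _ _ _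
  let GB : (h.fiber c).Modules := (Scheme.Modules.pullback (h.fiberι c)).obj G
  haveI : GB.IsQuasicoherent := isQCoh_pullback _ G
  have hGB : SheafOfModules.IsFinitePresentation (R := (h.fiber c).ringCatSheaf) GB :=
    isFP_pullback _ G hG
  have e : (Scheme.Modules.pullback ((j ≫ h).fiberι c)).obj
      ((Scheme.Modules.pullback j).obj G) ≅ (Scheme.Modules.pullback k).obj GB :=
    pbSquare hk.symm G
  haveI := Groth.Agent.Lib.Helper13.CMChart.isLocallyNoetherian_fiber h c
  refine Iff.trans (mcdStalk_iff_of_iso e n ((j ≫ h).asFiber z))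
    (Iff.trans (mcdStalk_pullback_iff_of_isOpenImmersion k GB hGB n _) ?_)
  refine mcdFib_congr h G n c (j z) rfl _ ?_
  have := congr(($hk) ((j ≫ h).asFiber z))
  rw [Scheme.Hom.comp_apply, Scheme.Hom.comp_apply, (j ≫ h).fiberι_asFiber] at this
  exact this

end FibreBaseChange

end Groth.Agent.Lib.Helper13.MCodepthSch
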