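/-
Helper library (helper13): for a module of finite presentation `F` flat over the base of a morphism
locally of finite presentation, the locus where the fibre module has codepth at most `n` is open
(EGA IV 12.1.1 (i) for modules).
-/
import Groth.Agent.Lib.Helper13.MCodepthSch

set_option autoImplicit false
set_option linter.style.haveILetI false
open CategoryTheory AlgebraicGeometry Limits
universe u

namespace Groth.Agent.Lib.Helper13.MCodepthOpen

open Groth.Agent.Lib.Helper13.CodepthFib Groth.Agent.Lib.Helper13.MCodepth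
open Groth.Agent.Lib.Helper13.MCodepthSch Groth.Agent.Lib.Helper13.CodepthOpen
open Groth.Agent.Lib.Helper29 IsLocalRing TensorProduct Topology TopologicalSpace
open Groth.Agent.Lib.Helper23.ConsLocusMod

/-- A criterion for constructibility in a Noetherian sober space: near the generic point of every
irreducible closed subset, the set coincides with an open set. -/
theorem isConstructible_of_forall_exists_open {T : Type*} [TopologicalSpace T]
    [NoetherianSpace T] [QuasiSober T] (E : Set T)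
    (h : ∀ (Z : Set T) (ξ : T), IsClosed Z → IsGenericPoint ξ Z →
      ∃ D O : Set T, IsOpen D ∧ IsOpen O ∧ ξ ∈ D ∧ ∀ z ∈ Z, z ∈ D → (z ∈ E ↔ z ∈ O)) :
    IsConstructible E := by
  rw [Groth.Agent.Lib.Helper12.ConstrTop.isConstructible_iff_forall_irreducible_closed]
  intro Z hZc hZi
  obtain ⟨ξ, hξ⟩ := QuasiSober.sober hZi hZc
  obtain ⟨D, O, hD, hO, hξD, hkey⟩ := h Z ξ hZc hξ
  have hξmem : ξ ∈ Z := hξ.mem
  by_cases hξO : ξ ∈ O
  · right
    refine ⟨D ∩ O, hD.inter hO, ⟨ξ, ⟨hξD, hξO⟩, hξmem⟩, ?_⟩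
    rintro z ⟨⟨hzD, hzO⟩, hzZ⟩
    exact (hkey z hzZ hzD).mpr hzO
  · left
    have hsub : (Subtype.val ⁻¹' E : Set Z) ⊆ (Subtype.val ⁻¹' D : Set Z)ᶜ := by
      rintro ⟨z, hzZ⟩ hzE hzD
      have hzO : z ∈ O := (hkey z hzZ hzD).mp hzE
      have hs : ξ ⤳ z := by
        rw [specializes_iff_mem_closure, hξ.def]
        exact hzZ
      exact hξO (hs.mem_open hO hzO)
    have hopenD : IsOpen (Subtype.val ⁻¹' D : Set Z) := hD.preimage continuous_subtype_val
    have hdense : Dense (Subtype.val ⁻¹' D : Set Z) := by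
      haveI : IrreducibleSpace Z := (isIrreducible_iff_irreducibleSpace (s := Z)).1 hZi
      exact hopenD.dense ⟨⟨ξ, hξmem⟩, hξD⟩
    have hnd : IsNowhereDense ((Subtype.val ⁻¹' D : Set Z)ᶜ) := by
      rw [hopenD.isClosed_compl.isNowhereDense_iff, interior_compl, hdense.closure_eq,
        Set.compl_univ]
    exact hnd.mono hsub

section Noeth

variable {X₀ : Scheme.{u}} (A₀ : CommRingCat.{u}) (hA₀ : QuotReg A₀) (f₀ : X₀ ⟶ Spec A₀)
  [LocallyOfFiniteType f₀] (F₀ : X₀.Modules) [F₀.IsQuasicoherent]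
  (hF₀ : SheafOfModules.IsFinitePresentation (R := X₀.ringCatSheaf) F₀)
  (hfl : FlatMod.IsFlatOver f₀ F₀)

include hA₀ hF₀ hfl in
/-- Over a base all of whose local rings are Cohen–Macaulay ... -/
theorem mcdFib_iff_mcdStalk_of_cm (n : ℕ) (x : X₀)
    (hCM : CdStalk (Spec A₀) 0 (f₀ x)) : MCdFib f₀ F₀ n x ↔ MCdStalk F₀ n x := by
  haveI : IsNoetherianRing A₀ := hA₀.isNoetherianRing
  haveI hX₀ : IsLocallyNoetherian X₀ := LocallyOfFiniteType.isLocallyNoetherian f₀
  rw [mcdFib_iff_fibCdAt f₀ F₀ hF₀ n x]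
  exact fibCdAt_iff_mcdStalk_of_flat f₀ F₀ hF₀ n x (hfl x)
    { supportDim_eq_depth := supportDim_eq_depth_of_cdLE_zero hCM }

include hA₀ hF₀ hfl in
/-- **Noetherian case**: constructibility. -/
theorem isConstructible_mcdFib_noeth [QuasiCompact f₀] (n : ℕ) :
    IsConstructible {x : X₀ | MCdFib f₀ F₀ n x} := by
  haveI : IsNoetherianRing A₀ := hA₀.isNoetherianRing
  haveI hX₀ : IsLocallyNoetherian X₀ := LocallyOfFiniteType.isLocallyNoetherian f₀
  haveI : CompactSpace X₀ := QuasiCompact.compactSpace_of_compactSpace f₀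
  haveI : IsNoetherian X₀ := {}
  haveI : TopologicalSpace.NoetherianSpace X₀ := inferInstance
  apply isConstructible_of_forall_exists_open
  intro Z ξ hZc hξ
  let η : PrimeSpectrum A₀ := f₀ ξ
  let P : Ideal A₀ := η.asIdeal
  let iT : Spec (CommRingCat.of (A₀ ⧸ P)) ⟶ Spec A₀ :=
    Spec.map (CommRingCat.ofHom (Ideal.Quotient.mk P))
  haveI hiT : IsClosedImmersion iT :=
    IsClosedImmersion.spec_of_surjective _ Ideal.Quotient.mk_surjective
  haveI : IsDomain (A₀ ⧸ P) := Ideal.Quotient.isDomain P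
  haveI : IsIntegral (Spec (CommRingCat.of (A₀ ⧸ P))) := inferInstance
  have hAT : QuotReg (CommRingCat.of (A₀ ⧸ P)) :=
    hA₀.of_surjective (Ideal.Quotient.mk P) Ideal.Quotient.mk_surjective
  haveI : IsNoetherianRing (A₀ ⧸ P) := inferInstance
  let fT := pullback.snd f₀ iT
  let jT := pullback.fst f₀ iT
  have hpb : IsPullback jT fT f₀ iT := IsPullback.of_hasPullback f₀ iT
  let FT : (pullback f₀ iT).Modules := (Scheme.Modules.pullback jT).obj F₀
  haveI : FT.IsQuasicoherent := isQCoh_pullback jT F₀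
  have hFT : SheafOfModules.IsFinitePresentation (R := (pullback f₀ iT).ringCatSheaf) FT :=
    isFP_pullback jT F₀ hF₀
  have hflT : FlatMod.IsFlatOver fT FT := fun x' =>
    Groth.Agent.Lib.Helper16.FlatPull.isFlatOverAt_baseChange f₀ fT jT iT hpb F₀ x' (hfl _)
  -- the CM locus of `T`
  have hVopen : IsOpen {t : ↥(Spec (CommRingCat.of (A₀ ⧸ P))) |
      CdStalk (Spec (CommRingCat.of (A₀ ⧸ P))) 0 t} :=
    isOpen_cdStalk hAT (𝟙 (Spec (CommRingCat.of (A₀ ⧸ P)))) 0
  -- the codepth locus of `F_T`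
  have hWopen : IsOpen {x' : ↥(pullback f₀ iT) | MCdStalk FT n x'} :=
    isOpen_mcdStalk hAT fT FT hFT n
  have hW : ∀ x' : ↥(pullback f₀ iT),
      CdStalk (Spec (CommRingCat.of (A₀ ⧸ P))) 0 (fT x') →
      (MCdStalk FT n x' ↔ MCdFib f₀ F₀ n (jT x')) := fun x' hx' =>
    (mcdFib_iff_mcdStalk_of_cm (CommRingCat.of (A₀ ⧸ P)) hAT fT FT hFT hflT n x' hx').symm.trans
      (mcdFib_iff_of_isPullback hpb F₀ hF₀ n x')
  have hj : IsEmbedding jT := jT.isClosedEmbedding.isEmbedding
  obtain ⟨O, hO, hOW⟩ := hj.isInducing.isOpen_iff.mp hWopen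
  have hiTe : IsEmbedding iT := iT.isClosedEmbedding.isEmbedding
  obtain ⟨D₀, hD₀, hD₀U⟩ := hiTe.isInducing.isOpen_iff.mp hVopen
  let D : Set X₀ := f₀ ⁻¹' D₀
  have hD : IsOpen D := hD₀.preimage f₀.continuous
  have hrange : Set.range iT = PrimeSpectrum.zeroLocus (P : Set A₀) := by
    have := range_comap_of_surjective _ (Ideal.Quotient.mk P)
      Ideal.Quotient.mk_surjective
    rw [Ideal.mk_ker] at this
    exact this
  have hA : ∀ z ∈ Z, z ∈ D → ∃ x' : ↥(pullback f₀ iT), jT x' = z ∧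
      CdStalk (Spec (CommRingCat.of (A₀ ⧸ P))) 0 (fT x') := by
    intro z hzZ hzD
    have hs : ξ ⤳ z := by
      rw [specializes_iff_mem_closure, hξ.def]
      exact hzZ
    have hs' : η ⤳ f₀ z := hs.map f₀.continuous
    have hmem : f₀ z ∈ Set.range iT := by
      rw [hrange]
      exact (PrimeSpectrum.le_iff_specializes η (f₀ z)).mpr hs'
    obtain ⟨t, ht⟩ := hmem
    have htV : t ∈ {t | CdStalk (Spec (CommRingCat.of (A₀ ⧸ P))) 0 t} := by
      have : t ∈ iT ⁻¹' D₀ := by
        rw [Set.mem_preimage, ht]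
        exact hzD
      rw [hD₀U] at this
      exact this
    obtain ⟨x', hx'1, hx'2⟩ := Groth.Agent.Lib.Helper13.CMCons.exists_preimage_of_isPullback hpb z
      t ht.symm
    refine ⟨x', hx'1, ?_⟩
    rw [hx'2]
    exact htV
  refine ⟨D, O, hD, hO, ?_, ?_⟩
  · have h1 : iT (genericPoint ↥(Spec (CommRingCat.of (A₀ ⧸ P)))) ∈ D₀ := by
      have : genericPoint ↥(Spec (CommRingCat.of (A₀ ⧸ P))) ∈ iT ⁻¹' D₀ := by
        rw [hD₀U]
        exact cdStalk_genericPoint _
      exact this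
    have h2 : η ⤳ iT (genericPoint ↥(Spec (CommRingCat.of (A₀ ⧸ P)))) := by
      rw [← PrimeSpectrum.le_iff_specializes]
      have : iT (genericPoint ↥(Spec (CommRingCat.of (A₀ ⧸ P)))) ∈ Set.range iT := ⟨_, rfl⟩
      rw [hrange] at this
      exact this
    exact h2.mem_open hD₀ h1
  · intro z hzZ hzD
    obtain ⟨x', rfl, hx'⟩ := hA z hzZ hzD
    change MCdFib f₀ F₀ n (jT x') ↔ _
    rw [← hW x' hx']
    have : x' ∈ jT ⁻¹' O ↔ MCdStalk FT n x' := by
      rw [hOW]
      rfl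
    exact this.symm

include hA₀ hF₀ hfl in
/-- **Noetherian case**: stability under generization. -/
theorem stableUnderGeneralization_mcdFib_noeth (n : ℕ) :
    StableUnderGeneralization {x : X₀ | MCdFib f₀ F₀ n x} := by
  haveI : IsNoetherianRing A₀ := hA₀.isNoetherianRing
  haveI hX₀ : IsLocallyNoetherian X₀ := LocallyOfFiniteType.isLocallyNoetherian f₀
  intro x x' hxx' hx
  by_cases hne : x' = x
  · rw [hne]; exact hx
  obtain ⟨U, hU, hxU, -⟩ := exists_isAffineOpen_mem_and_subset (x := x) (U := ⊤) trivial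
  have hx'U : x' ∈ U := hxx'.mem_open U.isOpen hxU
  have hxr : x ∈ Set.range hU.fromSpec := by rw [hU.range_fromSpec]; exact hxU
  have hxr' : x' ∈ Set.range hU.fromSpec := by rw [hU.range_fromSpec]; exact hx'U
  obtain ⟨(p : PrimeSpectrum Γ(X₀, U)), hp⟩ := hxr
  obtain ⟨(p' : PrimeSpectrum Γ(X₀, U)), hp'⟩ := hxr'
  haveI : IsNoetherianRing Γ(X₀, U) := IsLocallyNoetherian.component_noetherian ⟨U, hU⟩
  have hspec : p' ⤳ p := by
    have h0 : hU.fromSpec p' ⤳ hU.fromSpec p := by rw [hp, hp']; exact hxx'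
    exact hU.fromSpec.isOpenEmbedding.isInducing.specializes_iff.mp h0
  have hle : p' ≤ p := (PrimeSpectrum.le_iff_specializes p' p).mpr hspec
  have hlt : p' < p := lt_of_le_of_ne hle (fun e => hne (by rw [← hp', ← hp, e]))
  obtain ⟨R, _, _, _, _, h1, h2⟩ := Groth.Agent.Lib.Helper12.FlatCx.exists_dvr_of_lt p' p hlt
  let h : Spec (CommRingCat.of R) ⟶ X₀ :=
    Spec.map (CommRingCat.ofHom (algebraMap Γ(X₀, U) R)) ≫ hU.fromSpec
  let g : Spec (CommRingCat.of R) ⟶ Spec A₀ := h ≫ f₀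
  let σ : Spec (CommRingCat.of R) ⟶ pullback f₀ g := pullback.lift h (𝟙 _) (by simp [g])
  have hσ1 : σ ≫ pullback.fst f₀ g = h := pullback.lift_fst _ _ _
  let c : Spec (CommRingCat.of R) := closedPoint R
  let η : Spec (CommRingCat.of R) := (⊥ : PrimeSpectrum R)
  have hhc : h c = x := by
    change hU.fromSpec (PrimeSpectrum.comap (algebraMap Γ(X₀, U) R) (closedPoint R)) = x
    rw [h2, hp]
  have hhη : h η = x' := by
    change hU.fromSpec (PrimeSpectrum.comap (algebraMap Γ(X₀, U) R) ⊥) = x'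
    rw [h1, hp']
  have hz : pullback.fst f₀ g (σ c) = x := by
    rw [← Scheme.Hom.comp_apply, hσ1, hhc]
  have hz' : pullback.fst f₀ g (σ η) = x' := by
    rw [← Scheme.Hom.comp_apply, hσ1, hhη]
  let FP : (pullback f₀ g).Modules := (Scheme.Modules.pullback (pullback.fst f₀ g)).obj F₀
  haveI : FP.IsQuasicoherent := isQCoh_pullback _ F₀
  have hFP : SheafOfModules.IsFinitePresentation (R := (pullback f₀ g).ringCatSheaf) FP :=
    isFP_pullback _ F₀ hF₀
  have hflP : FlatMod.IsFlatOver (pullback.snd f₀ g) FP := fun w =>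
    Groth.Agent.Lib.Helper16.FlatPull.isFlatOverAt_baseChange f₀ (pullback.snd f₀ g)
      (pullback.fst f₀ g) g (IsPullback.of_hasPullback f₀ g) F₀ w (hfl _)
  have hpb : ∀ w, MCdFib (pullback.snd f₀ g) FP n w ↔ MCdFib f₀ F₀ n (pullback.fst f₀ g w) :=
    fun w => mcdFib_iff_of_isPullback (IsPullback.of_hasPullback f₀ g) F₀ hF₀ n w
  have hRq : QuotReg (CommRingCat.of R) := QuotReg.of_isRegularRing R
  have hst : ∀ w, MCdFib (pullback.snd f₀ g) FP n w ↔ MCdStalk FP n w := fun w => by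
    refine mcdFib_iff_mcdStalk_of_cm (CommRingCat.of R) hRq (pullback.snd f₀ g) FP hFP hflP n w ?_
    have hcm := isCohenMacaulayLocalRing_stalk_of_isRegularRing R (pullback.snd f₀ g w)
    unfold CdStalk CdLE
    rw [← Module.supportDim_self_eq_ringKrullDim, hcm.supportDim_eq_depth, Nat.cast_zero,
      add_zero]
  have hopen := isOpen_mcdStalk hRq (pullback.snd f₀ g) FP hFP n
  have hηc : η ⤳ c := (PrimeSpectrum.le_iff_specializes _ _).mp bot_le
  have hσs : σ η ⤳ σ c := hηc.map σ.continuous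
  have hzE : MCdStalk FP n (σ c) := by
    rw [← hst, hpb, hz]; exact hx
  have hz'E : MCdStalk FP n (σ η) := hσs.mem_open hopen hzE
  have := (hpb (σ η)).mp ((hst _).mpr hz'E)
  rw [hz'] at this
  exact this

include hA₀ hF₀ hfl in
/-- **Noetherian case**: for a module of finite presentation flat over the spectrum of a quotient of
a regular ring, the locus where the fibre module has codepth at most `n` is open. -/
theorem isOpen_mcdFib_of_flat_noeth [QuasiCompact f₀] (n : ℕ) :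
    IsOpen {x : X₀ | MCdFib f₀ F₀ n x} :=
  Groth.Agent.Lib.Helper23.FlatFibreDim.isOpen_of_isLocallyConstructible_of_stableUnderGeneralization
    (isConstructible_mcdFib_noeth A₀ hA₀ f₀ F₀ hF₀ hfl n).isLocallyConstructible
    (stableUnderGeneralization_mcdFib_noeth A₀ hA₀ f₀ F₀ hF₀ hfl n)

end Noeth

section General

open Groth.Agent.Lib.Helper23.FibreFlatCons

/-- Algebras of finite type over `ℤ` are quotients of regular rings. -/
theorem quotReg_of_finiteType_int (B : Type u) [CommRing B] (h : Algebra.FiniteType ℤ B) :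
    QuotReg B := by
  obtain ⟨m, φ, hφ⟩ := Algebra.FiniteType.iff_quotient_mvPolynomial''.mp h
  haveI : IsRegularRing (ULift.{u} ℤ) :=
    IsRegularRing.of_ringEquiv (ULift.ringEquiv : ULift.{u} ℤ ≃+* ℤ).symm
  refine ⟨MvPolynomial (Fin m) (ULift.{u} ℤ), inferInstance, inferInstance,
    φ.toRingHom.comp (MvPolynomial.map (ULift.ringEquiv : ULift.{u} ℤ ≃+* ℤ).toRingHom), ?_⟩
  exact hφ.comp (MvPolynomial.map_surjective _ (ULift.ringEquiv : ULift.{u} ℤ ≃+* ℤ).surjective)

/-- **EGA IV 12.1.1 (i) for modules**: for `f` locally of finite presentation and a module of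
finite presentation `F` flat over the base, the locus where the fibre module has codepth at most `n`
is open. -/
theorem isOpen_mcdFib_of_flat {X Y : Scheme.{u}} (f : X ⟶ Y) [LocallyOfFinitePresentation f]
    (F : X.Modules) [F.IsQuasicoherent]
    (hF : SheafOfModules.IsFinitePresentation (R := X.ringCatSheaf) F)
    (hfl : FlatMod.IsFlatOver f F) (n : ℕ) : IsOpen {x : X | MCdFib f F n x} := by
  rw [isOpen_iff_forall_mem_open]
  intro x₀ hx₀
  obtain ⟨W, hW, hx₀W, -⟩ := exists_isAffineOpen_mem_and_subset (x := f x₀) (U := ⊤) trivial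
  obtain ⟨V, hV, hx₀V, eV⟩ := exists_isAffineOpen_mem_and_subset (x := x₀) (U := f ⁻¹ᵁ W) hx₀W
  suffices h : IsOpen ((Subtype.val : ↥V → X) ⁻¹' {x | MCdFib f F n x}) by
    refine ⟨Subtype.val '' ((Subtype.val : ↥V → X) ⁻¹' {x | MCdFib f F n x}), ?_,
      V.2.isOpenMap_subtype_val _ h, ⟨⟨x₀, hx₀V⟩, hx₀, rfl⟩⟩
    rintro _ ⟨z, hz, rfl⟩
    exact hz
  let f₁ : (V : Scheme.{u}) ⟶ (W : Scheme.{u}) := f.resLE W V eV
  have hf₁ : f₁ ≫ W.ι = V.ι ≫ f := Scheme.Hom.resLE_comp_ι f eV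
  haveI : IsAffine (V : Scheme.{u}) := hV
  haveI : IsAffine (W : Scheme.{u}) := hW
  haveI hf₁fp : LocallyOfFinitePresentation f₁ := inferInstance
  let F₁ : (V : Scheme.{u}).Modules := (Scheme.Modules.pullback V.ι).obj F
  haveI : F₁.IsQuasicoherent := isQCoh_pullback V.ι F
  have hF₁ : SheafOfModules.IsFinitePresentation (R := (V : Scheme.{u}).ringCatSheaf) F₁ :=
    isFP_pullback V.ι F hF
  -- flatness of `F₁` over `W`
  have hfl₁ : FlatMod.IsFlatOver f₁ F₁ := by
    intro z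
    have h1 : FlatMod.IsFlatOverAt (V.ι ≫ f) F₁ z :=
      (Groth.Agent.Lib.Helper16.FlatPull.isFlatOverAt_pullback_iff V.ι f F z
        (Flat.stalkMap V.ι z)).mp (hfl (V.ι z))
    have h2 : FlatMod.IsFlatOverAt (f₁ ≫ W.ι) F₁ z := by rw [hf₁]; exact h1
    have h3 := Groth.Agent.Lib.Helper16.FlatPull.isFlatOverAt_baseChange (f₁ ≫ W.ι) f₁ (𝟙 _) W.ι
      (isPullback_id_comp_mono f₁ W.ι) F₁ z h2
    exact isFlatOverAt_of_iso f₁ (pbId F₁) z h3
  obtain ⟨X₀, S₀, f₀, g, g', hX₀, hS₀, hpb, hft, hlft, F₀, hF₀c, hF₀fl, ⟨eF⟩⟩ :=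
    Groth.Agent.Lib.Helper58.ModApprox.flat_module_approx f₁ F₁ hF₁ hfl₁
  have hA₀ : QuotReg (Γ(S₀, ⊤) : CommRingCat.{u}) := quotReg_of_finiteType_int _ hft
  haveI : IsNoetherianRing Γ(S₀, ⊤) := hA₀.isNoetherianRing
  haveI : IsLocallyNoetherian S₀ := by
    haveI : IsLocallyNoetherian (Spec Γ(S₀, ⊤)) := inferInstance
    exact LocallyOfFiniteType.isLocallyNoetherian S₀.isoSpec.hom
  haveI : IsLocallyNoetherian X₀ := LocallyOfFiniteType.isLocallyNoetherian f₀
  haveI : F₀.IsQuasicoherent := hF₀c.1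
  have hF₀ : SheafOfModules.IsFinitePresentation (R := X₀.ringCatSheaf) F₀ :=
    Groth.Agent.Lib.Helper49.isFinitePresentation_of_isFiniteType_of_noetherian F₀ hF₀c.2
  let f₀' : X₀ ⟶ Spec Γ(S₀, ⊤) := f₀ ≫ S₀.isoSpec.hom
  haveI : LocallyOfFiniteType f₀' := inferInstanceAs (LocallyOfFiniteType (f₀ ≫ S₀.isoSpec.hom))
  haveI : QuasiCompact f₀' := inferInstance
  have hfl₀' : FlatMod.IsFlatOver f₀' F₀ := fun x =>
    Groth.Agent.Lib.Helper16.FlatPull.isFlatOverAt_comp_of_flat f₀ S₀.isoSpec.hom F₀ x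
      (Flat.stalkMap S₀.isoSpec.hom (f₀ x)) (hF₀fl x)
  have hopen := isOpen_mcdFib_of_flat_noeth (Γ(S₀, ⊤) : CommRingCat.{u}) hA₀ f₀' F₀ hF₀ hfl₀' n
  have hset : ((Subtype.val : ↥V → X) ⁻¹' {x | MCdFib f F n x}) =
      (g' : ↥(V : Scheme.{u}) → X₀) ⁻¹' {x | MCdFib f₀' F₀ n x} := by
    ext z
    change MCdFib f F n (V.ι z) ↔ MCdFib f₀' F₀ n (g' z)
    rw [← mcdFib_comp_openImmersion_left_iff V.ι f F hF n z]
    have e1 : MCdFib (V.ι ≫ f) F₁ n z ↔ MCdFib (f₁ ≫ W.ι) F₁ n z := by rw [hf₁]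
    rw [e1, mcdFib_comp_mono_iff f₁ W.ι F₁ hF₁ n z, mcdFib_iff_of_iso f₁ eF.symm n z,
      mcdFib_iff_of_isPullback hpb F₀ hF₀ n z]
    exact (mcdFib_comp_mono_iff f₀ S₀.isoSpec.hom F₀ hF₀ n (g' z)).symm
  rw [hset]
  exact hopen.preimage (Scheme.Hom.continuous _)

/-- The fibrewise condition over the base, in terms of the pointwise locus. -/
theorem setOf_forall_fibre_mcdStalk_eq {X Y : Scheme.{u}} (f : X ⟶ Y) (F : X.Modules) (n : ℕ) :
    {y : Y | ∀ z : ↥(f.fiber y),
      MCdStalk ((Scheme.Modules.pullback (f.fiberι y)).obj F) n z} =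
      (f '' {x : X | MCdFib f F n x}ᶜ)ᶜ := by
  ext y
  simp only [Set.mem_setOf_eq, Set.mem_compl_iff, Set.mem_image, not_exists, not_and, not_not]
  constructor
  · intro h x hx
    by_contra hxy
    obtain ⟨z, hz⟩ := Groth.Agent.Lib.Helper23.FibreFree.exists_fiberι_eq f hxy
    exact hx ((mcdFib_congr f F n y x hxy z hz).mp (h z))
  · intro h z
    have hfz : f (f.fiberι y z) = y := Groth.Agent.Lib.Helper23.FibreFree.fiberι_mem f y z
    refine (mcdFib_congr f F n y (f.fiberι y z) hfz z rfl).mpr ?_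
    by_contra hcon
    exact h (f.fiberι y z) hcon hfz

/-- **EGA IV 12.2.1 (i) for the codepth**: for `f` proper of finite presentation and `F` of finite
presentation and `f`-flat, the set of `y` such that `F_y` has codepth at most `n` is open. -/
theorem isOpen_setOf_forall_fibre_mcdStalk {X Y : Scheme.{u}} (f : X ⟶ Y) [IsProper f]
    [LocallyOfFinitePresentation f] (F : X.Modules) [F.IsQuasicoherent]
    (hF : SheafOfModules.IsFinitePresentation (R := X.ringCatSheaf) F)
    (hfl : FlatMod.IsFlatOver f F) (n : ℕ) :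
    IsOpen {y : Y | ∀ z : ↥(f.fiber y),
      MCdStalk ((Scheme.Modules.pullback (f.fiberι y)).obj F) n z} := by
  rw [setOf_forall_fibre_mcdStalk_eq, isOpen_compl_iff]
  exact f.isClosedMap _ (isOpen_mcdFib_of_flat f F hF hfl n).isClosed_compl

/-- Codepth zero of a fibre module stalk means zero or Cohen–Macaulay. -/
theorem mcdStalk_fibre_zero_iff {X Y : Scheme.{u}} (f : X ⟶ Y) [LocallyOfFiniteType f]
    (F : X.Modules) [F.IsQuasicoherent]
    (hF : SheafOfModules.IsFinitePresentation (R := X.ringCatSheaf) F) (y : Y)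
    (z : ↥(f.fiber y)) :
    MCdStalk ((Scheme.Modules.pullback (f.fiberι y)).obj F) 0 z ↔
      Subsingleton (((Scheme.Modules.pullback (f.fiberι y)).obj F).presheaf.stalk z) ∨
      LocCoh.IsCohenMacaulayModule ((f.fiber y).presheaf.stalk z)
        (((Scheme.Modules.pullback (f.fiberι y)).obj F).presheaf.stalk z) := by
  haveI := Groth.Agent.Lib.Helper55.isNoetherianRing_stalk_fiber f y z
  haveI : Module.FinitePresentation ((f.fiber y).presheaf.stalk z)
      (((Scheme.Modules.pullback (f.fiberι y)).obj F).presheaf.stalk z) :=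
    Groth.Agent.Lib.Helper49.finitePresentation_stalk_of_isFinitePresentation _
      (isFP_pullback (f.fiberι y) F hF) z
  haveI : Module.Finite ((f.fiber y).presheaf.stalk z)
      (((Scheme.Modules.pullback (f.fiberι y)).obj F).presheaf.stalk z) := inferInstance
  exact mcd_zero_iff _ _

end General

end Groth.Agent.Lib.Helper13.MCodepthOpen
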