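/-
Helper library (helper13): pointwise properties of the associated points of a coherent module on a
scheme locally of finite type over a field: the dimensions of the associated prime cycles through a
point, absence of embedded associated prime cycles through a point.  Invariance under isomorphisms,
extension of the base field and open immersions (uses helper76 / helper97 libraries on associated
points and flat base change).
-/
import Groth.Agent.Lib.Helper13.FibModProp
import Groth.Agent.H76.AssDimField
import Groth.Agent.Lib.Helper97.AssOpen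
import Groth.Agent.Lib.Helper55.DimPoint

set_option autoImplicit false
set_option linter.style.haveILetI false
open CategoryTheory AlgebraicGeometry Limits
universe u

namespace Groth.Agent.Lib.Helper13.AssFib

open Groth.Agent.Lib.Helper13.FibModProp Groth.Agent.Lib.Helper97.AssFibre
open Groth.Agent.H76.AssGen Groth.Agent.Lib.Helper23 TopologicalSpace

/-- Every associated prime cycle of `G` through `t` has dimension in `Φ`. -/
def QDim (Φ : Finset ℕ) (T : Scheme.{u}) (G : T.Modules) (t : T) : Prop :=
  ∀ z ∈ AssSch.Ass G, t ∈ closure ({z} : Set T) →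
    ∃ n ∈ Φ, topologicalKrullDim ↥(closure ({z} : Set T)) = (n : WithBot ℕ∞)

/-- No associated prime cycle of `G` through `t` is embedded. -/
def QNoEmb (T : Scheme.{u}) (G : T.Modules) (t : T) : Prop :=
  ∀ z ∈ AssSch.Ass G, t ∈ closure ({z} : Set T) →
    ∀ z' ∈ AssSch.Ass G, z ∈ closure ({z'} : Set T) → z' = z

section Iso

theorem isAssPoint_iff_of_iso {T : Scheme.{u}} {G G' : T.Modules} (e : G ≅ G') (t : T) :
    Curv2.IsAssPoint G t ↔ Curv2.IsAssPoint G' t := by
  unfold Curv2.IsAssPoint
  exact LinearEquiv.isAssociatedPrime_iff (FibreFlatCons.stalkLinearEquivOfIso e t)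

theorem ass_eq_of_iso {T : Scheme.{u}} {G G' : T.Modules} (e : G ≅ G') :
    AssSch.Ass G = AssSch.Ass G' := by
  ext t
  exact isAssPoint_iff_of_iso e t

end Iso

section Flat

variable {Z Z' : Scheme.{u}} (π : Z' ⟶ Z) [IsLocallyNoetherian Z] [IsLocallyNoetherian Z'] [Flat π]
  (E : Z.Modules) [E.IsQuasicoherent]
  (hfib : ∀ z : Z, AssSch.NoEmbedded (Coh.structureModule (π.fiber z)))

include hfib in
/-- Flat base change with fibres without embedded points: embedded cycles through a point. -/
theorem qNoEmb_pullback_iff (w : Z') :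
    QNoEmb Z' ((Scheme.Modules.pullback π).obj E) w ↔ QNoEmb Z E (π w) := by
  constructor
  · intro h z hz hwz z' hz' hzz'
    have hsp : z ⤳ π w := specializes_iff_mem_closure.mpr hwz
    obtain ⟨w₁, hw₁w, hπw₁⟩ := (Flat.generalizingMap π) hsp
    obtain ⟨v, hv, hvw₁, hπv⟩ := exists_fibAssRingAt_specializes π w₁
    have hsp' : z' ⤳ π v := by
      rw [hπv, hπw₁]
      exact specializes_iff_mem_closure.mpr hzz'
    obtain ⟨w₂, hw₂v, hπw₂⟩ := (Flat.generalizingMap π) hsp'
    obtain ⟨v', hv', hv'w₂, hπv'⟩ := exists_fibAssRingAt_specializes π w₂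
    have a1 : v ∈ AssSch.Ass ((Scheme.Modules.pullback π).obj E) :=
      (isAssPoint_pullback_iff_of_flat π E v).mpr ⟨by rw [hπv, hπw₁]; exact hz, hv⟩
    have a2 : v' ∈ AssSch.Ass ((Scheme.Modules.pullback π).obj E) :=
      (isAssPoint_pullback_iff_of_flat π E v').mpr ⟨by rw [hπv', hπw₂]; exact hz', hv'⟩
    have := h v a1 (specializes_iff_mem_closure.mp (hvw₁.trans hw₁w)) v' a2
      (specializes_iff_mem_closure.mp (hv'w₂.trans hw₂v))
    rw [← hπw₂, ← hπv', this, hπv, hπw₁]
  · intro h v hv hwv v' hv' hvv'
    obtain ⟨h1, h2⟩ := (isAssPoint_pullback_iff_of_flat π E v).mp hv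
    obtain ⟨h1', h2'⟩ := (isAssPoint_pullback_iff_of_flat π E v').mp hv'
    have hsp : v ⤳ w := specializes_iff_mem_closure.mpr hwv
    have hsp' : v' ⤳ v := specializes_iff_mem_closure.mpr hvv'
    have hπ : π v' = π v := h (π v) h1 (specializes_iff_mem_closure.mp (hsp.map π.continuous))
      (π v') h1' (specializes_iff_mem_closure.mp (hsp'.map π.continuous))
    exact eq_of_specializes_of_fibAssRingAt π hfib v h2 v' hsp' hπ

/-- Flat base change with fibres without embedded points preserving the dimensions of the maximal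
points of the fibres: dimensions of the associated cycles through a point. -/
theorem qDim_pullback_iff (Φ : Finset ℕ)
    (hdim : ∀ z' : Z', FibAssRingAt π z' →
      topologicalKrullDim ↥(closure ({z'} : Set Z')) =
        topologicalKrullDim ↥(closure ({π z'} : Set Z))) (w : Z') :
    QDim Φ Z' ((Scheme.Modules.pullback π).obj E) w ↔ QDim Φ Z E (π w) := by
  constructor
  · intro h z hz hwz
    have hsp : z ⤳ π w := specializes_iff_mem_closure.mpr hwz
    obtain ⟨w₁, hw₁w, hπw₁⟩ := (Flat.generalizingMap π) hsp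
    obtain ⟨v, hv, hvw₁, hπv⟩ := exists_fibAssRingAt_specializes π w₁
    have a1 : v ∈ AssSch.Ass ((Scheme.Modules.pullback π).obj E) :=
      (isAssPoint_pullback_iff_of_flat π E v).mpr ⟨by rw [hπv, hπw₁]; exact hz, hv⟩
    obtain ⟨n, hn, hdimv⟩ := h v a1 (specializes_iff_mem_closure.mp (hvw₁.trans hw₁w))
    refine ⟨n, hn, ?_⟩
    rw [← hdimv, hdim v hv, hπv, hπw₁]
  · intro h v hv hwv
    obtain ⟨h1, h2⟩ := (isAssPoint_pullback_iff_of_flat π E v).mp hv
    have hsp : v ⤳ w := specializes_iff_mem_closure.mpr hwv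
    obtain ⟨n, hn, hdimv⟩ := h (π v) h1 (specializes_iff_mem_closure.mp (hsp.map π.continuous))
    exact ⟨n, hn, by rw [hdim v h2, hdimv]⟩

end Flat


section Field

variable {k : Type u} [Field k] (K : Type u) [Field K] [Algebra k K] {Z : Scheme.{u}}
  (q : Z ⟶ Spec (CommRingCat.of k)) [LocallyOfFiniteType q] {P : Scheme.{u}} (p₁ : P ⟶ Z)
  (p₂ : P ⟶ Spec (CommRingCat.of K))
  (h : IsPullback p₁ p₂ q (Spec.map (CommRingCat.ofHom (algebraMap k K))))

include q p₂ h in
theorem instances_field : IsLocallyNoetherian Z ∧ IsLocallyNoetherian P ∧ Flat p₁ := by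
  haveI : IsLocallyNoetherian Z := LocallyOfFiniteType.isLocallyNoetherian q
  haveI : LocallyOfFiniteType p₂ :=
    MorphismProperty.of_isPullback (P := @LocallyOfFiniteType) h inferInstance
  haveI : IsLocallyNoetherian P := LocallyOfFiniteType.isLocallyNoetherian p₂
  haveI hflatK : Flat (Spec.map (CommRingCat.ofHom (algebraMap k K))) := by
    rw [HasRingHomProperty.Spec_iff (P := @Flat)]
    exact RingHom.flat_algebraMap_iff.mpr inferInstance
  haveI : Flat p₁ := MorphismProperty.of_isPullback (P := @Flat) h.flip hflatK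
  exact ⟨inferInstance, inferInstance, inferInstance⟩

include q p₂ h in
theorem noEmbedded_fiber_field (z : Z) :
    AssSch.NoEmbedded (Coh.structureModule (p₁.fiber z)) := by
  obtain ⟨_, _, _⟩ := instances_field K q p₁ p₂ h
  exact noEmbedded_structureModule_fiber_of_isPullback_field
    (CommRingCat.ofHom (algebraMap k K)) q p₂ p₁ h z

include q p₂ h in
/-- The dimension of the closure of a maximal point of a fibre of an extension of the base field
(after helper76, `dimAss_eq_of_isPullback_field`). -/
theorem dim_closure_eq_field (z' : P) (hz' : FibAssRingAt p₁ z') :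
    topologicalKrullDim ↥(closure ({z'} : Set P)) =
      topologicalKrullDim ↥(closure ({p₁ z'} : Set Z)) := by
  obtain ⟨_, _, _⟩ := instances_field K q p₁ p₂ h
  have hfib := noEmbedded_fiber_field K q p₁ p₂ h
  let i : P ≅ pullback q (Spec.map (CommRingCat.ofHom (algebraMap k K))) := h.isoPullback
  have hi : i.hom ≫ pullback.fst q _ = p₁ := h.isoPullback_hom_fst
  have hfst : ∀ y' : P, pullback.fst q
      (Spec.map (CommRingCat.ofHom (algebraMap k K))) (i.hom y') = p₁ y' := by
    intro y'
    rw [← Scheme.Hom.comp_apply, hi]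
  have key := Groth.Agent.Lib.Helper55.topologicalKrullDim_closure_of_maximal_point_baseChange q
    K (p₁ z') (i.hom z') (by rw [hfst]) (by
      intro ω' h1 h2
      obtain ⟨y', rfl⟩ : ∃ y', i.hom y' = ω' := ⟨i.inv ω', by
        rw [← Scheme.Hom.comp_apply, Iso.inv_hom_id]; rfl⟩
      rw [hfst] at h1
      have h3 : y' ⤳ z' := by
        have := h2.map i.inv.continuous
        rwa [← Scheme.Hom.comp_apply, ← Scheme.Hom.comp_apply, Iso.hom_inv_id] at this
      have h4 : p₁ y' = p₁ z' := ((h3.map p₁.continuous).antisymm h1).eq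
      rw [eq_of_specializes_of_fibAssRingAt p₁ hfib z' hz' y' h3 h4])
  rw [← key]
  exact (dim_closure_homeo (Scheme.homeoOfIso i) z').symm

end Field

section OpenImm

variable {k : Type u} [Field k] {Z : Scheme.{u}} (q : Z ⟶ Spec (CommRingCat.of k))
  [LocallyOfFiniteType q] {P : Scheme.{u}} (j : P ⟶ Z) [IsOpenImmersion j]

include q in
/-- The dimension of the closure of a point can be computed in an open subscheme. -/
theorem dim_closure_eq_openImm (z : P) :
    topologicalKrullDim ↥(closure ({z} : Set P)) =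
      topologicalKrullDim ↥(closure ({j z} : Set Z)) := by
  rw [← Groth.Agent.Lib.Helper55.topologicalKrullDim_closure_inter_opens_eq q (j z) j.opensRange
    ⟨z, rfl⟩, Scheme.Hom.coe_opensRange,
    Groth.Agent.Lib.Helper55.topologicalKrullDim_closure_inter_range_eq j
      j.isOpenEmbedding.isEmbedding z]

include q in
theorem ass_pullback_openImm (G : Z.Modules) [G.IsQuasicoherent] (z : P) :
    z ∈ AssSch.Ass ((Scheme.Modules.pullback j).obj G) ↔ j z ∈ AssSch.Ass G := by
  haveI : IsLocallyNoetherian Z := LocallyOfFiniteType.isLocallyNoetherian q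
  exact Groth.Agent.Lib.Helper97.AssOpen.isAssPoint_pullback_iff j G z

include q in
theorem qDim_openImm_iff (Φ : Finset ℕ) (G : Z.Modules) [G.IsQuasicoherent] (w : P) :
    QDim Φ P ((Scheme.Modules.pullback j).obj G) w ↔ QDim Φ Z G (j w) := by
  constructor
  · intro h z hz hwz
    have hsp : z ⤳ j w := specializes_iff_mem_closure.mpr hwz
    have hzr : z ∈ Set.range j := by
      have := hsp.mem_open j.opensRange.2 ⟨w, rfl⟩
      exact this
    obtain ⟨v, rfl⟩ := hzr
    have hvw : v ⤳ w := j.isOpenEmbedding.isInducing.specializes_iff.mp hsp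
    obtain ⟨n, hn, hd⟩ := h v ((ass_pullback_openImm q j G v).mpr hz)
      (specializes_iff_mem_closure.mp hvw)
    exact ⟨n, hn, by rw [← dim_closure_eq_openImm q j v, hd]⟩
  · intro h v hv hwv
    have hsp : v ⤳ w := specializes_iff_mem_closure.mpr hwv
    obtain ⟨n, hn, hd⟩ := h (j v) ((ass_pullback_openImm q j G v).mp hv)
      (specializes_iff_mem_closure.mp (hsp.map j.continuous))
    exact ⟨n, hn, by rw [dim_closure_eq_openImm q j v, hd]⟩

include q in
theorem qNoEmb_openImm_iff (G : Z.Modules) [G.IsQuasicoherent] (w : P) :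
    QNoEmb P ((Scheme.Modules.pullback j).obj G) w ↔ QNoEmb Z G (j w) := by
  constructor
  · intro h z hz hwz z' hz' hzz'
    have hsp : z ⤳ j w := specializes_iff_mem_closure.mpr hwz
    have hsp' : z' ⤳ z := specializes_iff_mem_closure.mpr hzz'
    have hzr : z ∈ Set.range j := hsp.mem_open j.opensRange.2 ⟨w, rfl⟩
    have hzr' : z' ∈ Set.range j := hsp'.mem_open j.opensRange.2 hzr
    obtain ⟨v, rfl⟩ := hzr
    obtain ⟨v', rfl⟩ := hzr'
    have hvw : v ⤳ w := j.isOpenEmbedding.isInducing.specializes_iff.mp hsp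
    have hv'v : v' ⤳ v := j.isOpenEmbedding.isInducing.specializes_iff.mp hsp'
    rw [h v ((ass_pullback_openImm q j G v).mpr hz) (specializes_iff_mem_closure.mp hvw) v'
      ((ass_pullback_openImm q j G v').mpr hz') (specializes_iff_mem_closure.mp hv'v)]
  · intro h v hv hwv v' hv' hvv'
    have hsp : v ⤳ w := specializes_iff_mem_closure.mpr hwv
    have hsp' : v' ⤳ v := specializes_iff_mem_closure.mpr hvv'
    have := h (j v) ((ass_pullback_openImm q j G v).mp hv)
      (specializes_iff_mem_closure.mp (hsp.map j.continuous)) (j v')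
      ((ass_pullback_openImm q j G v').mp hv')
      (specializes_iff_mem_closure.mp (hsp'.map j.continuous))
    exact j.isOpenEmbedding.injective this

end OpenImm

section Props

theorem isFibModProp_qDim (Φ : Finset ℕ) : IsFibModProp (QDim.{u} Φ) where
  iso := by
    intro T G G' e t
    unfold QDim
    rw [ass_eq_of_iso e]
  field := by
    intro k _ K _ _ Z q _ P p₁ p₂ h G _ hG z'
    obtain ⟨_, _, _⟩ := instances_field K q p₁ p₂ h
    exact qDim_pullback_iff p₁ G Φ (dim_closure_eq_field K q p₁ p₂ h) z'
  openImm := by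
    intro k _ Z q _ P j _ G _ hG z'
    exact qDim_openImm_iff q j Φ G z'

theorem isFibModProp_qNoEmb : IsFibModProp QNoEmb.{u} where
  iso := by
    intro T G G' e t
    unfold QNoEmb
    rw [ass_eq_of_iso e]
  field := by
    intro k _ K _ _ Z q _ P p₁ p₂ h G _ hG z'
    obtain ⟨_, _, _⟩ := instances_field K q p₁ p₂ h
    exact qNoEmb_pullback_iff p₁ G (noEmbedded_fiber_field K q p₁ p₂ h) z'
  openImm := by
    intro k _ Z q _ P j _ G _ hG z'
    exact qNoEmb_openImm_iff q j G z'

end Props

end Groth.Agent.Lib.Helper13.AssFib
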