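/-
Helper library (helper13): the pointwise properties `QDim Φ` / `QNoEmb` of the associated points of
the restriction of a module to the fibres of a morphism, in terms of the relative assassin, and
their spreading out from a point of the generic fibre of a family over an integral Noetherian base
(via helper76's generic package EGA IV 9.8.3 for the relative assassin).
-/
import Groth.Agent.Lib.Helper13.AssFibA
import Groth.Agent.H76.AssDimFib
import Groth.Agent.S1576

set_option autoImplicit false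
set_option linter.style.haveILetI false
open CategoryTheory AlgebraicGeometry Limits
universe u

namespace Groth.Agent.Lib.Helper13.AssFib

open Groth.Agent.Lib.Helper13.FibModProp Groth.Agent.Lib.Helper97.AssFibre
open Groth.Agent.H76.AssGen Groth.Agent.Lib.Helper23 TopologicalSpace

section Dict

variable {X S : Scheme.{u}} (g : X ⟶ S) (F : X.Modules)

/-- `X`-level form of `FibE (QDim Φ)`. -/
def PDim (Φ : Finset ℕ) (y : X) : Prop :=
  ∀ z : X, z ⤳ y → g z = g y → z ∈ MoreMor.relAss g F →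
    ∃ n ∈ Φ, relTrdeg g z = ((n : ℕ) : Cardinal.{u})

/-- `X`-level form of `FibE QNoEmb`. -/
def PNoEmb (y : X) : Prop :=
  ∀ z : X, z ⤳ y → g z = g y → z ∈ MoreMor.relAss g F →
    ∀ z' : X, z' ⤳ z → g z' = g z → z' ∈ MoreMor.relAss g F → z' = z

variable [LocallyOfFiniteType g] [F.IsQuasicoherent]

theorem fibE_qDim_iff (Φ : Finset ℕ) (y : X) : FibE (QDim Φ) X S g F y ↔ PDim g F Φ y := by
  unfold FibE QDim PDim
  constructor
  · intro h z hzy hgz hz
    obtain ⟨w, rfl⟩ := exists_fiberι_eq g (g y) z hgz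
    have hw : w ∈ AssSch.Ass ((Scheme.Modules.pullback (g.fiberι (g y))).obj F) :=
      (isAssPoint_fiber_iff_mem_relAss g F (g y) w).mpr hz
    have hsp : w ⤳ g.asFiber y := by
      apply (g.fiberι (g y)).isEmbedding.isInducing.specializes_iff.mp
      rw [g.fiberι_asFiber]
      exact hzy
    obtain ⟨n, hn, hd⟩ := h w hw (specializes_iff_mem_closure.mp hsp)
    obtain ⟨m, hm1, hm2⟩ :=
      Groth.Agent.Lib.Helper55.exists_dim_closure_fiber_eq_trdeg g (g y) w _ rfl
    refine ⟨n, hn, ?_⟩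
    have hnm : m = n := by
      rw [hm1] at hd
      exact_mod_cast hd
    rw [← hnm]
    exact hm2
  · intro h w hw hyw
    have hsp : w ⤳ g.asFiber y := specializes_iff_mem_closure.mpr hyw
    have hsp' : g.fiberι (g y) w ⤳ y := by
      have := hsp.map (g.fiberι (g y)).continuous
      rwa [g.fiberι_asFiber] at this
    obtain ⟨n, hn, hd⟩ := h (g.fiberι (g y) w) hsp' (apply_fiberι' g (g y) w)
      ((isAssPoint_fiber_iff_mem_relAss g F (g y) w).mp hw)
    obtain ⟨m, hm1, hm2⟩ :=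
      Groth.Agent.Lib.Helper55.exists_dim_closure_fiber_eq_trdeg g (g y) w _ rfl
    refine ⟨n, hn, ?_⟩
    have hnm : m = n := by
      have h1 : relTrdeg g (g.fiberι (g y) w) = (m : Cardinal.{u}) := hm2
      rw [h1] at hd
      exact_mod_cast hd
    rw [hm1, hnm]

omit [LocallyOfFiniteType g] in
theorem fibE_qNoEmb_iff (y : X) : FibE QNoEmb X S g F y ↔ PNoEmb g F y := by
  unfold FibE QNoEmb PNoEmb
  constructor
  · intro h z hzy hgz hz z' hz'z hgz' hz'
    obtain ⟨w, rfl⟩ := exists_fiberι_eq g (g y) z hgz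
    obtain ⟨w', rfl⟩ := exists_fiberι_eq g (g y) z' (hgz'.trans hgz)
    have hw : w ∈ AssSch.Ass ((Scheme.Modules.pullback (g.fiberι (g y))).obj F) :=
      (isAssPoint_fiber_iff_mem_relAss g F (g y) w).mpr hz
    have hw' : w' ∈ AssSch.Ass ((Scheme.Modules.pullback (g.fiberι (g y))).obj F) :=
      (isAssPoint_fiber_iff_mem_relAss g F (g y) w').mpr hz'
    have hsp : w ⤳ g.asFiber y := by
      apply (g.fiberι (g y)).isEmbedding.isInducing.specializes_iff.mp
      rw [g.fiberι_asFiber]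
      exact hzy
    have hsp' : w' ⤳ w := (g.fiberι (g y)).isEmbedding.isInducing.specializes_iff.mp hz'z
    rw [h w hw (specializes_iff_mem_closure.mp hsp) w' hw' (specializes_iff_mem_closure.mp hsp')]
  · intro h w hw hyw w' hw' hww'
    have hsp : w ⤳ g.asFiber y := specializes_iff_mem_closure.mpr hyw
    have hsp' : w' ⤳ w := specializes_iff_mem_closure.mpr hww'
    have hspX : g.fiberι (g y) w ⤳ y := by
      have := hsp.map (g.fiberι (g y)).continuous
      rwa [g.fiberι_asFiber] at this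
    have := h (g.fiberι (g y) w) hspX (apply_fiberι' g (g y) w)
      ((isAssPoint_fiber_iff_mem_relAss g F (g y) w).mp hw) (g.fiberι (g y) w')
      (hsp'.map (g.fiberι (g y)).continuous)
      ((apply_fiberι' g (g y) w').trans (apply_fiberι' g (g y) w).symm)
      ((isAssPoint_fiber_iff_mem_relAss g F (g y) w').mp hw')
    exact (g.fiberι (g y)).isEmbedding.injective this

end Dict


section Spread

variable {X U : Scheme.{u}} [IsIntegral U] [AlgebraicGeometry.IsNoetherian U] (g : X ⟶ U)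
  [LocallyOfFiniteType g] [QuasiCompact g] (F : X.Modules) [F.IsQuasicoherent]
  (hF : SheafOfModules.IsFinitePresentation (R := X.ringCatSheaf) F)

omit [IsIntegral U] [AlgebraicGeometry.IsNoetherian U] in
include hF in
/-- The relative assassin of a finitely presented module meets each fibre in a finite set. -/
theorem finite_relAss_fibre (s : U) : {x : X | x ∈ MoreMor.relAss g F ∧ g x = s}.Finite := by
  haveI := isLocallyNoetherian_fiber_of_locallyOfFiniteType g s
  haveI : QuasiCompact (g.fiberToSpecResidueField s) :=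
    MorphismProperty.pullback_snd (P := @QuasiCompact) _ _ inferInstance
  haveI : CompactSpace ↥(g.fiber s) :=
    QuasiCompact.compactSpace_of_compactSpace (g.fiberToSpecResidueField s)
  let G := (Scheme.Modules.pullback (g.fiberι s)).obj F
  haveI : G.IsQuasicoherent := ConsLocusMod.isQCoh_pullback _ F
  have hG : Coh.IsCoh G := ⟨inferInstance,
    Groth.Agent.Lib.Helper16.GenFlat.isFiniteType_of_isFinitePresentation G
      (ConsLocusMod.isFP_pullback _ F hF)⟩
  have hfin := Groth.Agent.S1576.result (g.fiber s) G hG ⊤ isCompact_univ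
  refine (hfin.image (g.fiberι s)).subset ?_
  rintro x ⟨hx, hgx⟩
  obtain ⟨w, rfl⟩ := exists_fiberι_eq g s x hgx
  exact ⟨w, ⟨trivial, (isAssPoint_fiber_iff_mem_relAss g F s w).mpr hx⟩, rfl⟩

include hF in
/-- Auxiliary: an open neighbourhood of `ξ` all of whose points lie only on the closures of those
points of the relative assassin of the generic fibre which specialize to `ξ`. -/
theorem exists_open_forall_relAss_specializes (ξ : X) :
    ∃ N : Set X, IsOpen N ∧ ξ ∈ N ∧ ∀ y ∈ N, ∀ x : X, x ∈ MoreMor.relAss g F →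
      g x = genericPoint U → x ⤳ y → x ⤳ ξ := by
  let B : Set X := {x | (x ∈ MoreMor.relAss g F ∧ g x = genericPoint U) ∧ ¬ x ⤳ ξ}
  have hBfin : B.Finite := (finite_relAss_fibre g F hF _).subset (fun x hx => hx.1)
  let C : Set X := ⋃ x ∈ B, closure {x}
  have hC : IsClosed C := hBfin.isClosed_biUnion (fun x _ => isClosed_closure)
  refine ⟨Cᶜ, hC.isOpen_compl, ?_, ?_⟩
  · intro hmem
    obtain ⟨x, hxB, hx⟩ := Set.mem_iUnion₂.mp hmem
    exact hxB.2 (specializes_iff_mem_closure.mpr hx)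
  · intro y hyC x hx hgx hxy
    by_contra hcon
    exact hyC (Set.mem_iUnion₂.mpr ⟨x, ⟨⟨hx, hgx⟩, hcon⟩, specializes_iff_mem_closure.mp hxy⟩)

include hF in
/-- **Spreading out the absence of embedded associated cycles through a point.** -/
theorem spread_pNoEmb (ξ : X) (hξ : g ξ = genericPoint U) (h : PNoEmb g F ξ) :
    ∃ N : Set X, IsOpen N ∧ ξ ∈ N ∧ ∀ y ∈ N, PNoEmb g F y := by
  have hcoh : Coh.IsCoh F := ⟨inferInstance,
    Groth.Agent.Lib.Helper16.GenFlat.isFiniteType_of_isFinitePresentation F hF⟩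
  obtain ⟨V, hηV, kpk⟩ := generic_relPkg g F hcoh
  obtain ⟨N₀, hN₀, hξN₀, hkey⟩ := exists_open_forall_relAss_specializes g F hF ξ
  refine ⟨(g ⁻¹ᵁ V : Set X) ∩ N₀, (g ⁻¹ᵁ V).2.inter hN₀, ⟨?_, hξN₀⟩, ?_⟩
  · show g ξ ∈ V
    rw [hξ]
    exact hηV
  · rintro y ⟨hyV, hyN⟩ z hzy hgz hz z' hz'z hgz' hz'
    have hyV' : g y ∈ V := hyV
    have hzV : g z ∈ V := by rw [hgz]; exact hyV'
    have hz'V : g z' ∈ V := by rw [hgz', hgz]; exact hyV'
    obtain ⟨x, hx, hgx, hmin⟩ := (kpk z hzV).1 hz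
    obtain ⟨x', hx', hgx', hmin'⟩ := (kpk z' hz'V).1 hz'
    have hxξ := hkey y hyN x hx hgx (hmin.1.trans hzy)
    by_cases hx'x : x' ⤳ x
    · have hxx' : x' = x := h x hxξ (by rw [hgx, hξ]) hx x' hx'x (by rw [hgx', hgx]) hx'
      subst hxx'
      exact hmin.2 z' hmin'.1 hz'z hgz'
    · exact absurd (hmin'.1.trans hz'z) ((kpk z hzV).2.2 x hx x' hx' hgx hgx' hx'x hmin)

include hF in
/-- **Spreading out the dimensions of the associated cycles through a point.** -/
theorem spread_pDim (Φ : Finset ℕ) (ξ : X) (hξ : g ξ = genericPoint U) (h : PDim g F Φ ξ) :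
    ∃ N : Set X, IsOpen N ∧ ξ ∈ N ∧ ∀ y ∈ N, PDim g F Φ y := by
  have hcoh : Coh.IsCoh F := ⟨inferInstance,
    Groth.Agent.Lib.Helper16.GenFlat.isFiniteType_of_isFinitePresentation F hF⟩
  obtain ⟨V₁, hηV₁, kpk⟩ := generic_relPkg g F hcoh
  obtain ⟨V₂, hηV₂, kdim⟩ := generic_dim g F hcoh
  obtain ⟨N₀, hN₀, hξN₀, hkey⟩ := exists_open_forall_relAss_specializes g F hF ξ
  refine ⟨((g ⁻¹ᵁ V₁ : Set X) ∩ (g ⁻¹ᵁ V₂ : Set X)) ∩ N₀,
    ((g ⁻¹ᵁ V₁).2.inter (g ⁻¹ᵁ V₂).2).inter hN₀, ⟨⟨?_, ?_⟩, hξN₀⟩, ?_⟩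
  · show g ξ ∈ V₁
    rw [hξ]
    exact hηV₁
  · show g ξ ∈ V₂
    rw [hξ]
    exact hηV₂
  · rintro y ⟨⟨hyV₁, hyV₂⟩, hyN⟩ z hzy hgz hz
    have hyV₁' : g y ∈ V₁ := hyV₁
    have hyV₂' : g y ∈ V₂ := hyV₂
    have hzV₁ : g z ∈ V₁ := by rw [hgz]; exact hyV₁'
    have hzV₂ : g z ∈ V₂ := by rw [hgz]; exact hyV₂'
    obtain ⟨x, hx, hgx, hmin⟩ := (kpk z hzV₁).1 hz
    have hxξ := hkey y hyN x hx hgx (hmin.1.trans hzy)
    obtain ⟨n, hn, hd⟩ := h x hxξ (by rw [hgx, hξ]) hx
    exact ⟨n, hn, by rw [(kdim x hx hgx).1 z hzV₂ hmin, hd]⟩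

end Spread

end Groth.Agent.Lib.Helper13.AssFib
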