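/-
Helper library (helper13): local algebra for "equidimensional and without embedded primes":
`(S_1)` means no embedded primes; lifting equidimensionality from `A/tA` to `A` (catenary local,
`t` regular, `A/tA` equidimensional and `(S_1)`); localization of an equidimensional catenary local
ring; heights along a minimal prime over `p + (t)`.
-/
import Groth.Agent.H8.QuotLift
import Groth.Agent.Lib.Helper29.EquidimCatenary

set_option autoImplicit false
universe u
open IsLocalRing

namespace Groth.Agent.Lib.Helper13.EqFib

open Groth.Agent.Lib.Helper29 Groth.Agent.H8.QuotLift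

section SOne

/-- For a Noetherian ring, Serre's condition `(S_1)` says that there are no embedded primes. -/
theorem hasSk_one_iff_noEmb (R : Type u) [CommRing R] [IsNoetherianRing R] :
    LocCoh.HasSk 1 R R ↔ ∀ p ∈ associatedPrimes R R, p ∈ minimalPrimes R := by
  rw [hasSk_self_iff]
  constructor
  · intro h p hp
    haveI : p.IsPrime := IsAssociatedPrime.isPrime hp
    have hd0 := depth_localizedModule_eq_zero_of_mem_associatedPrimes R R p hp
    rw [depth_localizedModule_self] at hd0
    have h1 := h p
    rw [hd0] at h1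
    have hht : p.height = 0 := by
      rcases min_le_iff.mp h1 with h | h
      · simp at h
      · exact le_antisymm h bot_le
    exact Ideal.height_eq_zero_iff.mp hht
  · intro h p hp
    haveI hN : IsNoetherianRing (Localization.AtPrime p) :=
      IsLocalization.isNoetherianRing p.primeCompl _ inferInstance
    by_cases hd : LocCoh.depth (Localization.AtPrime p) (Localization.AtPrime p) = 0
    · have hmem := (depth_eq_zero_iff (Localization.AtPrime p) (Localization.AtPrime p)).mp hd
      have hpass : p ∈ associatedPrimes R R := by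
        have h2 := Module.associatedPrimes.preimage_comap_associatedPrimes_eq_associatedPrimes_of_isLocalizedModule
          p.primeCompl (Localization.AtPrime p) (Algebra.linearMap R (Localization.AtPrime p))
        have h3 : maximalIdeal (Localization.AtPrime p) ∈
            (Ideal.comap (algebraMap R (Localization.AtPrime p))) ⁻¹' (associatedPrimes R R) := by
          rw [h2]
          exact hmem
        have hc : Ideal.comap (algebraMap R (Localization.AtPrime p))
            (maximalIdeal (Localization.AtPrime p)) = p :=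
          IsLocalization.AtPrime.comap_maximalIdeal (Localization.AtPrime p) p
        rw [Set.mem_preimage, hc] at h3
        exact h3
      have hmin := h p hpass
      rw [Ideal.height_eq_zero_iff.mpr hmin, hd]
      simp
    · have h2 : 1 ≤ LocCoh.depth (Localization.AtPrime p) (Localization.AtPrime p) :=
        Order.one_le_iff_pos.mpr (pos_iff_ne_zero.mpr hd)
      exact (min_le_left _ _).trans (by simpa using h2)

end SOne

section Lift

variable (A : Type u) [CommRing A] [IsNoetherianRing A] [IsLocalRing A]

/-- Variant of `H8.QuotLift.isEquidim_of_quotient` with `(S_1)` in place of reducedness: if `A` is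
a catenary Noetherian local ring, `t` a nonzerodivisor in the maximal ideal and `A/tA` is
equidimensional without embedded primes, then `A` is equidimensional. -/
theorem isEquidim_of_quotient_of_hasSk_one
    (hcat : CAlg.IsCatenary A) (t : A) (ht : t ∈ maximalIdeal A) (hreg : t ∈ nonZeroDivisors A)
    (hS1 : LocCoh.HasSk 1 (A ⧸ Ideal.span {t}) (A ⧸ Ideal.span {t}))
    (heq : EGA4.IsEquidim (A ⧸ Ideal.span {t})) :
    EGA4.IsEquidim A := by
  intro p hp
  have hpprime : p.IsPrime := hp.1.1
  have htp : t ∉ p := fun h =>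
    Set.disjoint_left.mp (Ideal.disjoint_nonZeroDivisors_of_mem_minimalPrimes hp) h hreg
  obtain ⟨q, hq⟩ := Ideal.nonempty_minimalPrimes (sup_span_ne_top A p t ht)
  have hqprime : q.IsPrime := hq.1.1
  obtain ⟨hht1, htq, hcov⟩ := covBy_of_mem_minimalPrimes_sup A p t htp q hq
  have hpq : p ≤ q := le_sup_left.trans hq.1.2
  have hdimf := ((Groth.Agent.H46.isCatenary_iff_dimFun A).mp hcat _ _ hcov.lt).2 hcov
  simp only at hdimf
  have hdimA := ringKrullDim_quotient_span_singleton_succ_eq_ringKrullDim_of_mem_nonZeroDivisors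
    hreg ht
  have hIq : Ideal.span {t} ≤ q := (Ideal.span_singleton_le_iff_mem q).mpr htq
  have hQ : (q.map (Ideal.Quotient.mk (Ideal.span {t}))).IsPrime :=
    Ideal.map_isPrime_of_surjective Ideal.Quotient.mk_surjective (by rwa [Ideal.mk_ker])
  have hdimQ := ringKrullDim_quotient_map_eq A (Ideal.span {t}) q hIq
  by_cases hmin : q.map (Ideal.Quotient.mk (Ideal.span {t})) ∈ minimalPrimes (A ⧸ Ideal.span {t})
  · have h1 := heq _ hmin
    rw [hdimf, ← hdimQ, h1, hdimA]
  · exfalso
    rw [Groth.Agent.Lib.Helper29.hasSk_self_iff] at hS1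
    have h1 := hS1 (q.map (Ideal.Quotient.mk (Ideal.span {t})))
    have h2 : (1 : ℕ∞) ≤ (q.map (Ideal.Quotient.mk (Ideal.span {t}))).height := by
      rw [Order.one_le_iff_ne_zero]
      intro h
      exact hmin (Ideal.height_eq_zero_iff.mp h)
    have h3 : (1 : ℕ∞) ≤ LocCoh.depth
        (Localization.AtPrime (q.map (Ideal.Quotient.mk (Ideal.span {t}))))
        (Localization.AtPrime (q.map (Ideal.Quotient.mk (Ideal.span {t})))) := by
      refine le_trans ?_ h1
      simpa using h2
    obtain ⟨hd, -⟩ := Groth.Agent.Lib.Helper29.depth_and_height_quotient_span_singleton A q t htq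
      (isSMulRegular_localization A q t hreg)
    have h4 := Groth.Agent.Lib.Helper29.depth_localization_le_depth_localization_add_height A hpq A
    rw [Groth.Agent.Lib.Helper29.depth_localizedModule_self,
      Groth.Agent.Lib.Helper29.depth_localizedModule_self] at h4
    have h5 := depth_localization_le_height A p
    rw [Ideal.height_eq_zero_iff.mpr hp] at h5
    have h6 : (1 : ℕ∞) + 1 ≤ 0 + 1 := by
      calc (1 : ℕ∞) + 1 ≤ _ + 1 := by gcongr
        _ = _ := hd
        _ ≤ _ := h4
        _ ≤ 0 + 1 := by gcongr
    exact absurd h6 (by norm_num)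

variable (heq : EGA4.IsEquidim A) (hcat : CAlg.IsCatenary A)
include heq hcat

/-- In an equidimensional catenary Noetherian local ring, a minimal prime `q` over `p + (t)` with
`t ∉ p` has height `ht p + 1`. -/
theorem height_eq_add_one_of_mem_minimalPrimes_sup (p : Ideal A) [hp : p.IsPrime] (t : A)
    (htp : t ∉ p) (q : Ideal A) (hq : q ∈ (p ⊔ Ideal.span {t}).minimalPrimes) :
    q.height = p.height + 1 := by
  have hqprime : q.IsPrime := hq.1.1
  obtain ⟨-, -, hcov⟩ := covBy_of_mem_minimalPrimes_sup A p t htp q hq
  have hdimf := ((Groth.Agent.H46.isCatenary_iff_dimFun A).mp hcat _ _ hcov.lt).2 hcov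
  simp only at hdimf
  have h1 := ringKrullDim_quotient_add_height_of_isEquidim_of_isCatenary A heq hcat ⟨p, hp⟩
  have h2 := ringKrullDim_quotient_add_height_of_isEquidim_of_isCatenary A heq hcat ⟨q, hqprime⟩
  simp only at h1 h2
  haveI : Nontrivial (A ⧸ q) := Ideal.Quotient.nontrivial_iff.mpr hqprime.ne_top
  haveI : IsLocalRing (A ⧸ q) :=
    IsLocalRing.of_surjective' (Ideal.Quotient.mk q) Ideal.Quotient.mk_surjective
  obtain ⟨n, hn⟩ := exists_nat_ringKrullDim_eq (A ⧸ q)
  rw [hdimf, hn] at h1
  rw [hn, ← h1] at h2
  obtain ⟨a, ha⟩ := ENat.ne_top_iff_exists.mp (Ideal.height_ne_top_of_isPrime (I := p))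
  obtain ⟨b, hb⟩ := ENat.ne_top_iff_exists.mp (Ideal.height_ne_top_of_isPrime (I := q))
  rw [← ha, ← hb] at h2 ⊢
  have h3 : ((n + b : ℕ) : WithBot ℕ∞) = ((n + 1 + a : ℕ) : WithBot ℕ∞) := by
    push_cast
    exact h2
  have h4 : n + b = n + 1 + a := by exact_mod_cast h3
  have h5 : b = a + 1 := by omega
  rw [h5]
  rfl

/-- The localizations of an equidimensional catenary Noetherian local ring are equidimensional. -/
theorem isEquidim_localization_atPrime (s : Ideal A) [hs : s.IsPrime] :
    EGA4.IsEquidim (Localization.AtPrime s) := by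
  intro Q hQ
  have hQprime : Q.IsPrime := hQ.1.1
  set p : Ideal A := Q.under A with hpdef
  have hpprime : p.IsPrime := hQprime.under A
  have hQp : p.map (algebraMap A (Localization.AtPrime s)) = Q :=
    IsLocalization.map_comap s.primeCompl _ Q
  have hps : p ≤ s := by
    have h1 : Q ≤ maximalIdeal (Localization.AtPrime s) := le_maximalIdeal hQprime.ne_top
    have h2 := Ideal.comap_mono (f := algebraMap A (Localization.AtPrime s)) h1
    have hc : Ideal.comap (algebraMap A (Localization.AtPrime s))
        (maximalIdeal (Localization.AtPrime s)) = s :=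
      IsLocalization.AtPrime.comap_maximalIdeal (Localization.AtPrime s) s
    rw [hc] at h2
    exact h2
  have hpmin : p ∈ minimalPrimes A := by
    rw [← Ideal.height_eq_zero_iff, hpdef, IsLocalization.height_under s.primeCompl,
      Ideal.height_eq_zero_iff]
    exact hQ
  rw [← hQp, ringKrullDim_localization_quotient_map_eq_height A hps,
    IsLocalization.AtPrime.ringKrullDim_eq_height s]
  -- `ht(s/p) = ht s`
  have h1 := ringKrullDim_quotient_add_height_of_isEquidim_of_isCatenary A heq hcat ⟨s, hs⟩
  simp only at h1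
  haveI : Nontrivial (A ⧸ p) := Ideal.Quotient.nontrivial_iff.mpr hpprime.ne_top
  haveI : IsLocalRing (A ⧸ p) :=
    IsLocalRing.of_surjective' (Ideal.Quotient.mk p) Ideal.Quotient.mk_surjective
  haveI : IsDomain (A ⧸ p) := Ideal.Quotient.isDomain p
  have hcatD : CAlg.IsCatenary (A ⧸ p) :=
    Groth.Agent.H46.isCatenary_of_surjective (Ideal.Quotient.mk p) Ideal.Quotient.mk_surjective hcat
  have heqD : EGA4.IsEquidim (A ⧸ p) := by
    intro P hP
    rw [IsDomain.minimalPrimes_eq_singleton_bot, Set.mem_singleton_iff] at hP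
    subst hP
    exact ringKrullDim_eq_of_ringEquiv (RingEquiv.quotientBot _)
  have hSprime : (s.map (Ideal.Quotient.mk p)).IsPrime :=
    Ideal.map_isPrime_of_surjective Ideal.Quotient.mk_surjective (by rwa [Ideal.mk_ker])
  have h2 := ringKrullDim_quotient_add_height_of_isEquidim_of_isCatenary (A ⧸ p) heqD hcatD
    ⟨s.map (Ideal.Quotient.mk p), hSprime⟩
  simp only at h2
  rw [ringKrullDim_quotient_map_eq A p s hps, heq p hpmin, ← h1] at h2
  haveI : Nontrivial (A ⧸ s) := Ideal.Quotient.nontrivial_iff.mpr hs.ne_top
  haveI : IsLocalRing (A ⧸ s) :=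
    IsLocalRing.of_surjective' (Ideal.Quotient.mk s) Ideal.Quotient.mk_surjective
  obtain ⟨n, hn⟩ := exists_nat_ringKrullDim_eq (A ⧸ s)
  rw [hn] at h2
  obtain ⟨a, ha⟩ := ENat.ne_top_iff_exists.mp (Ideal.height_ne_top_of_isPrime (I := s))
  obtain ⟨b, hb⟩ := ENat.ne_top_iff_exists.mp
    (Ideal.height_ne_top_of_isPrime (I := s.map (Ideal.Quotient.mk p)))
  rw [← ha, ← hb] at h2 ⊢
  have h3 : ((n + b : ℕ) : WithBot ℕ∞) = ((n + a : ℕ) : WithBot ℕ∞) := by
    push_cast
    exact h2
  have h4 : n + b = n + a := by exact_mod_cast h3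
  have h5 : b = a := by omega
  rw [h5]

end Lift

end Groth.Agent.Lib.Helper13.EqFib
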