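/-
Helper library (helper13): constructibility of the locus of points at which the fibre of a
morphism locally of finite presentation is equidimensional (EGA IV 9.9.2/9.9.3 for
equidimensionality at a point of the fibre).
-/
import Groth.Agent.Lib.Helper13.CMCons
import Groth.Agent.Lib.Helper13.Chevalley
import Groth.Agent.Lib.Helper23.FibreEquidim
import Groth.Agent.Lib.Helper2.ConnDim2
import Groth.Agent.Lib.Helper55.ClosedSubschemeDim
import Groth.Agent.H52.FibreDimChart

set_option autoImplicit false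
open CategoryTheory AlgebraicGeometry Limits
universe u

namespace Groth.Agent.Lib.Helper13.EquidimCons

open Groth.Agent.Lib.Helper55 Groth.Agent.Lib.Helper13.CMChart Topology TopologicalSpace

/-- The local fibre dimension is constant on the generizations of `x` inside the fibre of `f`
through `x`.  For `f` locally of finite type this says that the fibre is equidimensional at `x`
(`eqG_iff_components`). -/
def EqG {X S : Scheme.{u}} (f : X ⟶ S) (x : X) : Prop :=
  ∀ x' : X, x' ⤳ x → f x' = f x → FlatMor.fibreDimAt f x' = FlatMor.fibreDimAt f x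

/-- All irreducible components of the fibre through `x` have the same dimension iff the local
fibre dimension is constant on generizations in the fibre. -/
theorem eqG_iff_components {X S : Scheme.{u}} (f : X ⟶ S) [LocallyOfFiniteType f] (x : X) :
    (∃ e : ℕ, ∀ Z ∈ irreducibleComponents (↥(f.fiber (f x)) : Type u), f.asFiber x ∈ Z →
        topologicalKrullDim (↥Z : Type u) = e) ↔ EqG f x := by
  have hlft : LocallyOfFiniteType (f.fiberToSpecResidueField (f x)) :=
    MorphismProperty.pullback_snd (P := @LocallyOfFiniteType) _ _ ‹_›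
  let q' : (f.fiber (f x)) ⟶ Spec (CommRingCat.of ↑(S.residueField (f x))) :=
    f.fiberToSpecResidueField (f x)
  haveI : LocallyOfFiniteType q' := hlft
  constructor
  · rintro ⟨e, he⟩
    have key : ∀ z' : ↥(f.fiber (f x)), z' ⤳ f.asFiber x →
        FlatMor.localDim ↥(f.fiber (f x)) z' = e := by
      intro z' hz'
      obtain ⟨ξ, hξ, hξz, hdim⟩ := exists_mem_irreducibleComponents_dim_eq_localDim
        (k := ↑(S.residueField (f x))) q' z'
      rw [← hdim]
      exact he _ hξ (hξz.trans hz').mem_closure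
    intro x' hx' hfx'
    have h1 : FlatMor.fibreDimAt f x = e := key _ specializes_rfl
    rw [h1]
    have hmem : x' ∈ Set.range (f.fiberι (f x)) := by
      rw [f.range_fiberι]
      exact hfx'
    obtain ⟨z', hz'⟩ := hmem
    rw [← localDim_fiber_eq_fibreDimAt' f (f x) x' hfx' z' hz']
    apply key
    rw [← (f.fiberι (f x)).isEmbedding.isInducing.specializes_iff, hz', f.fiberι_asFiber]
    exact hx'
  · intro h
    obtain ⟨e, he⟩ := exists_nat_fibreDimAt f x
    refine ⟨e, fun Z hZ hzZ => ?_⟩
    obtain ⟨ξ, hξ⟩ := QuasiSober.sober hZ.1 (isClosed_of_mem_irreducibleComponents Z hZ)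
    have hcl : closure ({ξ} : Set ↥(f.fiber (f x))) = Z := hξ.def
    have hcomp : closure ({ξ} : Set ↥(f.fiber (f x))) ∈
        irreducibleComponents (↥(f.fiber (f x)) : Type u) := by
      rw [hcl]; exact hZ
    have h1 := localDim_eq_dim_closure_of_mem_irreducibleComponents
      (k := ↑(S.residueField (f x))) q' ξ hcomp
    rw [hcl] at h1
    rw [← h1, localDim_fiber_eq_fibreDimAt, ← he]
    apply h
    · have h2 : ξ ⤳ f.asFiber x := hξ.specializes hzZ
      have h3 := h2.map (f.fiberι (f x)).continuous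
      rw [f.fiberι_asFiber] at h3
      exact h3
    · have : f.fiberι (f x) ξ ∈ Set.range (f.fiberι (f x)) := ⟨ξ, rfl⟩
      rw [f.range_fiberι] at this
      exact this

/-- Invariance of `EqG` in a commutative square with open immersions as vertical maps. -/
theorem eqG_iff_of_openImmersion_square {A B X Y : Scheme.{u}} (j : A ⟶ X) (v : B ⟶ Y)
    [IsOpenImmersion j] [IsOpenImmersion v] (f₁ : A ⟶ B) (f : X ⟶ Y) [LocallyOfFiniteType f]
    (h : f₁ ≫ v = j ≫ f) (z : A) : EqG f₁ z ↔ EqG f (j z) := by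
  have hdim : ∀ a : A, FlatMor.fibreDimAt f₁ a = FlatMor.fibreDimAt f (j a) := fun a =>
    Groth.Agent.H52.fibreDimAt_eq_of_etale_square j v f₁ f h.symm a
  have hcomm : ∀ a : A, f (j a) = v (f₁ a) := fun a => by
    have := congr(($h) a)
    rw [Scheme.Hom.comp_apply, Scheme.Hom.comp_apply] at this
    exact this.symm
  constructor
  · intro hz x' hx' hfx'
    have hmem : x' ∈ Set.range j :=
      hx'.mem_open j.isOpenEmbedding.isOpen_range ⟨z, rfl⟩
    obtain ⟨z', rfl⟩ := hmem
    rw [← hdim, ← hdim]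
    apply hz
    · exact j.isOpenEmbedding.isInducing.specializes_iff.mp hx'
    · apply v.isOpenEmbedding.injective
      rw [← hcomm, ← hcomm]
      exact hfx'
  · intro hz z' hz' hfz'
    rw [hdim, hdim]
    apply hz
    · exact hz'.map j.continuous
    · rw [hcomm, hcomm, hfz']

/-- Base change invariance of `EqG`. -/
theorem eqG_iff_of_isPullback {X Y X' Y' : Scheme.{u}} {f : X ⟶ Y} {f' : X' ⟶ Y'} {g' : X' ⟶ X}
    {g : Y' ⟶ Y} [LocallyOfFiniteType f] (hc : IsPullback g' f' f g) (x' : X') :
    EqG f' x' ↔ EqG f (g' x') := by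
  have hdim : ∀ a : X', FlatMor.fibreDimAt f' a = FlatMor.fibreDimAt f (g' a) := fun a =>
    fibreDimAt_eq_of_isPullback f g g' f' hc a
  have hcomm : ∀ a : X', f (g' a) = g (f' a) := fun a => by
    have := congr(($(hc.w)) a)
    rw [Scheme.Hom.comp_apply, Scheme.Hom.comp_apply] at this
    exact this
  constructor
  · intro hx' x₁ hx₁ hfx₁
    -- lift the generization `x₁` of `g' x'` in the fibre to a generization of `x'` in its fibre
    let y' : Y' := f' x'
    have hpb := isPullback_fiberToSpecResidueField_of_isPullback hc y'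
    let φ : f'.fiber y' ⟶ f.fiber (g y') :=
      pullback.map f' (Y'.fromSpecResidueField y') f (Y.fromSpecResidueField (g y')) g'
        (Spec.map (g.residueFieldMap y')) g hc.w.symm (by simp)
    have hφι : φ ≫ f.fiberι (g y') = f'.fiberι y' ≫ g' := pullback.lift_fst _ _ _
    have hflat0 : Flat (Spec.map (g.residueFieldMap y')) := by
      rw [HasRingHomProperty.Spec_iff (P := @Flat)]
      letI := (g.residueFieldMap y').hom.toAlgebra
      exact RingHom.flat_algebraMap_iff.mpr inferInstance
    have hflat : Flat φ := MorphismProperty.of_isPullback (P := @Flat) hpb.flip hflat0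
    have hgen : GeneralizingMap φ := Flat.generalizingMap φ
    have hx₁mem : x₁ ∈ Set.range (f.fiberι (g y')) := by
      rw [f.range_fiberι]
      show f x₁ = g (f' x')
      rw [hfx₁, hcomm]
    obtain ⟨w₁, hw₁⟩ := hx₁mem
    have hφx' : f.fiberι (g y') (φ (f'.asFiber x')) = g' x' := by
      have := congr(($hφι) (f'.asFiber x'))
      rw [Scheme.Hom.comp_apply, Scheme.Hom.comp_apply, f'.fiberι_asFiber] at this
      exact this
    have hspec : w₁ ⤳ φ (f'.asFiber x') := by
      rw [← (f.fiberι (g y')).isEmbedding.isInducing.specializes_iff, hw₁, hφx']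
      exact hx₁
    obtain ⟨w', hw', hφw'⟩ := hgen hspec
    let x₁' : X' := f'.fiberι y' w'
    have h1 : x₁' ⤳ x' := by
      have := hw'.map (f'.fiberι y').continuous
      rw [f'.fiberι_asFiber] at this
      exact this
    have h2 : f' x₁' = f' x' := by
      have : x₁' ∈ Set.range (f'.fiberι y') := ⟨w', rfl⟩
      rw [f'.range_fiberι] at this
      exact this
    have h3 : g' x₁' = x₁ := by
      have := congr(($hφι) w')
      rw [Scheme.Hom.comp_apply, Scheme.Hom.comp_apply, hφw', hw₁] at this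
      exact this.symm
    have h4 := hx' x₁' h1 h2
    rw [hdim, hdim, h3] at h4
    exact h4
  · intro hx' x₁ hx₁ hfx₁
    rw [hdim, hdim]
    apply hx'
    · exact hx₁.map g'.continuous
    · rw [hcomm, hcomm, hfx₁]

section top

/-- In a Noetherian quasi-sober space, a point in the closure of an open set is a specialization
of a point of that open set. -/
lemma exists_specializes_of_mem_closure {T : Type*} [TopologicalSpace T] [NoetherianSpace T]
    [QuasiSober T] {O : Set T} (hO : IsOpen O) {x : T} (hx : x ∈ closure O) :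
    ∃ y ∈ O, y ⤳ x := by
  have hfin : (irreducibleComponents T).Finite := NoetherianSpace.finite_irreducibleComponents
  let S : Set T := ⋃ Z ∈ {Z ∈ irreducibleComponents T | (Z ∩ O).Nonempty}, Z
  have hScl : IsClosed S := by
    apply Set.Finite.isClosed_biUnion (hfin.subset (fun Z hZ => hZ.1))
    intro Z hZ
    exact isClosed_of_mem_irreducibleComponents Z hZ.1
  have hOS : O ⊆ S := by
    intro y hy
    refine Set.mem_biUnion (x := irreducibleComponent y)
      ⟨irreducibleComponent_mem_irreducibleComponents y, ⟨y, mem_irreducibleComponent, hy⟩⟩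
      mem_irreducibleComponent
  have hxS : x ∈ S := closure_minimal hOS hScl hx
  obtain ⟨Z, ⟨hZ, hZO⟩, hxZ⟩ := Set.mem_iUnion₂.mp hxS
  obtain ⟨η, hη⟩ := QuasiSober.sober hZ.1 (isClosed_of_mem_irreducibleComponents Z hZ)
  exact ⟨η, (hη.mem_open_set_iff hO).mpr hZO, hη.specializes hxZ⟩

/-- The trace of `A` on the subspace `F`, as a subspace of `F` or of the ambient space. -/
theorem topologicalKrullDim_preimage_val {T : Type*} [TopologicalSpace T] (A F : Set T) :
    topologicalKrullDim ↥(Subtype.val ⁻¹' A : Set ↥F) = topologicalKrullDim ↥(A ∩ F) := by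
  let ρ : ↥(Subtype.val ⁻¹' A : Set ↥F) → ↥(A ∩ F) := fun z => ⟨z.1.1, z.2, z.1.2⟩
  have hρ : IsEmbedding ρ := by
    refine IsEmbedding.of_comp ?_ continuous_subtype_val ?_
    · exact (continuous_subtype_val.comp continuous_subtype_val).subtype_mk _
    · have : IsEmbedding (fun z : ↥(Subtype.val ⁻¹' A : Set ↥F) => (z.1.1 : T)) :=
        IsEmbedding.subtypeVal.comp IsEmbedding.subtypeVal
      exact this
  have hsurj : Function.Surjective ρ := by
    rintro ⟨z, hzA, hzF⟩
    exact ⟨⟨⟨z, hzF⟩, hzA⟩, rfl⟩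
  exact IsHomeomorph.topologicalKrullDim_eq ρ
    (isHomeomorph_iff_isEmbedding_surjective.mpr ⟨hρ, hsurj⟩)

end top

open Groth.Agent.Lib.Helper23.FibreEquidim Groth.Agent.Lib.Helper2 in
/-- **Generic fibrewise density.**  For a dominant morphism of finite type between irreducible
schemes and a proper closed subset `B` of the source, over a neighbourhood of the generic point of
the base every point of a fibre has a generization in the same fibre lying outside `B`. -/
theorem exists_open_forall_exists_generization {C T : Scheme.{u}} (g : C ⟶ T) [IsNoetherian T]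
    [IrreducibleSpace T] [IrreducibleSpace C] [IsDominant g] [LocallyOfFiniteType g]
    [QuasiCompact g] (B : Set C) (hB : IsClosed B) (hBne : genericPoint C ∉ B) :
    ∃ U : T.Opens, genericPoint T ∈ U ∧
      ∀ w : C, g w ∈ U → ∃ ζ : C, ζ ⤳ w ∧ g ζ = g w ∧ ζ ∉ B := by
  obtain ⟨U₁, hηU₁, hU₁⟩ := exists_open_forall_irreducibleComponents_dim_eq g
  let IB : C.IdealSheafData := Scheme.IdealSheafData.vanishingIdeal ⟨B, hB⟩
  let ιB : IB.subscheme ⟶ C := IB.subschemeι
  have hrB : Set.range ιB = B := by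
    rw [Scheme.IdealSheafData.range_subschemeι, Scheme.IdealSheafData.coe_support_vanishingIdeal]
    rfl
  obtain ⟨V, ⟨v, hv⟩, hV⟩ :=
    Groth.Agent.Lib.Helper23.FibreEquidim.exists_open_forall_dim_fiber_eq (ιB ≫ g)
  have hηV : genericPoint T ∈ V :=
    ((genericPoint_spec T).mem_open_set_iff V.isOpen).mpr ⟨v, trivial, hv⟩
  have hξ := map_genericPoint g
  -- dimension of the trace of `B` on a fibre
  have hdimB : ∀ s : T, topologicalKrullDim ↥(B ∩ g ⁻¹' {s}) =
      topologicalKrullDim ↑((ιB ≫ g).fiber s) := by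
    intro s
    rw [dim_fiber_eq, ← topologicalKrullDim_range_inter_preimage g ιB s, hrB]
  -- the generic fibre is irreducible of finite dimension, and `B` meets it in a proper closed
  -- subset
  let η : T := genericPoint T
  let c₀ : ↥(g ⁻¹' {η}) := ⟨genericPoint C, hξ⟩
  have hcl : closure ({c₀} : Set ↥(g ⁻¹' {η})) = Set.univ := by
    rw [IsInducing.subtypeVal.closure_eq_preimage_closure_image, Set.image_singleton]
    show Subtype.val ⁻¹' closure ({genericPoint C} : Set C) = Set.univ
    rw [(genericPoint_spec C).def, Set.preimage_univ]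
  have hirr : IsIrreducible (Set.univ : Set ↥(g ⁻¹' {η})) := by
    rw [← hcl]
    exact isIrreducible_singleton.closure
  have hunivdim : topologicalKrullDim ↥(Set.univ : Set ↥(g ⁻¹' {η})) =
      topologicalKrullDim ↥(g ⁻¹' {η}) :=
    IsHomeomorph.topologicalKrullDim_eq _ (Homeomorph.Set.univ ↥(g ⁻¹' {η})).isHomeomorph
  have hfin : topologicalKrullDim ↥(g ⁻¹' {η}) < ⊤ := by
    obtain ⟨n, hn⟩ := exists_nat_fibreDimAt g (genericPoint C)
    rw [fibreDimAt_genericPoint, hξ, dim_fiber_eq] at hn
    rw [hn]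
    show ((n : ℕ∞) : WithBot ℕ∞) < ((⊤ : ℕ∞) : WithBot ℕ∞)
    exact WithBot.coe_lt_coe.mpr (ENat.coe_lt_top n)
  have hlt : topologicalKrullDim ↥(B ∩ g ⁻¹' {η}) < topologicalKrullDim ↥(g ⁻¹' {η}) := by
    rw [← topologicalKrullDim_preimage_val B (g ⁻¹' {η}), ← hunivdim]
    apply topologicalKrullDim_lt_of_ssubset_of_isIrreducible (Set.subset_univ _) _
      (hB.preimage continuous_subtype_val) hirr (hunivdim ▸ hfin)
    intro heq
    have : c₀ ∈ (Subtype.val ⁻¹' B : Set ↥(g ⁻¹' {η})) := heq ▸ Set.mem_univ c₀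
    exact hBne this
  refine ⟨U₁ ⊓ V, ⟨hηU₁, hηV⟩, ?_⟩
  rintro w ⟨hw1, hw2⟩
  let c : ↥(g ⁻¹' {g w}) := ⟨w, rfl⟩
  have hTc : irreducibleComponent c ∈ irreducibleComponents ↥(g ⁻¹' {g w}) :=
    irreducibleComponent_mem_irreducibleComponents c
  haveI : QuasiSober ↥(g ⁻¹' {g w}) :=
    (g.fiberHomeo (g w)).symm.isOpenEmbedding.quasiSober
  obtain ⟨ζ, hζ⟩ := QuasiSober.sober hTc.1
    (isClosed_of_mem_irreducibleComponents _ hTc)
  have hζc : ζ ⤳ c := hζ.specializes mem_irreducibleComponent
  refine ⟨ζ.1, hζc.map continuous_subtype_val, ζ.2, ?_⟩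
  intro hζB
  have hsub : irreducibleComponent c ⊆ (Subtype.val ⁻¹' B : Set ↥(g ⁻¹' {g w})) := by
    rw [← hζ.def]
    exact closure_minimal (Set.singleton_subset_iff.mpr hζB)
      (hB.preimage continuous_subtype_val)
  have h1 := topologicalKrullDim_mono hsub
  rw [hU₁ (g w) hw1 _ hTc, topologicalKrullDim_preimage_val, hdimB, hV (g w) hw2, ← hdimB] at h1
  exact absurd hlt (not_lt.mpr h1)

/-- Upper semicontinuity of the local fibre dimension along specializations. -/
theorem fibreDimAt_le_of_specializes {X T : Scheme.{u}} (f : X ⟶ T) [LocallyOfFiniteType f]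
    {a b : X} (hab : a ⤳ b) : FlatMor.fibreDimAt f a ≤ FlatMor.fibreDimAt f b := by
  obtain ⟨n, hn⟩ := exists_nat_fibreDimAt f b
  rw [hn]
  exact hab.mem_open (Groth.Agent.Lib.Helper13.Chevalley.isOpen_fibreDimAt_le f n)
    (show FlatMor.fibreDimAt f b ≤ n by rw [hn])

/-- **Core lemma.**  Over an irreducible Noetherian base, near a point `ξ` of the generic fibre
the property `EqG` is constant on the closure of `ξ`. -/
theorem exists_open_eqG_iff {X T : Scheme.{u}} (f : X ⟶ T) [IsNoetherian T] [IrreducibleSpace T]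
    [LocallyOfFiniteType f] [QuasiCompact f] (ξ : X) (hξ : f ξ = genericPoint T) :
    ∃ O : Set X, IsOpen O ∧ ξ ∈ O ∧ ∀ x ∈ O, ξ ⤳ x → (EqG f x ↔ EqG f ξ) := by
  haveI : IsLocallyNoetherian X := LocallyOfFiniteType.isLocallyNoetherian f
  haveI : CompactSpace X := QuasiCompact.compactSpace_of_compactSpace f
  haveI : IsNoetherian X := {}
  haveI : NoetherianSpace X := inferInstance
  obtain ⟨d, hd⟩ := exists_nat_fibreDimAt f ξ
  have hgen : ∀ a : X, a ⤳ ξ → f a = f ξ := by
    intro a ha
    have h1 : f a ⤳ f ξ := ha.map f.continuous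
    have h2 : f ξ ⤳ f a := by
      rw [hξ]
      exact (genericPoint_spec T).specializes (Set.mem_univ _)
    exact (h1.antisymm h2).eq
  by_cases h : EqG f ξ
  · -- the points of smaller fibre dimension stay away from `ξ`
    let A : Set X := ⋃ n : ℕ, ⋃ _ : n < d, {x : X | FlatMor.fibreDimAt f x ≤ n}
    have hA : IsOpen A := isOpen_iUnion fun n => isOpen_iUnion fun _ =>
      Groth.Agent.Lib.Helper13.Chevalley.isOpen_fibreDimAt_le f n
    have hmemA : ∀ x : X, ∀ m : ℕ, FlatMor.fibreDimAt f x = m → (x ∈ A ↔ m < d) := by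
      intro x m hm
      constructor
      · intro hx
        obtain ⟨n, hx⟩ := Set.mem_iUnion.mp hx
        obtain ⟨hn, hx⟩ := Set.mem_iUnion.mp hx
        have hx' : FlatMor.fibreDimAt f x ≤ n := hx
        rw [hm] at hx'
        exact lt_of_le_of_lt (Nat.cast_le.mp hx') hn
      · intro hmd
        exact Set.mem_iUnion.mpr ⟨m, Set.mem_iUnion.mpr ⟨hmd, by
          show FlatMor.fibreDimAt f x ≤ m
          rw [hm]⟩⟩
    have hξA : ξ ∉ closure A := by
      intro hmem
      obtain ⟨a, haA, haξ⟩ := exists_specializes_of_mem_closure hA hmem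
      have h1 := h a haξ (hgen a haξ)
      rw [hd] at h1
      exact absurd ((hmemA a d h1).mp haA) (lt_irrefl d)
    refine ⟨(closure A)ᶜ ∩ {x : X | FlatMor.fibreDimAt f x ≤ d},
      isClosed_closure.isOpen_compl.inter
        (Groth.Agent.Lib.Helper13.Chevalley.isOpen_fibreDimAt_le f d), ⟨hξA, ?_⟩, ?_⟩
    · show FlatMor.fibreDimAt f ξ ≤ d
      rw [hd]
    · intro x hx _
      refine ⟨fun _ => h, fun _ => ?_⟩
      have hval : ∀ y : X, y ∈ (closure A)ᶜ ∩ {x : X | FlatMor.fibreDimAt f x ≤ d} →
          FlatMor.fibreDimAt f y = d := by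
        rintro y ⟨hy1, hy2⟩
        obtain ⟨m, hm⟩ := exists_nat_fibreDimAt f y
        have hy2' : FlatMor.fibreDimAt f y ≤ d := hy2
        rw [hm] at hy2' ⊢
        have h1 : m ≤ d := Nat.cast_le.mp hy2'
        have h2 : ¬ m < d := fun hlt => hy1 (subset_closure ((hmemA y m hm).mpr hlt))
        have : m = d := le_antisymm h1 (not_lt.mp h2)
        rw [this]
      intro x' hx' _
      have hO : IsOpen ((closure A)ᶜ ∩ {x : X | FlatMor.fibreDimAt f x ≤ d}) :=
        isClosed_closure.isOpen_compl.inter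
          (Groth.Agent.Lib.Helper13.Chevalley.isOpen_fibreDimAt_le f d)
      rw [hval x hx, hval x' (hx'.mem_open hO hx)]
  · -- a generization `ξ'` of `ξ` in the generic fibre with smaller local fibre dimension
    have h' := h
    unfold EqG at h'
    push Not at h'
    obtain ⟨ξ', hξ'ξ, hfξ', hne⟩ := h'
    obtain ⟨d', hd'⟩ := exists_nat_fibreDimAt f ξ'
    have hd'd : d' < d := by
      have h1 := fibreDimAt_le_of_specializes f hξ'ξ
      rw [hd, hd'] at h1
      refine lt_of_le_of_ne (Nat.cast_le.mp h1) ?_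
      intro heq
      apply hne
      rw [hd, hd', heq]
    let I' : X.IdealSheafData :=
      Scheme.IdealSheafData.vanishingIdeal ⟨closure {ξ'}, isClosed_closure⟩
    let ι' : I'.subscheme ⟶ X := I'.subschemeι
    have hr : Set.range ι' = closure {ξ'} := by
      rw [Scheme.IdealSheafData.range_subschemeι,
        Scheme.IdealSheafData.coe_support_vanishingIdeal]
      rfl
    haveI : IrreducibleSpace ↥I'.subscheme :=
      irreducibleSpace_of_isEmbedding ι' ι'.isEmbedding (hr ▸ isIrreducible_singleton.closure)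
    have hw₀ : ι' (genericPoint ↥I'.subscheme) = ξ' := by
      have h1 : IsGenericPoint (ι' (genericPoint ↥I'.subscheme)) (closure (⇑ι' '' Set.univ)) :=
        (genericPoint_spec ↥I'.subscheme).image ι'.continuous
      rw [Set.image_univ, hr, closure_closure] at h1
      exact h1.eq (isGenericPoint_closure)
    have hgw₀ : (ι' ≫ f) (genericPoint ↥I'.subscheme) = genericPoint T := by
      rw [Scheme.Hom.comp_apply, hw₀, hfξ', hξ]
    haveI : IsDominant (ι' ≫ f) := by
      refine ⟨fun t => ?_⟩
      have h1 : closure ({genericPoint T} : Set T) ⊆ closure (Set.range (ι' ≫ f)) :=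
        closure_mono (Set.singleton_subset_iff.mpr ⟨_, hgw₀⟩)
      apply h1
      rw [(genericPoint_spec T).def]
      trivial
    let B : Set ↥I'.subscheme := (ι' ⁻¹' {x : X | FlatMor.fibreDimAt f x ≤ d'})ᶜ
    have hB : IsClosed B :=
      ((Groth.Agent.Lib.Helper13.Chevalley.isOpen_fibreDimAt_le f d').preimage
        ι'.continuous).isClosed_compl
    have hBne : genericPoint ↥I'.subscheme ∉ B := by
      intro hmem
      apply hmem
      show FlatMor.fibreDimAt f (ι' (genericPoint ↥I'.subscheme)) ≤ d'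
      rw [hw₀, hd']
    obtain ⟨U, hηU, hU⟩ := exists_open_forall_exists_generization (ι' ≫ f) B hB hBne
    refine ⟨f ⁻¹' (U : Set T), U.2.preimage f.continuous, ?_, ?_⟩
    · show f ξ ∈ U
      rw [hξ]
      exact hηU
    · intro x hx hξx
      refine ⟨fun hx' => ?_, fun hx' => absurd hx' h⟩
      exfalso
      have hxmem : x ∈ Set.range ι' := by
        rw [hr]
        exact (hξ'ξ.trans hξx).mem_closure
      obtain ⟨w, rfl⟩ := hxmem
      obtain ⟨ζ, hζw, hgζ, hζB⟩ := hU w hx
      have h1 : FlatMor.fibreDimAt f (ι' ζ) ≤ d' := not_not.mp hζB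
      have h2 := hx' (ι' ζ) (hζw.map ι'.continuous) hgζ
      have h3 := fibreDimAt_le_of_specializes f hξx
      rw [hd, ← h2] at h3
      have h4 := h3.trans h1
      exact absurd (Nat.cast_le.mp h4) (not_le.mpr hd'd)

/-- **Noetherian case**: the locus where the fibre is equidimensional is constructible. -/
theorem isConstructible_eqG_noeth {X₀ : Scheme.{u}} (A₀ : CommRingCat.{u}) [IsNoetherianRing A₀]
    (f₀ : X₀ ⟶ Spec A₀) [LocallyOfFiniteType f₀] [QuasiCompact f₀] :
    IsConstructible {x : X₀ | EqG f₀ x} := by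
  haveI hX₀ : IsLocallyNoetherian X₀ := LocallyOfFiniteType.isLocallyNoetherian f₀
  haveI : CompactSpace X₀ := QuasiCompact.compactSpace_of_compactSpace f₀
  haveI : IsNoetherian X₀ := {}
  haveI : TopologicalSpace.NoetherianSpace X₀ := inferInstance
  rw [Groth.Agent.Lib.Helper12.ConstrTop.isConstructible_iff_forall_irreducible_closed]
  intro Z hZc hZi
  have hqs : QuasiSober X₀ := inferInstance
  obtain ⟨ξ, hξ⟩ := hqs.sober hZi hZc
  let η : PrimeSpectrum A₀ := f₀ ξ
  let P : Ideal A₀ := η.asIdeal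
  let iT : Spec (CommRingCat.of (A₀ ⧸ P)) ⟶ Spec A₀ :=
    Spec.map (CommRingCat.ofHom (Ideal.Quotient.mk P))
  haveI hiT : IsClosedImmersion iT :=
    IsClosedImmersion.spec_of_surjective _ Ideal.Quotient.mk_surjective
  haveI : IsDomain (A₀ ⧸ P) := Ideal.Quotient.isDomain P
  haveI : IsIntegral (Spec (CommRingCat.of (A₀ ⧸ P))) := inferInstance
  haveI : IsNoetherianRing (A₀ ⧸ P) := inferInstance
  haveI : IsNoetherian (Spec (CommRingCat.of (A₀ ⧸ P))) := inferInstance
  let fT := pullback.snd f₀ iT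
  let jT := pullback.fst f₀ iT
  have hpb : IsPullback jT fT f₀ iT := IsPullback.of_hasPullback f₀ iT
  have hrange : Set.range iT = PrimeSpectrum.zeroLocus (P : Set A₀) := by
    have := range_comap_of_surjective _ (Ideal.Quotient.mk P)
      Ideal.Quotient.mk_surjective
    rw [Ideal.mk_ker] at this
    exact this
  have hiTe : IsEmbedding iT := iT.isClosedEmbedding.isEmbedding
  have hjTe : IsEmbedding jT := jT.isClosedEmbedding.isEmbedding
  -- the generic point of `T`
  have hηr : η ∈ Set.range iT := by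
    rw [hrange]
    exact fun a ha => ha
  obtain ⟨t₀, ht₀⟩ := hηr
  have ht₀gen : t₀ = genericPoint ↥(Spec (CommRingCat.of (A₀ ⧸ P))) := by
    apply eq_genericPoint_of_maximal
    intro t _
    rw [← hiTe.isInducing.specializes_iff, ht₀]
    have : iT t ∈ Set.range iT := ⟨t, rfl⟩
    rw [hrange] at this
    exact (PrimeSpectrum.le_iff_specializes η (iT t)).mp this
  obtain ⟨ξT, hξT1, hξT2⟩ := Groth.Agent.Lib.Helper13.CMCons.exists_preimage_of_isPullback hpb ξ t₀
    ht₀.symm
  obtain ⟨OT, hOT, hξOT, hOTkey⟩ := exists_open_eqG_iff fT ξT (hξT2.trans ht₀gen)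
  obtain ⟨O, hO, hOOT⟩ := hjTe.isInducing.isOpen_iff.mp hOT
  have hξO : ξ ∈ O := by
    have : ξT ∈ jT ⁻¹' O := by rw [hOOT]; exact hξOT
    rw [← hξT1]
    exact this
  have hkey : ∀ z ∈ Z, z ∈ O → (EqG f₀ z ↔ EqG f₀ ξ) := by
    intro z hzZ hzO
    have hs : ξ ⤳ z := by
      rw [specializes_iff_mem_closure, hξ.def]
      exact hzZ
    have hs' : η ⤳ f₀ z := hs.map f₀.continuous
    have hmem : f₀ z ∈ Set.range iT := by
      rw [hrange]
      exact (PrimeSpectrum.le_iff_specializes η (f₀ z)).mpr hs'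
    obtain ⟨t, ht⟩ := hmem
    obtain ⟨x, hx1, -⟩ := Groth.Agent.Lib.Helper13.CMCons.exists_preimage_of_isPullback hpb z t
      ht.symm
    have hxOT : x ∈ OT := by
      rw [← hOOT]
      show jT x ∈ O
      rw [hx1]
      exact hzO
    have hξTx : ξT ⤳ x := by
      rw [← hjTe.isInducing.specializes_iff, hξT1, hx1]
      exact hs
    have h1 := hOTkey x hxOT hξTx
    rw [eqG_iff_of_isPullback hpb x, eqG_iff_of_isPullback hpb ξT, hx1, hξT1] at h1
    exact h1
  have hξmem : ξ ∈ Z := hξ.mem
  by_cases hξE : EqG f₀ ξ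
  · right
    refine ⟨O, hO, ⟨ξ, hξO, hξmem⟩, ?_⟩
    rintro z ⟨hzO, hzZ⟩
    exact (hkey z hzZ hzO).mpr hξE
  · left
    have hsub : (Subtype.val ⁻¹' {x | EqG f₀ x} : Set Z) ⊆ (Subtype.val ⁻¹' O : Set Z)ᶜ := by
      rintro ⟨z, hzZ⟩ hzE hzO
      exact hξE ((hkey z hzZ hzO).mp hzE)
    have hopenO : IsOpen (Subtype.val ⁻¹' O : Set Z) := hO.preimage continuous_subtype_val
    have hdense : Dense (Subtype.val ⁻¹' O : Set Z) := by
      haveI : IrreducibleSpace Z := (isIrreducible_iff_irreducibleSpace (s := Z)).1 hZi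
      exact hopenO.dense ⟨⟨ξ, hξmem⟩, hξO⟩
    have hnd : IsNowhereDense ((Subtype.val ⁻¹' O : Set Z)ᶜ) := by
      rw [hopenO.isClosed_compl.isNowhereDense_iff, interior_compl, hdense.closure_eq,
        Set.compl_univ]
    exact hnd.mono hsub

open Groth.Agent.Lib.Helper23 in
/-- **EGA IV 9.9.3 (equidimensionality)**: for `f` locally of finite presentation, the set of
points at which the fibre through the point is equidimensional is locally constructible. -/
theorem isLocallyConstructible_eqG {X S : Scheme.{u}} (f : X ⟶ S)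
    [LocallyOfFinitePresentation f] : IsLocallyConstructible {x : X | EqG f x} := by
  intro x₀
  obtain ⟨W, hW, hx₀W, -⟩ := exists_isAffineOpen_mem_and_subset (x := f x₀) (U := ⊤) trivial
  obtain ⟨V, hV, hx₀V, eV⟩ := exists_isAffineOpen_mem_and_subset (x := x₀) (U := f ⁻¹ᵁ W) hx₀W
  refine ⟨V, V.2.mem_nhds hx₀V, V.2, ?_⟩
  let f₁ : (V : Scheme.{u}) ⟶ (W : Scheme.{u}) := f.resLE W V eV
  have hf₁ : f₁ ≫ W.ι = V.ι ≫ f := Scheme.Hom.resLE_comp_ι f eV
  haveI : IsAffine (V : Scheme.{u}) := hV
  haveI : IsAffine (W : Scheme.{u}) := hW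
  haveI hf₁fp : LocallyOfFinitePresentation f₁ := inferInstance
  haveI hf₁qc : QuasiCompact f₁ := inferInstance
  haveI hf₁qs : QuasiSeparated f₁ := inferInstance
  obtain ⟨i, X₀, f₀, q, hf₀fp, hf₀qc, hf₀qs, hpb⟩ := descends_noeth f₁
  haveI := isNoetherianRing_noethRing (W : Scheme.{u}) i
  let f₀' : X₀ ⟶ Spec (noethRing (W : Scheme.{u}) i) := f₀
  haveI hf₀'fp : LocallyOfFinitePresentation f₀' := hf₀fp
  haveI hf₀'qc : QuasiCompact f₀' := hf₀qc
  haveI hf₀lft : LocallyOfFiniteType f₀' := inferInstance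
  have hpb' : IsPullback q f₁ f₀' ((noethCone (W : Scheme.{u})).π.app i) := hpb
  have hcons := isConstructible_eqG_noeth (noethRing (W : Scheme.{u}) i) f₀'
  have hpre := q.isConstructible_preimage hcons
  have hset : ((Subtype.val : ↥V → X) ⁻¹' {x | EqG f x}) =
      (q : ↥(V : Scheme.{u}) → X₀) ⁻¹' {x | EqG f₀' x} := by
    ext z
    exact (eqG_iff_of_openImmersion_square V.ι W.ι f₁ f hf₁ z).symm.trans
      (eqG_iff_of_isPullback hpb' z)
  rw [← hset] at hpre
  exact hpre

end Groth.Agent.Lib.Helper13.EquidimCons
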