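/-
Helper library (helper13): for a scheme locally of finite type over a field, the local ring at `z`
is equidimensional iff all irreducible components through `z` have the same dimension; consequently
the local ring of the fibre of `f` at `x` is equidimensional iff `EquidimCons.EqG f x`.
-/
import Groth.Agent.Lib.Helper13.EquidimCons
import Groth.Agent.Lib.Helper55.EquidimStalkOpen
import Groth.Agent.Lib.Helper55.Equidim

set_option autoImplicit false
open CategoryTheory AlgebraicGeometry Limits
universe u

namespace Groth.Agent.Lib.Helper13.EqFib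

open Groth.Agent.Lib.Helper13.EquidimCons
open Groth.Agent.Lib.Helper55 Groth.Agent.Lib.Helper13.CMChart
open IsLocalRing Topology TopologicalSpace

section top

variable {A B : Type*} [TopologicalSpace A] [TopologicalSpace B]

/-- A closed embedding preserves the dimension of the closure of a point. -/
theorem topologicalKrullDim_closure_singleton_of_isClosedEmbedding (j : A → B)
    (hj : IsClosedEmbedding j) (a : A) :
    topologicalKrullDim ↥(closure ({j a} : Set B)) = topologicalKrullDim ↥(closure ({a} : Set A)) := by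
  have himg : closure ({j a} : Set B) = j '' closure ({a} : Set A) := by
    rw [← hj.closure_image_eq, Set.image_singleton]
  let g : ↥(closure ({a} : Set A)) → ↥(closure ({j a} : Set B)) := fun t =>
    ⟨j t.1, by rw [himg]; exact ⟨t.1, t.2, rfl⟩⟩
  have hg : IsEmbedding g := by
    refine IsEmbedding.of_comp ?_ continuous_subtype_val ?_
    · exact (hj.continuous.comp continuous_subtype_val).subtype_mk _
    · exact hj.isEmbedding.comp IsEmbedding.subtypeVal
  have hsurj : Function.Surjective g := by
    rintro ⟨b, hb⟩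
    rw [himg] at hb
    obtain ⟨t, ht, rfl⟩ := hb
    exact ⟨⟨t, ht⟩, rfl⟩
  exact (IsHomeomorph.topologicalKrullDim_eq g
    (isHomeomorph_iff_isEmbedding_surjective.mpr ⟨hg, hsurj⟩)).symm

end top

section Field

variable {κ : Type u} [Field κ] {Z : Scheme.{u}} (q : Z ⟶ Spec (CommRingCat.of κ))
  [LocallyOfFiniteType q]

include q in
/-- **Dimension formula along a minimal prime** for a scheme locally of finite type over a field:
`dim O_{Z,z}/𝔭 + dim cl{z} = dim cl{w}` for a minimal prime `𝔭` of `O_{Z,z}` with corresponding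
maximal point `w`. -/
theorem ringKrullDim_stalk_quotient_add_dim_closure (z : Z)
    (𝔭 : PrimeSpectrum (Z.presheaf.stalk z)) :
    ringKrullDim (Z.presheaf.stalk z ⧸ 𝔭.asIdeal) + topologicalKrullDim ↥(closure ({z} : Set Z)) =
      topologicalKrullDim ↥(closure ({stalkPoint z 𝔭} : Set Z)) := by
  obtain ⟨hirr, hr, hgen⟩ := closure_subscheme_setup (stalkPoint z 𝔭)
  haveI := hirr
  have hwz : stalkPoint z 𝔭 ⤳ z := stalkPoint_specializes z 𝔭
  have hzr : z ∈ Set.range (Scheme.IdealSheafData.vanishingIdeal
      (⟨closure {stalkPoint z 𝔭}, isClosed_closure⟩ : TopologicalSpace.Closeds Z)).subschemeι := by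
    rw [hr]
    exact specializes_iff_mem_closure.mp hwz
  obtain ⟨z', hz'⟩ := hzr
  generalize hI : Scheme.IdealSheafData.vanishingIdeal
      (⟨closure {stalkPoint z 𝔭}, isClosed_closure⟩ : TopologicalSpace.Closeds Z) = I' at *
  haveI : LocallyOfFiniteType (I'.subschemeι ≫ q) := inferInstance
  haveI : IsLocallyNoetherian I'.subscheme :=
    LocallyOfFiniteType.isLocallyNoetherian (I'.subschemeι ≫ q)
  have h1 : ringKrullDim (I'.subscheme.presheaf.stalk z') =
      ringKrullDim (Z.presheaf.stalk z ⧸ 𝔭.asIdeal) := by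
    rw [ringKrullDim_stalk_eq_dim_between z',
      topologicalKrullDim_between_eq_of_isClosedEmbedding _
        (Scheme.Hom.isClosedEmbedding I'.subschemeι) (genericPoint _) z', hgen, hz']
    exact (ringKrullDim_stalk_quotient_eq z 𝔭).symm
  have h2 := localDim_eq_topologicalKrullDim_of_irreducibleSpace (I'.subschemeι ≫ q) z'
  have h3 := localDim_eq_dim_closure_add_dim_stalk (I'.subschemeι ≫ q) z'
  have h7 := topologicalKrullDim_closure_singleton_of_isClosedEmbedding _
    (Scheme.Hom.isClosedEmbedding I'.subschemeι) z'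
  rw [hz'] at h7
  have h4 := topologicalKrullDim_closure_singleton_of_isClosedEmbedding _
    (Scheme.Hom.isClosedEmbedding I'.subschemeι) (genericPoint ↥I'.subscheme)
  rw [hgen, (genericPoint_spec ↥I'.subscheme).def] at h4
  have h5 : topologicalKrullDim ↥(Set.univ : Set ↥I'.subscheme) =
      topologicalKrullDim ↥I'.subscheme :=
    IsHomeomorph.topologicalKrullDim_eq _ (Homeomorph.Set.univ ↥I'.subscheme).isHomeomorph
  rw [← h1, h7, add_comm, ← h3, h2, h4, h5]

end Field

section Fibre

variable {X Y : Scheme.{u}} (f : X ⟶ Y) [LocallyOfFiniteType f]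

/-- The local ring of the fibre of `f` at `x` is equidimensional iff all the irreducible
components of the fibre through `x` have the same dimension. -/
theorem isEquidim_fibre_stalk_iff_eqG (x : X) :
    EGA4.IsEquidim ((f.fiber (f x)).presheaf.stalk (f.asFiber x)) ↔ EqG f x := by
  have hlft : LocallyOfFiniteType (f.fiberToSpecResidueField (f x)) :=
    MorphismProperty.pullback_snd (P := @LocallyOfFiniteType) _ _ ‹_›
  let q' : (f.fiber (f x)) ⟶ Spec (CommRingCat.of ↑(Y.residueField (f x))) :=
    f.fiberToSpecResidueField (f x)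
  haveI : LocallyOfFiniteType q' := hlft
  haveI : IsLocallyNoetherian (f.fiber (f x)) := LocallyOfFiniteType.isLocallyNoetherian q'
  set z := f.asFiber x with hz
  obtain ⟨c, hc, -⟩ := exists_dim_closure_asFiber_eq_trdeg f x
  have hkey : ∀ 𝔭 : PrimeSpectrum ((f.fiber (f x)).presheaf.stalk z),
      𝔭.asIdeal ∈ minimalPrimes ((f.fiber (f x)).presheaf.stalk z) →
      ringKrullDim ((f.fiber (f x)).presheaf.stalk z ⧸ 𝔭.asIdeal) + (c : WithBot ℕ∞) =
        topologicalKrullDim ↥(closure ({stalkPoint z 𝔭} : Set ↥(f.fiber (f x)))) ∧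
      closure ({stalkPoint z 𝔭} : Set ↥(f.fiber (f x))) ∈
        irreducibleComponents ↥(f.fiber (f x)) := by
    intro 𝔭 h𝔭
    refine ⟨?_, ?_⟩
    · rw [← hc]
      exact ringKrullDim_stalk_quotient_add_dim_closure q' z 𝔭
    · exact closure_mem_irreducibleComponents_of_maximal _
        (stalkPoint_maximal_of_mem_minimalPrimes z 𝔭 h𝔭)
  have hdim : ringKrullDim ((f.fiber (f x)).presheaf.stalk z) + (c : WithBot ℕ∞) =
      FlatMor.localDim ↥(f.fiber (f x)) z := by
    rw [localDim_eq_dim_closure_add_dim_stalk q' z, hc, add_comm]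
  rw [← eqG_iff_components]
  constructor
  · intro heq
    obtain ⟨e, he⟩ := exists_nat_fibreDimAt f x
    refine ⟨e, fun Zc hZc hzZc => ?_⟩
    obtain ⟨ξ, hξ⟩ := QuasiSober.sober hZc.1 (isClosed_of_mem_irreducibleComponents Zc hZc)
    have hξz : ξ ⤳ z := hξ.specializes hzZc
    obtain ⟨𝔭, h𝔭⟩ := exists_stalkPoint_eq z ξ hξz
    have hmin : 𝔭.asIdeal ∈ minimalPrimes ((f.fiber (f x)).presheaf.stalk z) := by
      apply mem_minimalPrimes_of_stalkPoint_maximal z 𝔭
      rw [h𝔭]
      intro t ht
      have hcl : closure ({ξ} : Set ↥(f.fiber (f x))) ∈ irreducibleComponents ↥(f.fiber (f x)) := by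
        rw [hξ.def]
        exact hZc
      exact specializes_of_closure_mem_irreducibleComponents ξ hcl t ht
    have h1 := (hkey 𝔭 hmin).1
    rw [h𝔭, hξ.def, heq _ hmin, hdim] at h1
    rw [← h1]
    exact he
  · rintro ⟨e, he⟩ 𝔭 h𝔭
    have hprime : 𝔭.IsPrime := h𝔭.1.1
    obtain ⟨h1, h2⟩ := hkey ⟨𝔭, hprime⟩ h𝔭
    have h3 : z ∈ closure ({stalkPoint z ⟨𝔭, hprime⟩} : Set ↥(f.fiber (f x))) :=
      specializes_iff_mem_closure.mp (stalkPoint_specializes z ⟨𝔭, hprime⟩)
    rw [he _ h2 h3] at h1
    obtain ⟨ξ, hξ, hξz, hdimξ⟩ := exists_mem_irreducibleComponents_dim_eq_localDim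
      (k := ↑(Y.residueField (f x))) q' z
    rw [he _ hξ (specializes_iff_mem_closure.mp hξz)] at hdimξ
    rw [← hdimξ, ← h1] at hdim
    exact (withBot_enat_add_right_cancel c hdim).symm

end Fibre

end Groth.Agent.Lib.Helper13.EqFib
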