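/-
Helper library (helper13): the condition "the fibre is smooth in codimension `≤ k` at `z`" in flat
families, part A: a depth estimate along specializations, spreading out from the generic fibre,
and generization over a discrete valuation ring (assuming `(S_{k+1})` on the closed fibre).
-/
import Groth.Agent.Lib.Helper13.SkFibE
import Groth.Agent.Lib.Helper29.FlatAscent

set_option autoImplicit false
open CategoryTheory AlgebraicGeometry Limits
universe u

namespace Groth.Agent.Lib.Helper13.GkFib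

open Groth.Agent.Lib.Helper13.CodepthFib Groth.Agent.Lib.Helper13.FibLocProp
open Groth.Agent.Lib.Helper13.CodepthOpen Groth.Agent.Lib.Helper13.SkFib
open Groth.Agent.Lib.Helper55 Groth.Agent.Lib.Helper13.CMChart
open Groth.Agent.Lib.Helper29 IsLocalRing TensorProduct Topology TopologicalSpace

section Ring

/-- In a Noetherian ring: below a prime `q₀` containing `t` and above a prime `p ≤ q₀` there is a
prime `q` containing `t` with `depth A_q ≤ depth A_p + 1`. -/
theorem exists_prime_depth_le (A : Type u) [CommRing A] [IsNoetherianRing A] (p q₀ : Ideal A)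
    [p.IsPrime] [q₀.IsPrime] (hpq₀ : p ≤ q₀) (t : A) (ht : t ∈ q₀) :
    ∃ (q : Ideal A) (_ : q.IsPrime), p ≤ q ∧ q ≤ q₀ ∧ t ∈ q ∧
      LocCoh.depth (Localization.AtPrime q) (Localization.AtPrime q) ≤
        LocCoh.depth (Localization.AtPrime p) (Localization.AtPrime p) + 1 := by
  have hJ : p ⊔ Ideal.span {t} ≤ q₀ :=
    sup_le hpq₀ ((Ideal.span_singleton_le_iff_mem _).mpr ht)
  obtain ⟨q, hq, hqq₀⟩ := Ideal.exists_minimalPrimes_le hJ
  have hqprime : q.IsPrime := hq.1.1
  have hpq : p ≤ q := le_sup_left.trans hq.1.2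
  have htq : t ∈ q := hq.1.2 (Ideal.mem_sup_right (Ideal.mem_span_singleton_self t))
  refine ⟨q, hqprime, hpq, hqq₀, htq, ?_⟩
  have hq' : q.map (Ideal.Quotient.mk p) ∈
      ((Ideal.span {t}).map (Ideal.Quotient.mk p)).minimalPrimes := by
    rw [Ideal.minimalPrimes_map_of_surjective Ideal.Quotient.mk_surjective, Ideal.mk_ker,
      sup_comm]
    exact ⟨q, hq, rfl⟩
  have hprinc : ((Ideal.span {t}).map (Ideal.Quotient.mk p)).IsPrincipal := by
    rw [Ideal.map_span, Set.image_singleton]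
    exact ⟨⟨_, rfl⟩⟩
  have hht1 : (q.map (Ideal.Quotient.mk p)).height ≤ 1 :=
    Ideal.height_le_one_of_isPrincipal_of_mem_minimalPrimes _ _ hq'
  have h1 := depth_localization_le_depth_localization_add_height A hpq A
  rw [depth_localizedModule_self, depth_localizedModule_self] at h1
  exact h1.trans (by gcongr)

end Ring

section Scheme

/-- Scheme version of `exists_prime_depth_le`: along a specialization `η ⤳ x₀` inside an affine
open `V`, with `t` a section over `V` vanishing at `x₀`, there is an intermediate point `x₁` at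
which `t` vanishes and `depth O_{x₁} ≤ depth O_η + 1`. -/
theorem exists_specialization_depth_le {P : Scheme.{u}} [IsLocallyNoetherian P] {V : P.Opens}
    (hV : IsAffineOpen V) (p q₀ : PrimeSpectrum Γ(P, V)) (hpq₀ : p ≤ q₀) (t : Γ(P, V))
    (ht : t ∈ q₀.asIdeal) :
    ∃ q : PrimeSpectrum Γ(P, V), p ≤ q ∧ q ≤ q₀ ∧ t ∈ q.asIdeal ∧
      LocCoh.depth (P.presheaf.stalk (hV.fromSpec q)) (P.presheaf.stalk (hV.fromSpec q)) ≤
        LocCoh.depth (P.presheaf.stalk (hV.fromSpec p)) (P.presheaf.stalk (hV.fromSpec p)) + 1 := by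
  haveI : IsNoetherianRing Γ(P, V) := IsLocallyNoetherian.component_noetherian ⟨V, hV⟩
  obtain ⟨q, hqp, h1, h2, h3, h4⟩ := exists_prime_depth_le Γ(P, V) p.asIdeal q₀.asIdeal hpq₀ t ht
  refine ⟨⟨q, hqp⟩, h1, h2, h3, ?_⟩
  obtain ⟨e⟩ := Groth.Agent.Lib.Helper24.nonempty_stalk_ringEquiv_localization hV.fromSpec
    (⟨q, hqp⟩ : PrimeSpectrum Γ(P, V))
  obtain ⟨e'⟩ := Groth.Agent.Lib.Helper24.nonempty_stalk_ringEquiv_localization hV.fromSpec p
  rw [depth_self_eq_of_ringEquiv e, depth_self_eq_of_ringEquiv e']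
  exact h4

end Scheme

section Spread

variable {X U : Scheme.{u}} [IsIntegral U] [AlgebraicGeometry.IsNoetherian U] (g : X ⟶ U) [Flat g]
  [LocallyOfFinitePresentation g] [QuasiCompact g]

/-- Spreading out a lower bound for the dimension of the fibre local rings at the points of a
closed subset, from a point of the generic fibre to a neighbourhood. -/
theorem exists_open_forall_closed_fd_ge (ξ : X) (hξ : g ξ = genericPoint U) (Zc : Set X)
    (hZc : IsClosed Zc) (m : WithBot ℕ∞)
    (h : ∀ w : X, w ⤳ ξ → g w = g ξ → w ∈ Zc → m ≤ FD g w) :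
    ∃ N : Set X, IsOpen N ∧ ξ ∈ N ∧ ∀ z ∈ N, ∀ x : X, x ⤳ z → g x = g z → x ∈ Zc →
      m ≤ FD g x := by
  haveI : LocallyOfFiniteType g := inferInstance
  haveI : IsLocallyNoetherian X := LocallyOfFiniteType.isLocallyNoetherian g
  haveI : CompactSpace X := QuasiCompact.compactSpace_of_compactSpace g
  haveI : AlgebraicGeometry.IsNoetherian X := {}
  haveI : NoetherianSpace X := inferInstance
  obtain ⟨S, hSf, hSc, hSi, hSU⟩ := NoetherianSpace.exists_finite_set_isClosed_irreducible hZc
  have hW : ∀ W ∈ S, ∃ N : Set X, IsOpen N ∧ ξ ∈ N ∧ ∀ z ∈ N, ∀ x ∈ W, x ⤳ z → g x = g z →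
      m ≤ FD g x := by
    intro W hWS
    refine exists_open_forall_fd_ge g ξ hξ W (hSc W hWS) (hSi W hWS) _ ?_
    intro hξW w hw
    have hwξ : w ⤳ ξ := by
      rw [specializes_iff_mem_closure, hw.def]
      exact hξW
    have hgw : g w = g ξ := by
      have h1 : g w ⤳ g ξ := hwξ.map g.continuous
      have h2 : g ξ ⤳ g w := hξ ▸ _root_.genericPoint_specializes _
      exact (h1.antisymm h2).eq
    have hwW : w ∈ W := hw.mem
    have hwc : w ∈ Zc := by
      rw [hSU]
      exact Set.mem_sUnion.mpr ⟨W, hWS, hwW⟩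
    exact h w hwξ hgw hwc
  choose! N hNo hNξ hN using hW
  refine ⟨⋂ W ∈ S, N W, hSf.isOpen_biInter hNo, Set.mem_iInter₂.mpr hNξ, ?_⟩
  intro z hz x hxz hgx hxc
  rw [hSU] at hxc
  obtain ⟨W, hWS, hxW⟩ := Set.mem_sUnion.mp hxc
  exact hN W hWS z (Set.mem_iInter₂.mp hz W hWS) x hxW hxz hgx

end Spread

/-- The fibre of `g` through `z` is smooth in codimension `≤ k` at `z`: every generization of `z`
in its fibre which is not a smooth point of `g` has a fibre local ring of dimension `≥ k + 1`.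
(Meant for flat `g`.) -/
def GkFib {X U : Scheme.{u}} (g : X ⟶ U) [LocallyOfFinitePresentation g] (k : ℕ) (z : X) : Prop :=
  ∀ y : X, y ⤳ z → g y = g z → y ∉ g.smoothLocus → ((k + 1 : ℕ) : WithBot ℕ∞) ≤ FD g y

section SpreadGk

variable {X U : Scheme.{u}} [IsIntegral U] [AlgebraicGeometry.IsNoetherian U] (g : X ⟶ U) [Flat g]
  [LocallyOfFinitePresentation g] [QuasiCompact g]

/-- **Spreading out smoothness in codimension `≤ k` from the generic fibre.** -/
theorem exists_open_gkFib (k : ℕ) (ξ : X) (hξ : g ξ = genericPoint U) (h : GkFib g k ξ) :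
    ∃ N : Set X, IsOpen N ∧ ξ ∈ N ∧ ∀ z ∈ N, GkFib g k z := by
  have hZc : IsClosed ((g.smoothLocus : Set X)ᶜ) := g.smoothLocus.isOpen.isClosed_compl
  obtain ⟨N, hNo, hξN, hN⟩ := exists_open_forall_closed_fd_ge g ξ hξ _ hZc
    ((k + 1 : ℕ) : WithBot ℕ∞) (fun w hw hgw hwc => h w hw hgw hwc)
  exact ⟨N, hNo, hξN, fun z hz y hyz hgy hy => hN z hz y hyz hgy hy⟩

end SpreadGk

end Groth.Agent.Lib.Helper13.GkFib
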