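/-
Helper library (helper13): the condition "the fibre is smooth in codimension `≤ k` at `z`" in flat
families, part B: generization over a discrete valuation ring (assuming `(S_{k+1})` on the closed
fibre).
-/
import Groth.Agent.Lib.Helper13.GkFibA

set_option autoImplicit false
open CategoryTheory AlgebraicGeometry Limits
universe u

namespace Groth.Agent.Lib.Helper13.GkFib

open Groth.Agent.Lib.Helper13.CodepthFib Groth.Agent.Lib.Helper13.FibLocProp
open Groth.Agent.Lib.Helper13.CodepthOpen Groth.Agent.Lib.Helper13.SkFib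
open Groth.Agent.Lib.Helper55 Groth.Agent.Lib.Helper13.CMChart
open Groth.Agent.Lib.Helper29 IsLocalRing TensorProduct Topology TopologicalSpace

section SpecStalk

/-- The stalk of `Spec R` (for a domain `R`) at a point: the canonical map from `R` is injective,
the maximal ideal is generated by the prime, and the dimension is the height of the prime. -/
theorem exists_ringHom_stalk_Spec (R : Type u) [CommRing R] [IsDomain R]
    (y : Spec (CommRingCat.of R)) :
    ∃ ψ : R →+* ((Spec (CommRingCat.of R)).presheaf.stalk y), Function.Injective ψ ∧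
      maximalIdeal ((Spec (CommRingCat.of R)).presheaf.stalk y) = Ideal.map ψ y.asIdeal ∧
      ringKrullDim ((Spec (CommRingCat.of R)).presheaf.stalk y) = y.asIdeal.height := by
  let _ : Algebra R ((Spec (CommRingCat.of R)).presheaf.stalk y) :=
    StructureSheaf.stalkAlgebra R y
  have : IsLocalization.AtPrime ((Spec (CommRingCat.of R)).presheaf.stalk y) y.asIdeal :=
    StructureSheaf.IsLocalization.to_stalk R y
  refine ⟨algebraMap R _, ?_, (IsLocalization.AtPrime.map_eq_maximalIdeal y.asIdeal _).symm,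
    IsLocalization.AtPrime.ringKrullDim_eq_height y.asIdeal _⟩
  exact IsLocalization.injective _ y.asIdeal.primeCompl_le_nonZeroDivisors

end SpecStalk

section Depth

/-- Depth formula at a point where `g` is flat. -/
theorem depth_stalk_eq_add {X U : Scheme.{u}} (g : X ⟶ U) [LocallyOfFiniteType g]
    [IsLocallyNoetherian U] (x : X) (hflat : (g.stalkMap x).hom.Flat) :
    LocCoh.depth (X.presheaf.stalk x) (X.presheaf.stalk x) =
      LocCoh.depth (U.presheaf.stalk (g x)) (U.presheaf.stalk (g x)) +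
      LocCoh.depth ((g.fiber (g x)).presheaf.stalk (g.asFiber x))
        ((g.fiber (g x)).presheaf.stalk (g.asFiber x)) := by
  haveI : IsLocallyNoetherian X := LocallyOfFiniteType.isLocallyNoetherian g
  obtain ⟨E⟩ := nonempty_stalk_fiber_equiv g (g x) (g.asFiber x) x (g.fiberι_asFiber x)
  letI : Algebra (U.presheaf.stalk (g x)) (X.presheaf.stalk x) := (g.stalkMap x).hom.toAlgebra
  haveI : Module.Flat (U.presheaf.stalk (g x)) (X.presheaf.stalk x) := hflat
  haveI : IsLocalHom (algebraMap (U.presheaf.stalk (g x)) (X.presheaf.stalk x)) :=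
    inferInstanceAs (IsLocalHom (g.stalkMap x).hom)
  have h1 := depth_self_eq_add_of_flat (U.presheaf.stalk (g x)) (X.presheaf.stalk x)
  rw [h1]
  congr 1
  exact depth_self_eq_of_ringEquiv
    (R := EGA4.FibRing (U.presheaf.stalk (g x)) (X.presheaf.stalk x)) E

/-- A Noetherian local domain which is not a field has depth at least one. -/
theorem one_le_depth_of_ne_zero (A : Type u) [CommRing A] [IsLocalRing A] [IsNoetherianRing A]
    [IsDomain A] (a : A) (ha : a ∈ maximalIdeal A) (ha0 : a ≠ 0) : 1 ≤ LocCoh.depth A A := by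
  have hreg : IsSMulRegular A a := fun b c h => mul_left_cancel₀ ha0 (by simpa [smul_eq_mul] using h)
  rw [← depth_quotSMulTop_add_one A A ha hreg]
  exact le_add_self

end Depth

section Gen

/-- **Generization over a discrete valuation ring**: if the closed fibre satisfies `(S_{k+1})` and
is smooth in codimension `≤ k` at `x₀`, then the generic fibre is smooth in codimension `≤ k` at
every generization of `x₀`. -/
theorem gkFib_generization_dvr (R : Type u) [CommRing R] [IsDomain R] [IsDiscreteValuationRing R]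
    {P : Scheme.{u}} (g : P ⟶ Spec (CommRingCat.of R)) [LocallyOfFinitePresentation g] [Flat g]
    (k : ℕ) (x₀ x' : P) (hs : x' ⤳ x₀) (hc : g x₀ = closedPoint R)
    (hη : g x' = (⊥ : PrimeSpectrum R)) (hS : SkFib g (k + 1) x₀) (hG : GkFib g k x₀) :
    GkFib g k x' := by
  haveI : LocallyOfFiniteType g := inferInstance
  haveI : IsLocallyNoetherian P := LocallyOfFiniteType.isLocallyNoetherian g
  intro η' hη'x' hgη' hsm
  by_contra hlt
  -- chart
  obtain ⟨V, hV, hx₀V, -⟩ := exists_isAffineOpen_mem_and_subset (x := x₀) (U := ⊤) trivial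
  have hη'x₀ : η' ⤳ x₀ := hη'x'.trans hs
  have hη'V : η' ∈ V := hη'x₀.mem_open V.isOpen hx₀V
  have hxr : x₀ ∈ Set.range hV.fromSpec := by rw [hV.range_fromSpec]; exact hx₀V
  have hηr : η' ∈ Set.range hV.fromSpec := by rw [hV.range_fromSpec]; exact hη'V
  obtain ⟨(q₀ : PrimeSpectrum Γ(P, V)), hq₀⟩ := hxr
  obtain ⟨(p : PrimeSpectrum Γ(P, V)), hp⟩ := hηr
  have hpq₀ : p ≤ q₀ := by
    rw [PrimeSpectrum.le_iff_specializes]
    apply hV.fromSpec.isOpenEmbedding.isInducing.specializes_iff.mp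
    rw [hp, hq₀]
    exact hη'x₀
  -- the structure map on the chart
  let φ : CommRingCat.of R ⟶ Γ(P, V) := Spec.preimage (hV.fromSpec ≫ g)
  have hφ : hV.fromSpec ≫ g = Spec.map φ := (Spec.map_preimage _).symm
  obtain ⟨ϖ, hϖ⟩ := IsDiscreteValuationRing.exists_irreducible R
  have hgpt : ∀ q : PrimeSpectrum Γ(P, V), g (hV.fromSpec q) = PrimeSpectrum.comap φ.hom q := by
    intro q
    rw [← Scheme.Hom.comp_apply, hφ]
    rfl
  have hϖm : ϖ ∈ maximalIdeal R := by
    rw [hϖ.maximalIdeal_eq]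
    exact Ideal.mem_span_singleton_self ϖ
  have ht : φ.hom ϖ ∈ q₀.asIdeal := by
    have h1 := hgpt q₀
    rw [hq₀, hc] at h1
    have h2 : ϖ ∈ (PrimeSpectrum.comap φ.hom q₀).asIdeal := by
      rw [← h1]
      exact hϖm
    exact h2
  obtain ⟨q, hpq, hqq₀, htq, hdepth⟩ := exists_specialization_depth_le hV p q₀ hpq₀ (φ.hom ϖ) ht
  have hη'x₁ : η' ⤳ hV.fromSpec q := by
    rw [← hp]
    exact ((PrimeSpectrum.le_iff_specializes p q).mp hpq).map hV.fromSpec.continuous
  have hx₁x₀ : hV.fromSpec q ⤳ x₀ := by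
    rw [← hq₀]
    exact ((PrimeSpectrum.le_iff_specializes q q₀).mp hqq₀).map hV.fromSpec.continuous
  have hgx₁ : g (hV.fromSpec q) = closedPoint R := by
    rw [hgpt]
    apply PrimeSpectrum.ext
    change Ideal.comap φ.hom q.asIdeal = maximalIdeal R
    symm
    apply (maximalIdeal.isMaximal R).eq_of_le (Ideal.IsPrime.ne_top (q.isPrime.comap _))
    rw [hϖ.maximalIdeal_eq, Ideal.span_singleton_le_iff_mem]
    exact htq
  rw [hp] at hdepth
  generalize hV.fromSpec q = x₁ at hdepth hη'x₁ hx₁x₀ hgx₁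
  -- numerical invariants
  haveI := isLocallyNoetherian_fiber g (g η')
  haveI := isLocallyNoetherian_fiber g (g x₁)
  obtain ⟨aη, dη, haη, hdη, hdaη⟩ := exists_nat_dim_depth (P.presheaf.stalk η')
  obtain ⟨af, df, haf, -, -⟩ :=
    exists_nat_dim_depth ((g.fiber (g η')).presheaf.stalk (g.asFiber η'))
  obtain ⟨a₁, d₁, -, hd₁, -⟩ := exists_nat_dim_depth (P.presheaf.stalk x₁)
  obtain ⟨a₂, d₂, ha₂, hd₂, -⟩ :=
    exists_nat_dim_depth ((g.fiber (g x₁)).presheaf.stalk (g.asFiber x₁))
  -- Step B: `dim O_{P,η'} = FD g η' ≤ k`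
  have hgη'0 : g η' = (⊥ : PrimeSpectrum R) := hgη'.trans hη
  have hbase0 : ∀ y : Spec (CommRingCat.of R), y = (⊥ : PrimeSpectrum R) →
      ringKrullDim ((Spec (CommRingCat.of R)).presheaf.stalk y) = 0 := by
    rintro y rfl
    obtain ⟨ψ, -, -, h3⟩ := exists_ringHom_stalk_Spec R (⊥ : PrimeSpectrum R)
    rw [h3]
    change ((Ideal.height (⊥ : Ideal R) : ℕ∞) : WithBot ℕ∞) = 0
    rw [Ideal.height_bot]
    rfl
  have hB := ringKrullDim_stalk_eq_add_fd g η' (Flat.stalkMap g η')
  rw [hbase0 _ hgη'0, zero_add, haη] at hB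
  have hFDη : FD g η' = (af : WithBot ℕ∞) := haf
  rw [hFDη] at hB hlt
  have haf_le : af ≤ k := by
    by_contra hcon
    apply hlt
    exact_mod_cast (show k + 1 ≤ af by omega)
  have haη_eq : aη = af := by exact_mod_cast hB
  -- Step A: `depth O_{P,x₁} ≤ k + 1`
  rw [hd₁, hdη] at hdepth
  have hd₁_le : d₁ ≤ k + 1 := by
    have : d₁ ≤ dη + 1 := by exact_mod_cast hdepth
    omega
  -- Step C: depth of the closed fibre at `x₁`
  have hC := depth_stalk_eq_add g x₁ (Flat.stalkMap g x₁)
  have hbase1 : ∀ y : Spec (CommRingCat.of R), y = closedPoint R →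
      1 ≤ LocCoh.depth ((Spec (CommRingCat.of R)).presheaf.stalk y)
        ((Spec (CommRingCat.of R)).presheaf.stalk y) := by
    rintro y rfl
    obtain ⟨ψ, hinj, hm, -⟩ := exists_ringHom_stalk_Spec R (closedPoint R)
    refine one_le_depth_of_ne_zero _ (ψ ϖ) ?_ ?_
    · rw [hm]
      exact Ideal.mem_map_of_mem ψ hϖm
    · intro h0
      exact hϖ.ne_zero (hinj (by rw [h0, map_zero]))
  have h1 := hbase1 _ hgx₁
  rw [hd₁, hd₂] at hC
  have hd₂_le : d₂ ≤ k := by
    have h2 : (1 : ℕ∞) + (d₂ : ℕ∞) ≤ (d₁ : ℕ∞) := by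
      rw [hC]
      gcongr
    have : 1 + d₂ ≤ d₁ := by exact_mod_cast h2
    omega
  -- `(S_{k+1})` at `x₁`
  have hgx₁₀ : g x₁ = g x₀ := hgx₁.trans hc.symm
  have hSk : SkIneq (k + 1) ((g.fiber (g x₁)).presheaf.stalk (g.asFiber x₁)) := by
    haveI := isLocallyNoetherian_fiber g (g x₀)
    have hS' : LocCoh.HasSk (k + 1) ((g.fiber (g x₀)).presheaf.stalk (g.asFiber x₀))
        ((g.fiber (g x₀)).presheaf.stalk (g.asFiber x₀)) := hS
    rw [hasSk_stalk_iff] at hS'
    have hxr : x₁ ∈ Set.range (g.fiberι (g x₀)) := by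
      rw [Scheme.Hom.range_fiberι]
      exact hgx₁₀
    obtain ⟨y, hy⟩ := hxr
    have hyz : y ⤳ g.asFiber x₀ := by
      rw [← (g.fiberι (g x₀)).isEmbedding.isInducing.specializes_iff, hy, g.fiberι_asFiber]
      exact hx₁x₀
    have h3 := hS' y hyz
    exact (fiber_stalk_transport g (fun R _ _ => SkIneq (k + 1) R) (g x₀) x₁ hgx₁₀ y hy).mp h3
  have ha₂_le : a₂ ≤ k := by
    unfold SkIneq at hSk
    rw [ha₂, hd₂] at hSk
    by_contra hcon
    have h4 : ((k + 1 : ℕ) : WithBot ℕ∞) ≤ ((a₂ : ℕ) : WithBot ℕ∞) := by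
      exact_mod_cast (show k + 1 ≤ a₂ by omega)
    rw [min_eq_left h4] at hSk
    have : k + 1 ≤ d₂ := by exact_mod_cast hSk
    omega
  -- Step D
  have hx₁sm : x₁ ∈ g.smoothLocus := by
    by_contra hns
    have h5 := hG x₁ hx₁x₀ hgx₁₀ hns
    have hFD₁ : FD g x₁ = (a₂ : WithBot ℕ∞) := ha₂
    rw [hFD₁] at h5
    have : k + 1 ≤ a₂ := by exact_mod_cast h5
    omega
  exact hsm (hη'x₁.mem_open g.smoothLocus.isOpen hx₁sm)

end Gen

end Groth.Agent.Lib.Helper13.GkFib
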