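/-
Helper library (helper13): the condition "the fibre is smooth in codimension `≤ k` at `z`",
part C: the intrinsic (fibre-level) formulation `QkAt`/`QkFib`, lifting of generizations along flat
morphisms with control of the dimension, invariance under extension of the base field.
-/
import Groth.Agent.Lib.Helper13.GkFibB
import Groth.Agent.Lib.Helper14.SmoothFibre

set_option autoImplicit false
open CategoryTheory AlgebraicGeometry Limits
universe u

namespace Groth.Agent.Lib.Helper13.GkFib

open Groth.Agent.Lib.Helper13.CodepthFib Groth.Agent.Lib.Helper13.FibLocProp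
open Groth.Agent.Lib.Helper13.CodepthOpen Groth.Agent.Lib.Helper13.SkFib
open Groth.Agent.Lib.Helper55 Groth.Agent.Lib.Helper13.CMChart
open Groth.Agent.Lib.Helper29 IsLocalRing TensorProduct Topology TopologicalSpace

section RingLift

/-- Going down with control of the height: for a flat homomorphism `A → B` of Noetherian rings, a
prime `Q` of `B` and a prime `p` of `A` below the contraction of `Q`, there is a prime `P ≤ Q` of
`B` lying over `p` with `ht P = ht p`. -/
theorem exists_prime_le_comap_eq_height_eq (A B : Type u) [CommRing A] [CommRing B] [Algebra A B]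
    [Module.Flat A B] [IsNoetherianRing A] [IsNoetherianRing B] (p : Ideal A) [p.IsPrime]
    (Q : Ideal B) [Q.IsPrime] (h : p ≤ Q.comap (algebraMap A B)) :
    ∃ P : Ideal B, P.IsPrime ∧ P ≤ Q ∧ P.comap (algebraMap A B) = p ∧ P.height = p.height := by
  have hle : p.map (algebraMap A B) ≤ Q := Ideal.map_le_iff_le_comap.mpr h
  obtain ⟨P, hPmin, hPQ⟩ := Ideal.exists_minimalPrimes_le hle
  haveI hPp : P.IsPrime := hPmin.1.1
  have hpP : p ≤ P.under A := Ideal.map_le_iff_le_comap.mp hPmin.1.2
  obtain ⟨P', hP'P, hP'p, hP'lo⟩ := Ideal.exists_ideal_le_liesOver_of_le (p := p)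
    (q := P.under A) P hpP
  have hmapP' : p.map (algebraMap A B) ≤ P' := by
    rw [Ideal.map_le_iff_le_comap]
    exact (P'.over_def p).le
  have hPP' : P ≤ P' := hPmin.2 ⟨hP'p, hmapP'⟩ hP'P
  have hPeq : P = P' := le_antisymm hPP' hP'P
  subst hPeq
  refine ⟨P, hPp, hPQ, (P.over_def p).symm, ?_⟩
  rw [Ideal.height_eq_height_add_of_liesOver_of_hasGoingDown p P]
  have hmin : P.map (Ideal.Quotient.mk (p.map (algebraMap A B))) ∈
      minimalPrimes (B ⧸ p.map (algebraMap A B)) := by
    change Ideal.map _ P ∈ (⊥ : Ideal (B ⧸ p.map (algebraMap A B))).minimalPrimes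
    rw [← Ideal.map_quotient_self (p.map (algebraMap A B)),
      Ideal.minimalPrimes_map_of_surjective Ideal.Quotient.mk_surjective, Ideal.mk_ker, sup_idem]
    exact ⟨P, hPmin, rfl⟩
  have hprime : (P.map (Ideal.Quotient.mk (p.map (algebraMap A B)))).IsPrime := hmin.1.1
  rw [Ideal.height_eq_zero_iff.mpr hmin, add_zero]

end RingLift

section Lift

variable {Q Z : Scheme.{u}} [IsLocallyNoetherian Q] [IsLocallyNoetherian Z] (π : Q ⟶ Z) [Flat π]

/-- Lifting generizations along a flat morphism of locally Noetherian schemes, with control of the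
dimension of the local ring. -/
theorem exists_lift_generization (z : Q) (y : Z) (hy : y ⤳ π z) :
    ∃ y' : Q, y' ⤳ z ∧ π y' = y ∧
      ringKrullDim (Q.presheaf.stalk y') = ringKrullDim (Z.presheaf.stalk y) := by
  obtain ⟨V, hV, hzV, -⟩ := exists_isAffineOpen_mem_and_subset (x := π z) (U := ⊤) trivial
  obtain ⟨V', hV', hzV', eV⟩ := exists_isAffineOpen_mem_and_subset (x := z) (U := π ⁻¹ᵁ V) hzV
  haveI : IsNoetherianRing Γ(Z, V) := IsLocallyNoetherian.component_noetherian ⟨V, hV⟩
  haveI : IsNoetherianRing Γ(Q, V') := IsLocallyNoetherian.component_noetherian ⟨V', hV'⟩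
  have hyV : y ∈ V := hy.mem_open V.isOpen hzV
  have hcomm : Spec.map (π.appLE V V' eV) ≫ hV.fromSpec = hV'.fromSpec ≫ π :=
    IsAffineOpen.SpecMap_appLE_fromSpec π hV hV' eV
  have hzr : z ∈ Set.range hV'.fromSpec := by rw [hV'.range_fromSpec]; exact hzV'
  have hyr : y ∈ Set.range hV.fromSpec := by rw [hV.range_fromSpec]; exact hyV
  obtain ⟨(q' : PrimeSpectrum Γ(Q, V')), hq'⟩ := hzr
  obtain ⟨(p : PrimeSpectrum Γ(Z, V)), hp⟩ := hyr
  letI : Algebra Γ(Z, V) Γ(Q, V') := (π.appLE V V' eV).hom.toAlgebra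
  haveI : Module.Flat Γ(Z, V) Γ(Q, V') :=
    HasRingHomProperty.appLE (P := @Flat) π inferInstance ⟨V, hV⟩ ⟨V', hV'⟩ eV
  have hpt : ∀ r : PrimeSpectrum Γ(Q, V'),
      π (hV'.fromSpec r) = hV.fromSpec (PrimeSpectrum.comap (π.appLE V V' eV).hom r) := by
    intro r
    rw [← Scheme.Hom.comp_apply, ← hcomm]
    rfl
  have hle : p.asIdeal ≤ q'.asIdeal.comap (algebraMap Γ(Z, V) Γ(Q, V')) := by
    have h1 : hV.fromSpec p ⤳ hV.fromSpec (PrimeSpectrum.comap (π.appLE V V' eV).hom q') := by
      rw [hp, ← hpt, hq']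
      exact hy
    have h2 := hV.fromSpec.isOpenEmbedding.isInducing.specializes_iff.mp h1
    exact (PrimeSpectrum.le_iff_specializes _ _).mpr h2
  obtain ⟨P, hPp, hPq', hPc, hPh⟩ := exists_prime_le_comap_eq_height_eq Γ(Z, V) Γ(Q, V')
    p.asIdeal q'.asIdeal hle
  refine ⟨hV'.fromSpec ⟨P, hPp⟩, ?_, ?_, ?_⟩
  · rw [← hq']
    exact ((PrimeSpectrum.le_iff_specializes (⟨P, hPp⟩ : PrimeSpectrum Γ(Q, V')) q').mp
      hPq').map hV'.fromSpec.continuous
  · rw [hpt, ← hp]
    congr 1
    exact PrimeSpectrum.ext hPc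
  · obtain ⟨e⟩ := Groth.Agent.Lib.Helper24.nonempty_stalk_ringEquiv_localization hV'.fromSpec
      (⟨P, hPp⟩ : PrimeSpectrum Γ(Q, V'))
    obtain ⟨e'⟩ := Groth.Agent.Lib.Helper24.nonempty_stalk_ringEquiv_localization hV.fromSpec p
    rw [ringKrullDim_eq_of_ringEquiv e, ← hp, ringKrullDim_eq_of_ringEquiv e',
      IsLocalization.AtPrime.ringKrullDim_eq_height P,
      IsLocalization.AtPrime.ringKrullDim_eq_height p.asIdeal, hPh]

/-- Along a flat morphism of locally Noetherian schemes the dimension of the local rings does not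
decrease. -/
theorem ringKrullDim_stalk_le_of_flat (y' : Q) :
    ringKrullDim (Z.presheaf.stalk (π y')) ≤ ringKrullDim (Q.presheaf.stalk y') := by
  letI : Algebra (Z.presheaf.stalk (π y')) (Q.presheaf.stalk y') := (π.stalkMap y').hom.toAlgebra
  haveI : Module.Flat (Z.presheaf.stalk (π y')) (Q.presheaf.stalk y') := Flat.stalkMap π y'
  haveI : IsLocalHom (algebraMap (Z.presheaf.stalk (π y')) (Q.presheaf.stalk y')) :=
    inferInstanceAs (IsLocalHom (π.stalkMap y').hom)
  rw [ringKrullDim_eq_add_of_flat (Z.presheaf.stalk (π y')) (Q.presheaf.stalk y')]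
  have hne : (maximalIdeal (Z.presheaf.stalk (π y'))).map
      (algebraMap (Z.presheaf.stalk (π y')) (Q.presheaf.stalk y')) ≠ ⊤ :=
    ((map_maximalIdeal_le (algebraMap _ _)).trans_lt (maximalIdeal.isMaximal _).lt_top).ne
  haveI : Nontrivial (Q.presheaf.stalk y' ⧸ (maximalIdeal (Z.presheaf.stalk (π y'))).map
      (algebraMap (Z.presheaf.stalk (π y')) (Q.presheaf.stalk y'))) :=
    Ideal.Quotient.nontrivial_iff.mpr hne
  exact le_add_of_nonneg_right ringKrullDim_nonneg_of_nontrivial

end Lift

section Defs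

/-- `x` is a smooth point of `f` (the underlying set of `Scheme.Hom.smoothLocus`, which can be
stated without any finite presentation hypothesis). -/
def SmPt {X Y : Scheme.{u}} (f : X ⟶ Y) (x : X) : Prop := (f.stalkMap x).hom.FormallySmooth

theorem smPt_iff {X Y : Scheme.{u}} (f : X ⟶ Y) [LocallyOfFinitePresentation f] (x : X) :
    SmPt f x ↔ x ∈ f.smoothLocus := Iff.rfl

/-- `Z` is smooth over `T` in codimension `≤ k` at `z`: every generization of `z` which is not a
smooth point has a local ring of dimension `≥ k + 1`. -/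
def QkAt {Z T : Scheme.{u}} (q : Z ⟶ T) (k : ℕ) (z : Z) : Prop :=
  ∀ y : Z, y ⤳ z → ¬ SmPt q y → ((k + 1 : ℕ) : WithBot ℕ∞) ≤ ringKrullDim (Z.presheaf.stalk y)

/-- The fibre of `f` through `x` is smooth in codimension `≤ k` at `x`. -/
def QkFib {X Y : Scheme.{u}} (f : X ⟶ Y) (k : ℕ) (x : X) : Prop :=
  QkAt (f.fiberToSpecResidueField (f x)) k (f.asFiber x)

end Defs

section FieldBC

variable {k K : Type u} [Field k] [Field K] [Algebra k K] {Z Q : Scheme.{u}}
  (q : Z ⟶ Spec (CommRingCat.of k)) [LocallyOfFinitePresentation q]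
  (p₁ : Q ⟶ Z) (p₂ : Q ⟶ Spec (CommRingCat.of K))
  (h : IsPullback p₁ p₂ q (Spec.map (CommRingCat.ofHom (algebraMap k K))))
include h

/-- Smoothness at a point is insensitive to extension of the base field. -/
theorem smPt_iff_of_isPullback_field (y' : Q) : SmPt p₂ y' ↔ SmPt q (p₁ y') := by
  haveI : LocallyOfFinitePresentation p₂ :=
    MorphismProperty.of_isPullback (P := @LocallyOfFinitePresentation) h inferInstance
  constructor
  · intro hy'
    have hK : IsField (CommRingCat.of K) := Field.toIsField K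
    exact Groth.Agent.Lib.Helper14.mem_smoothLocus_of_isPullback_field hK h y' (p₁ y') rfl
      (Flat.stalkMap q _) hy'
  · intro hy
    exact Groth.Agent.Lib.Helper14.mem_smoothLocus_of_isPullback h y' hy

/-- Smoothness in codimension `≤ n` at a point is insensitive to extension of the base field. -/
theorem qkAt_iff_of_isPullback_field (n : ℕ) (z : Q) : QkAt p₂ n z ↔ QkAt q n (p₁ z) := by
  haveI : IsLocallyNoetherian Z := LocallyOfFiniteType.isLocallyNoetherian q
  haveI : LocallyOfFinitePresentation p₂ :=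
    MorphismProperty.of_isPullback (P := @LocallyOfFinitePresentation) h inferInstance
  haveI : IsLocallyNoetherian Q := LocallyOfFiniteType.isLocallyNoetherian p₂
  haveI : Flat (Spec.map (CommRingCat.ofHom (algebraMap k K))) := by
    rw [Flat.SpecMap_iff]
    exact (RingHom.flat_algebraMap_iff).mpr inferInstance
  haveI : Flat p₁ := MorphismProperty.of_isPullback (P := @Flat) h.flip inferInstance
  constructor
  · intro H y hy hns
    obtain ⟨y', hy'z, hy'y, hdim⟩ := exists_lift_generization p₁ z y hy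
    rw [← hdim]
    refine H y' hy'z ?_
    rw [smPt_iff_of_isPullback_field q p₁ p₂ h, hy'y]
    exact hns
  · intro H y' hy' hns
    have h1 := H (p₁ y') (hy'.map p₁.continuous)
      (by rwa [← smPt_iff_of_isPullback_field q p₁ p₂ h])
    exact h1.trans (ringKrullDim_stalk_le_of_flat p₁ y')

end FieldBC

section OpenImm

/-- Smoothness in codimension `≤ n` at a point is local on the source. -/
theorem qkAt_comp_openImmersion_iff {F₁ F T : Scheme.{u}} (ψ : F₁ ⟶ F) [IsOpenImmersion ψ]
    (q : F ⟶ T) (n : ℕ) (w : F₁) : QkAt (ψ ≫ q) n w ↔ QkAt q n (ψ w) := by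
  have hsm : ∀ y : F₁, SmPt (ψ ≫ q) y ↔ SmPt q (ψ y) := by
    intro y
    unfold SmPt
    rw [Scheme.Hom.stalkMap_comp]
    exact RingHom.FormallySmooth.respectsIso.cancel_right_isIso (q.stalkMap (ψ y)) (ψ.stalkMap y)
  have hdim : ∀ y : F₁, ringKrullDim (F₁.presheaf.stalk y) =
      ringKrullDim (F.presheaf.stalk (ψ y)) := by
    intro y
    exact (ringKrullDim_eq_of_ringEquiv (asIso (ψ.stalkMap y)).commRingCatIsoToRingEquiv).symm
  constructor
  · intro H y hy hns
    have hyr : y ∈ Set.range ψ := hy.mem_open ψ.isOpenEmbedding.isOpen_range ⟨w, rfl⟩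
    obtain ⟨y₀, rfl⟩ := hyr
    rw [← hdim]
    exact H y₀ (ψ.isOpenEmbedding.isInducing.specializes_iff.mp hy) (by rwa [hsm])
  · intro H y hy hns
    rw [hdim]
    exact H (ψ y) (hy.map ψ.continuous) (by rwa [← hsm])

end OpenImm

end Groth.Agent.Lib.Helper13.GkFib
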