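/-
Helper library (helper13): the condition "the fibre is smooth in codimension `≤ k` at `x`",
part D: base change, restriction to open subschemes, comparison with the family-level formulation
`GkFib`, and the resulting family property `(S_{k+1}) ∧ (smooth in codimension ≤ k)`.
-/
import Groth.Agent.Lib.Helper13.GkFibC
import Groth.Agent.Lib.Helper13.FamProp
import Groth.Agent.S2156

set_option autoImplicit false
open CategoryTheory AlgebraicGeometry Limits
universe u

namespace Groth.Agent.Lib.Helper13.GkFib

open Groth.Agent.Lib.Helper13.CodepthFib Groth.Agent.Lib.Helper13.FibLocProp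
open Groth.Agent.Lib.Helper13.CodepthOpen Groth.Agent.Lib.Helper13.SkFib
open Groth.Agent.Lib.Helper13.FamProp
open Groth.Agent.Lib.Helper55 Groth.Agent.Lib.Helper13.CMChart
open Groth.Agent.Lib.Helper29 IsLocalRing TensorProduct Topology TopologicalSpace

section Congr

variable {X Y : Scheme.{u}}

/-- Transport along an equality of base points. -/
theorem qkFib_congr (f : X ⟶ Y) (n : ℕ) (s : Y) (x : X) (hx : f x = s) (w : ↥(f.fiber s))
    (hw : f.fiberι s w = x) : QkAt (f.fiberToSpecResidueField s) n w ↔ QkFib f n x := by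
  subst hx
  have : w = f.asFiber x := by
    apply (f.fiberι (f x)).isEmbedding.injective
    rw [hw, f.fiberι_asFiber]
  rw [this]
  rfl

/-- Transport along an equality of base points. -/
theorem smPt_fiber_transport (f : X ⟶ Y) (s : Y) (x : X) (hx : f x = s) (w : ↥(f.fiber s))
    (hw : f.fiberι s w = x) :
    SmPt (f.fiberToSpecResidueField s) w ↔
      SmPt (f.fiberToSpecResidueField (f x)) (f.asFiber x) := by
  subst hx
  have : w = f.asFiber x := by
    apply (f.fiberι (f x)).isEmbedding.injective
    rw [hw, f.fiberι_asFiber]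
  rw [this]

end Congr

section BaseChange

variable {X Y X' Y' : Scheme.{u}} {f : X ⟶ Y} {f' : X' ⟶ Y'} {g' : X' ⟶ X} {g : Y' ⟶ Y}

set_option backward.isDefEq.respectTransparency.types false in
/-- **Smoothness of the fibres in codimension `≤ n` is invariant under base change.** -/
theorem qkFib_iff_of_isPullback [LocallyOfFinitePresentation f]
    (hc : IsPullback g' f' f g) (n : ℕ) (x' : X') : QkFib f' n x' ↔ QkFib f n (g' x') := by
  have hpb := isPullback_fiberToSpecResidueField_of_isPullback hc (f' x')
  let _ : Algebra ↑(Y.residueField (g (f' x'))) ↑(Y'.residueField (f' x')) :=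
    (g.residueFieldMap (f' x')).hom.toAlgebra
  let q' : (f.fiber (g (f' x'))) ⟶ Spec (CommRingCat.of ↑(Y.residueField (g (f' x')))) :=
    f.fiberToSpecResidueField (g (f' x'))
  haveI : LocallyOfFinitePresentation q' :=
    MorphismProperty.pullback_snd (P := @LocallyOfFinitePresentation) _ _ ‹_›
  have h1 := qkAt_iff_of_isPullback_field
    (k := ↑(Y.residueField (g (f' x')))) (K := ↑(Y'.residueField (f' x'))) q' _ _ hpb n
    (f'.asFiber x')
  refine Iff.trans h1 ?_
  have hx : f (g' x') = g (f' x') := by
    have := congr(($(hc.w)) x')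
    exact this
  refine qkFib_congr f n (g (f' x')) (g' x') hx _ ?_
  have h2 : pullback.map f' (Y'.fromSpecResidueField (f' x')) f
      (Y.fromSpecResidueField (g (f' x'))) g' (Spec.map (g.residueFieldMap (f' x'))) g
      hc.w.symm (by simp) ≫ f.fiberι (g (f' x')) = f'.fiberι (f' x') ≫ g' :=
    pullback.lift_fst _ _ _
  have := congr(($h2) (f'.asFiber x'))
  rw [Scheme.Hom.comp_apply, Scheme.Hom.comp_apply, f'.fiberι_asFiber] at this
  exact this

end BaseChange

section LeftImm

/-- Smoothness of the fibres in codimension `≤ n` is local on the source. -/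
theorem qkFib_comp_openImmersion_left_iff {A B C : Scheme.{u}} (j : A ⟶ B) [IsOpenImmersion j]
    (h : B ⟶ C) (n : ℕ) (z : A) : QkFib (j ≫ h) n z ↔ QkFib h n (j z) := by
  set s : C := (j ≫ h) z with hs
  have hs' : h (j z) = s := by rw [hs, Scheme.Hom.comp_apply]
  let ψ : (j ≫ h).fiber s ⟶ h.fiber s :=
    pullback.map (j ≫ h) (C.fromSpecResidueField s) h (C.fromSpecResidueField s) j (𝟙 _) (𝟙 _)
      (by simp) (by simp)
  haveI : IsOpenImmersion ψ :=
    Scheme.pullback_map_isOpenImmersion _ _ _ _ _ _ _ _ _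
  have hψ1 : ψ ≫ h.fiberι s = (j ≫ h).fiberι s ≫ j := pullback.lift_fst _ _ _
  have hψ2 : ψ ≫ h.fiberToSpecResidueField s = (j ≫ h).fiberToSpecResidueField s := by
    have : ψ ≫ pullback.snd h (C.fromSpecResidueField s) =
        pullback.snd (j ≫ h) (C.fromSpecResidueField s) ≫ 𝟙 _ := pullback.lift_snd _ _ _
    rw [Category.comp_id] at this
    exact this
  have hw : h.fiberι s (ψ ((j ≫ h).asFiber z)) = j z := by
    have := congr(($hψ1) ((j ≫ h).asFiber z))
    rw [Scheme.Hom.comp_apply, Scheme.Hom.comp_apply, (j ≫ h).fiberι_asFiber] at this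
    exact this
  rw [← qkFib_congr h n s (j z) hs' (ψ ((j ≫ h).asFiber z)) hw]
  change QkAt ((j ≫ h).fiberToSpecResidueField s) n ((j ≫ h).asFiber z) ↔ _
  rw [← hψ2]
  exact qkAt_comp_openImmersion_iff ψ (h.fiberToSpecResidueField s) n _

end LeftImm

section Compare

variable {X U : Scheme.{u}} (g : X ⟶ U) [LocallyOfFinitePresentation g]

/-- Fibrewise criterion of smoothness at a point where `g` is flat. -/
theorem mem_smoothLocus_iff_smPt_asFiber (x : X) (hflat : (g.stalkMap x).hom.Flat) :
    x ∈ g.smoothLocus ↔ SmPt (g.fiberToSpecResidueField (g x)) (g.asFiber x) := by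
  haveI : LocallyOfFinitePresentation (g.fiberToSpecResidueField (g x)) :=
    MorphismProperty.pullback_snd (P := @LocallyOfFinitePresentation) _ _ ‹_›
  rw [Groth.Agent.S2156.result g x]
  exact ⟨fun h => h.2, fun h => ⟨hflat, h⟩⟩

/-- For a flat morphism, the fibre-level and the family-level formulations of smoothness of the
fibres in codimension `≤ n` agree. -/
theorem qkFib_iff_gkFib [Flat g] (n : ℕ) (z : X) : QkFib g n z ↔ GkFib g n z := by
  have hemb := (g.fiberι (g z)).isEmbedding
  let Q : ∀ (R : Type u) [CommRing R] [IsLocalRing R], Prop := fun R _ _ =>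
    ((n + 1 : ℕ) : WithBot ℕ∞) ≤ ringKrullDim R
  constructor
  · intro H y hyz hgy hns
    have hyr : y ∈ Set.range (g.fiberι (g z)) := by
      rw [Scheme.Hom.range_fiberι]
      exact hgy
    obtain ⟨w, hw⟩ := hyr
    have hwz : w ⤳ g.asFiber z := by
      rw [← hemb.isInducing.specializes_iff, hw, g.fiberι_asFiber]
      exact hyz
    have h1 := H w hwz (by
      intro hsm
      apply hns
      rw [mem_smoothLocus_iff_smPt_asFiber g y (Flat.stalkMap g y)]
      exact (smPt_fiber_transport g (g z) y hgy w hw).mp hsm)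
    exact (fiber_stalk_transport g Q (g z) y hgy w hw).mp h1
  · intro H w hwz hns
    have hyz : g.fiberι (g z) w ⤳ z := by
      have := hwz.map (g.fiberι (g z)).continuous
      rw [g.fiberι_asFiber] at this
      exact this
    have hgy : g (g.fiberι (g z) w) = g z := by
      have : g.fiberι (g z) w ∈ g ⁻¹' {g z} := by
        rw [← Scheme.Hom.range_fiberι]
        exact ⟨w, rfl⟩
      exact this
    have h1 := H _ hyz hgy (by
      intro hsm
      apply hns
      exact (smPt_fiber_transport g (g z) _ hgy w rfl).mpr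
        ((mem_smoothLocus_iff_smPt_asFiber g _ (Flat.stalkMap g _)).mp hsm))
    exact (fiber_stalk_transport g Q (g z) _ hgy w rfl).mpr h1

end Compare

section Family

/-- The fibre of `f` through `x` satisfies `(S_{k+1})` and is smooth in codimension `≤ k` at `x`
(`k = 0`: geometrically reduced; `k = 1`: geometrically normal). -/
def EkFib (k : ℕ) (X Y : Scheme.{u}) (f : X ⟶ Y) (x : X) : Prop :=
  SkFib f (k + 1) x ∧ QkFib f k x

/-- `EkFib k` is a family property in the sense of `FamProp`. -/
theorem isFamProp_ekFib (k : ℕ) : IsFamProp (EkFib.{u} k) where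
  bc := by
    intro X Y X' Y' f f' g' g _ hc x'
    exact and_congr (pFib_iff_of_isPullback (fieldInv_hasSk (k + 1)) hc x')
      (qkFib_iff_of_isPullback hc k x')
  leftImm := by
    intro A B C j _ h _ z
    exact and_congr (pFib_comp_openImmersion_left_iff (fieldInv_hasSk (k + 1)).toIsoInv j h z)
      (qkFib_comp_openImmersion_left_iff j h k z)
  spread := by
    intro X U _ _ g _ _ _ ξ hξ hE
    obtain ⟨N₁, hN₁o, hξN₁, hN₁⟩ := exists_open_skFib g (k + 1) ξ hξ hE.1
    obtain ⟨N₂, hN₂o, hξN₂, hN₂⟩ := exists_open_gkFib g k ξ hξ ((qkFib_iff_gkFib g k ξ).mp hE.2)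
    exact ⟨N₁ ∩ N₂, hN₁o.inter hN₂o, ⟨hξN₁, hξN₂⟩,
      fun z hz => ⟨hN₁ z hz.1, (qkFib_iff_gkFib g k z).mpr (hN₂ z hz.2)⟩⟩
  genDVR := by
    intro R _ _ _ P g _ _ x₀ x' hs hc hη hE
    haveI : LocallyOfFiniteType g := inferInstance
    exact ⟨stableUnderGeneralization_skFib g (k + 1) hs hE.1,
      (qkFib_iff_gkFib g k x').mpr (gkFib_generization_dvr R g k x₀ x' hs hc hη hE.1
        ((qkFib_iff_gkFib g k x₀).mp hE.2))⟩

end Family

end Groth.Agent.Lib.Helper13.GkFib
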