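/-
Helper library (helper13): generization over a discrete valuation ring of "the fibre is
equidimensional, without embedded components and smooth in codimension `≤ k`" in flat families
(the key step of EGA IV 12.1.6 for geometric `(R_k)` + equidimensional + no embedded components).
-/
import Groth.Agent.Lib.Helper13.EqFibA
import Groth.Agent.Lib.Helper13.EqFibB
import Groth.Agent.Lib.Helper13.GkFibD
import Groth.Agent.H8.ExcellentDedekind

set_option autoImplicit false
open CategoryTheory AlgebraicGeometry Limits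
universe u

namespace Groth.Agent.Lib.Helper13.EqFib

open Groth.Agent.Lib.Helper13.EquidimCons Groth.Agent.Lib.Helper13.GkFib
open Groth.Agent.Lib.Helper13.SkFib Groth.Agent.Lib.Helper13.FibLocProp
open Groth.Agent.Lib.Helper55 Groth.Agent.Lib.Helper13.CMChart
open Groth.Agent.Lib.Helper29 IsLocalRing Topology TopologicalSpace

section RingEquiv

variable {R S : Type u} [CommRing R] [CommRing S]

/-- (from helper29 `CplQuotEquidim`) -/
theorem ringKrullDim_quotient_comap_ringEquiv' (e : R ≃+* S) (P : Ideal S) :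
    ringKrullDim (R ⧸ P.comap (e : R →+* S)) = ringKrullDim (S ⧸ P) := by
  refine ringKrullDim_eq_of_ringEquiv (Ideal.quotientEquiv _ _ e ?_)
  exact (Ideal.map_comap_of_surjective (e : R →+* S) e.surjective P).symm

/-- Equidimensionality is invariant under ring isomorphisms (from helper29 `CplQuotEquidim`). -/
theorem isEquidim_of_ringEquiv' (e : R ≃+* S) (h : EGA4.IsEquidim R) : EGA4.IsEquidim S := by
  intro P hP
  have hP' : P.comap (e : R →+* S) ∈ minimalPrimes R := by
    have hPprime : P.IsPrime := hP.1.1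
    refine ⟨⟨Ideal.comap_isPrime _ _, bot_le⟩, fun Q hQ hQP => ?_⟩
    have hQprime : Q.IsPrime := hQ.1
    have hQ' : (Q.comap (e.symm : S →+* R)).IsPrime := Ideal.comap_isPrime _ _
    have h1 : Q.comap (e.symm : S →+* R) ≤ P := by
      intro s hs
      have : e.symm s ∈ P.comap (e : R →+* S) := hQP hs
      rw [Ideal.mem_comap] at this
      simpa using this
    have h2 := hP.2 ⟨hQ', bot_le⟩ h1
    intro r hr
    rw [Ideal.mem_comap] at hr
    have := h2 hr
    rw [Ideal.mem_comap] at this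
    simpa using this
  have h1 := h _ hP'
  rw [ringKrullDim_quotient_comap_ringEquiv' e P, ringKrullDim_eq_of_ringEquiv e] at h1
  exact h1

end RingEquiv

section StalkPoint

variable {X : Scheme.{u}}

/-- The local ring at the generization of `x` attached to a prime `𝔭` of `O_{X,x}` is the
localization of `O_{X,x}` at `𝔭`. -/
theorem nonempty_stalk_stalkPoint_equiv (x : X) (𝔭 : PrimeSpectrum (X.presheaf.stalk x)) :
    Nonempty (X.presheaf.stalk (stalkPoint x 𝔭) ≃+* Localization.AtPrime 𝔭.asIdeal) := by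
  obtain ⟨V, hV, hxV, -⟩ := exists_isAffineOpen_mem_and_subset (x := x) (U := ⊤) trivial
  letI a1 : Algebra Γ(X, V) (X.presheaf.stalk x) := (X.presheaf.germ V x hxV).hom.toAlgebra
  haveI l1 : IsLocalization.AtPrime (X.presheaf.stalk x) (hV.primeIdealOf ⟨x, hxV⟩).asIdeal :=
    hV.isLocalization_stalk ⟨x, hxV⟩
  haveI : IsScalarTower Γ(X, V) (X.presheaf.stalk x) (Localization.AtPrime 𝔭.asIdeal) :=
    inferInstance
  let Pq : Ideal Γ(X, V) := 𝔭.asIdeal.comap (algebraMap Γ(X, V) (X.presheaf.stalk x))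
  haveI hPq : Pq.IsPrime := Ideal.comap_isPrime _ _
  haveI l2 : IsLocalization.AtPrime (Localization.AtPrime 𝔭.asIdeal) Pq :=
    IsLocalization.isLocalization_isLocalization_atPrime_isLocalization
      (M := (hV.primeIdealOf ⟨x, hxV⟩).asIdeal.primeCompl) (Localization.AtPrime 𝔭.asIdeal)
      𝔭.asIdeal
  have hpt : stalkPoint x 𝔭 = hV.fromSpec (⟨Pq, hPq⟩ : PrimeSpectrum Γ(X, V)) := by
    unfold stalkPoint
    rw [← hV.fromSpecStalk_eq_fromSpecStalk hxV]
    rfl
  rw [hpt]
  obtain ⟨e1⟩ := Groth.Agent.Lib.Helper24.nonempty_stalk_ringEquiv_localization hV.fromSpec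
    (⟨Pq, hPq⟩ : PrimeSpectrum Γ(X, V))
  let e2 : Localization.AtPrime Pq ≃ₐ[Γ(X, V)] Localization.AtPrime 𝔭.asIdeal :=
    IsLocalization.algEquiv Pq.primeCompl _ _
  exact ⟨e1.trans e2.toRingEquiv⟩

theorem ringKrullDim_stalk_stalkPoint [IsLocallyNoetherian X] (x : X)
    (𝔭 : PrimeSpectrum (X.presheaf.stalk x)) :
    ringKrullDim (X.presheaf.stalk (stalkPoint x 𝔭)) = 𝔭.asIdeal.height := by
  obtain ⟨e⟩ := nonempty_stalk_stalkPoint_equiv x 𝔭
  rw [ringKrullDim_eq_of_ringEquiv e, IsLocalization.AtPrime.ringKrullDim_eq_height 𝔭.asIdeal]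

end StalkPoint

section Catenary

/-- The local rings of a scheme locally of finite type over a universally catenary ring are
catenary. -/
theorem isCatenary_stalk_of_lft (A₀ : CommRingCat.{u}) (hA₀ : CAlg.IsUniversallyCatenary A₀)
    {P : Scheme.{u}} (g : P ⟶ Spec A₀) [LocallyOfFiniteType g] (x : P) :
    CAlg.IsCatenary (P.presheaf.stalk x) := by
  obtain ⟨V, hV, hxV, -⟩ := exists_isAffineOpen_mem_and_subset (x := x) (U := ⊤) trivial
  let φA : A₀ ⟶ Γ(P, V) := Spec.preimage (hV.fromSpec ≫ g)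
  let _ : Algebra A₀ Γ(P, V) := φA.hom.toAlgebra
  have ha : hV.fromSpec ≫ g = Spec.map (CommRingCat.ofHom (algebraMap A₀ Γ(P, V))) :=
    (Spec.map_preimage _).symm
  have hftA : Algebra.FiniteType A₀ Γ(P, V) := by
    have h1 : LocallyOfFiniteType (hV.fromSpec ≫ g) := inferInstance
    rw [ha, HasRingHomProperty.Spec_iff (P := @LocallyOfFiniteType)] at h1
    exact h1
  have hcatΓ : CAlg.IsCatenary Γ(P, V) := hA₀.2 Γ(P, V) hftA
  letI a1 : Algebra Γ(P, V) (P.presheaf.stalk x) := (P.presheaf.germ V x hxV).hom.toAlgebra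
  haveI l1 : IsLocalization.AtPrime (P.presheaf.stalk x) (hV.primeIdealOf ⟨x, hxV⟩).asIdeal :=
    hV.isLocalization_stalk ⟨x, hxV⟩
  exact Groth.Agent.H46.isCatenary_of_isLocalization (P.presheaf.stalk x)
    (hV.primeIdealOf ⟨x, hxV⟩).asIdeal.primeCompl hcatΓ

theorem isUniversallyCatenary_of_dvr (R : Type u) [CommRing R] [IsDomain R]
    [IsDiscreteValuationRing R] : CAlg.IsUniversallyCatenary R :=
  Groth.Agent.H8.GRing.isUniversallyCatenary_of_forall_isRegularLocalRing R
    (fun p hp => Groth.Agent.H8.J2.regLocus_eq_univ_of_isDedekindDomain R (Set.mem_univ ⟨p, hp⟩))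

end Catenary

section DVRBase

variable (R : Type u) [CommRing R] [IsDomain R] [IsDiscreteValuationRing R]

/-- The local ring of `Spec R` at the closed point of a discrete valuation ring: the maximal ideal
is generated by a nonzerodivisor, and the dimension is one. -/
theorem exists_uniformizer_stalk (y : Spec (CommRingCat.of R)) (hy : y = closedPoint R) :
    ∃ τ : (Spec (CommRingCat.of R)).presheaf.stalk y,
      maximalIdeal ((Spec (CommRingCat.of R)).presheaf.stalk y) = Ideal.span {τ} ∧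
      τ ∈ nonZeroDivisors ((Spec (CommRingCat.of R)).presheaf.stalk y) ∧
      ringKrullDim ((Spec (CommRingCat.of R)).presheaf.stalk y) = 1 := by
  subst hy
  let _ : Algebra R ((Spec (CommRingCat.of R)).presheaf.stalk (closedPoint R)) :=
    StructureSheaf.stalkAlgebra R (closedPoint R)
  have hloc : IsLocalization.AtPrime ((Spec (CommRingCat.of R)).presheaf.stalk (closedPoint R))
      (closedPoint R).asIdeal := StructureSheaf.IsLocalization.to_stalk R (closedPoint R)
  obtain ⟨ϖ, hϖ⟩ := IsDiscreteValuationRing.exists_irreducible R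
  have hdom : IsDomain ((Spec (CommRingCat.of R)).presheaf.stalk (closedPoint R)) :=
    IsLocalization.isDomain_of_le_nonZeroDivisors _
      (closedPoint R).asIdeal.primeCompl_le_nonZeroDivisors
  have hinj : Function.Injective
      (algebraMap R ((Spec (CommRingCat.of R)).presheaf.stalk (closedPoint R))) :=
    IsLocalization.injective _ (closedPoint R).asIdeal.primeCompl_le_nonZeroDivisors
  refine ⟨algebraMap R _ ϖ, ?_, ?_, ?_⟩
  · rw [← IsLocalization.AtPrime.map_eq_maximalIdeal (closedPoint R).asIdeal]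
    have : (closedPoint R).asIdeal = Ideal.span {ϖ} := hϖ.maximalIdeal_eq
    rw [this, Ideal.map_span, Set.image_singleton]
  · apply mem_nonZeroDivisors_of_ne_zero
    intro h0
    exact hϖ.ne_zero (hinj (by rw [h0, map_zero]))
  · rw [IsLocalization.AtPrime.ringKrullDim_eq_height (closedPoint R).asIdeal]
    have : (closedPoint R).asIdeal.height = 1 :=
      IsPrincipalIdealRing.height_eq_one_of_isMaximal (maximalIdeal R)
        (IsDiscreteValuationRing.not_isField R)
    rw [this]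
    rfl

/-- The local ring of `Spec R` at the generic point is a field. -/
theorem maximalIdeal_stalk_bot (y : Spec (CommRingCat.of R)) (hy : y = (⊥ : PrimeSpectrum R)) :
    maximalIdeal ((Spec (CommRingCat.of R)).presheaf.stalk y) = ⊥ ∧
      ringKrullDim ((Spec (CommRingCat.of R)).presheaf.stalk y) = 0 := by
  subst hy
  obtain ⟨ψ, -, h2, h3⟩ := exists_ringHom_stalk_Spec R (⊥ : PrimeSpectrum R)
  refine ⟨?_, ?_⟩
  · rw [h2]
    change Ideal.map ψ (⊥ : Ideal R) = ⊥
    exact Ideal.map_bot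
  · rw [h3]
    change ((Ideal.height (⊥ : Ideal R) : ℕ∞) : WithBot ℕ∞) = 0
    rw [Ideal.height_bot]
    rfl

end DVRBase

section Gen

variable (R : Type u) [CommRing R] [IsDomain R] [IsDiscreteValuationRing R]
  {P : Scheme.{u}} (g : P ⟶ Spec (CommRingCat.of R)) [LocallyOfFinitePresentation g] [Flat g]

/-- **Generization over a discrete valuation ring.**  If the closed fibre is equidimensional at
`x₀`, without embedded components at `x₀` and smooth in codimension `≤ k` at `x₀`, then the generic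
fibre is equidimensional and smooth in codimension `≤ k` at every generization `x'` of `x₀`. -/
theorem eqG_gkFib_generization_dvr (k : ℕ) (x₀ x' : P) (hs : x' ⤳ x₀) (hc : g x₀ = closedPoint R)
    (hη : g x' = (⊥ : PrimeSpectrum R)) (hS : SkFib g 1 x₀) (hEq : EqG g x₀) (hG : GkFib g k x₀) :
    EqG g x' ∧ GkFib g k x' := by
  haveI : LocallyOfFiniteType g := inferInstance
  haveI : IsLocallyNoetherian P := LocallyOfFiniteType.isLocallyNoetherian g
  haveI := isLocallyNoetherian_fiber g (g x₀)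
  have hcat : CAlg.IsCatenary (P.presheaf.stalk x₀) :=
    isCatenary_stalk_of_lft (CommRingCat.of R) (isUniversallyCatenary_of_dvr R) g x₀
  obtain ⟨τ, hτspan, hτreg, hdim1⟩ := exists_uniformizer_stalk R (g x₀) hc
  set t : P.presheaf.stalk x₀ := (g.stalkMap x₀).hom τ with htdef
  have hflat : (g.stalkMap x₀).hom.Flat := Flat.stalkMap g x₀
  have hreg : t ∈ nonZeroDivisors (P.presheaf.stalk x₀) := by
    algebraize [(g.stalkMap x₀).hom]
    have h1 : IsSMulRegular (P.presheaf.stalk x₀) τ :=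
      Module.Flat.isSMulRegular_of_nonZeroDivisors hτreg
    rw [mem_nonZeroDivisors_iff_right]
    intro a ha
    apply h1
    simp only [smul_zero]
    rw [Algebra.smul_def, mul_comm]
    exact ha
  have ht : t ∈ maximalIdeal (P.presheaf.stalk x₀) := by
    have hτm : τ ∈ maximalIdeal ((Spec (CommRingCat.of R)).presheaf.stalk (g x₀)) := by
      rw [hτspan]
      exact Ideal.mem_span_singleton_self τ
    exact _root_.map_nonunit (g.stalkMap x₀).hom τ hτm
  have hmap : Ideal.map (g.stalkMap x₀).hom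
      (maximalIdeal ((Spec (CommRingCat.of R)).presheaf.stalk (g x₀))) = Ideal.span {t} := by
    rw [hτspan, Ideal.map_span, Set.image_singleton]
  obtain ⟨E⟩ := nonempty_stalk_fiber_equiv g (g x₀) (g.asFiber x₀) x₀ (g.fiberι_asFiber x₀)
  let e : (g.fiber (g x₀)).presheaf.stalk (g.asFiber x₀) ≃+* P.presheaf.stalk x₀ ⧸ Ideal.span {t} :=
    E.symm.trans (Ideal.quotEquivOfEq hmap)
  haveI : IsNoetherianRing ((g.fiber (g x₀)).presheaf.stalk (g.asFiber x₀)) := inferInstance
  have hS1 : LocCoh.HasSk 1 (P.presheaf.stalk x₀ ⧸ Ideal.span {t})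
      (P.presheaf.stalk x₀ ⧸ Ideal.span {t}) := hasSk_of_ringEquiv e.symm 1 hS
  have heq : EGA4.IsEquidim (P.presheaf.stalk x₀ ⧸ Ideal.span {t}) :=
    isEquidim_of_ringEquiv' e ((isEquidim_fibre_stalk_iff_eqG g x₀).mpr hEq)
  have hOeq : EGA4.IsEquidim (P.presheaf.stalk x₀) :=
    isEquidim_of_quotient_of_hasSk_one _ hcat t ht hreg hS1 heq
  -- primes containing `t` correspond to points of the closed fibre
  have hclosed : ∀ 𝔮 : PrimeSpectrum (P.presheaf.stalk x₀), t ∈ 𝔮.asIdeal →
      g (stalkPoint x₀ 𝔮) = g x₀ := by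
    intro 𝔮 ht𝔮
    have h1 := stalkPoint_comap g x₀ 𝔮
    have h2 : PrimeSpectrum.comap (g.stalkMap x₀).hom 𝔮 =
        closedPoint ((Spec (CommRingCat.of R)).presheaf.stalk (g x₀)) := by
      apply PrimeSpectrum.ext
      change Ideal.comap (g.stalkMap x₀).hom 𝔮.asIdeal = maximalIdeal _
      apply le_antisymm (le_maximalIdeal (Ideal.IsPrime.ne_top (𝔮.isPrime.comap _)))
      rw [hτspan, Ideal.span_singleton_le_iff_mem, Ideal.mem_comap]
      exact ht𝔮
    rw [h2] at h1
    rw [← h1]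
    exact Scheme.fromSpecStalk_closedPoint
  have hne : (⊥ : PrimeSpectrum R) ≠ closedPoint R := by
    intro h
    have h1 : (⊥ : Ideal R) = maximalIdeal R := congrArg PrimeSpectrum.asIdeal h
    exact IsDiscreteValuationRing.not_isField R (IsLocalRing.isField_iff_maximalIdeal_eq.mpr h1.symm)
  constructor
  · -- equidimensionality of the generic fibre at `x'`
    rw [← isEquidim_fibre_stalk_iff_eqG]
    obtain ⟨𝔭', h𝔭'⟩ := exists_stalkPoint_eq x₀ x' hs
    have hL := isEquidim_localization_atPrime (P.presheaf.stalk x₀) hOeq hcat 𝔭'.asIdeal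
    obtain ⟨e1⟩ := nonempty_stalk_stalkPoint_equiv x₀ 𝔭'
    rw [h𝔭'] at e1
    obtain ⟨E'⟩ := nonempty_stalk_fiber_equiv g (g x') (g.asFiber x') x' (g.fiberι_asFiber x')
    have hbot : Ideal.map (g.stalkMap x').hom
        (maximalIdeal ((Spec (CommRingCat.of R)).presheaf.stalk (g x'))) = ⊥ := by
      rw [(maximalIdeal_stalk_bot R (g x') hη).1, Ideal.map_bot]
    let e' : Localization.AtPrime 𝔭'.asIdeal ≃+* (g.fiber (g x')).presheaf.stalk (g.asFiber x') :=
      e1.symm.trans ((RingEquiv.quotientBot _).symm.trans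
        ((Ideal.quotEquivOfEq hbot.symm).trans E'))
    exact isEquidim_of_ringEquiv' e' hL
  · -- smoothness in codimension `≤ k` of the generic fibre at `x'`
    intro η' hη'x' hgη' hsm
    obtain ⟨𝔭, h𝔭⟩ := exists_stalkPoint_eq x₀ η' (hη'x'.trans hs)
    have ht𝔭 : t ∉ 𝔭.asIdeal := by
      intro hmem
      have h1 := hclosed 𝔭 hmem
      rw [h𝔭, hgη', hη, hc] at h1
      exact hne h1
    obtain ⟨𝔮, h𝔮⟩ := Ideal.nonempty_minimalPrimes
      (Groth.Agent.H8.QuotLift.sup_span_ne_top (P.presheaf.stalk x₀) 𝔭.asIdeal t ht)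
    have h𝔮prime : 𝔮.IsPrime := h𝔮.1.1
    have ht𝔮 : t ∈ 𝔮 := h𝔮.1.2 (Ideal.mem_sup_right (Ideal.mem_span_singleton_self t))
    have h𝔭𝔮 : 𝔭 ≤ (⟨𝔮, h𝔮prime⟩ : PrimeSpectrum (P.presheaf.stalk x₀)) :=
      le_sup_left.trans h𝔮.1.2
    have hη'x₁ : η' ⤳ stalkPoint x₀ ⟨𝔮, h𝔮prime⟩ := by
      rw [← h𝔭]
      exact (stalkPoint_specializes_iff x₀ _ _).mpr h𝔭𝔮
    have hx₁x₀ : stalkPoint x₀ ⟨𝔮, h𝔮prime⟩ ⤳ x₀ := stalkPoint_specializes x₀ _
    have hgx₁ : g (stalkPoint x₀ ⟨𝔮, h𝔮prime⟩) = g x₀ := hclosed ⟨𝔮, h𝔮prime⟩ ht𝔮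
    have hx₁sm : stalkPoint x₀ ⟨𝔮, h𝔮prime⟩ ∉ g.smoothLocus := fun h =>
      hsm (hη'x₁.mem_open g.smoothLocus.isOpen h)
    have hk := hG _ hx₁x₀ hgx₁ hx₁sm
    have hht := height_eq_add_one_of_mem_minimalPrimes_sup (P.presheaf.stalk x₀) hOeq hcat
      𝔭.asIdeal t ht𝔭 𝔮 h𝔮
    have hd₁ := ringKrullDim_stalk_stalkPoint x₀ (⟨𝔮, h𝔮prime⟩ : PrimeSpectrum _)
    have hdη := ringKrullDim_stalk_stalkPoint x₀ 𝔭
    rw [h𝔭] at hdη
    have hB1 := ringKrullDim_stalk_eq_add_fd g _ (Flat.stalkMap g (stalkPoint x₀ ⟨𝔮, h𝔮prime⟩))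
    have hB2 := ringKrullDim_stalk_eq_add_fd g η' (Flat.stalkMap g η')
    rw [(exists_uniformizer_stalk R _ (hgx₁.trans hc)).choose_spec.2.2, hd₁] at hB1
    rw [(maximalIdeal_stalk_bot R (g η') (hgη'.trans hη)).2, hdη, zero_add] at hB2
    rw [← hB2]
    simp only at hB1
    rw [hht] at hB1
    generalize FD g (stalkPoint x₀ ⟨𝔮, h𝔮prime⟩) = a at hk hB1
    obtain ⟨n, hn⟩ := ENat.ne_top_iff_exists.mp (Ideal.height_ne_top_of_isPrime (I := 𝔭.asIdeal))
    rw [← hn] at hB1 ⊢
    have h3 : a = (n : WithBot ℕ∞) := by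
      have h4 : a + ((1 : ℕ) : WithBot ℕ∞) = ((n : ℕ) : WithBot ℕ∞) + ((1 : ℕ) : WithBot ℕ∞) := by
        rw [add_comm a]
        push_cast
        exact_mod_cast hB1.symm
      exact Groth.Agent.Lib.Helper29.withBot_enat_add_right_cancel 1 h4
    rw [h3] at hk
    exact_mod_cast hk

end Gen

end Groth.Agent.Lib.Helper13.EqFib
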