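import Groth.Agent.Lib.Helper45.FiniteType
import Groth.Agent.Lib.Helper10.Fitting
import Groth.Agent.S6891

/-!
# Fitting ideal sheaves of quasi-coherent finite type modules: values on affines, support of Fitt_0
-/

set_option autoImplicit false
universe u
open AlgebraicGeometry CategoryTheory Limits TopologicalSpace
open Groth.Agent.Lib.Helper45 Groth.Agent.Lib.Helper10.Fitting

namespace Groth.Agent.Lib.Helper13.FittSheaf

variable {X : Scheme.{u}} (F : X.Modules) [SheafOfModules.IsQuasicoherent.{u, u, u} F]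
  [SheafOfModules.IsFiniteType (R := X.ringCatSheaf) F]

attribute [local instance] sectionsBasicOpenModule

open TensorProduct in
theorem fitt_map_basicOpen (r : ℕ) {U : X.Opens} (hU : IsAffineOpen U) (g : Γ(X, U)) :
    (Fitt.ideal Γ(X, U) Γ(F, U) r).map (X.presheaf.map (homOfLE <| X.basicOpen_le g).op).hom =
      Fitt.ideal Γ(X, X.basicOpen g) Γ(F, X.basicOpen g) r := by
  have hfin : Module.Finite Γ(X, U) Γ(F, U) := finite_sections_of_isFiniteType hU F
  have hloc : IsLocalization.Away g Γ(X, X.basicOpen g) := hU.isLocalization_basicOpen g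
  have hlocM : IsLocalizedModule.Away g (restrictBasicOpenₗ F g) :=
    isLocalizedModule_restrictBasicOpenₗ hU F g
  have hbc : IsBaseChange Γ(X, X.basicOpen g) (restrictBasicOpenₗ F g) :=
    IsLocalizedModule.isBaseChange (.powers g) Γ(X, X.basicOpen g) (restrictBasicOpenₗ F g)
  rw [← fitt_congr hbc.equiv r, fitt_baseChange Γ(X, X.basicOpen g) r]
  rfl

/-- The Fitting ideals of the sections of a quasi-coherent module of finite type form an ideal
sheaf. -/
noncomputable def fittIdealSheaf (r : ℕ) : X.IdealSheafData where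
  ideal U := Fitt.ideal Γ(X, U.1) Γ(F, U.1) r
  map_ideal_basicOpen U g := fitt_map_basicOpen F r U.2 g

theorem sheafIdeal_eq (r : ℕ) : Fitt.sheafIdeal F r = fittIdealSheaf F r :=
  Scheme.IdealSheafData.ofIdeals_ideal (fittIdealSheaf F r)

theorem sheafIdeal_ideal (r : ℕ) (U : X.affineOpens) :
    (Fitt.sheafIdeal F r).ideal U = Fitt.ideal Γ(X, U.1) Γ(F, U.1) r := by
  rw [sheafIdeal_eq]; rfl

theorem mem_support_sheafIdeal_iff (r : ℕ) (x : X) {U : X.Opens} (hU : IsAffineOpen U)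
    (hx : x ∈ U) :
    x ∈ (Fitt.sheafIdeal F r).support ↔
      Fitt.ideal Γ(X, U) Γ(F, U) r ≤ (hU.primeIdealOf ⟨x, hx⟩).asIdeal := by
  rw [Scheme.IdealSheafData.mem_support_iff_of_mem (U := ⟨U, hU⟩) hx, sheafIdeal_ideal,
    Scheme.mem_zeroLocus_iff]
  constructor
  · intro h a ha
    by_contra hna
    exact h a ha ((mem_basicOpen_iff_not_mem_primeIdealOf hU ⟨x, hx⟩ a).mpr hna)
  · intro h a ha hxa
    exact (mem_basicOpen_iff_not_mem_primeIdealOf hU ⟨x, hx⟩ a).mp hxa (h ha)

theorem mem_support_sheafIdeal_zero_iff (x : X) :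
    x ∈ (Fitt.sheafIdeal F 0).support ↔ Nontrivial (F.presheaf.stalk x) := by
  obtain ⟨_, ⟨U, hU, rfl⟩, hxU, -⟩ := X.isBasis_affineOpens.exists_subset_of_mem_open
    (Set.mem_univ x) isOpen_univ
  have hfin : Module.Finite Γ(X, U) Γ(F, U) := finite_sections_of_isFiniteType hU F
  rw [mem_support_sheafIdeal_iff F 0 x hU hxU]
  have h1 := (Groth.Agent.S6891.result (R := Γ(X, U)) Γ(F, U) ⊥).2.1
  have h2 : Fitt.ideal Γ(X, U) Γ(F, U) 0 ≤ (hU.primeIdealOf ⟨x, hxU⟩).asIdeal ↔
      hU.primeIdealOf ⟨x, hxU⟩ ∈ Module.support Γ(X, U) Γ(F, U) := by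
    rw [← h1, PrimeSpectrum.mem_zeroLocus]; rfl
  rw [h2, Module.mem_support_iff]
  letI := stalkModuleSections F (⟨x, hxU⟩ : U)
  have hloc := isLocalizedModule_germₗ hU F ⟨x, hxU⟩
  have e := IsLocalizedModule.iso (hU.primeIdealOf ⟨x, hxU⟩).asIdeal.primeCompl
    (germₗ F (⟨x, hxU⟩ : U))
  exact ⟨fun h => e.symm.toEquiv.nontrivial, fun h => e.toEquiv.nontrivial⟩

end Groth.Agent.Lib.Helper13.FittSheaf
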