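/-
Helper library (helper13): generization over discrete valuation rings for the relative assassin
of a module flat over the base: every point `z` of the relative assassin of the generic fibre
specializing to a point `x₀` of the closed fibre has a specialization `z₀` in the closed fibre, a
generization of `x₀`, with `z₀` in the relative assassin and `trdeg κ(z₀) = trdeg κ(z)`
(a maximal point of the trace of the closure of `z` on the closed fibre).  Consequences: the
properties `QDim Φ` / `QNoEmb` generize (EGA IV 12.1.1 (iv), (vi)).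
-/
import Groth.Agent.Lib.Helper13.AssFibB
import Groth.Agent.Lib.Helper13.RectDepthC

set_option autoImplicit false
set_option linter.style.haveILetI false
open CategoryTheory AlgebraicGeometry Limits
universe u

namespace Groth.Agent.Lib.Helper13.AssFib

open Groth.Agent.Lib.Helper13.FibModProp Groth.Agent.Lib.Helper97.AssFibre
open Groth.Agent.H76.AssGen Groth.Agent.Lib.Helper23 TopologicalSpace
open Groth.Agent.Lib.Helper13.FibStalk Groth.Agent.Lib.Helper13.RectDepth
open Groth.Agent.Lib.Helper13.MCodepth Groth.Agent.Lib.Helper29 Groth.Agent.Lib.Helper55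
open IsLocalRing

section Algebra

/-- **Krull's principal ideal theorem, relative form**: a prime minimal over `𝔭 + (t)` with
`t ∉ 𝔭` has height one over `𝔭`. -/
theorem height_map_quotient_eq_one {A : Type*} [CommRing A] [IsNoetherianRing A] (𝔭 : Ideal A)
    [𝔭.IsPrime] (t : A) (ht : t ∉ 𝔭) (𝔯 : Ideal A)
    (h𝔯 : 𝔯 ∈ (𝔭 ⊔ Ideal.span {t}).minimalPrimes) :
    (𝔯.map (Ideal.Quotient.mk 𝔭)).height = 1 := by
  have hsurj : Function.Surjective (Ideal.Quotient.mk 𝔭) := Ideal.Quotient.mk_surjective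
  have hmem : 𝔯.map (Ideal.Quotient.mk 𝔭) ∈
      ((Ideal.span {t}).map (Ideal.Quotient.mk 𝔭)).minimalPrimes := by
    rw [Ideal.minimalPrimes_map_of_surjective hsurj, Ideal.mk_ker, sup_comm]
    exact ⟨𝔯, h𝔯, rfl⟩
  rw [Ideal.map_span, Set.image_singleton] at hmem
  have hle := Ideal.height_le_one_of_isPrincipal_of_mem_minimalPrimes _ _ hmem
  apply le_antisymm hle
  by_contra hcon
  have h0 : (𝔯.map (Ideal.Quotient.mk 𝔭)).height = 0 :=
    Order.lt_one_iff.mp (not_le.mp hcon)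
  rw [Ideal.height_eq_zero_iff_eq_bot] at h0
  have h1 : Ideal.Quotient.mk 𝔭 t ∈ 𝔯.map (Ideal.Quotient.mk 𝔭) :=
    hmem.1.2 (Ideal.mem_span_singleton_self _)
  rw [h0, Ideal.mem_bot, Ideal.Quotient.eq_zero_iff_mem] at h1
  exact ht h1

end Algebra

section RelAss

variable {X S : Scheme.{u}} (g : X ⟶ S) [LocallyOfFiniteType g] (F : X.Modules)
  (hF : SheafOfModules.IsFinitePresentation (R := X.ringCatSheaf) F)

omit [LocallyOfFiniteType g] in
include hF in
/-- The relative assassin in terms of the depth of the fibre module. -/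
theorem mem_relAss_iff_fibDepth_eq_zero [IsLocallyNoetherian X] (z : X) :
    z ∈ MoreMor.relAss g F ↔ fibDepth g F z = 0 := by
  unfold MoreMor.relAss fibDepth
  letI algAR : Algebra (S.presheaf.stalk (g z)) (X.presheaf.stalk z) :=
    (g.stalkMap z).hom.toAlgebra
  haveI hloc : IsLocalHom (algebraMap (S.presheaf.stalk (g z)) (X.presheaf.stalk z)) :=
    inferInstanceAs (IsLocalHom (g.stalkMap z).hom)
  haveI fpM : Module.FinitePresentation (X.presheaf.stalk z) (F.presheaf.stalk z) :=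
    Groth.Agent.Lib.Helper49.finitePresentation_stalk_of_isFinitePresentation F hF z
  haveI finM : Module.Finite (X.presheaf.stalk z) (F.presheaf.stalk z) := inferInstance
  haveI : Module.Finite (EGA4.FibRing (S.presheaf.stalk (g z)) (X.presheaf.stalk z))
      (EGA4.FibMod (S.presheaf.stalk (g z)) (X.presheaf.stalk z) (F.presheaf.stalk z)) :=
    Module.Finite.of_restrictScalars_finite (X.presheaf.stalk z) _ _
  rw [depth_eq_of_surjective (R := X.presheaf.stalk z)
    (R' := EGA4.FibRing (S.presheaf.stalk (g z)) (X.presheaf.stalk z))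
    Ideal.Quotient.mk_surjective, depth_eq_zero_iff, AssociatedPrimes.mem_iff]
  rfl

end RelAss


section KL

variable (R : Type u) [CommRing R] [IsDomain R] [IsDiscreteValuationRing R]
  {P : Scheme.{u}} (g : P ⟶ Spec (CommRingCat.of R)) [LocallyOfFiniteType g] (F : P.Modules)
  [F.IsQuasicoherent] (hF : SheafOfModules.IsFinitePresentation (R := P.ringCatSheaf) F)

include hF in
/-- **Key lemma.**  Over a discrete valuation ring, for a module flat over the base: a point `z`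
of the generic fibre specializing to a point `x₀` of the closed fibre has a specialization `z₀`
in the closed fibre, generization of `x₀`, such that the depth of the fibre module at `z₀` is at
most that at `z`, the residue fields of `z₀` and `z` have the same transcendence degree over
the residue fields of the base, and there is no point strictly between `z` and `z₀`. -/
theorem exists_closed_specialization (hfl : FlatMod.IsFlatOver g F) (z x₀ : P) (hs : z ⤳ x₀)
    (hη : g z = (⊥ : PrimeSpectrum R)) (hc : g x₀ = closedPoint R) :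
    ∃ z₀ : P, z ⤳ z₀ ∧ z₀ ⤳ x₀ ∧ g z₀ = closedPoint R ∧
      fibDepth g F z₀ ≤ fibDepth g F z ∧ relTrdeg g z₀ = relTrdeg g z ∧
      ∀ w : P, z ⤳ w → w ⤳ z₀ → w = z ∨ w = z₀ := by
  haveI : IsLocallyNoetherian P := LocallyOfFiniteType.isLocallyNoetherian g
  haveI : SheafOfModules.IsFiniteType (R := P.ringCatSheaf) F :=
    Groth.Agent.Lib.Helper16.GenFlat.isFiniteType_of_isFinitePresentation F hF
  obtain ⟨U, hU, hx₀U, -⟩ := exists_isAffineOpen_mem_and_subset (x := x₀) (U := ⊤) trivial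
  have hzU : z ∈ U := hs.mem_open U.2 hx₀U
  haveI : IsNoetherianRing Γ(P, U) := IsLocallyNoetherian.component_noetherian ⟨U, hU⟩
  let φ : R →+* Γ(P, U) := (Spec.preimage (hU.fromSpec ≫ g)).hom
  have hφ : hU.fromSpec ≫ g = Spec.map (CommRingCat.ofHom φ) := (Spec.map_preimage _).symm
  have hgpt : ∀ 𝔭 : PrimeSpectrum Γ(P, U), g (hU.fromSpec 𝔭) = PrimeSpectrum.comap φ 𝔭 := by
    intro 𝔭
    rw [← Scheme.Hom.comp_apply, hφ]
    rfl
  obtain ⟨ϖ, hϖ⟩ := IsDiscreteValuationRing.exists_irreducible R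
  set t : Γ(P, U) := φ ϖ with ht_def
  have hz_eq : hU.fromSpec (hU.primeIdealOf ⟨z, hzU⟩) = z := hU.fromSpec_primeIdealOf ⟨z, hzU⟩
  have hx₀_eq : hU.fromSpec (hU.primeIdealOf ⟨x₀, hx₀U⟩) = x₀ :=
    hU.fromSpec_primeIdealOf ⟨x₀, hx₀U⟩
  have hϖmax : ϖ ∈ maximalIdeal R := by
    rw [hϖ.maximalIdeal_eq]
    exact Ideal.mem_span_singleton_self ϖ
  have ht0 : t ∈ (hU.primeIdealOf ⟨x₀, hx₀U⟩).asIdeal := by
    have h1 := hgpt (hU.primeIdealOf ⟨x₀, hx₀U⟩)
    rw [hx₀_eq, hc] at h1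
    have h2 : ϖ ∈ (closedPoint R).asIdeal := hϖmax
    rw [h1] at h2
    exact h2
  have htz : t ∉ (hU.primeIdealOf ⟨z, hzU⟩).asIdeal := by
    intro hmem
    have h1 := hgpt (hU.primeIdealOf ⟨z, hzU⟩)
    rw [hz_eq, hη] at h1
    have h2 : ϖ ∈ (PrimeSpectrum.comap φ (hU.primeIdealOf ⟨z, hzU⟩)).asIdeal := hmem
    rw [← h1] at h2
    exact hϖ.ne_zero h2
  have hle : (hU.primeIdealOf ⟨z, hzU⟩).asIdeal ≤ (hU.primeIdealOf ⟨x₀, hx₀U⟩).asIdeal :=
    (primeIdealOf_le_iff_specializes hU z x₀ hzU hx₀U).mpr hs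
  have hsup : (hU.primeIdealOf ⟨z, hzU⟩).asIdeal ⊔ Ideal.span {t} ≤
      (hU.primeIdealOf ⟨x₀, hx₀U⟩).asIdeal :=
    sup_le hle ((Ideal.span_singleton_le_iff_mem _).mpr ht0)
  obtain ⟨𝔯, h𝔯min, h𝔯le⟩ := Ideal.exists_minimalPrimes_le hsup
  have h𝔯prime : 𝔯.IsPrime := h𝔯min.1.1
  have ht𝔯 : t ∈ 𝔯 := h𝔯min.1.2 (Ideal.mem_sup_right (Ideal.mem_span_singleton_self t))
  have hz𝔯 : (hU.primeIdealOf ⟨z, hzU⟩).asIdeal ≤ 𝔯 := le_sup_left.trans h𝔯min.1.2
  set z₀ : P := hU.fromSpec ⟨𝔯, h𝔯prime⟩ with hz₀_def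
  have hz₀U : z₀ ∈ U := by
    have : z₀ ∈ Set.range hU.fromSpec := ⟨_, rfl⟩
    rw [hU.range_fromSpec] at this
    exact this
  have hp_z₀ : hU.primeIdealOf ⟨z₀, hz₀U⟩ = ⟨𝔯, h𝔯prime⟩ := by
    apply hU.fromSpec.isOpenEmbedding.injective
    rw [hU.fromSpec_primeIdealOf]
  have hzz₀ : z ⤳ z₀ := (primeIdealOf_le_iff_specializes hU z z₀ hzU hz₀U).mp (by
    rw [hp_z₀]
    exact hz𝔯)
  have hz₀x₀ : z₀ ⤳ x₀ := (primeIdealOf_le_iff_specializes hU z₀ x₀ hz₀U hx₀U).mp (by
    rw [hp_z₀]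
    exact h𝔯le)
  have hgz₀ : g z₀ = closedPoint R := by
    rw [hz₀_def, hgpt]
    apply PrimeSpectrum.ext
    change Ideal.comap φ 𝔯 = maximalIdeal R
    have hne : Ideal.comap φ 𝔯 ≠ ⊤ := Ideal.IsPrime.ne_top (Ideal.comap_isPrime φ 𝔯)
    refine ((IsLocalRing.maximalIdeal.isMaximal R).eq_of_le hne ?_).symm
    rw [hϖ.maximalIdeal_eq, Ideal.span_singleton_le_iff_mem, Ideal.mem_comap]
    exact ht𝔯
  have hht : ((hU.primeIdealOf ⟨z₀, hz₀U⟩).asIdeal.map
      (Ideal.Quotient.mk (hU.primeIdealOf ⟨z, hzU⟩).asIdeal)).height = 1 := by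
    rw [hp_z₀]
    exact height_map_quotient_eq_one _ t htz 𝔯 h𝔯min
  refine ⟨z₀, hzz₀, hz₀x₀, hgz₀, ?_, ?_, ?_⟩
  · have hD3 := depth_stalk_le_add_height F hU ⟨z, hzU⟩ ⟨z₀, hz₀U⟩ hzz₀
    rw [hht] at hD3
    have hD1 := fibDepth_add_one_of_closedPoint R g F hF z₀ hgz₀ (hfl z₀)
    have hD2 := fibDepth_of_generic R g F hF z hη
    rw [← hD1, ← hD2] at hD3
    exact (ENat.add_le_add_iff_right (by simp)).mp hD3
  · obtain ⟨m₀, -, ht₀⟩ := exists_dim_closure_asFiber_eq_trdeg g z₀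
    obtain ⟨m', -, ht'⟩ := exists_dim_closure_asFiber_eq_trdeg g z
    have hD4 := chart_height_add_trdeg_dvr R g hU z z₀ hzU hz₀U hzz₀ hgz₀ hη m₀ m' ht₀ ht'
    rw [hht] at hD4
    have hmm : m₀ = m' := by
      have h1 : ((1 + m₀ : ℕ) : ℕ∞) = ((1 + m' : ℕ) : ℕ∞) := by
        push_cast
        exact hD4
      have h2 : 1 + m₀ = 1 + m' := by exact_mod_cast h1
      omega
    unfold relTrdeg
    rw [ht₀, ht', hmm]
  · intro w hzw hwz₀
    have hwU : w ∈ U := hwz₀.mem_open U.2 hz₀U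
    have h1 : (hU.primeIdealOf ⟨z, hzU⟩).asIdeal ≤ (hU.primeIdealOf ⟨w, hwU⟩).asIdeal :=
      (primeIdealOf_le_iff_specializes hU z w hzU hwU).mpr hzw
    have h2 : (hU.primeIdealOf ⟨w, hwU⟩).asIdeal ≤ 𝔯 := by
      have := (primeIdealOf_le_iff_specializes hU w z₀ hwU hz₀U).mpr hwz₀
      rw [hp_z₀] at this
      exact this
    by_cases hw : (hU.primeIdealOf ⟨w, hwU⟩).asIdeal ≤ (hU.primeIdealOf ⟨z, hzU⟩).asIdeal
    · left
      have hpe : hU.primeIdealOf ⟨w, hwU⟩ = hU.primeIdealOf ⟨z, hzU⟩ :=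
        PrimeSpectrum.ext (le_antisymm hw h1)
      have := congrArg hU.fromSpec hpe
      rw [hU.fromSpec_primeIdealOf, hU.fromSpec_primeIdealOf] at this
      exact this
    · right
      -- the image of `𝔭_w` in the quotient is a nonzero prime below the height one prime
      haveI hwprime : (hU.primeIdealOf ⟨w, hwU⟩).asIdeal.IsPrime := (hU.primeIdealOf _).2
      haveI hzprime : (hU.primeIdealOf ⟨z, hzU⟩).asIdeal.IsPrime := (hU.primeIdealOf _).2
      set mk := Ideal.Quotient.mk (hU.primeIdealOf ⟨z, hzU⟩).asIdeal with hmk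
      have hsurj : Function.Surjective mk := Ideal.Quotient.mk_surjective
      have hker : RingHom.ker mk = (hU.primeIdealOf ⟨z, hzU⟩).asIdeal := Ideal.mk_ker
      have hwp : ((hU.primeIdealOf ⟨w, hwU⟩).asIdeal.map mk).IsPrime :=
        Ideal.map_isPrime_of_surjective hsurj (by rw [hker]; exact h1)
      have hrp : (𝔯.map mk).IsPrime :=
        Ideal.map_isPrime_of_surjective hsurj (by rw [hker]; exact hz𝔯)
      have hcomap_w : ((hU.primeIdealOf ⟨w, hwU⟩).asIdeal.map mk).comap mk =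
          (hU.primeIdealOf ⟨w, hwU⟩).asIdeal := by
        rw [Ideal.comap_map_of_surjective mk hsurj, ← RingHom.ker_eq_comap_bot, hker]
        exact sup_eq_left.mpr h1
      have hcomap_r : (𝔯.map mk).comap mk = 𝔯 := by
        rw [Ideal.comap_map_of_surjective mk hsurj, ← RingHom.ker_eq_comap_bot, hker]
        exact sup_eq_left.mpr hz𝔯
      have hwne : (hU.primeIdealOf ⟨w, hwU⟩).asIdeal.map mk ≠ ⊥ := by
        intro h0
        apply hw
        rw [← hcomap_w, h0, ← RingHom.ker_eq_comap_bot, hker]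
      have hle' : (hU.primeIdealOf ⟨w, hwU⟩).asIdeal.map mk ≤ 𝔯.map mk := Ideal.map_mono h2
      have heq : (hU.primeIdealOf ⟨w, hwU⟩).asIdeal.map mk = 𝔯.map mk := by
        by_contra hne
        have hlt : (hU.primeIdealOf ⟨w, hwU⟩).asIdeal.map mk < 𝔯.map mk :=
          lt_of_le_of_ne hle' hne
        haveI := hwp
        have h3 := Ideal.height_strict_mono_of_isPrime hlt
        rw [hp_z₀] at hht
        rw [hht] at h3
        have h4 : ((hU.primeIdealOf ⟨w, hwU⟩).asIdeal.map mk).height = 0 :=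
          Order.lt_one_iff.mp h3
        rw [Ideal.height_eq_zero_iff_eq_bot] at h4
        exact hwne h4
      have hpe : hU.primeIdealOf ⟨w, hwU⟩ = hU.primeIdealOf ⟨z₀, hz₀U⟩ := by
        rw [hp_z₀]
        apply PrimeSpectrum.ext
        change (hU.primeIdealOf ⟨w, hwU⟩).asIdeal = 𝔯
        rw [← hcomap_w, heq, hcomap_r]
      have := congrArg hU.fromSpec hpe
      rw [hU.fromSpec_primeIdealOf, hU.fromSpec_primeIdealOf] at this
      exact this

end KL


section Gen

variable (R : Type u) [CommRing R] [IsDomain R] [IsDiscreteValuationRing R]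
  {P : Scheme.{u}} (g : P ⟶ Spec (CommRingCat.of R)) [LocallyOfFiniteType g] (F : P.Modules)
  [F.IsQuasicoherent] (hF : SheafOfModules.IsFinitePresentation (R := P.ringCatSheaf) F)

include hF in
/-- **Generization over a discrete valuation ring**: dimensions of the associated cycles. -/
theorem genDVR_pDim (Φ : Finset ℕ) (hfl : FlatMod.IsFlatOver g F) (x₀ x' : P) (hs : x' ⤳ x₀)
    (hc : g x₀ = closedPoint R) (hη : g x' = (⊥ : PrimeSpectrum R)) (h : PDim g F Φ x₀) :
    PDim g F Φ x' := by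
  haveI : IsLocallyNoetherian P := LocallyOfFiniteType.isLocallyNoetherian g
  intro z hzx' hgz hz
  have hgz' : g z = (⊥ : PrimeSpectrum R) := hgz.trans hη
  obtain ⟨z₀, hzz₀, hz₀x₀, hgz₀, hdep, htr, -⟩ :=
    exists_closed_specialization R g F hF hfl z x₀ (hzx'.trans hs) hgz' hc
  have hz₀ : z₀ ∈ MoreMor.relAss g F := by
    rw [mem_relAss_iff_fibDepth_eq_zero g F hF] at hz ⊢
    rw [hz] at hdep
    exact nonpos_iff_eq_zero.mp hdep
  obtain ⟨n, hn, hd⟩ := h z₀ hz₀x₀ (hgz₀.trans hc.symm) hz₀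
  exact ⟨n, hn, by rw [← htr, hd]⟩

include hF in
/-- **Generization over a discrete valuation ring**: absence of embedded associated cycles. -/
theorem genDVR_pNoEmb (hfl : FlatMod.IsFlatOver g F) (x₀ x' : P) (hs : x' ⤳ x₀)
    (hc : g x₀ = closedPoint R) (hη : g x' = (⊥ : PrimeSpectrum R)) (h : PNoEmb g F x₀) :
    PNoEmb g F x' := by
  haveI : IsLocallyNoetherian P := LocallyOfFiniteType.isLocallyNoetherian g
  intro z hzx' hgz hz z' hz'z hgz' hz'
  have hgzη : g z = (⊥ : PrimeSpectrum R) := hgz.trans hη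
  have hgz'η : g z' = (⊥ : PrimeSpectrum R) := hgz'.trans hgzη
  obtain ⟨z₀, hzz₀, hz₀x₀, hgz₀, hdep, -, -⟩ :=
    exists_closed_specialization R g F hF hfl z x₀ (hzx'.trans hs) hgzη hc
  obtain ⟨z₀', hz'z₀', hz₀'z₀, hgz₀', hdep', -, hbetw⟩ :=
    exists_closed_specialization R g F hF hfl z' z₀ (hz'z.trans hzz₀) hgz'η hgz₀
  have hz₀ : z₀ ∈ MoreMor.relAss g F := by
    rw [mem_relAss_iff_fibDepth_eq_zero g F hF] at hz ⊢
    rw [hz] at hdep
    exact nonpos_iff_eq_zero.mp hdep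
  have hz₀' : z₀' ∈ MoreMor.relAss g F := by
    rw [mem_relAss_iff_fibDepth_eq_zero g F hF] at hz' ⊢
    rw [hz'] at hdep'
    exact nonpos_iff_eq_zero.mp hdep'
  have heq : z₀' = z₀ :=
    h z₀ hz₀x₀ (hgz₀.trans hc.symm) hz₀ z₀' hz₀'z₀ (hgz₀'.trans hgz₀.symm) hz₀'
  rcases hbetw z hz'z (heq ▸ hzz₀) with h1 | h1
  · exact h1.symm
  · exfalso
    rw [h1, hgz₀'] at hgzη
    have h2 : maximalIdeal R = (⊥ : Ideal R) := congrArg PrimeSpectrum.asIdeal hgzη
    exact IsDiscreteValuationRing.not_isField R (IsLocalRing.isField_iff_maximalIdeal_eq.mpr h2)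

end Gen

section Assembly

open Groth.Agent.Lib.Helper13.MGenProp

/-- The dimensions of the associated cycles of the fibres through a point lie in `Φ`: a
module-level generizing property. -/
theorem isMGenProp_qDim (Φ : Finset ℕ) : IsMGenProp (FibE (QDim.{u} Φ)) where
  iso := (fibE_formal (isFibModProp_qDim Φ)).1
  bc := (fibE_formal (isFibModProp_qDim Φ)).2.1
  leftImm := (fibE_formal (isFibModProp_qDim Φ)).2.2
  spread := by
    intro X U _ _ g _ _ F _ hF _ ξ hξ hE
    obtain ⟨N, hN, hξN, hy⟩ := spread_pDim g F hF Φ ξ hξ ((fibE_qDim_iff g F Φ ξ).mp hE)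
    exact ⟨N, hN, hξN, fun z hz _ => (fibE_qDim_iff g F Φ z).mpr (hy z hz)⟩
  genDVR := by
    intro R _ _ _ P g _ F _ hF hfl x₀ x' hs hc hη hE
    exact (fibE_qDim_iff g F Φ x').mpr
      (genDVR_pDim R g F hF Φ hfl x₀ x' hs hc hη ((fibE_qDim_iff g F Φ x₀).mp hE))

/-- No associated cycle of the fibres through a point is embedded: a module-level generizing
property. -/
theorem isMGenProp_qNoEmb : IsMGenProp (FibE QNoEmb.{u}) where
  iso := (fibE_formal isFibModProp_qNoEmb).1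
  bc := (fibE_formal isFibModProp_qNoEmb).2.1
  leftImm := (fibE_formal isFibModProp_qNoEmb).2.2
  spread := by
    intro X U _ _ g _ _ F _ hF _ ξ hξ hE
    obtain ⟨N, hN, hξN, hy⟩ := spread_pNoEmb g F hF ξ hξ ((fibE_qNoEmb_iff g F ξ).mp hE)
    exact ⟨N, hN, hξN, fun z hz _ => (fibE_qNoEmb_iff g F z).mpr (hy z hz)⟩
  genDVR := by
    intro R _ _ _ P g _ F _ hF hfl x₀ x' hs hc hη hE
    exact (fibE_qNoEmb_iff g F x').mpr
      (genDVR_pNoEmb R g F hF hfl x₀ x' hs hc hη ((fibE_qNoEmb_iff g F x₀).mp hE))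

variable {X Y : Scheme.{u}} (f : X ⟶ Y) [LocallyOfFinitePresentation f] (F : X.Modules)
  [F.IsQuasicoherent] (hF : SheafOfModules.IsFinitePresentation (R := X.ringCatSheaf) F)
  (hfl : FlatMod.IsFlatOver f F)

include hF hfl in
/-- **EGA IV 12.1.1 (vi)**. -/
theorem isOpen_qDim_of_flat (Φ : Finset ℕ) : IsOpen {x : X | FibE (QDim Φ) X Y f F x} :=
  isOpen_of_flat (isMGenProp_qDim Φ) f F hF hfl

include hF hfl in
/-- **EGA IV 12.1.1 (iv)**. -/
theorem isOpen_qNoEmb_of_flat : IsOpen {x : X | FibE QNoEmb X Y f F x} :=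
  isOpen_of_flat isMGenProp_qNoEmb f F hF hfl

include hF hfl in
/-- **EGA IV 12.2.1 (vi)**. -/
theorem isOpen_setOf_forall_fibre_qDim [IsProper f] (Φ : Finset ℕ) :
    IsOpen {y : Y | ∀ z : ↥(f.fiber y),
      QDim Φ (f.fiber y) ((Scheme.Modules.pullback (f.fiberι y)).obj F) z} := by
  rw [setOf_forall_fibre_eq]
  exact isOpen_setOf_forall_of_proper (isMGenProp_qDim Φ) f F hF hfl

include hF hfl in
/-- **EGA IV 12.2.1 (iv)**. -/
theorem isOpen_setOf_forall_fibre_qNoEmb [IsProper f] :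
    IsOpen {y : Y | ∀ z : ↥(f.fiber y),
      QNoEmb (f.fiber y) ((Scheme.Modules.pullback (f.fiberι y)).obj F) z} := by
  rw [setOf_forall_fibre_eq]
  exact isOpen_setOf_forall_of_proper isMGenProp_qNoEmb f F hF hfl

end Assembly

end Groth.Agent.Lib.Helper13.AssFib
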