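import Groth.Agent.Lib.Helper13.Chevalley
import Groth.Agent.Lib.Helper13.ChevalleyRetro
import Groth.Agent.Lib.Helper13.LimDescent2
import Groth.Agent.H52.LqfLocus

/-!
# Descent of a bound on the fibre dimension through cofiltered limits (helper13)
-/

set_option autoImplicit false
universe v u

open CategoryTheory Limits AlgebraicGeometry Topology

namespace Groth.Agent.Lib.Helper13.LimDescent

section FibreDim

/-- The property "all local fibre dimensions are at most `d`". -/
def fibreDimLE (d : ℕ) : MorphismProperty Scheme.{u} :=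
  fun _ _ f => ∀ x, FlatMor.fibreDimAt f x ≤ d

instance (d : ℕ) : (fibreDimLE.{u} d).RespectsIso := by
  refine MorphismProperty.RespectsIso.mk _ ?_ ?_
  · intro X Y Z e f hf x
    have := Groth.Agent.S7408.result f (e.hom ≫ f) e.hom (𝟙 Z) (by simp) x
    rw [← this]
    exact hf _
  · intro X Y Z e f hf x
    have := Groth.Agent.S7408.result (f ≫ e.hom) f (𝟙 X) e.hom (by simp) x
    have hx : (𝟙 X : X ⟶ X) x = x := rfl
    rw [hx] at this
    rw [this]
    exact hf _

variable {J : Type u} [SmallCategory J] (E : J ⥤ Scheme.{u}) (cE : Cone E) (j₀ : J)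
  {X₀ : Scheme.{u}}
variable [hE : ∀ {i j : J} (f : i ⟶ j), IsAffineHom (E.map f)]

set_option backward.isDefEq.respectTransparency false in
/-- **Descent of a bound on the fibre dimension**. -/
theorem exists_fibreDimLE_pullback_fst [IsCofiltered J] (hcE : IsLimit cE)
    [CompactSpace X₀] (f₀ : X₀ ⟶ E.obj j₀) [LocallyOfFiniteType f₀] (d : ℕ)
    (h : fibreDimLE d (pullback.fst (cE.π.app j₀) f₀)) :
    ∃ k : Over j₀, fibreDimLE d (pullback.fst (E.map k.hom) f₀) := by
  let Q : X₀.Opens := ⟨{x | FlatMor.fibreDimAt f₀ x ≤ d},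
    Groth.Agent.Lib.Helper13.Chevalley.isOpen_fibreDimAt_le f₀ d⟩
  -- the preimage of `Q` in the limit is everything
  have hQ : pullback.snd (cE.π.app j₀) f₀ ⁻¹ᵁ Q = ⊤ := by
    rw [← top_le_iff]
    intro z _
    change FlatMor.fibreDimAt f₀ (pullback.snd (cE.π.app j₀) f₀ z) ≤ d
    rw [← Groth.Agent.Lib.Helper55.fibreDimAt_eq_of_isPullback f₀ (cE.π.app j₀)
      (pullback.snd (cE.π.app j₀) f₀) (pullback.fst (cE.π.app j₀) f₀)
      (IsPullback.of_hasPullback (cE.π.app j₀) f₀).flip z]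
    exact h z
  -- hence the preimage at some stage is everything
  let W : ((sys E j₀ f₀).obj (top j₀)).Opens := pullback.snd (E.map (𝟙 j₀)) f₀ ⁻¹ᵁ Q
  have hW : (sysCone E cE j₀ f₀).π.app (top j₀) ⁻¹ᵁ W = ⊤ := by
    have e : (sysCone E cE j₀ f₀).π.app (top j₀) ≫ pullback.snd (E.map (𝟙 j₀)) f₀ =
        pullback.snd (cE.π.app j₀) f₀ := sysCone_π_snd E cE j₀ f₀ (top j₀)
    simp only [W]
    rw [← Scheme.Hom.comp_preimage, e]
    exact hQ
  obtain ⟨k, a, hk⟩ := exists_map_eq_top (sys E j₀ f₀) (sysCone E cE j₀ f₀)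
    (isLimitSysCone E cE j₀ f₀ hcE) W hW
  have e2 : (sys E j₀ f₀).map a ≫ pullback.snd (E.map (𝟙 j₀)) f₀ =
      pullback.snd (E.map k.hom) f₀ := sys_map_snd E j₀ f₀ a
  simp only [W] at hk
  rw [← Scheme.Hom.comp_preimage, e2] at hk
  refine ⟨k, fun z => ?_⟩
  rw [Groth.Agent.Lib.Helper55.fibreDimAt_eq_of_isPullback f₀ (E.map k.hom)
    (pullback.snd (E.map k.hom) f₀) (pullback.fst (E.map k.hom) f₀)
    (IsPullback.of_hasPullback (E.map k.hom) f₀).flip z]
  have hz : z ∈ pullback.snd (E.map k.hom) f₀ ⁻¹ᵁ Q := by rw [hk]; trivial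
  exact hz

end FibreDim

section FibreDimEQ

/-- The property "all local fibre dimensions equal `d`". -/
def fibreDimEQ (d : ℕ) : MorphismProperty Scheme.{u} :=
  fun _ _ f => ∀ x, FlatMor.fibreDimAt f x = d

instance (d : ℕ) : (fibreDimEQ.{u} d).RespectsIso := by
  refine MorphismProperty.RespectsIso.mk _ ?_ ?_
  · intro X Y Z e f hf x
    have := Groth.Agent.S7408.result f (e.hom ≫ f) e.hom (𝟙 Z) (by simp) x
    rw [← this]
    exact hf _
  · intro X Y Z e f hf x
    have := Groth.Agent.S7408.result (f ≫ e.hom) f (𝟙 X) e.hom (by simp) x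
    have hx : (𝟙 X : X ⟶ X) x = x := rfl
    rw [hx] at this
    rw [this]
    exact hf _

/-- The locus where the local fibre dimension equals `d`, in terms of the loci `≤ m`. -/
theorem setOf_fibreDimAt_eq {X Y : Scheme.{u}} (f : X ⟶ Y) (d : ℕ) :
    {x : X | FlatMor.fibreDimAt f x = d} =
      {x : X | FlatMor.fibreDimAt f x ≤ d} \
        ⋃ m ∈ Finset.range d, {x : X | FlatMor.fibreDimAt f x ≤ (m : ℕ)} := by
  ext x
  simp only [Set.mem_setOf_eq, Set.mem_diff, Set.mem_iUnion, Finset.mem_range, exists_prop,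
    not_exists, not_and]
  constructor
  · intro h
    refine ⟨h.le, fun m hm hle => ?_⟩
    rw [h] at hle
    have : d ≤ m := by exact_mod_cast hle
    omega
  · rintro ⟨hle, hn⟩
    have h0 := Groth.Agent.H52.fibreDimAt_nonneg f x
    generalize FlatMor.fibreDimAt f x = v at *
    induction v using WithBot.recBotCoe with
    | bot => simp at h0
    | coe b =>
      have hb : b ≤ (d : ℕ∞) := by exact_mod_cast hle
      obtain ⟨k, rfl, hk⟩ := ENat.le_coe_iff.mp hb
      rcases Nat.lt_or_ge k d with hlt | hge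
      · exact absurd le_rfl (hn k hlt)
      · have : k = d := le_antisymm hk hge
        subst this
        rfl

/-- For `f` locally of finite presentation with quasi-compact quasi-separated source, the locus
where the local fibre dimension equals `d` is constructible. -/
theorem isConstructible_setOf_fibreDimAt_eq {X Y : Scheme.{u}} (f : X ⟶ Y)
    [LocallyOfFinitePresentation f] (d : ℕ) :
    IsConstructible {x : X | FlatMor.fibreDimAt f x = d} := by
  rw [setOf_fibreDimAt_eq]
  have hc : ∀ m : ℕ, IsConstructible {x : X | FlatMor.fibreDimAt f x ≤ m} := fun m =>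
    (Groth.Agent.Lib.Helper13.Chevalley.isRetrocompact_fibreDimAt_le f m).isConstructible
      (Groth.Agent.Lib.Helper13.Chevalley.isOpen_fibreDimAt_le f m)
  exact (hc d).sdiff (IsConstructible.biUnion (Finset.finite_toSet _) fun m _ => hc m)

variable {J : Type u} [SmallCategory J] (E : J ⥤ Scheme.{u}) (cE : Cone E) (j₀ : J)
  {X₀ : Scheme.{u}}
variable [hE : ∀ {i j : J} (f : i ⟶ j), IsAffineHom (E.map f)]

set_option backward.isDefEq.respectTransparency false in
/-- **Descent of constancy of the fibre dimension**. -/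
theorem exists_fibreDimEQ_pullback_fst [IsCofiltered J] (hcE : IsLimit cE)
    [CompactSpace X₀] [QuasiSeparatedSpace X₀] (f₀ : X₀ ⟶ E.obj j₀)
    [LocallyOfFinitePresentation f₀] (d : ℕ)
    (h : fibreDimEQ d (pullback.fst (cE.π.app j₀) f₀)) :
    ∃ k : Over j₀, fibreDimEQ d (pullback.fst (E.map k.hom) f₀) := by
  let s : Set X₀ := {x | FlatMor.fibreDimAt f₀ x = d}ᶜ
  have hs : IsConstructible s := (isConstructible_setOf_fibreDimAt_eq f₀ d).compl
  let sT : (sys E j₀ f₀).obj (top j₀) ⟶ X₀ := pullback.snd (E.map (𝟙 j₀)) f₀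
  have hsT : IsIso sT := inferInstanceAs (IsIso (pullback.snd (E.map (𝟙 j₀)) f₀))
  let s' : Set ((sys E j₀ f₀).obj (top j₀)) := sT ⁻¹' s
  have hs' : IsConstructible s' := hs.preimage_of_isOpenEmbedding sT.isOpenEmbedding
  have hempty : ((sysCone E cE j₀ f₀).π.app (top j₀)) ⁻¹' s' = ∅ := by
    have e : (sysCone E cE j₀ f₀).π.app (top j₀) ≫ sT =
        pullback.snd (cE.π.app j₀) f₀ := sysCone_π_snd E cE j₀ f₀ (top j₀)
    rw [Set.eq_empty_iff_forall_notMem]
    intro z hz
    have hz' : sT (((sysCone E cE j₀ f₀).π.app (top j₀)) z) ∈ s := hz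
    rw [← Scheme.Hom.comp_apply, e] at hz'
    apply hz'
    show FlatMor.fibreDimAt f₀ (pullback.snd (cE.π.app j₀) f₀ z) = d
    rw [← Groth.Agent.Lib.Helper55.fibreDimAt_eq_of_isPullback f₀ (cE.π.app j₀)
      (pullback.snd (cE.π.app j₀) f₀) (pullback.fst (cE.π.app j₀) f₀)
      (IsPullback.of_hasPullback (cE.π.app j₀) f₀).flip z]
    exact h z
  obtain ⟨k, hk⟩ := exists_preimage_eq_empty (sys E j₀ f₀) (sysCone E cE j₀ f₀) (top j₀)
    (isLimitSysCone E cE j₀ f₀ hcE) hs' hempty
  have e2 : (sys E j₀ f₀).map k.hom ≫ sT = pullback.snd (E.map k.left.hom) f₀ :=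
    sys_map_snd E j₀ f₀ k.hom
  refine ⟨k.left, fun z => ?_⟩
  rw [Groth.Agent.Lib.Helper55.fibreDimAt_eq_of_isPullback f₀ (E.map k.left.hom)
    (pullback.snd (E.map k.left.hom) f₀) (pullback.fst (E.map k.left.hom) f₀)
    (IsPullback.of_hasPullback (E.map k.left.hom) f₀).flip z]
  by_contra hne
  have hz : z ∈ ((sys E j₀ f₀).map k.hom) ⁻¹' s' := by
    show sT (((sys E j₀ f₀).map k.hom) z) ∈ s
    rw [← Scheme.Hom.comp_apply, e2]
    exact hne
  rw [hk] at hz
  exact hz

end FibreDimEQ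

end Groth.Agent.Lib.Helper13.LimDescent
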