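import Mathlib

/-!
# Counting connected / irreducible components from closed covers (helper13)
-/

set_option autoImplicit false

namespace Groth.Agent.Lib.Helper13.CompCount

open Set

variable {Q : Type*} [TopologicalSpace Q]

/-- A finite cover by pairwise disjoint nonempty closed sets gives a lower bound for the number of
connected components. -/
theorem card_le_card_connectedComponents {ι : Type*} [Finite ι] (P : ι → Set Q)
    (hcl : ∀ i, IsClosed (P i)) (hdisj : ∀ i j, i ≠ j → Disjoint (P i) (P j))
    (hcov : ⋃ i, P i = univ) (hne : ∀ i, (P i).Nonempty) :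
    ENat.card ι ≤ ENat.card (ConnectedComponents Q) := by
  classical
  have hclopen : ∀ i, IsClopen (P i) := by
    intro i
    refine ⟨hcl i, ?_⟩
    have : P i = (⋃ j : {j // j ≠ i}, P j.1)ᶜ := by
      ext x
      simp only [mem_compl_iff, mem_iUnion, not_exists]
      constructor
      · intro hx j hj
        exact Set.disjoint_left.mp (hdisj i j.1 (Ne.symm j.2)) hx hj
      · intro hx
        have : x ∈ ⋃ i, P i := hcov ▸ mem_univ x
        obtain ⟨j, hj⟩ := mem_iUnion.mp this
        by_cases hji : j = i
        · exact hji ▸ hj
        · exact absurd hj (hx ⟨j, hji⟩)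
    rw [this]
    exact (isClosed_iUnion_of_finite fun j : {j // j ≠ i} => hcl j.1).isOpen_compl
  choose x hx using hne
  have hinj : Function.Injective (fun i => (ConnectedComponents.mk (x i) : ConnectedComponents Q)) := by
    intro i j hij
    by_contra hne
    have h1 : connectedComponent (x i) = connectedComponent (x j) :=
      ConnectedComponents.coe_eq_coe.mp hij
    have h2 : x j ∈ connectedComponent (x i) := h1 ▸ mem_connectedComponent
    have h3 : x j ∈ P i := (hclopen i).connectedComponent_subset (hx i) h2
    exact Set.disjoint_left.mp (hdisj i j hne) h3 (hx j)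
  exact ENat.card_le_card_of_injective hinj

/-- A finite closed cover such that each member has a point outside the others gives a lower bound
for the number of irreducible components. -/
theorem card_le_encard_irreducibleComponents {ι : Type*} [Finite ι] (P : ι → Set Q)
    (hcl : ∀ i, IsClosed (P i)) (hcov : ⋃ i, P i = univ)
    (hne : ∀ i, ∃ x, x ∈ P i ∧ ∀ j, j ≠ i → x ∉ P j) :
    ENat.card ι ≤ (irreducibleComponents Q).encard := by
  classical
  haveI := Fintype.ofFinite ι
  choose x hxi hxj using hne
  -- the irreducible component of `x i` lies in `P i`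
  have hsub : ∀ i, irreducibleComponent (x i) ⊆ P i := by
    intro i
    have hirr : IsIrreducible (irreducibleComponent (x i)) := isIrreducible_irreducibleComponent
    have hcov' : irreducibleComponent (x i) ⊆ ⋃₀ ↑(Finset.univ.image P) := by
      intro y _
      have : y ∈ ⋃ i, P i := hcov ▸ mem_univ y
      obtain ⟨j, hj⟩ := mem_iUnion.mp this
      exact mem_sUnion.mpr ⟨P j, by simp, hj⟩
    obtain ⟨z, hz, hzsub⟩ := (isIrreducible_iff_sUnion_isClosed.mp hirr) (Finset.univ.image P)
      (by
        intro z hz
        obtain ⟨j, -, rfl⟩ := Finset.mem_image.mp hz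
        exact hcl j) hcov'
    obtain ⟨j, -, rfl⟩ := Finset.mem_image.mp hz
    have hxij : x i ∈ P j := hzsub mem_irreducibleComponent
    by_cases hji : j = i
    · exact hji ▸ hzsub
    · exact absurd hxij (hxj i j hji)
  let Z : ι → irreducibleComponents Q := fun i =>
    ⟨irreducibleComponent (x i), irreducibleComponent_mem_irreducibleComponents (x i)⟩
  have hinj : Function.Injective Z := by
    intro i j hij
    by_contra hne
    have h1 : irreducibleComponent (x i) = irreducibleComponent (x j) := congrArg Subtype.val hij
    have h2 : x i ∈ P j := hsub j (h1 ▸ mem_irreducibleComponent)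
    exact hxj i j (Ne.symm hne) h2
  calc ENat.card ι ≤ ENat.card (irreducibleComponents Q) := ENat.card_le_card_of_injective hinj
    _ = (irreducibleComponents Q).encard := rfl

end Groth.Agent.Lib.Helper13.CompCount
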