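import Groth.Agent.Lib.Helper13.OmegaStalk
import Groth.Agent.Lib.Helper45.QCohStalk
import Mathlib.RingTheory.Support
import Mathlib.LinearAlgebra.TensorProduct.Quotient
import Mathlib.RingTheory.FinitePresentation

/-!
# Conormal sheaf of an immersion on affine charts; stalk vanishing iff open immersion nearby
-/

set_option autoImplicit false
universe u
open AlgebraicGeometry CategoryTheory Limits
open Groth.Agent.Lib.Helper13.OmegaChart Groth.Agent.Lib.Helper13.OmegaStalk

namespace Groth.Agent.Lib.Helper13.ConormalStalk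

open TensorProduct

/-- Key algebra: for a surjection `B → A` with finitely generated kernel `I` and a prime `q` of `A`,
the localization of `A ⊗[B] I = I/I²` at `q` vanishes iff `I` is killed by some `g ∉ π⁻¹ q`. -/
theorem subsingleton_localized_tensor_ker_iff {B A : Type u} [CommRing B] [CommRing A] [Algebra B A]
    (hπ : Function.Surjective (algebraMap B A)) (hfg : (RingHom.ker (algebraMap B A)).FG)
    (q : Ideal A) [q.IsPrime] :
    Subsingleton (LocalizedModule q.primeCompl (A ⊗[B] (RingHom.ker (algebraMap B A)))) ↔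
      ∃ g : B, algebraMap B A g ∉ q ∧ ∀ x ∈ RingHom.ker (algebraMap B A), g * x = 0 := by
  set I := RingHom.ker (algebraMap B A) with hI
  constructor
  · intro h
    let p : Ideal B := q.comap (algebraMap B A)
    have hIp : I ≤ p := fun x hx => by
      change algebraMap B A x ∈ q
      rw [(RingHom.mem_ker).mp hx]; exact q.zero_mem
    have hfin : Module.Finite B I := Module.Finite.iff_fg.mpr hfg
    let e₁ : (B ⧸ RingHom.ker (Algebra.ofId B A)) ≃ₐ[B] A :=
      Ideal.quotientKerAlgEquivOfSurjective (f := Algebra.ofId B A) hπ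
    let G : (A ⊗[B] I) ≃ₗ[B] (I ⧸ (I • ⊤ : Submodule B I)) :=
      (TensorProduct.congr e₁.symm.toLinearEquiv (LinearEquiv.refl B I)) ≪≫ₗ
        TensorProduct.quotTensorEquivQuotSMul I I
    have hG : ∀ (b : B) (x : I), G (algebraMap B A b ⊗ₜ[B] x) = Submodule.Quotient.mk (b • x) := by
      intro b x
      have : e₁.symm (algebraMap B A b) = Ideal.Quotient.mk _ b := by
        rw [AlgEquiv.symm_apply_eq]
        exact (Ideal.quotientKerAlgEquivOfSurjective_mk (f := Algebra.ofId B A) hπ b).symm
      simp only [G, LinearEquiv.trans_apply, TensorProduct.congr_tmul, AlgEquiv.toLinearEquiv_apply,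
        LinearEquiv.refl_apply, this]
      exact TensorProduct.quotTensorEquivQuotSMul_mk_tmul I b x
    have ha : Subsingleton (LocalizedModule p.primeCompl (I ⧸ (I • ⊤ : Submodule B I))) := by
      rw [LocalizedModule.subsingleton_iff]
      intro m
      obtain ⟨x, rfl⟩ := Submodule.Quotient.mk_surjective _ m
      obtain ⟨a, haq, ha⟩ := (LocalizedModule.subsingleton_iff.mp h) ((1 : A) ⊗ₜ[B] x)
      obtain ⟨b, rfl⟩ := hπ a
      refine ⟨b, haq, ?_⟩
      rw [TensorProduct.smul_tmul', smul_eq_mul, mul_one] at ha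
      rw [← Submodule.Quotient.mk_smul, ← hG, ha, map_zero]
    have hsupp : (⟨p, inferInstance⟩ : PrimeSpectrum B) ∉ Module.support B I := by
      intro hmem
      have h2 : (⟨p, inferInstance⟩ : PrimeSpectrum B) ∈
          Module.support B (I ⧸ (I • ⊤ : Submodule B I)) := by
        rw [Module.support_quotient]
        exact ⟨hmem, hIp⟩
      rw [Module.mem_support_iff] at h2
      exact not_subsingleton _ ha
    rw [Module.mem_support_iff_of_finite, SetLike.not_le_iff_exists] at hsupp
    obtain ⟨g, hgann, hgp⟩ := hsupp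
    refine ⟨g, hgp, fun x hx => ?_⟩
    have := Module.mem_annihilator.mp hgann ⟨x, hx⟩
    exact congrArg Subtype.val this
  · rintro ⟨g, hgq, hg⟩
    rw [LocalizedModule.subsingleton_iff]
    intro m
    refine ⟨algebraMap B A g, hgq, ?_⟩
    induction m using TensorProduct.induction_on with
    | zero => simp
    | tmul a x =>
      have h0 : g • x = 0 := Subtype.ext (by simpa using hg x x.2)
      have h1 : algebraMap B A g • a = g • a := by rw [smul_eq_mul, Algebra.smul_def]
      rw [TensorProduct.smul_tmul', h1, TensorProduct.smul_tmul, h0, TensorProduct.tmul_zero]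
    | add x y hx hy => rw [smul_add, hx, hy, add_zero]


/-- If `π : B → A` is surjective and `g` kills `ker π`, then any map `B[1/g] → A[1/π g]` compatible
with `π` is bijective. -/
theorem bijective_of_away_of_smul_ker_eq_zero {B A B' A' : Type u} [CommRing B] [CommRing A]
    [CommRing B'] [CommRing A'] [Algebra B B'] [Algebra A A'] (π : B →+* A)
    (hπ : Function.Surjective π) (g : B) (hg : ∀ x ∈ RingHom.ker π, g * x = 0)
    [IsLocalization.Away g B'] [IsLocalization.Away (π g) A'] (φ : B' →+* A')
    (hφ : φ.comp (algebraMap B B') = (algebraMap A A').comp π) : Function.Bijective φ := by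
  have hker : RingHom.ker π ≤ RingHom.ker (algebraMap B B') := by
    intro x hx
    rw [RingHom.mem_ker]
    have h1 : algebraMap B B' g * algebraMap B B' x = 0 := by
      rw [← map_mul, hg x hx, map_zero]
    exact (IsLocalization.Away.algebraMap_isUnit (S := B') g).mul_right_eq_zero.mp h1
  let ψ₀ : A →+* B' := RingHom.liftOfSurjective π hπ ⟨algebraMap B B', hker⟩
  have hψ₀ : ∀ b, ψ₀ (π b) = algebraMap B B' b := fun b =>
    RingHom.liftOfRightInverse_comp_apply _ _ _ _ b
  have hu : IsUnit (ψ₀ (π g)) := by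
    rw [hψ₀]; exact IsLocalization.Away.algebraMap_isUnit g
  let ψ : A' →+* B' := IsLocalization.Away.lift (π g) hu
  have hψ : ∀ a, ψ (algebraMap A A' a) = ψ₀ a := fun a => IsLocalization.Away.lift_eq (π g) hu a
  have h1 : ψ.comp φ = RingHom.id B' := by
    apply IsLocalization.ringHom_ext (Submonoid.powers g)
    ext b
    have := congrArg (fun f => f b) hφ
    simp only [RingHom.comp_apply] at this
    simp only [RingHom.comp_apply, RingHom.id_apply, this, hψ, hψ₀]
  have h2 : φ.comp ψ = RingHom.id A' := by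
    apply IsLocalization.ringHom_ext (Submonoid.powers (π g))
    ext a
    obtain ⟨b, rfl⟩ := hπ a
    have := congrArg (fun f => f b) hφ
    simp only [RingHom.comp_apply] at this
    simp only [RingHom.comp_apply, RingHom.id_apply, hψ, hψ₀, this]
  refine ⟨fun x y hxy => ?_, fun a => ⟨ψ a, ?_⟩⟩
  · have := congrArg ψ hxy
    have e1 := congrArg (fun f => f x) h1
    have e2 := congrArg (fun f => f y) h1
    simp only [RingHom.comp_apply, RingHom.id_apply] at e1 e2
    rw [e1, e2] at this
    exact this
  · have e1 := congrArg (fun f => f a) h2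
    simpa using e1

/-- Chart form of the conormal sheaf of a quasi-compact morphism `j : Y ⟶ X`: over an affine open
`W ⊆ X` with affine preimage, it is the tilde of `A ⊗[B] ker (B → A)`. -/
theorem nonempty_conormal_chart_iso {Y X : Scheme.{u}} (j : Y ⟶ X) [QuasiCompact j] {W : X.Opens}
    (hW : IsAffineOpen W) (hU : IsAffineOpen (j ⁻¹ᵁ W)) :
    Nonempty ((Scheme.Modules.pullback hU.fromSpec).obj (Omega.conormal j) ≅
      tilde ((ModuleCat.extendScalars (j.app W).hom).obj
        (ModuleCat.of Γ(X, W) (RingHom.ker (j.app W).hom)))) := by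
  have hΔ : hU.fromSpec ≫ j = Spec.map (j.app W) ≫ hW.fromSpec := by
    have := IsAffineOpen.SpecMap_appLE_fromSpec j hW hU le_rfl
    rw [← this, Scheme.Hom.appLE_eq_app]
  have hWeq : j ⁻¹ᵁ VV hW.fromSpec = UU hU.fromSpec := by
    have h1 : VV hW.fromSpec = W := by
      apply TopologicalSpace.Opens.ext; simp [VV]
    have h2 : UU hU.fromSpec = j ⁻¹ᵁ W := by
      apply TopologicalSpace.Opens.ext; simp [UU]
    rw [h1, h2]
  exact ⟨conormalChartIso (j.app W) hW.fromSpec hU.fromSpec j hΔ hWeq⟩


/-- From pointwise annihilation away from `q` to a uniform annihilator, for a finitely generated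
kernel. -/
theorem exists_uniform_annihilator {B A : Type u} [CommRing B] [CommRing A] (π : B →+* A)
    (hfg : (RingHom.ker π).FG) (q : Ideal A) [q.IsPrime]
    (H : ∀ x ∈ RingHom.ker π, ∃ s : B, π s ∉ q ∧ s * x = 0) :
    ∃ g : B, π g ∉ q ∧ ∀ x ∈ RingHom.ker π, g * x = 0 := by
  set I := RingHom.ker π
  let p : Ideal B := q.comap π
  have hfin : Module.Finite B I := Module.Finite.iff_fg.mpr hfg
  have hsupp : (⟨p, inferInstance⟩ : PrimeSpectrum B) ∉ Module.support B I := by
    rw [Module.notMem_support_iff']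
    intro m
    obtain ⟨s, hs, h⟩ := H m m.2
    exact ⟨s, hs, Subtype.ext h⟩
  rw [Module.mem_support_iff_of_finite, SetLike.not_le_iff_exists] at hsupp
  obtain ⟨g, hgann, hgp⟩ := hsupp
  refine ⟨g, hgp, fun x hx => ?_⟩
  have := Module.mem_annihilator.mp hgann ⟨x, hx⟩
  exact congrArg Subtype.val this

open Groth.Agent.Lib.Helper45 in
/-- The stalk at `y` of the conormal sheaf of a quasi-compact immersion locally of finite
presentation vanishes iff the immersion is an open immersion near `y`. -/
theorem exists_isOpenImmersion_nhd_iff_conormal_stalk {Y X : Scheme.{u}} (j : Y ⟶ X) [IsImmersion j]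
    [QuasiCompact j] [LocallyOfFinitePresentation j] (y : Y) :
    (∃ U : Y.Opens, y ∈ U ∧ IsOpenImmersion (U.ι ≫ j)) ↔
      Subsingleton ((Omega.conormal j).presheaf.stalk y) := by
  let c := j.liftCoborder
  obtain ⟨_, ⟨W', hW', rfl⟩, hyW', -⟩ :=
    (j.coborderRange : Scheme.{u}).isBasis_affineOpens.exists_subset_of_mem_open
      (Set.mem_univ (c y)) isOpen_univ
  let W : X.Opens := j.coborderRange.ι ''ᵁ W'
  have hW : IsAffineOpen W := hW'.image_of_isOpenImmersion _
  have hpre : c ⁻¹ᵁ W' = j ⁻¹ᵁ W := j.liftCoborder_preimage W'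
  have hU : IsAffineOpen (j ⁻¹ᵁ W) := hpre ▸ hW'.preimage c
  have hy : y ∈ j ⁻¹ᵁ W := by rw [← hpre]; exact hyW'
  have hjy : j y ∈ W := hy
  have hπ : Function.Surjective (j.app W).hom := by
    have h1 : Function.Surjective (c.app W').hom := c.app_surjective W' hW'
    have h2 : c.app W' = j.app W ≫ Y.presheaf.map (eqToHom hpre).op := liftCoborder_app j W'
    intro a
    obtain ⟨b, hb⟩ := h1 ((Y.presheaf.map (eqToHom hpre).op).hom a)
    refine ⟨b, ?_⟩
    have hinj := (ConcreteCategory.bijective_of_isIso (Y.presheaf.map (eqToHom hpre).op)).1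
    apply hinj
    rw [← hb, h2]
    rfl
  let := (j.app W).hom.toAlgebra
  have hfp : Algebra.FinitePresentation Γ(X, W) Γ(Y, j ⁻¹ᵁ W) := by
    have h := LocallyOfFinitePresentation.finitePresentation_appLE j hW hU le_rfl
    rw [Scheme.Hom.appLE_eq_app] at h
    exact h
  have hfg : (RingHom.ker (j.app W).hom).FG :=
    Algebra.FinitePresentation.ker_fG_of_surjective (Algebra.ofId Γ(X, W) Γ(Y, j ⁻¹ᵁ W)) hπ
  obtain ⟨e⟩ := nonempty_conormal_chart_iso j hW hU
  rw [subsingleton_stalk_iff_of_chart _ hU _ e y hy]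
  set q := (hU.primeIdealOf ⟨y, hy⟩).asIdeal with hq
  refine Iff.trans ?_ (subsingleton_localized_tensor_ker_iff hπ hfg q).symm
  -- membership in basic opens
  have hmem : ∀ s : Γ(X, W), (j.app W).hom s ∉ q ↔ y ∈ j ⁻¹ᵁ X.basicOpen s := by
    intro s
    rw [Scheme.preimage_basicOpen]
    exact (mem_basicOpen_iff_not_mem_primeIdealOf hU ⟨y, hy⟩ _).symm
  constructor
  · rintro ⟨U', hyU', hU'⟩
    apply exists_uniform_annihilator (j.app W).hom hfg q
    intro x hx
    -- the stalk map of `j` at `y` is an isomorphism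
    have hiso : IsIso (j.stalkMap y) := by
      have h1 : IsIso ((U'.ι ≫ j).stalkMap ⟨y, hyU'⟩) := inferInstance
      rw [Scheme.Hom.stalkMap_comp] at h1
      have h0 : IsIso (U'.ι.stalkMap (⟨y, hyU'⟩ : U'.toScheme)) := inferInstance
      exact @IsIso.of_isIso_comp_right _ _ _ _ _ _ _ h0 h1
    have hinj : Function.Injective (j.stalkMap y) :=
      (ConcreteCategory.bijective_of_isIso (j.stalkMap y)).1
    have hgerm : X.presheaf.germ W (j y) hjy x = 0 := by
      apply hinj
      rw [Scheme.Hom.germ_stalkMap_apply, map_zero]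
      have : (j.app W) x = 0 := hx
      rw [this, map_zero]
    let := X.presheaf.algebra_section_stalk ⟨j y, hjy⟩
    have hloc := hW.isLocalization_stalk ⟨j y, hjy⟩
    obtain ⟨⟨s, hs⟩, hsx⟩ := (IsLocalization.map_eq_zero_iff
      (hW.primeIdealOf ⟨j y, hjy⟩).asIdeal.primeCompl (X.presheaf.stalk (j y)) x).mp hgerm
    refine ⟨s, ?_, hsx⟩
    rw [hmem]
    exact (mem_basicOpen_iff_not_mem_primeIdealOf hW ⟨j y, hjy⟩ s).mpr hs
  · rintro ⟨g, hgq, hg⟩
    let D : X.Opens := X.basicOpen g
    have hDW : D ≤ W := X.basicOpen_le g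
    have hD : IsAffineOpen D := hW.basicOpen g
    let Ug : Y.Opens := j ⁻¹ᵁ D
    have hUg_eq : Ug = Y.basicOpen ((j.app W).hom g) := Scheme.preimage_basicOpen j g
    have hUg : IsAffineOpen Ug := hUg_eq ▸ hU.basicOpen _
    have hUgW : Ug ≤ j ⁻¹ᵁ W := fun z hz => hDW hz
    have hyUg : y ∈ Ug := (hmem g).mp hgq
    refine ⟨Ug, hyUg, ?_⟩
    rw [← Scheme.Hom.resLE_comp_ι j (le_refl Ug)]
    have hiso : IsIso (j.resLE D Ug le_rfl) := by
      have hD' : IsAffine (D : Scheme) := hD
      have hUg' : IsAffine (Ug : Scheme) := hUg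
      have key : IsIso (j.resLE D Ug le_rfl).appTop := by
        rw [← MorphismProperty.isomorphisms.iff, (MorphismProperty.isomorphisms _).arrow_mk_iso_iff
          (arrowResLEAppIso j D Ug le_rfl), MorphismProperty.isomorphisms.iff,
          ConcreteCategory.isIso_iff_bijective]
        let : Algebra Γ(Y, j ⁻¹ᵁ W) Γ(Y, Ug) := (Y.presheaf.map (homOfLE hUgW).op).hom.toAlgebra
        have h1 : IsLocalization.Away ((j.app W).hom g) Γ(Y, Ug) :=
          hU.isLocalization_of_eq_basicOpen _ (homOfLE hUgW) hUg_eq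
        have h2 : IsLocalization.Away g Γ(X, D) := hW.isLocalization_basicOpen g
        have hφ' : X.presheaf.map (homOfLE hDW).op ≫ j.appLE D Ug le_rfl =
            j.app W ≫ Y.presheaf.map (homOfLE hUgW).op := by
          rw [Scheme.Hom.map_appLE, Scheme.Hom.app_eq_appLE, Scheme.Hom.appLE_map]
        exact bijective_of_away_of_smul_ker_eq_zero (j.app W).hom hπ g hg
          (j.appLE D Ug le_rfl).hom (congrArg CommRingCat.Hom.hom hφ')
      exact (HasAffineProperty.iff_of_isAffine (P := MorphismProperty.isomorphisms Scheme)).mpr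
        ⟨hUg', key⟩
    infer_instance

end Groth.Agent.Lib.Helper13.ConormalStalk
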