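/-
Helper library (helper13): generic assembly for the openness of a pointwise property `E f x` of the
fibres of a flat morphism `f`.

Variant of `FamProp.IsFamProp` in which the spreading-out axiom is only required along the
specializations of the given point of the generic fibre (as in `ConsProp.IsConsProp`): if `E` is
compatible with base change and open immersions, spreads out (weakly) from the generic fibre of a
flat family over an integral Noetherian base and generizes in flat families over discrete valuation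
rings, then the `E`-locus is locally constructible for `f` locally of finite presentation and open
for `f` flat and locally of finite presentation.
-/
import Groth.Agent.Lib.Helper13.ConsProp

set_option autoImplicit false
open CategoryTheory AlgebraicGeometry Limits
universe u

namespace Groth.Agent.Lib.Helper13.GenProp

open Groth.Agent.Lib.Helper13.CodepthFib Groth.Agent.Lib.Helper13.FibLocProp
open Groth.Agent.Lib.Helper13.CodepthOpen Groth.Agent.Lib.Helper13.ConsProp
open Groth.Agent.Lib.Helper55 Groth.Agent.Lib.Helper13.CMChart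
open Groth.Agent.Lib.Helper29 IsLocalRing TensorProduct Topology TopologicalSpace

/-- A pointwise property of the fibres of morphisms of schemes which is compatible with base change
and open immersions of the source, spreads out from a point of the generic fibre of a flat family
over an integral Noetherian base to the specializations of that point in a neighbourhood, and
generizes in flat families over discrete valuation rings. -/
structure IsGenProp (E : ∀ (X Y : Scheme.{u}) (_ : X ⟶ Y), X → Prop) : Prop where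
  bc : ∀ {X Y X' Y' : Scheme.{u}} {f : X ⟶ Y} {f' : X' ⟶ Y'} {g' : X' ⟶ X} {g : Y' ⟶ Y}
    [LocallyOfFinitePresentation f], IsPullback g' f' f g → ∀ x' : X', E X' Y' f' x' ↔ E X Y f (g' x')
  leftImm : ∀ {A B C : Scheme.{u}} (j : A ⟶ B) [IsOpenImmersion j] (h : B ⟶ C)
    [LocallyOfFinitePresentation h] (z : A), E A C (j ≫ h) z ↔ E B C h (j z)
  spread : ∀ {X U : Scheme.{u}} [IsIntegral U] [AlgebraicGeometry.IsNoetherian U] (g : X ⟶ U)
    [Flat g] [LocallyOfFinitePresentation g] [QuasiCompact g] (ξ : X),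
    g ξ = genericPoint U → E X U g ξ → ∃ N : Set X, IsOpen N ∧ ξ ∈ N ∧ ∀ z ∈ N, ξ ⤳ z → E X U g z
  genDVR : ∀ (R : Type u) [CommRing R] [IsDomain R] [IsDiscreteValuationRing R] (P : Scheme.{u})
    (g : P ⟶ Spec (CommRingCat.of R)) [LocallyOfFinitePresentation g] [Flat g] (x₀ x' : P),
    x' ⤳ x₀ → g x₀ = closedPoint R → g x' = (⊥ : PrimeSpectrum R) → E _ _ g x₀ → E _ _ g x'

variable {E : ∀ (X Y : Scheme.{u}) (_ : X ⟶ Y), X → Prop} (hE : IsGenProp E)
include hE

/-- **Generization**: for a flat morphism locally of finite type over a locally Noetherian base,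
the `E`-locus is stable under generization. -/
theorem stableUnderGeneralization {X₀ S : Scheme.{u}} [IsLocallyNoetherian S]
    (f₀ : X₀ ⟶ S) [LocallyOfFiniteType f₀] [Flat f₀] :
    StableUnderGeneralization {x : X₀ | E X₀ S f₀ x} := by
  haveI hX₀ : IsLocallyNoetherian X₀ := LocallyOfFiniteType.isLocallyNoetherian f₀
  intro x x' hxx' hx
  by_cases hne : x' = x
  · rw [hne]; exact hx
  obtain ⟨U, hU, hxU, -⟩ := exists_isAffineOpen_mem_and_subset (x := x) (U := ⊤) trivial
  have hx'U : x' ∈ U := hxx'.mem_open U.isOpen hxU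
  have hxr : x ∈ Set.range hU.fromSpec := by rw [hU.range_fromSpec]; exact hxU
  have hxr' : x' ∈ Set.range hU.fromSpec := by rw [hU.range_fromSpec]; exact hx'U
  obtain ⟨(p : PrimeSpectrum Γ(X₀, U)), hp⟩ := hxr
  obtain ⟨(p' : PrimeSpectrum Γ(X₀, U)), hp'⟩ := hxr'
  haveI : IsNoetherianRing Γ(X₀, U) := IsLocallyNoetherian.component_noetherian ⟨U, hU⟩
  have hspec : p' ⤳ p := by
    have h0 : hU.fromSpec p' ⤳ hU.fromSpec p := by rw [hp, hp']; exact hxx'
    exact hU.fromSpec.isOpenEmbedding.isInducing.specializes_iff.mp h0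
  have hle : p' ≤ p := (PrimeSpectrum.le_iff_specializes p' p).mpr hspec
  have hlt : p' < p := lt_of_le_of_ne hle (fun e => hne (by rw [← hp', ← hp, e]))
  obtain ⟨R, _, _, _, _, h1, h2⟩ := Groth.Agent.Lib.Helper12.FlatCx.exists_dvr_of_lt p' p hlt
  let h : Spec (CommRingCat.of R) ⟶ X₀ :=
    Spec.map (CommRingCat.ofHom (algebraMap Γ(X₀, U) R)) ≫ hU.fromSpec
  let g : Spec (CommRingCat.of R) ⟶ S := h ≫ f₀
  let σ : Spec (CommRingCat.of R) ⟶ pullback f₀ g := pullback.lift h (𝟙 _) (by simp [g])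
  have hσ1 : σ ≫ pullback.fst f₀ g = h := pullback.lift_fst _ _ _
  have hσ2 : σ ≫ pullback.snd f₀ g = 𝟙 _ := pullback.lift_snd _ _ _
  let c : Spec (CommRingCat.of R) := closedPoint R
  let η : Spec (CommRingCat.of R) := (⊥ : PrimeSpectrum R)
  have hhc : h c = x := by
    change hU.fromSpec (PrimeSpectrum.comap (algebraMap Γ(X₀, U) R) (closedPoint R)) = x
    rw [h2, hp]
  have hhη : h η = x' := by
    change hU.fromSpec (PrimeSpectrum.comap (algebraMap Γ(X₀, U) R) ⊥) = x'
    rw [h1, hp']
  have hz : pullback.fst f₀ g (σ c) = x := by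
    rw [← Scheme.Hom.comp_apply, hσ1, hhc]
  have hz' : pullback.fst f₀ g (σ η) = x' := by
    rw [← Scheme.Hom.comp_apply, hσ1, hhη]
  have hsc : pullback.snd f₀ g (σ c) = c := by
    rw [← Scheme.Hom.comp_apply, hσ2]
    rfl
  have hsη : pullback.snd f₀ g (σ η) = η := by
    rw [← Scheme.Hom.comp_apply, hσ2]
    rfl
  have hpb : ∀ w, E _ _ (pullback.snd f₀ g) w ↔ E _ _ f₀ (pullback.fst f₀ g w) :=
    fun w => hE.bc (IsPullback.of_hasPullback f₀ g) w
  have hηc : η ⤳ c := (PrimeSpectrum.le_iff_specializes _ _).mp bot_le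
  have hσs : σ η ⤳ σ c := hηc.map σ.continuous
  have hzE : E _ _ (pullback.snd f₀ g) (σ c) := by
    rw [hpb, hz]; exact hx
  have hz'E : E _ _ (pullback.snd f₀ g) (σ η) :=
    hE.genDVR R _ (pullback.snd f₀ g) (σ c) (σ η) hσs hsc hsη hzE
  have := (hpb (σ η)).mp hz'E
  rw [hz'] at this
  exact this

/-- An `IsGenProp` property is an `IsConsProp` property. -/
theorem IsGenProp.isConsProp : IsConsProp E where
  bc := hE.bc
  leftImm := hE.leftImm
  spread := hE.spread
  negSpread := by
    intro X U _ _ g _ _ _ ξ _ h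
    exact ⟨Set.univ, isOpen_univ, trivial, fun z _ hξz hz =>
      h (stableUnderGeneralization hE g hξz hz)⟩

/-- For `f` locally of finite presentation, the `E`-locus is locally constructible. -/
theorem isLocallyConstructible {X S : Scheme.{u}} (f : X ⟶ S)
    [LocallyOfFinitePresentation f] : IsLocallyConstructible {x : X | E _ _ f x} :=
  ConsProp.isLocallyConstructible hE.isConsProp f

section Assembly

open Groth.Agent.Lib.Helper23

/-- **Noetherian case**: for a flat morphism of finite type to the spectrum of a Noetherian ring,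
the `E`-locus is open. -/
theorem isOpen_of_flat_noeth {X₀ : Scheme.{u}} (A₀ : CommRingCat.{u}) [IsNoetherianRing A₀]
    (f₀ : X₀ ⟶ Spec A₀) [LocallyOfFiniteType f₀] [QuasiCompact f₀] [Flat f₀] :
    IsOpen {x : X₀ | E _ _ f₀ x} :=
  Groth.Agent.Lib.Helper23.FlatFibreDim.isOpen_of_isLocallyConstructible_of_stableUnderGeneralization
    (ConsProp.isConstructible_noeth hE.isConsProp A₀ f₀).isLocallyConstructible
    (stableUnderGeneralization hE f₀)

/-- For a flat morphism locally of finite presentation, the `E`-locus is open. -/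
theorem isOpen_of_flat {X Y : Scheme.{u}} (g : X ⟶ Y) [Flat g]
    [LocallyOfFinitePresentation g] : IsOpen {x : X | E _ _ g x} := by
  rw [isOpen_iff_forall_mem_open]
  intro x₀ hx₀
  obtain ⟨W, hW, hx₀W, -⟩ := exists_isAffineOpen_mem_and_subset (x := g x₀) (U := ⊤) trivial
  obtain ⟨V, hV, hx₀V, eV⟩ := exists_isAffineOpen_mem_and_subset (x := x₀) (U := g ⁻¹ᵁ W) hx₀W
  suffices h : IsOpen ((Subtype.val : ↥V → X) ⁻¹' {x | E _ _ g x}) by
    refine ⟨Subtype.val '' ((Subtype.val : ↥V → X) ⁻¹' {x | E _ _ g x}), ?_,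
      V.2.isOpenMap_subtype_val _ h, ⟨⟨x₀, hx₀V⟩, hx₀, rfl⟩⟩
    rintro _ ⟨z, hz, rfl⟩
    exact hz
  let f₁ : (V : Scheme.{u}) ⟶ (W : Scheme.{u}) := g.resLE W V eV
  have hf₁ : f₁ ≫ W.ι = V.ι ≫ g := Scheme.Hom.resLE_comp_ι g eV
  haveI : IsAffine (V : Scheme.{u}) := hV
  haveI : IsAffine (W : Scheme.{u}) := hW
  haveI hf₁fp : LocallyOfFinitePresentation f₁ := inferInstance
  haveI hf₁qc : QuasiCompact f₁ := inferInstance
  haveI hf₁qs : QuasiSeparated f₁ := inferInstance
  haveI hf₁fl : Flat f₁ := inferInstance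
  obtain ⟨i, X₀, f₀, q, hf₀fp, hf₀qc, hf₀qs, hpb⟩ := descends_noeth f₁
  haveI : CompactSpace X₀ := QuasiCompact.compactSpace_of_compactSpace f₀
  haveI : QuasiSeparatedSpace X₀ := quasiSeparatedSpace_of_quasiSeparated f₀
  have hY : IsPullback ((noethCone (W : Scheme.{u})).π.app i) (𝟙 (noethCone (W : Scheme.{u})).pt)
      (𝟙 ((noethDiagram (W : Scheme.{u})).obj i)) ((noethCone (W : Scheme.{u})).π.app i) :=
    IsPullback.of_id_snd
  obtain ⟨j, φ, Xj, Yj, fj, gj, pY, pX, hY2, hX2, hfl⟩ :=
    Groth.Agent.S2075.result (noethDiagram (W : Scheme.{u})) (noethCone (W : Scheme.{u}))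
      (isLimitNoethCone (W : Scheme.{u})) i f₀ (𝟙 ((noethDiagram (W : Scheme.{u})).obj i)) f₁
      (𝟙 (noethCone (W : Scheme.{u})).pt) ((noethCone (W : Scheme.{u})).π.app i) q hY hpb
  haveI : IsIso gj := hY2.isIso_snd_of_isIso
  haveI : LocallyOfFinitePresentation fj :=
    MorphismProperty.of_isPullback (P := @LocallyOfFinitePresentation) hX2 hf₀fp
  haveI : QuasiCompact fj := MorphismProperty.of_isPullback (P := @QuasiCompact) hX2 hf₀qc
  have hXj : IsPullback pX (fj ≫ gj) f₀ ((noethDiagram (W : Scheme.{u})).map φ) :=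
    IsPullback.of_iso hX2 (Iso.refl _) (Iso.refl _) (asIso gj) (Iso.refl _) (by simp)
      (by simp) (by simp) (by simpa using hY2.w)
  have hpb2 : IsPullback q f₁ f₀ ((noethCone (W : Scheme.{u})).π.app j ≫
      (noethDiagram (W : Scheme.{u})).map φ) :=
    (congrArg (IsPullback q f₁ f₀) ((noethCone (W : Scheme.{u})).w φ)).mpr hpb
  obtain ⟨qj, hqj⟩ : ∃ qj : (V : Scheme.{u}) ⟶ Xj,
      IsPullback qj f₁ (fj ≫ gj) ((noethCone (W : Scheme.{u})).π.app j) :=
    ⟨_, IsPullback.of_right' hpb2 hXj⟩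
  let fj' : Xj ⟶ Spec (noethRing (W : Scheme.{u}) j) := fj ≫ gj
  haveI : LocallyOfFinitePresentation fj' :=
    inferInstanceAs (LocallyOfFinitePresentation (fj ≫ gj))
  haveI : LocallyOfFiniteType fj' := inferInstance
  haveI : QuasiCompact fj' := inferInstanceAs (QuasiCompact (fj ≫ gj))
  haveI : Flat fj' := inferInstanceAs (Flat (fj ≫ gj))
  have hqj' : IsPullback qj f₁ fj' ((noethCone (W : Scheme.{u})).π.app j) := hqj
  haveI : IsNoetherianRing (noethRing (W : Scheme.{u}) j) :=
    (quotReg_noethRing _ j).isNoetherianRing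
  have hopen := isOpen_of_flat_noeth hE (noethRing (W : Scheme.{u}) j) fj'
  have hset : ((Subtype.val : ↥V → X) ⁻¹' {x | E _ _ g x}) =
      (qj : ↥(V : Scheme.{u}) → Xj) ⁻¹' {x | E _ _ fj' x} := by
    ext z
    exact (ConsProp.openImm_square hE.isConsProp V.ι W.ι f₁ g hf₁ z).symm.trans (hE.bc hqj' z)
  rw [hset]
  exact hopen.preimage (Scheme.Hom.continuous _)

/-- For `f` locally of finite presentation, the set of points at which `f` is flat and `E` holds
is open. -/
theorem isOpen_flat_and {X Y : Scheme.{u}} (f : X ⟶ Y) [LocallyOfFinitePresentation f] :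
    IsOpen {x : X | (f.stalkMap x).hom.Flat ∧ E _ _ f x} := by
  let W : X.Opens := ⟨{x | (f.stalkMap x).hom.Flat},
    Groth.Agent.Lib.Helper2.isOpen_flat_stalkMap_locus f⟩
  haveI : Flat (W.ι ≫ f) := Flat.of_stalkMap _ (fun p => by
    rw [Scheme.Hom.stalkMap_comp]
    have h1 : (f.stalkMap (W.ι p)).hom.Flat := p.2
    have h2 : (W.ι.stalkMap p).hom.Flat := Flat.stalkMap W.ι p
    exact h1.comp h2)
  have h := isOpen_of_flat hE (W.ι ≫ f)
  have hset : {x : X | (f.stalkMap x).hom.Flat ∧ E _ _ f x} =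
      W.ι '' {w | E _ _ (W.ι ≫ f) w} := by
    ext x
    constructor
    · rintro ⟨h1, h2⟩
      exact ⟨⟨x, h1⟩, (hE.leftImm W.ι f ⟨x, h1⟩).mpr h2, rfl⟩
    · rintro ⟨w, hw, rfl⟩
      exact ⟨w.2, (hE.leftImm W.ι f w).mp hw⟩
  rw [hset]
  exact W.ι.isOpenEmbedding.isOpenMap _ h

end Assembly

end Groth.Agent.Lib.Helper13.GenProp
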