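/-
Helper library (helper13): geometric normality of the fibres, part A: preliminaries
(dimension along integral morphisms, smooth points are regular, normal local domains of
dimension `≤ 1` are regular).
-/
import Groth.Agent.Lib.Helper13.GkFibD
import Groth.Agent.S1535

set_option autoImplicit false
open CategoryTheory AlgebraicGeometry Limits
universe u

namespace Groth.Agent.Lib.Helper13.GNorm

open Groth.Agent.Lib.Helper13.GkFib Groth.Agent.Lib.Helper13.SkFib
open Groth.Agent.Lib.Helper13.FibLocProp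
open Groth.Agent.Lib.Helper29 IsLocalRing TensorProduct Topology TopologicalSpace

section Ring

/-- Along an integral ring homomorphism the height of a prime does not exceed the height of its
contraction. -/
theorem height_le_height_comap_of_isIntegral {A B : Type u} [CommRing A] [CommRing B]
    [Algebra A B] [Algebra.IsIntegral A B] (P : PrimeSpectrum B) :
    P.asIdeal.height ≤ (PrimeSpectrum.comap (algebraMap A B) P).asIdeal.height := by
  rw [PrimeSpectrum.height_eq_orderHeight, PrimeSpectrum.height_eq_orderHeight]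
  apply Order.height_le_height_apply_of_strictMono
  intro P Q hPQ
  have h1 : P.asIdeal < Q.asIdeal := hPQ
  exact Ideal.IsIntegral.comap_lt_comap (R := A) h1

/-- A Noetherian integrally closed local domain of dimension at most one is regular. -/
theorem isRegularLocalRing_of_isIntegrallyClosed_of_dim_le_one (R : Type u) [CommRing R]
    [IsLocalRing R] [IsNoetherianRing R] [IsDomain R] [IsIntegrallyClosed R]
    (h : ringKrullDim R ≤ 1) : IsRegularLocalRing R := by
  haveI : Ring.KrullDimLE 1 R := Ring.krullDimLE_iff.mpr h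
  haveI : Ring.DimensionLEOne R :=
    ⟨fun {p} hp hpp => Ring.krullDimLE_one_iff_of_isPrime_bot.mp inferInstance p hp hpp⟩
  haveI : IsDedekindDomain R := {}
  infer_instance

end Ring

section Scheme

/-- Along an integral morphism the dimension of the local rings does not increase. -/
theorem ringKrullDim_stalk_le_of_isIntegralHom {Q Z : Scheme.{u}} (π : Q ⟶ Z) [IsIntegralHom π]
    (y' : Q) : ringKrullDim (Q.presheaf.stalk y') ≤ ringKrullDim (Z.presheaf.stalk (π y')) := by
  obtain ⟨V, hV, hyV, -⟩ := exists_isAffineOpen_mem_and_subset (x := π y') (U := ⊤) trivial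
  have hV' : IsAffineOpen (π ⁻¹ᵁ V) := hV.preimage π
  have hy'V' : y' ∈ π ⁻¹ᵁ V := hyV
  have hcomm : Spec.map (π.appLE V (π ⁻¹ᵁ V) le_rfl) ≫ hV.fromSpec = hV'.fromSpec ≫ π :=
    IsAffineOpen.SpecMap_appLE_fromSpec π hV hV' le_rfl
  have hzr : y' ∈ Set.range hV'.fromSpec := by rw [hV'.range_fromSpec]; exact hy'V'
  obtain ⟨(P : PrimeSpectrum Γ(Q, π ⁻¹ᵁ V)), hP⟩ := hzr
  letI : Algebra Γ(Z, V) Γ(Q, π ⁻¹ᵁ V) := (π.appLE V (π ⁻¹ᵁ V) le_rfl).hom.toAlgebra
  haveI : Algebra.IsIntegral Γ(Z, V) Γ(Q, π ⁻¹ᵁ V) := by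
    have h1 : (π.app V).hom.IsIntegral := π.isIntegral_app V hV
    have h2 : π.appLE V (π ⁻¹ᵁ V) le_rfl = π.app V := (Scheme.Hom.app_eq_appLE π).symm
    rw [← h2] at h1
    exact ⟨h1⟩
  have hpt : π (hV'.fromSpec P) =
      hV.fromSpec (PrimeSpectrum.comap (π.appLE V (π ⁻¹ᵁ V) le_rfl).hom P) := by
    rw [← Scheme.Hom.comp_apply, ← hcomm]
    rfl
  obtain ⟨e⟩ := Groth.Agent.Lib.Helper24.nonempty_stalk_ringEquiv_localization hV'.fromSpec P
  obtain ⟨e'⟩ := Groth.Agent.Lib.Helper24.nonempty_stalk_ringEquiv_localization hV.fromSpec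
    (PrimeSpectrum.comap (π.appLE V (π ⁻¹ᵁ V) le_rfl).hom P)
  rw [← hP, hpt, ringKrullDim_eq_of_ringEquiv e, ringKrullDim_eq_of_ringEquiv e',
    IsLocalization.AtPrime.ringKrullDim_eq_height P.asIdeal,
    IsLocalization.AtPrime.ringKrullDim_eq_height
      (PrimeSpectrum.comap (π.appLE V (π ⁻¹ᵁ V) le_rfl).hom P).asIdeal]
  exact_mod_cast height_le_height_comap_of_isIntegral (A := Γ(Z, V)) P

/-- The local ring at a smooth point of a scheme over a field is regular. -/
theorem isRegularLocalRing_stalk_of_smPt {κ : Type u} [Field κ] {Z : Scheme.{u}}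
    (q : Z ⟶ Spec (CommRingCat.of κ)) [LocallyOfFinitePresentation q] (y : Z) (hy : SmPt q y) :
    IsRegularLocalRing (Z.presheaf.stalk y) := by
  let U : Z.Opens := q.smoothLocus
  have hyU : y ∈ U := hy
  letI : (U : Scheme.{u}).Over (Spec (CommRingCat.of κ)) := ⟨U.ι ≫ q⟩
  haveI : Smooth ((U : Scheme.{u}) ↘ Spec (CommRingCat.of κ)) := by
    change Smooth (U.ι ≫ q)
    rw [← Scheme.Hom.smoothLocus_eq_top_iff, ← Scheme.Hom.preimage_smoothLocus_eq]
    exact Scheme.Opens.ι_preimage_self U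
  have h1 := Groth.Agent.S1535.result κ (U : Scheme.{u}) ⟨y, hyU⟩
  let e : Z.presheaf.stalk (U.ι ⟨y, hyU⟩) ≃+* (U : Scheme.{u}).presheaf.stalk ⟨y, hyU⟩ :=
    (asIso (U.ι.stalkMap ⟨y, hyU⟩)).commRingCatIsoToRingEquiv
  exact IsRegularLocalRing.of_ringEquiv e.symm

end Scheme

end Groth.Agent.Lib.Helper13.GNorm
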