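/-
Helper library (helper13): geometric normality of the fibres, part B: over a field,
`(S_2)` + smooth in codimension `≤ 1` at `z` implies geometrically normal at `z`.
-/
import Groth.Agent.Lib.Helper13.GNormA
import Groth.Agent.Lib.Helper13.RkAt
import Groth.Agent.S0601

set_option autoImplicit false
open CategoryTheory AlgebraicGeometry Limits
universe u

namespace Groth.Agent.Lib.Helper13.GNorm

open Groth.Agent.Lib.Helper13.GkFib Groth.Agent.Lib.Helper13.SkFib
open Groth.Agent.Lib.Helper13.FibLocProp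
open Groth.Agent.Lib.Helper29 IsLocalRing TensorProduct Topology TopologicalSpace

section Ring

/-- A local ring is the localization of itself at its maximal ideal. -/
noncomputable def localizationMaximalIdealEquiv (R : Type u) [CommRing R] [IsLocalRing R] :
    R ≃ₐ[R] Localization.AtPrime (maximalIdeal R) :=
  IsLocalization.atUnits R (maximalIdeal R).primeCompl (fun x hx => by
    have : x ∉ maximalIdeal R := hx
    exact (IsLocalRing.notMem_maximalIdeal.mp this))

/-- Serre's criterion for a Noetherian local ring: `(R_1)` and `(S_2)` imply that it is an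
integrally closed domain. -/
theorem isNormal_of_hasRk_of_hasSk (R : Type u) [CommRing R] [IsLocalRing R] [IsNoetherianRing R]
    (hR : LocCoh.HasRk 1 R) (hS : LocCoh.HasSk 2 R R) : IsDomain R ∧ IsIntegrallyClosed R := by
  have key := (Groth.Agent.S0601.result R).mpr ⟨hR, hS⟩
  obtain ⟨h1, h2⟩ := key (maximalIdeal R)
  let e := (localizationMaximalIdealEquiv R).toRingEquiv
  exact ⟨e.toMulEquiv.isDomain (Localization.AtPrime (maximalIdeal R)),
    IsIntegrallyClosed.of_equiv e.symm⟩

/-- A Noetherian integrally closed domain satisfies `(S_2)`. -/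
theorem hasSk_two_of_isNormal (R : Type u) [CommRing R] [IsNoetherianRing R] [IsDomain R]
    [IsIntegrallyClosed R] : LocCoh.HasSk 2 R R := by
  refine ((Groth.Agent.S0601.result R).mp ?_).2
  intro p hp
  have hle : p.primeCompl ≤ nonZeroDivisors R := p.primeCompl_le_nonZeroDivisors
  exact ⟨IsLocalization.isDomain_localization hle,
    isIntegrallyClosed_of_isLocalization (Localization.AtPrime p) p.primeCompl hle⟩

end Ring

section Field

variable {κ : Type u} [Field κ] {Z : Scheme.{u}} (q : Z ⟶ Spec (CommRingCat.of κ))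
  [LocallyOfFinitePresentation q]

/-- Over a field: `(S_2)` and smoothness in codimension `≤ 1` at `z` imply that the local ring at
`z` is an integrally closed domain. -/
theorem isNormal_stalk_of_hasSk_two_of_qkAt (z : Z)
    (hS : LocCoh.HasSk 2 (Z.presheaf.stalk z) (Z.presheaf.stalk z)) (hQ : QkAt q 1 z) :
    IsDomain (Z.presheaf.stalk z) ∧ IsIntegrallyClosed (Z.presheaf.stalk z) := by
  haveI : IsLocallyNoetherian Z := LocallyOfFiniteType.isLocallyNoetherian q
  obtain ⟨V, hV, hzV, -⟩ := exists_isAffineOpen_mem_and_subset (x := z) (U := ⊤) trivial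
  haveI : IsNoetherianRing Γ(Z, V) := IsLocallyNoetherian.component_noetherian ⟨V, hV⟩
  have hzr : z ∈ Set.range hV.fromSpec := by rw [hV.range_fromSpec]; exact hzV
  obtain ⟨(p : PrimeSpectrum Γ(Z, V)), rfl⟩ := hzr
  obtain ⟨e⟩ := Groth.Agent.Lib.Helper24.nonempty_stalk_ringEquiv_localization hV.fromSpec p
  haveI : IsNoetherianRing (Localization.AtPrime p.asIdeal) :=
    IsLocalization.isNoetherianRing p.asIdeal.primeCompl _ inferInstance
  have hS' : LocCoh.HasSk 2 (Localization.AtPrime p.asIdeal) (Localization.AtPrime p.asIdeal) :=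
    hasSk_of_ringEquiv e.symm 2 hS
  have hR : LocCoh.HasRk 1 (Localization.AtPrime p.asIdeal) := by
    change EGA4.HasRkAt 1 Γ(Z, V) p.asIdeal
    rw [Groth.Agent.Lib.Helper13.hasRkAt_iff]
    intro P hP hPp hPh
    have hy : hV.fromSpec (⟨P, hP⟩ : PrimeSpectrum Γ(Z, V)) ⤳ hV.fromSpec p :=
      ((PrimeSpectrum.le_iff_specializes (⟨P, hP⟩ : PrimeSpectrum Γ(Z, V)) p).mp hPp).map
        hV.fromSpec.continuous
    obtain ⟨e'⟩ := Groth.Agent.Lib.Helper24.nonempty_stalk_ringEquiv_localization hV.fromSpec
      (⟨P, hP⟩ : PrimeSpectrum Γ(Z, V))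
    have hsm : SmPt q (hV.fromSpec (⟨P, hP⟩ : PrimeSpectrum Γ(Z, V))) := by
      by_contra hns
      have h2 := hQ _ hy hns
      rw [ringKrullDim_eq_of_ringEquiv e', IsLocalization.AtPrime.ringKrullDim_eq_height P] at h2
      have h3 : ((1 + 1 : ℕ) : ℕ∞) ≤ P.height := by
        have h : (((1 + 1 : ℕ)) : WithBot ℕ∞) = ((((1 + 1 : ℕ) : ℕ∞)) : WithBot ℕ∞) := rfl
        rw [h] at h2
        exact WithBot.coe_le_coe.mp h2
      have h4 := h3.trans hPh
      norm_num at h4
    have hreg := isRegularLocalRing_stalk_of_smPt q _ hsm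
    exact IsRegularLocalRing.of_ringEquiv e'
  obtain ⟨h1, h2⟩ := isNormal_of_hasRk_of_hasSk (Localization.AtPrime p.asIdeal) hR hS'
  exact ⟨e.toMulEquiv.isDomain (Localization.AtPrime p.asIdeal), IsIntegrallyClosed.of_equiv e.symm⟩

/-- Over a field: `(S_2)` and smoothness in codimension `≤ 1` at `z` imply geometric normality at
`z`. -/
theorem geomNormal_of_hasSk_two_of_qkAt (z : Z)
    (hS : LocCoh.HasSk 2 (Z.presheaf.stalk z) (Z.presheaf.stalk z)) (hQ : QkAt q 1 z)
    (K : Type u) [Field K] [Algebra κ K] (x' : ↥(FBase.bc q K))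
    (hx' : (FBase.bcπ q K).base x' = z) :
    IsDomain ((FBase.bc q K).presheaf.stalk x') ∧
      IsIntegrallyClosed ((FBase.bc q K).presheaf.stalk x') := by
  subst hx'
  have hpb : IsPullback (FBase.bcπ q K) (FBase.bcStr q K) q
      (Spec.map (CommRingCat.ofHom (algebraMap κ K))) := IsPullback.of_hasPullback _ _
  haveI : LocallyOfFinitePresentation (FBase.bcStr q K) :=
    MorphismProperty.pullback_snd (P := @LocallyOfFinitePresentation) _ _ inferInstance
  have h1 : LocCoh.HasSk 2 ((FBase.bc q K).presheaf.stalk x')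
      ((FBase.bc q K).presheaf.stalk x') :=
    (pStalk_pullback_field_iff (fieldInv_hasSk 2) K q x').mpr hS
  have h2 : QkAt (FBase.bcStr q K) 1 x' :=
    (qkAt_iff_of_isPullback_field q _ _ hpb 1 x').mpr hQ
  exact isNormal_stalk_of_hasSk_two_of_qkAt (FBase.bcStr q K) x' h1 h2

end Field

end Groth.Agent.Lib.Helper13.GNorm
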