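/-
Helper library (helper13): geometric normality of the fibres, part C: over a field,
geometric normality at `z` (tested on finite extensions only) implies `(S_2)` + smooth in
codimension `≤ 1` at `z`.
-/
import Groth.Agent.Lib.Helper13.GNormB
import Groth.Agent.Lib.Helper50.StalkSpecializes
import Groth.Agent.S1562
import Groth.Agent.S7606

set_option autoImplicit false
open CategoryTheory AlgebraicGeometry Limits
universe u

namespace Groth.Agent.Lib.Helper13.GNorm

open Groth.Agent.Lib.Helper13.GkFib Groth.Agent.Lib.Helper13.SkFib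
open Groth.Agent.Lib.Helper13.FibLocProp Groth.Agent.Lib.Helper13.CodepthFib
open Groth.Agent.Lib.Helper29 IsLocalRing TensorProduct Topology TopologicalSpace

variable {κ : Type u} [Field κ] {Z : Scheme.{u}} (q : Z ⟶ Spec (CommRingCat.of κ))

/-- Geometric normality at `z`, tested on finite extensions of the base field. -/
def GNFin (z : Z) : Prop :=
  ∀ (K : Type u) [Field K] [Algebra κ K], Module.Finite κ K →
    ∀ x' : ↥(FBase.bc q K), (FBase.bcπ q K).base x' = z →
      IsDomain ((FBase.bc q K).presheaf.stalk x') ∧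
        IsIntegrallyClosed ((FBase.bc q K).presheaf.stalk x')

/-- Geometric normality at `z`, tested on all extensions of the base field. -/
def GNAll (z : Z) : Prop :=
  ∀ (K : Type u) [Field K] [Algebra κ K]
    (x' : ↥(FBase.bc q K)), (FBase.bcπ q K).base x' = z →
      IsDomain ((FBase.bc q K).presheaf.stalk x') ∧
        IsIntegrallyClosed ((FBase.bc q K).presheaf.stalk x')

theorem GNAll.gnFin {z : Z} (h : GNAll q z) : GNFin q z := fun K _ _ _ x' hx' => h K x' hx'

variable [LocallyOfFinitePresentation q]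

/-- Geometric normality implies normality. -/
theorem isNormal_stalk_of_gnFin (z : Z) (h : GNFin q z) :
    IsDomain (Z.presheaf.stalk z) ∧ IsIntegrallyClosed (Z.presheaf.stalk z) := by
  haveI : IsIso (Spec.map (CommRingCat.ofHom (algebraMap κ κ))) := by
    have : CommRingCat.ofHom (algebraMap κ κ) = 𝟙 (CommRingCat.of κ) := rfl
    rw [this]
    infer_instance
  haveI : IsIso (FBase.bcπ q κ) := by
    unfold FBase.bcπ
    exact pullback_fst_iso_of_right_iso _ _
  have hsurj : ∃ x' : ↥(FBase.bc q κ), (FBase.bcπ q κ).base x' = z := by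
    refine ⟨(inv (FBase.bcπ q κ)) z, ?_⟩
    change (FBase.bcπ q κ) ((inv (FBase.bcπ q κ)) z) = z
    rw [← Scheme.Hom.comp_apply, IsIso.inv_hom_id]
    rfl
  obtain ⟨x', rfl⟩ := hsurj
  obtain ⟨h1, h2⟩ := h κ (Module.Finite.self κ) x' rfl
  let e : Z.presheaf.stalk ((FBase.bcπ q κ) x') ≃+* (FBase.bc q κ).presheaf.stalk x' :=
    (asIso ((FBase.bcπ q κ).stalkMap x')).commRingCatIsoToRingEquiv
  exact ⟨e.toMulEquiv.isDomain _, IsIntegrallyClosed.of_equiv e.symm⟩

/-- Geometric normality at `z` passes to the points of finite base changes lying over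
generizations of `z`. -/
theorem isNormal_stalk_bc_of_specializes (z : Z) (h : GNFin q z) (K : Type u) [Field K]
    [Algebra κ K] [Module.Finite κ K] (y' : ↥(FBase.bc q K))
    (hy : (FBase.bcπ q K) y' ⤳ z) :
    IsDomain ((FBase.bc q K).presheaf.stalk y') ∧
      IsIntegrallyClosed ((FBase.bc q K).presheaf.stalk y') := by
  haveI : IsFinite (Spec.map (CommRingCat.ofHom (algebraMap κ K))) := by
    rw [IsFinite.SpecMap_iff]
    exact RingHom.finite_algebraMap.mpr inferInstance
  haveI : IsFinite (FBase.bcπ q K) := by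
    unfold FBase.bcπ
    exact MorphismProperty.pullback_fst (P := @IsFinite) _ _ ‹_›
  have hcl : IsClosedMap (FBase.bcπ q K) := (FBase.bcπ q K).isClosedMap
  have hz : z ∈ (FBase.bcπ q K) '' closure {y'} := by
    have h1 : IsClosed ((FBase.bcπ q K) '' closure {y'}) := hcl _ isClosed_closure
    have h2 : (FBase.bcπ q K) y' ∈ (FBase.bcπ q K) '' closure {y'} :=
      ⟨y', subset_closure rfl, rfl⟩
    exact hy.mem_closed h1 h2
  obtain ⟨x', hx'cl, hx'⟩ := hz
  have hspec : y' ⤳ x' := specializes_iff_mem_closure.mpr hx'cl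
  obtain ⟨h1, h2⟩ := h K inferInstance x' hx'
  letI := ((FBase.bc q K).presheaf.stalkSpecializes hspec).hom.toAlgebra
  obtain ⟨M, hM⟩ := Groth.Agent.Lib.Helper50.exists_isLocalization_stalkSpecializes hspec
  have h0 : (0 : (FBase.bc q K).presheaf.stalk x') ∉ M := by
    intro h0
    have hu := IsLocalization.map_units ((FBase.bc q K).presheaf.stalk y') (⟨0, h0⟩ : M)
    rw [map_zero, isUnit_zero_iff] at hu
    exact zero_ne_one hu
  have hle : M ≤ nonZeroDivisors ((FBase.bc q K).presheaf.stalk x') :=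
    le_nonZeroDivisors_of_noZeroDivisors h0
  exact ⟨IsLocalization.isDomain_of_le_nonZeroDivisors _ hle,
    isIntegrallyClosed_of_isLocalization _ M hle⟩

/-- Geometric normality implies `(S_2)`. -/
theorem hasSk_two_stalk_of_gnFin (z : Z) (h : GNFin q z) :
    LocCoh.HasSk 2 (Z.presheaf.stalk z) (Z.presheaf.stalk z) := by
  haveI : IsLocallyNoetherian Z := LocallyOfFiniteType.isLocallyNoetherian q
  obtain ⟨h1, h2⟩ := isNormal_stalk_of_gnFin q z h
  exact hasSk_two_of_isNormal _

/-- Geometric normality implies smoothness in codimension `≤ 1`. -/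
theorem qkAt_of_gnFin (z : Z) (h : GNFin q z) : QkAt q 1 z := by
  haveI : IsLocallyNoetherian Z := LocallyOfFiniteType.isLocallyNoetherian q
  intro y hyz hns
  by_contra hdim
  apply hns
  obtain ⟨a, d, ha, -, -⟩ := exists_nat_dim_depth (Z.presheaf.stalk y)
  rw [ha] at hdim
  have ha1 : a ≤ 1 := by
    by_contra hcon
    apply hdim
    exact_mod_cast (show 1 + 1 ≤ a by omega)
  letI : Z.Over (Spec (CommRingCat.of κ)) := ⟨q⟩
  haveI : LocallyOfFinitePresentation (Z ↘ Spec (CommRingCat.of κ)) := ‹_›
  refine (Groth.Agent.S1562.result κ Z y).mp ?_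
  refine ((Groth.Agent.S7606.result κ Z y).1).mpr ?_
  intro k' _ _ _ _ y' hy'
  have hy'' : (FBase.bcπ q k') y' ⤳ z := by
    have : (FBase.bcπ q k') y' = y := hy'
    rw [this]
    exact hyz
  obtain ⟨h1, h2⟩ := isNormal_stalk_bc_of_specializes q z h k' y' hy''
  haveI : IsFinite (Spec.map (CommRingCat.ofHom (algebraMap κ k'))) := by
    rw [IsFinite.SpecMap_iff]
    exact RingHom.finite_algebraMap.mpr inferInstance
  haveI : IsFinite (FBase.bcπ q k') := by
    unfold FBase.bcπ
    exact MorphismProperty.pullback_fst (P := @IsFinite) _ _ ‹_›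
  haveI : LocallyOfFiniteType (FBase.bcStr q k') :=
    MorphismProperty.pullback_snd (P := @LocallyOfFiniteType) _ _ inferInstance
  haveI : IsLocallyNoetherian (FBase.bc q k') :=
    LocallyOfFiniteType.isLocallyNoetherian (FBase.bcStr q k')
  have hle := ringKrullDim_stalk_le_of_isIntegralHom (FBase.bcπ q k') y'
  have hy3 : (FBase.bcπ q k') y' = y := hy'
  rw [hy3, ha] at hle
  have hle1 : ringKrullDim ((FBase.bc q k').presheaf.stalk y') ≤ 1 :=
    hle.trans (by exact_mod_cast ha1)
  haveI : IsDomain ((FBase.bc q k').presheaf.stalk y') := h1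
  haveI : IsIntegrallyClosed ((FBase.bc q k').presheaf.stalk y') := h2
  exact isRegularLocalRing_of_isIntegrallyClosed_of_dim_le_one
    ((FBase.bc q k').presheaf.stalk y') hle1

/-- **Over a field: geometric normality at `z` (tested on finite extensions) is equivalent to
`(S_2)` + smooth in codimension `≤ 1`, and to geometric normality tested on all extensions.** -/
theorem gnFin_iff (z : Z) :
    GNFin q z ↔ LocCoh.HasSk 2 (Z.presheaf.stalk z) (Z.presheaf.stalk z) ∧ QkAt q 1 z :=
  ⟨fun h => ⟨hasSk_two_stalk_of_gnFin q z h, qkAt_of_gnFin q z h⟩,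
    fun h => GNAll.gnFin q (fun K _ _ x' hx' =>
      geomNormal_of_hasSk_two_of_qkAt q z h.1 h.2 K x' hx')⟩

theorem gnAll_iff (z : Z) :
    GNAll q z ↔ LocCoh.HasSk 2 (Z.presheaf.stalk z) (Z.presheaf.stalk z) ∧ QkAt q 1 z :=
  ⟨fun h => (gnFin_iff q z).mp (GNAll.gnFin q h),
    fun h K _ _ x' hx' => geomNormal_of_hasSk_two_of_qkAt q z h.1 h.2 K x' hx'⟩

end Groth.Agent.Lib.Helper13.GNorm
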