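/-
Helper library (helper13): the condition "the fibre is smooth in codimension `≤ k` at `z`", part E:
the negation spreads out from a point of the generic fibre to the specializations of that point
in a neighbourhood (the non-flat half of EGA IV 9.9.x for geometric `(R_k)`).
-/
import Groth.Agent.Lib.Helper13.GkFibD
import Groth.Agent.Lib.Helper13.EquidimCons
import Groth.Agent.H52.LqfFibreDim
import Groth.Agent.Lib.Helper55.DimFormulaIrredLocal

set_option autoImplicit false
open CategoryTheory AlgebraicGeometry Limits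
universe u

namespace Groth.Agent.Lib.Helper13.RkFib

open Groth.Agent.Lib.Helper13.GkFib Groth.Agent.Lib.Helper13.SkFib
open Groth.Agent.Lib.Helper13.EquidimCons
open Groth.Agent.Lib.Helper55 Groth.Agent.Lib.Helper13.CMChart
open IsLocalRing Topology TopologicalSpace

section Basic

variable {X T : Scheme.{u}} (h : X ⟶ T)

/-- The local fibre dimension is the dimension of the fibre local ring plus the transcendence
degree of the residue field extension. -/
theorem fibreDimAt_eq_fd_add_trdeg [LocallyOfFiniteType h] (x : X) :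
    ∃ n : ℕ, @Algebra.trdeg (T.residueField (h x)) (X.residueField x) _ _
        (h.residueFieldMap x).hom.toAlgebra = n ∧
      FlatMor.fibreDimAt h x = FD h x + (n : WithBot ℕ∞) :=
  fibreDimAt_eq_stalk_fiber_add_trdeg h x

/-- Every point has a generization in its fibre whose fibre local ring is zero-dimensional (the
generic point of an irreducible component of the fibre). -/
theorem exists_generization_fd_eq_zero (w : X) :
    ∃ ζ : X, ζ ⤳ w ∧ h ζ = h w ∧ FD h ζ = 0 := by
  let c : ↥(h.fiber (h w)) := h.asFiber w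
  have hTc : irreducibleComponent c ∈ irreducibleComponents ↥(h.fiber (h w)) :=
    irreducibleComponent_mem_irreducibleComponents c
  obtain ⟨ζ, hζ⟩ := QuasiSober.sober hTc.1 (isClosed_of_mem_irreducibleComponents _ hTc)
  have hζc : ζ ⤳ c := hζ.specializes mem_irreducibleComponent
  have hcl : closure ({ζ} : Set ↥(h.fiber (h w))) ∈ irreducibleComponents ↥(h.fiber (h w)) := by
    rw [hζ.def]
    exact hTc
  have hdim := ringKrullDim_stalk_eq_zero_of_closure_mem_irreducibleComponents ζ hcl
  have hgζ : h (h.fiberι (h w) ζ) = h w := by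
    have : h.fiberι (h w) ζ ∈ h ⁻¹' {h w} := by
      rw [← Scheme.Hom.range_fiberι]
      exact ⟨ζ, rfl⟩
    exact this
  refine ⟨h.fiberι (h w) ζ, ?_, hgζ, ?_⟩
  · have := hζc.map (h.fiberι (h w)).continuous
    rw [h.fiberι_asFiber] at this
    exact this
  · exact (fiber_stalk_transport h (fun R _ _ => ringKrullDim R = 0) (h w) _ hgζ ζ rfl).mp hdim

end Basic

section Trdeg

variable {C X T : Scheme.{u}} (ι : C ⟶ X) [IsClosedImmersion ι] (g : X ⟶ T)

/-- The residue field extension of a point of a closed subscheme over the base is that of its image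
in the ambient scheme. -/
theorem trdeg_comp_closedImmersion (ζ : C) (x : X) (hx : ι ζ = x) :
    @Algebra.trdeg (T.residueField ((ι ≫ g) ζ)) (C.residueField ζ) _ _
        ((ι ≫ g).residueFieldMap ζ).hom.toAlgebra =
      @Algebra.trdeg (T.residueField (g x)) (X.residueField x) _ _
        (g.residueFieldMap x).hom.toAlgebra := by
  subst hx
  have h1 := trdeg_residueField_comp ι g ζ
  haveI : LocallyOfFiniteType ι := inferInstance
  haveI : LocallyQuasiFinite ι := inferInstance
  obtain ⟨n, hn, h2⟩ := fibreDimAt_eq_fd_add_trdeg ι ζ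
  rw [Groth.Agent.H52.fibreDimAt_eq_zero_of_locallyQuasiFinite ι ζ] at h2
  have hn0 : n = 0 := by
    generalize FD ι ζ = a at h2
    cases a using WithBot.recBotCoe with
    | bot => simp at h2
    | coe a =>
      have h3 : ((0 : ℕ∞) : WithBot ℕ∞) = ((a + (n : ℕ∞) : ℕ∞) : WithBot ℕ∞) := by
        rw [WithBot.coe_add]
        exact h2
      have h4 : (0 : ℕ∞) = a + (n : ℕ∞) := WithBot.coe_injective h3
      have h5 : (n : ℕ∞) ≤ 0 := by
        rw [h4]
        exact le_add_self
      exact_mod_cast (nonpos_iff_eq_zero.mp h5)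
  rw [hn0, Nat.cast_zero] at hn
  rw [hn, add_zero] at h1
  exact h1.symm

end Trdeg

section NegSpread

variable {X U : Scheme.{u}} [IsIntegral U] [AlgebraicGeometry.IsNoetherian U] (g : X ⟶ U)
  [LocallyOfFinitePresentation g] [QuasiCompact g]

/-- **Spreading out the failure of smoothness in codimension `≤ k` from the generic fibre.** -/
theorem exists_open_not_gkFib (k : ℕ) (ξ : X) (hξ : g ξ = genericPoint U) (h : ¬ GkFib g k ξ) :
    ∃ N : Set X, IsOpen N ∧ ξ ∈ N ∧ ∀ z ∈ N, ξ ⤳ z → ¬ GkFib g k z := by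
  haveI : LocallyOfFiniteType g := inferInstance
  unfold GkFib at h
  push Not at h
  obtain ⟨y, hyξ, hgy, hysm, hfd⟩ := h
  obtain ⟨m, hm⟩ := exists_nat_fibreDimAt g y
  obtain ⟨e, he, hme⟩ := fibreDimAt_eq_fd_add_trdeg g y
  let I' : X.IdealSheafData :=
    Scheme.IdealSheafData.vanishingIdeal ⟨closure {y}, isClosed_closure⟩
  let ι' : I'.subscheme ⟶ X := I'.subschemeι
  have hr : Set.range ι' = closure {y} := by
    rw [Scheme.IdealSheafData.range_subschemeι,
      Scheme.IdealSheafData.coe_support_vanishingIdeal]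
    rfl
  haveI : IrreducibleSpace ↥I'.subscheme :=
    irreducibleSpace_of_isEmbedding ι' ι'.isEmbedding (hr ▸ isIrreducible_singleton.closure)
  have hw₀ : ι' (genericPoint ↥I'.subscheme) = y := by
    have h1 : IsGenericPoint (ι' (genericPoint ↥I'.subscheme)) (closure (⇑ι' '' Set.univ)) :=
      (genericPoint_spec ↥I'.subscheme).image ι'.continuous
    rw [Set.image_univ, hr, closure_closure] at h1
    exact h1.eq (isGenericPoint_closure)
  have hgw₀ : (ι' ≫ g) (genericPoint ↥I'.subscheme) = genericPoint U := by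
    rw [Scheme.Hom.comp_apply, hw₀, hgy, hξ]
  haveI : IsDominant (ι' ≫ g) := by
    refine ⟨fun t => ?_⟩
    have h1 : closure ({genericPoint U} : Set U) ⊆ closure (Set.range (ι' ≫ g)) :=
      closure_mono (Set.singleton_subset_iff.mpr ⟨_, hgw₀⟩)
    apply h1
    rw [(genericPoint_spec U).def]
    trivial
  let B : Set ↥I'.subscheme := (ι' ⁻¹' {x : X | FlatMor.fibreDimAt g x ≤ m})ᶜ
  have hB : IsClosed B :=
    ((Groth.Agent.Lib.Helper13.Chevalley.isOpen_fibreDimAt_le g m).preimage
      ι'.continuous).isClosed_compl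
  have hBne : genericPoint ↥I'.subscheme ∉ B := by
    intro hmem
    apply hmem
    show FlatMor.fibreDimAt g (ι' (genericPoint ↥I'.subscheme)) ≤ m
    rw [hw₀, hm]
  obtain ⟨V, hηV, hV⟩ := exists_open_forall_exists_generization (ι' ≫ g) B hB hBne
  refine ⟨g ⁻¹' (V : Set U), V.2.preimage g.continuous, ?_, ?_⟩
  · show g ξ ∈ V
    rw [hξ]
    exact hηV
  · intro z hz hξz hG
    have hzmem : z ∈ Set.range ι' := by
      rw [hr]
      exact (hyξ.trans hξz).mem_closure
    obtain ⟨w, rfl⟩ := hzmem
    obtain ⟨ζ₀, hζ₀w, hgζ₀, hζ₀B⟩ := hV w hz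
    obtain ⟨ζ, hζζ₀, hgζ, hfdζ⟩ := exists_generization_fd_eq_zero (ι' ≫ g) ζ₀
    have hζB : ζ ∉ B := fun hmem => hζ₀B (hζζ₀.mem_closed hB hmem)
    have hxz : ι' ζ ⤳ ι' w := (hζζ₀.trans hζ₀w).map ι'.continuous
    have hgx : g (ι' ζ) = g (ι' w) := by
      have h1 : (ι' ≫ g) ζ = (ι' ≫ g) w := hgζ.trans hgζ₀
      exact h1
    have hxsm : ι' ζ ∉ g.smoothLocus := by
      intro hmem
      have hyx : y ⤳ ι' ζ := by
        rw [specializes_iff_mem_closure, ← hr]
        exact ⟨ζ, rfl⟩
      exact hysm (hyx.mem_open g.smoothLocus.isOpen hmem)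
    have hk := hG (ι' ζ) hxz hgx hxsm
    -- dimension count
    have h1 : FlatMor.fibreDimAt g (ι' ζ) ≤ m := not_not.mp hζB
    obtain ⟨e₁, he₁, hx1⟩ := fibreDimAt_eq_fd_add_trdeg g (ι' ζ)
    obtain ⟨e₂, he₂, hx2⟩ := fibreDimAt_eq_fd_add_trdeg (ι' ≫ g) ζ
    obtain ⟨e₃, he₃, hx3⟩ := fibreDimAt_eq_fd_add_trdeg (ι' ≫ g) (genericPoint ↥I'.subscheme)
    have h21 : e₂ = e₁ := by
      have := trdeg_comp_closedImmersion ι' g ζ (ι' ζ) rfl
      rw [he₂, he₁] at this
      exact_mod_cast this
    have h3e : e₃ = e := by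
      have := trdeg_comp_closedImmersion ι' g (genericPoint ↥I'.subscheme) y hw₀
      rw [he₃, he] at this
      exact_mod_cast this
    have hsemi := fibreDimAt_le_of_specializes (ι' ≫ g)
      ((genericPoint_spec ↥I'.subscheme).specializes (Set.mem_univ ζ))
    have hnn : (0 : WithBot ℕ∞) ≤ FD (ι' ≫ g) (genericPoint ↥I'.subscheme) := by
      unfold FD
      exact ringKrullDim_nonneg_of_nontrivial
    have hee : e ≤ e₁ := by
      rw [hx3, hx2, hfdζ, zero_add, h3e, h21] at hsemi
      have h5 : ((e : ℕ) : WithBot ℕ∞) ≤ FD (ι' ≫ g) (genericPoint ↥I'.subscheme) + (e : WithBot ℕ∞) :=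
        le_add_of_nonneg_left hnn
      exact_mod_cast h5.trans hsemi
    rw [hx1] at h1
    rw [hme] at hm
    refine absurd (hk.trans ?_) (not_le.mpr hfd)
    -- `FD g (ι' ζ) + e₁ ≤ m = FD g y + e` and `e ≤ e₁`
    generalize FD g (ι' ζ) = a at h1 ⊢
    generalize FD g y = b at hm ⊢
    cases a using WithBot.recBotCoe with
    | bot => exact bot_le
    | coe a =>
      cases b using WithBot.recBotCoe with
      | bot => simp at hm
      | coe b =>
        rw [← hm] at h1
        have h6 : a + (e₁ : ℕ∞) ≤ b + (e : ℕ∞) := by exact_mod_cast h1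
        have hee' : (e : ℕ∞) ≤ (e₁ : ℕ∞) := by exact_mod_cast hee
        have h7 : a + (e : ℕ∞) ≤ b + (e : ℕ∞) := (add_le_add (le_refl a) hee').trans h6
        have h8 : a ≤ b := (ENat.add_le_add_iff_right (ENat.coe_ne_top e)).mp h7
        exact_mod_cast h8

end NegSpread

end Groth.Agent.Lib.Helper13.RkFib
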