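/-
Helper library (helper13): the geometric condition `(R_k)` on the fibres of a morphism: over a
field it is equivalent to smoothness in codimension `≤ k`; for a morphism locally of finite
presentation the locus is locally constructible (EGA IV 9.9.2 (vii)/9.9.3 for geometric `(R_k)`).
-/
import Groth.Agent.Lib.Helper13.RkFibA
import Groth.Agent.Lib.Helper13.ConsProp
import Groth.Agent.Lib.Helper13.GNormC
import Groth.Agent.Lib.Helper29.FlatAscent4

set_option autoImplicit false
open CategoryTheory AlgebraicGeometry Limits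
universe u

namespace Groth.Agent.Lib.Helper13.RkFib

open Groth.Agent.Lib.Helper13.GkFib Groth.Agent.Lib.Helper13.SkFib
open Groth.Agent.Lib.Helper13.FibLocProp Groth.Agent.Lib.Helper13.CodepthFib
open Groth.Agent.Lib.Helper13.ConsProp Groth.Agent.Lib.Helper13.GNorm
open Groth.Agent.Lib.Helper29 IsLocalRing TensorProduct Topology TopologicalSpace

/-- Smoothness of the fibres in codimension `≤ k` is a constructible property in the sense of
`ConsProp`. -/
theorem isConsProp_qkFib (k : ℕ) :
    IsConsProp (fun (X Y : Scheme.{u}) (f : X ⟶ Y) (x : X) => QkFib f k x) where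
  bc := by
    intro X Y X' Y' f f' g' g _ hc x'
    exact qkFib_iff_of_isPullback hc k x'
  leftImm := by
    intro A B C j _ h _ z
    exact qkFib_comp_openImmersion_left_iff j h k z
  spread := by
    intro X U _ _ g _ _ _ ξ hξ hE
    obtain ⟨N, hNo, hξN, hN⟩ := exists_open_gkFib g k ξ hξ ((qkFib_iff_gkFib g k ξ).mp hE)
    exact ⟨N, hNo, hξN, fun z hz _ => (qkFib_iff_gkFib g k z).mpr (hN z hz)⟩
  negSpread := by
    intro X U _ _ g _ _ _ ξ hξ hE
    obtain ⟨N, hNo, hξN, hN⟩ := exists_open_not_gkFib g k ξ hξ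
      (fun h => hE ((qkFib_iff_gkFib g k ξ).mpr h))
    exact ⟨N, hNo, hξN, fun z hz hξz h => hN z hz hξz ((qkFib_iff_gkFib g k z).mp h)⟩

section Scheme

/-- In a locally Noetherian scheme: if the local ring at `x'` satisfies `(R_k)`, then the local
ring at every generization of `x'` of dimension `≤ k` is regular. -/
theorem isRegularLocalRing_stalk_of_hasRk_of_specializes {Q : Scheme.{u}} [IsLocallyNoetherian Q]
    {y' x' : Q} (hs : y' ⤳ x') (k : ℕ) (hRk : LocCoh.HasRk k (Q.presheaf.stalk x'))
    (hdim : ringKrullDim (Q.presheaf.stalk y') ≤ k) :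
    IsRegularLocalRing (Q.presheaf.stalk y') := by
  obtain ⟨V, hV, hxV, -⟩ := exists_isAffineOpen_mem_and_subset (x := x') (U := ⊤) trivial
  haveI : IsNoetherianRing Γ(Q, V) := IsLocallyNoetherian.component_noetherian ⟨V, hV⟩
  have hyV : y' ∈ V := hs.mem_open V.isOpen hxV
  have hxr : x' ∈ Set.range hV.fromSpec := by rw [hV.range_fromSpec]; exact hxV
  have hyr : y' ∈ Set.range hV.fromSpec := by rw [hV.range_fromSpec]; exact hyV
  obtain ⟨(p : PrimeSpectrum Γ(Q, V)), rfl⟩ := hxr
  obtain ⟨(P : PrimeSpectrum Γ(Q, V)), rfl⟩ := hyr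
  have hPp : P ≤ p := by
    rw [PrimeSpectrum.le_iff_specializes]
    exact hV.fromSpec.isOpenEmbedding.isInducing.specializes_iff.mp hs
  obtain ⟨e⟩ := Groth.Agent.Lib.Helper24.nonempty_stalk_ringEquiv_localization hV.fromSpec p
  obtain ⟨e'⟩ := Groth.Agent.Lib.Helper24.nonempty_stalk_ringEquiv_localization hV.fromSpec P
  haveI : IsNoetherianRing (Q.presheaf.stalk (hV.fromSpec p)) := inferInstance
  have h1 : LocCoh.HasRk k (Localization.AtPrime p.asIdeal) := hasRk_of_ringEquiv e.symm k hRk
  have h2 : EGA4.HasRkAt k Γ(Q, V) p.asIdeal := h1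
  rw [Groth.Agent.Lib.Helper13.hasRkAt_iff] at h2
  have hht : P.asIdeal.height ≤ k := by
    rw [ringKrullDim_eq_of_ringEquiv e', IsLocalization.AtPrime.ringKrullDim_eq_height P.asIdeal]
      at hdim
    exact_mod_cast hdim
  haveI h3 := h2 P.asIdeal hPp hht
  exact IsRegularLocalRing.of_ringEquiv e'.symm

end Scheme

section Field

variable {κ : Type u} [Field κ] {Z : Scheme.{u}} (q : Z ⟶ Spec (CommRingCat.of κ))

/-- The geometric condition `(R_k)` at `z`, tested on finite extensions of the base field. -/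
def GRkFin (k : ℕ) (z : Z) : Prop :=
  ∀ (K : Type u) [Field K] [Algebra κ K], Module.Finite κ K →
    ∀ x' : ↥(FBase.bc q K), (FBase.bcπ q K).base x' = z →
      LocCoh.HasRk k ((FBase.bc q K).presheaf.stalk x')

/-- The geometric condition `(R_k)` at `z`, tested on all extensions of the base field. -/
def GRkAll (k : ℕ) (z : Z) : Prop :=
  ∀ (K : Type u) [Field K] [Algebra κ K]
    (x' : ↥(FBase.bc q K)), (FBase.bcπ q K).base x' = z →
      LocCoh.HasRk k ((FBase.bc q K).presheaf.stalk x')

theorem GRkAll.grkFin {k : ℕ} {z : Z} (h : GRkAll q k z) : GRkFin q k z :=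
  fun K _ _ _ x' hx' => h K x' hx'

variable [LocallyOfFinitePresentation q]

/-- Over a field: smoothness in codimension `≤ k` at `z` implies `(R_k)` at `z`. -/
theorem hasRk_stalk_of_qkAt (k : ℕ) (z : Z) (hQ : QkAt q k z) :
    LocCoh.HasRk k (Z.presheaf.stalk z) := by
  haveI : IsLocallyNoetherian Z := LocallyOfFiniteType.isLocallyNoetherian q
  obtain ⟨V, hV, hzV, -⟩ := exists_isAffineOpen_mem_and_subset (x := z) (U := ⊤) trivial
  haveI : IsNoetherianRing Γ(Z, V) := IsLocallyNoetherian.component_noetherian ⟨V, hV⟩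
  have hzr : z ∈ Set.range hV.fromSpec := by rw [hV.range_fromSpec]; exact hzV
  obtain ⟨(p : PrimeSpectrum Γ(Z, V)), rfl⟩ := hzr
  obtain ⟨e⟩ := Groth.Agent.Lib.Helper24.nonempty_stalk_ringEquiv_localization hV.fromSpec p
  haveI : IsNoetherianRing (Localization.AtPrime p.asIdeal) :=
    IsLocalization.isNoetherianRing p.asIdeal.primeCompl _ inferInstance
  have hR : LocCoh.HasRk k (Localization.AtPrime p.asIdeal) := by
    change EGA4.HasRkAt k Γ(Z, V) p.asIdeal
    rw [Groth.Agent.Lib.Helper13.hasRkAt_iff]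
    intro P hP hPp hPh
    have hy : hV.fromSpec (⟨P, hP⟩ : PrimeSpectrum Γ(Z, V)) ⤳ hV.fromSpec p :=
      ((PrimeSpectrum.le_iff_specializes (⟨P, hP⟩ : PrimeSpectrum Γ(Z, V)) p).mp hPp).map
        hV.fromSpec.continuous
    obtain ⟨e'⟩ := Groth.Agent.Lib.Helper24.nonempty_stalk_ringEquiv_localization hV.fromSpec
      (⟨P, hP⟩ : PrimeSpectrum Γ(Z, V))
    have hsm : SmPt q (hV.fromSpec (⟨P, hP⟩ : PrimeSpectrum Γ(Z, V))) := by
      by_contra hns
      have h2 := hQ _ hy hns
      rw [ringKrullDim_eq_of_ringEquiv e', IsLocalization.AtPrime.ringKrullDim_eq_height P] at h2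
      have h3 : ((k + 1 : ℕ) : ℕ∞) ≤ P.height := by
        have h : (((k + 1 : ℕ)) : WithBot ℕ∞) = ((((k + 1 : ℕ) : ℕ∞)) : WithBot ℕ∞) := rfl
        rw [h] at h2
        exact WithBot.coe_le_coe.mp h2
      have h4 := h3.trans hPh
      have h5 : k + 1 ≤ k := by exact_mod_cast h4
      omega
    have hreg := isRegularLocalRing_stalk_of_smPt q _ hsm
    exact IsRegularLocalRing.of_ringEquiv e'
  exact hasRk_of_ringEquiv e k hR

/-- Over a field: smoothness in codimension `≤ k` at `z` implies the geometric condition `(R_k)`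
at `z`. -/
theorem grkAll_of_qkAt (k : ℕ) (z : Z) (hQ : QkAt q k z) : GRkAll q k z := by
  intro K _ _ x' hx'
  subst hx'
  have hpb : IsPullback (FBase.bcπ q K) (FBase.bcStr q K) q
      (Spec.map (CommRingCat.ofHom (algebraMap κ K))) := IsPullback.of_hasPullback _ _
  haveI : LocallyOfFinitePresentation (FBase.bcStr q K) :=
    MorphismProperty.pullback_snd (P := @LocallyOfFinitePresentation) _ _ inferInstance
  have h2 : QkAt (FBase.bcStr q K) k x' :=
    (qkAt_iff_of_isPullback_field q _ _ hpb k x').mpr hQ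
  exact hasRk_stalk_of_qkAt (FBase.bcStr q K) k x' h2

/-- Over a field: the geometric condition `(R_k)` at `z` (tested on finite extensions) implies
smoothness in codimension `≤ k` at `z`. -/
theorem qkAt_of_grkFin (k : ℕ) (z : Z) (h : GRkFin q k z) : QkAt q k z := by
  haveI : IsLocallyNoetherian Z := LocallyOfFiniteType.isLocallyNoetherian q
  intro y hyz hns
  by_contra hdim
  apply hns
  obtain ⟨a, d, ha, -, -⟩ := exists_nat_dim_depth (Z.presheaf.stalk y)
  rw [ha] at hdim
  have ha1 : a ≤ k := by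
    by_contra hcon
    apply hdim
    exact_mod_cast (show k + 1 ≤ a by omega)
  letI : Z.Over (Spec (CommRingCat.of κ)) := ⟨q⟩
  haveI : LocallyOfFinitePresentation (Z ↘ Spec (CommRingCat.of κ)) := ‹_›
  refine (Groth.Agent.S1562.result κ Z y).mp ?_
  refine ((Groth.Agent.S7606.result κ Z y).1).mpr ?_
  intro k' _ _ _ _ y' hy'
  have hy3 : (FBase.bcπ q k') y' = y := hy'
  haveI : IsFinite (Spec.map (CommRingCat.ofHom (algebraMap κ k'))) := by
    rw [IsFinite.SpecMap_iff]
    exact RingHom.finite_algebraMap.mpr inferInstance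
  haveI : IsFinite (FBase.bcπ q k') := by
    unfold FBase.bcπ
    exact MorphismProperty.pullback_fst (P := @IsFinite) _ _ ‹_›
  haveI : LocallyOfFiniteType (FBase.bcStr q k') :=
    MorphismProperty.pullback_snd (P := @LocallyOfFiniteType) _ _ inferInstance
  haveI : IsLocallyNoetherian (FBase.bc q k') :=
    LocallyOfFiniteType.isLocallyNoetherian (FBase.bcStr q k')
  have hcl : IsClosedMap (FBase.bcπ q k') := (FBase.bcπ q k').isClosedMap
  have hz : z ∈ (FBase.bcπ q k') '' closure {y'} := by
    have h1 : IsClosed ((FBase.bcπ q k') '' closure {y'}) := hcl _ isClosed_closure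
    have h2 : (FBase.bcπ q k') y' ∈ (FBase.bcπ q k') '' closure {y'} :=
      ⟨y', subset_closure rfl, rfl⟩
    rw [hy3] at h2
    exact hyz.mem_closed h1 h2
  obtain ⟨x', hx'cl, hx'⟩ := hz
  have hspec : y' ⤳ x' := specializes_iff_mem_closure.mpr hx'cl
  have hRk := h k' inferInstance x' hx'
  have hle := ringKrullDim_stalk_le_of_isIntegralHom (FBase.bcπ q k') y'
  rw [hy3, ha] at hle
  have hle1 : ringKrullDim ((FBase.bc q k').presheaf.stalk y') ≤ k :=
    hle.trans (by exact_mod_cast ha1)
  exact isRegularLocalRing_stalk_of_hasRk_of_specializes hspec k hRk hle1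

/-- **Over a field: the geometric condition `(R_k)` at `z` is equivalent to smoothness in
codimension `≤ k` at `z`.** -/
theorem grkAll_iff (k : ℕ) (z : Z) : GRkAll q k z ↔ QkAt q k z :=
  ⟨fun h => qkAt_of_grkFin q k z (GRkAll.grkFin q h), grkAll_of_qkAt q k z⟩

theorem grkFin_iff (k : ℕ) (z : Z) : GRkFin q k z ↔ QkAt q k z :=
  ⟨qkAt_of_grkFin q k z, fun h => GRkAll.grkFin q (grkAll_of_qkAt q k z h)⟩

end Field

section Family

variable {X Y : Scheme.{u}} (f : X ⟶ Y) [LocallyOfFinitePresentation f]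

theorem qkFib_iff_grkAll (k : ℕ) (x : X) :
    QkFib f k x ↔ GRkAll (f.fiberToSpecResidueField (f x)) k (f.asFiber x) := by
  let q' : (f.fiber (f x)) ⟶ Spec (CommRingCat.of ↑(Y.residueField (f x))) :=
    f.fiberToSpecResidueField (f x)
  haveI : LocallyOfFinitePresentation q' :=
    MorphismProperty.pullback_snd (P := @LocallyOfFinitePresentation) _ _ ‹_›
  exact (grkAll_iff q' k (f.asFiber x)).symm

theorem qkFib_iff_grkFin (k : ℕ) (x : X) :
    QkFib f k x ↔ GRkFin (f.fiberToSpecResidueField (f x)) k (f.asFiber x) := by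
  let q' : (f.fiber (f x)) ⟶ Spec (CommRingCat.of ↑(Y.residueField (f x))) :=
    f.fiberToSpecResidueField (f x)
  haveI : LocallyOfFinitePresentation q' :=
    MorphismProperty.pullback_snd (P := @LocallyOfFinitePresentation) _ _ ‹_›
  exact (grkFin_iff q' k (f.asFiber x)).symm

/-- **EGA IV 9.9.2/9.9.3 (geometric `(R_k)`)**: the set of points at which the fibre satisfies the
geometric condition `(R_k)` is locally constructible. -/
theorem isLocallyConstructible_grkAll (k : ℕ) :
    IsLocallyConstructible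
      {x : X | GRkAll (f.fiberToSpecResidueField (f x)) k (f.asFiber x)} := by
  have h := ConsProp.isLocallyConstructible (isConsProp_qkFib.{u} k) f
  have hset : {x : X | GRkAll (f.fiberToSpecResidueField (f x)) k (f.asFiber x)} =
      {x : X | QkFib f k x} := by
    ext x
    exact (qkFib_iff_grkAll f k x).symm
  rw [hset]
  exact h

end Family

end Groth.Agent.Lib.Helper13.RkFib
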