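/-
Helper library (helper13): the locus where the fibre of a flat morphism satisfies the geometric
condition `(R_k)`, is equidimensional and has no embedded components is open (EGA IV 12.1.6 and
12.2.4 for this combination).
-/
import Groth.Agent.Lib.Helper13.EqFibC
import Groth.Agent.Lib.Helper13.GenProp
import Groth.Agent.Lib.Helper13.RkFibB

set_option autoImplicit false
open CategoryTheory AlgebraicGeometry Limits
universe u

namespace Groth.Agent.Lib.Helper13.EqFib

open Groth.Agent.Lib.Helper13.EquidimCons Groth.Agent.Lib.Helper13.GkFib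
open Groth.Agent.Lib.Helper13.SkFib Groth.Agent.Lib.Helper13.FibLocProp
open Groth.Agent.Lib.Helper13.GenProp Groth.Agent.Lib.Helper13.RkFib
open Groth.Agent.Lib.Helper55 Groth.Agent.Lib.Helper13.CMChart
open Groth.Agent.Lib.Helper29 IsLocalRing Topology TopologicalSpace

/-- The fibre of `f` through `x` is smooth in codimension `≤ k` at `x`, equidimensional at `x` and
without embedded components at `x`. -/
def QEqFib (k : ℕ) (X Y : Scheme.{u}) (f : X ⟶ Y) (x : X) : Prop :=
  QkFib f k x ∧ EqG f x ∧ SkFib f 1 x

/-- `QEqFib k` is a family property in the sense of `GenProp`. -/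
theorem isGenProp_qEqFib (k : ℕ) : IsGenProp (QEqFib.{u} k) where
  bc := by
    intro X Y X' Y' f f' g' g _ hc x'
    exact and_congr (qkFib_iff_of_isPullback hc k x')
      (and_congr (eqG_iff_of_isPullback hc x') (pFib_iff_of_isPullback (fieldInv_hasSk 1) hc x'))
  leftImm := by
    intro A B C j _ h _ z
    exact and_congr (qkFib_comp_openImmersion_left_iff j h k z)
      (and_congr (eqG_iff_of_openImmersion_square j (𝟙 C) (j ≫ h) h (Category.comp_id _) z)
        (pFib_comp_openImmersion_left_iff (fieldInv_hasSk 1).toIsoInv j h z))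
  spread := by
    intro X U _ _ g _ _ _ ξ hξ hE
    haveI : LocallyOfFiniteType g := inferInstance
    obtain ⟨N₁, hN₁o, hξN₁, hN₁⟩ := exists_open_gkFib g k ξ hξ ((qkFib_iff_gkFib g k ξ).mp hE.1)
    obtain ⟨N₂, hN₂o, hξN₂, hN₂⟩ := exists_open_eqG_iff g ξ hξ
    obtain ⟨N₃, hN₃o, hξN₃, hN₃⟩ := exists_open_skFib g 1 ξ hξ hE.2.2
    exact ⟨N₁ ∩ N₂ ∩ N₃, (hN₁o.inter hN₂o).inter hN₃o, ⟨⟨hξN₁, hξN₂⟩, hξN₃⟩,
      fun z hz hξz => ⟨(qkFib_iff_gkFib g k z).mpr (hN₁ z hz.1.1),
        (hN₂ z hz.1.2 hξz).mpr hE.2.1, hN₃ z hz.2⟩⟩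
  genDVR := by
    intro R _ _ _ P g _ _ x₀ x' hs hc hη hE
    haveI : LocallyOfFiniteType g := inferInstance
    obtain ⟨h1, h2⟩ := eqG_gkFib_generization_dvr R g k x₀ x' hs hc hη hE.2.2 hE.2.1
      ((qkFib_iff_gkFib g k x₀).mp hE.1)
    exact ⟨(qkFib_iff_gkFib g k x').mpr h2, h1, stableUnderGeneralization_skFib g 1 hs hE.2.2⟩

section Family

variable {X Y : Scheme.{u}} (f : X ⟶ Y)

/-- The condition of EGA IV 12.1.6 on a point `w` of the fibre of `f` over `s`: geometric `(R_k)`
(tested on finite extensions), equidimensional local ring, no embedded associated primes. -/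
def FibProp (k : ℕ) (s : Y) (w : ↥(f.fiber s)) : Prop :=
  GRkFin (f.fiberToSpecResidueField s) k w ∧
    EGA4.IsEquidim ((f.fiber s).presheaf.stalk w) ∧
    ∀ p ∈ associatedPrimes ((f.fiber s).presheaf.stalk w) ((f.fiber s).presheaf.stalk w),
      p ∈ minimalPrimes ((f.fiber s).presheaf.stalk w)

/-- Transport along an equality of base points. -/
theorem fibProp_congr (k : ℕ) (s : Y) (x : X) (hx : f x = s) (w : ↥(f.fiber s))
    (hw : f.fiberι s w = x) : FibProp f k s w ↔ FibProp f k (f x) (f.asFiber x) := by
  subst hx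
  have : w = f.asFiber x := by
    apply (f.fiberι (f x)).isEmbedding.injective
    rw [hw, f.fiberι_asFiber]
  rw [this]

variable [LocallyOfFinitePresentation f]

theorem fibProp_iff_qEqFib (k : ℕ) (x : X) :
    FibProp f k (f x) (f.asFiber x) ↔ QEqFib k X Y f x := by
  haveI : LocallyOfFiniteType f := inferInstance
  haveI := isLocallyNoetherian_fiber f (f x)
  haveI : IsNoetherianRing ((f.fiber (f x)).presheaf.stalk (f.asFiber x)) := inferInstance
  unfold FibProp QEqFib
  refine and_congr (qkFib_iff_grkFin f k x).symm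
    (and_congr (isEquidim_fibre_stalk_iff_eqG f x) ?_)
  exact (hasSk_one_iff_noEmb ((f.fiber (f x)).presheaf.stalk (f.asFiber x))).symm

/-- **EGA IV 12.1.6 (geometric `(R_k)`, equidimensional, no embedded components)**: for `f` flat
and locally of finite presentation the locus is open. -/
theorem isOpen_setOf_fibProp [Flat f] (k : ℕ) :
    IsOpen {x : X | FibProp f k (f x) (f.asFiber x)} := by
  have h := GenProp.isOpen_of_flat (isGenProp_qEqFib.{u} k) f
  have hset : {x : X | FibProp f k (f x) (f.asFiber x)} = {x : X | QEqFib k X Y f x} := by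
    ext x
    exact fibProp_iff_qEqFib f k x
  rw [hset]
  exact h

/-- **EGA IV 12.2.4 (geometric `(R_k)`, equidimensional, no embedded components)**: for `f`
proper, flat and of finite presentation, the set of points of the base all of whose fibre points
have the property is open. -/
theorem isOpen_setOf_forall_fibre_fibProp [IsProper f] [Flat f] (k : ℕ) :
    IsOpen {y : Y | ∀ x : ↥(f.fiber y), FibProp f k y x} := by
  have hopen := isOpen_setOf_fibProp f k
  have hset : {y : Y | ∀ x : ↥(f.fiber y), FibProp f k y x} =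
      (f '' {x : X | FibProp f k (f x) (f.asFiber x)}ᶜ)ᶜ := by
    ext y
    simp only [Set.mem_setOf_eq, Set.mem_compl_iff, Set.mem_image, not_exists, not_and]
    constructor
    · intro h x hx
      by_contra hxy
      have hxr : x ∈ Set.range (f.fiberι y) := by
        rw [Scheme.Hom.range_fiberι]
        exact hxy
      obtain ⟨z, hz⟩ := hxr
      exact hx ((fibProp_congr f k y x hxy z hz).mp (h z))
    · intro h z
      have hfz : f (f.fiberι y z) = y := by
        have : f.fiberι y z ∈ f ⁻¹' {y} := by
          rw [← Scheme.Hom.range_fiberι]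
          exact ⟨z, rfl⟩
        exact this
      refine (fibProp_congr f k y (f.fiberι y z) hfz z rfl).mpr ?_
      by_contra hcon
      exact h (f.fiberι y z) hcon hfz
  rw [hset, isOpen_compl_iff]
  exact f.isClosedMap _ hopen.isClosed_compl

end Family

end Groth.Agent.Lib.Helper13.EqFib
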