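import Groth.Agent.Lib.Helper13.Chevalley
import Groth.Agent.Lib.Helper55.GroupLocalDim

/-!
# Uniform bound for the fibre dimensions of a morphism of finite type (EGA IV 13.1.7, helper13)
-/

set_option autoImplicit false

namespace Groth.Agent.Lib.Helper13.Chevalley

open AlgebraicGeometry CategoryTheory CategoryTheory.Limits TensorProduct

universe u

/-- The fibre rings of a finite type algebra have bounded dimension. -/
theorem exists_forall_ringKrullDim_fiber_le (A B : Type u) [CommRing A] [CommRing B] [Algebra A B]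
    [Algebra.FiniteType A B] :
    ∃ N : ℕ, ∀ (p : Ideal A) [p.IsPrime], ringKrullDim (p.Fiber B) ≤ N := by
  obtain ⟨N, g, hg⟩ := Algebra.FiniteType.iff_quotient_mvPolynomial''.mp
    (inferInstance : Algebra.FiniteType A B)
  refine ⟨N, fun p _ => ?_⟩
  let T := Algebra.TensorProduct.map (AlgHom.id p.ResidueField p.ResidueField) g
  have hT : Function.Surjective T := by
    have : (T : p.ResidueField ⊗[A] MvPolynomial (Fin N) A → p.ResidueField ⊗[A] B) =
        LinearMap.lTensor p.ResidueField g.toLinearMap := by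
      ext x
      induction x using TensorProduct.induction_on with
      | zero => simp
      | tmul c q => rfl
      | add x y hx hy => rw [map_add, map_add, hx, hy]
    rw [this]
    exact LinearMap.lTensor_surjective _ hg
  refine (ringKrullDim_le_of_surjective T.toRingHom hT).trans ?_
  rw [ringKrullDim_eq_of_ringEquiv
    (MvPolynomial.algebraTensorAlgEquiv (σ := Fin N) A p.ResidueField).toRingEquiv]
  rw [MvPolynomial.ringKrullDim_of_isNoetherianRing, ringKrullDim_eq_zero_of_field, zero_add]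
  simp

section Global

variable {X Y : Scheme.{u}} (f : X ⟶ Y) [LocallyOfFiniteType f]

/-- On an affine chart the local fibre dimensions are bounded. -/
theorem exists_forall_fibreDimAt_le_of_isAffineOpen {U : X.Opens} {V : Y.Opens}
    (hU : IsAffineOpen U) (hV : IsAffineOpen V) (e : U ≤ f ⁻¹ᵁ V) :
    ∃ N : ℕ, ∀ x ∈ U, FlatMor.fibreDimAt f x ≤ N := by
  set φ := f.appLE V U e with hφ
  letI : Algebra Γ(Y, V) Γ(X, U) := φ.hom.toAlgebra
  haveI : Algebra.FiniteType Γ(Y, V) Γ(X, U) := f.finiteType_appLE hV hU e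
  have hcomm : Spec.map φ ≫ hV.fromSpec = hU.fromSpec ≫ f :=
    IsAffineOpen.SpecMap_appLE_fromSpec f hV hU e
  obtain ⟨N, hN⟩ := exists_forall_ringKrullDim_fiber_le Γ(Y, V) Γ(X, U)
  refine ⟨N, fun x hx => ?_⟩
  have hx' : hU.fromSpec (hU.primeIdealOf ⟨x, hx⟩) = x := hU.fromSpec_primeIdealOf ⟨x, hx⟩
  have h0 := Groth.Agent.S7408.result f (Spec.map φ) hU.fromSpec hV.fromSpec hcomm
    (hU.primeIdealOf ⟨x, hx⟩)
  rw [hx'] at h0
  rw [h0]
  unfold FlatMor.fibreDimAt
  refine (Groth.Agent.Lib.Helper29.localDim_le_topologicalKrullDim _).trans ?_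
  have h1 := topologicalKrullDim_fiber_SpecMap Γ(Y, V) Γ(X, U)
    (Spec.map φ (hU.primeIdealOf ⟨x, hx⟩))
  exact h1.le.trans (hN _)

/-- **The local fibre dimensions of a morphism of finite type with quasi-compact source are
bounded.** -/
theorem exists_forall_fibreDimAt_le [CompactSpace X] :
    ∃ N : ℕ, ∀ x : X, FlatMor.fibreDimAt f x ≤ N := by
  have key : ∃ N : ℕ, ∀ x ∈ (Set.univ : Set X), FlatMor.fibreDimAt f x ≤ N := by
    refine isCompact_univ.induction_on (p := fun T : Set X =>
      ∃ N : ℕ, ∀ x ∈ T, FlatMor.fibreDimAt f x ≤ N) ⟨0, fun x hx => absurd hx (Set.notMem_empty x)⟩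
      ?_ ?_ ?_
    · rintro s t hst ⟨N, hN⟩
      exact ⟨N, fun x hx => hN x (hst hx)⟩
    · rintro s t ⟨N, hN⟩ ⟨M, hM⟩
      refine ⟨max N M, fun x hx => ?_⟩
      rcases hx with hx | hx
      · exact (hN x hx).trans (by exact_mod_cast le_max_left N M)
      · exact (hM x hx).trans (by exact_mod_cast le_max_right N M)
    · intro x _
      obtain ⟨V, hV, hfxV, -⟩ := exists_isAffineOpen_mem_and_subset (x := f x) (U := ⊤) trivial
      obtain ⟨U, hU, hxU, hUle⟩ := exists_isAffineOpen_mem_and_subset (x := x)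
        (U := f ⁻¹ᵁ V) hfxV
      obtain ⟨N, hN⟩ := exists_forall_fibreDimAt_le_of_isAffineOpen f hU hV hUle
      exact ⟨U, mem_nhdsWithin_of_mem_nhds (U.2.mem_nhds hxU), N, hN⟩
  obtain ⟨N, hN⟩ := key
  exact ⟨N, fun x => hN x trivial⟩

/-- **EGA IV 13.1.7**: the fibres of a morphism of finite type over a quasi-compact base have
bounded dimension. -/
theorem exists_forall_dim_fiber_le [CompactSpace Y] [QuasiCompact f] :
    ∃ n : ℕ, ∀ y : Y, topologicalKrullDim ↥(f.fiber y) ≤ n := by
  haveI : CompactSpace X := QuasiCompact.compactSpace_of_compactSpace f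
  obtain ⟨N, hN⟩ := exists_forall_fibreDimAt_le f
  refine ⟨N, fun y => ?_⟩
  rw [Groth.Agent.Lib.Helper55.topologicalKrullDim_eq_iSup_localDim]
  refine iSup_le fun z => ?_
  rw [Groth.Agent.Lib.Helper55.localDim_fiber_eq_fibreDimAt]
  exact hN _

end Global

end Groth.Agent.Lib.Helper13.Chevalley
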