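import Mathlib
import Groth.Prelude.Def_EGA4Misc
import Groth.Agent.Lib.Helper13.GenFibre3
import Groth.Agent.Lib.Helper13.GenFibreDim
import Groth.Agent.Lib.Helper13.GenFibreCons

set_option autoImplicit false

namespace Groth.Agent.Lib.Helper13.FibreDimField

open AlgebraicGeometry CategoryTheory Limits TopologicalSpace TensorProduct Topology
open Groth.Agent.Lib.Helper13.GenFibre Groth.Agent.Lib.Helper13.GenFibreDim
open Groth.Agent.Lib.Helper13.GenFibre3 Groth.Agent.Lib.Helper13.GenFibreCons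

universe u

section Ring

theorem ringKrullDim_tensor_of_isField (k k' C : Type u) [CommRing k] [CommRing k'] [Algebra k k']
    [CommRing C] [Algebra k C] [Algebra.FiniteType k C] (hk : IsField k) (hk' : IsField k') :
    ringKrullDim (C ⊗[k] k') = ringKrullDim C := by
  letI := hk.toField
  letI := hk'.toField
  rw [← ringKrullDim_tensor_field_ext k k' C]
  exact ringKrullDim_eq_of_ringEquiv (Algebra.TensorProduct.comm k C k').toRingEquiv

end Ring

variable {X Y : Scheme.{u}}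

/-- The dimension of a base change of `f` along `Spec R → W ⊆ Y` is the supremum of the
dimensions of its affine charts. -/
theorem topologicalKrullDim_pullback_eq_iSup (f : X ⟶ Y) {W : Y.Opens} (hW : IsAffineOpen W)
    {R : CommRingCat.{u}} (ψ : Γ(Y, W) ⟶ R) {J : Type*} (U : J → X.Opens)
    (hU : ∀ j, IsAffineOpen (U j)) (e : ∀ j, U j ≤ f ⁻¹ᵁ W)
    (hcov : ((f ⁻¹ᵁ W : X.Opens) : Set X) ⊆ ⋃ j, (U j : Set X)) :
    topologicalKrullDim ↑(pullback f (Spec.map ψ ≫ hW.fromSpec) : Scheme.{u}) =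
      ⨆ j, topologicalKrullDim ↑(pullback (Spec.map (f.appLE W (U j) (e j))) (Spec.map ψ) :
        Scheme.{u}) := by
  refine topologicalKrullDim_eq_iSup_of_isOpenImmersion _ _
    (fun j => genChart f hW (hU j) (e j) ψ) ?_
  intro x
  have hxW : pullback.fst f (Spec.map ψ ≫ hW.fromSpec) x ∈ ((f ⁻¹ᵁ W : X.Opens) : Set X) := by
    show f (pullback.fst f (Spec.map ψ ≫ hW.fromSpec) x) ∈ W
    rw [← Scheme.Hom.comp_apply, pullback.condition, Scheme.Hom.comp_apply,
      Scheme.Hom.comp_apply]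
    have : hW.fromSpec (Spec.map ψ (pullback.snd f (Spec.map ψ ≫ hW.fromSpec) x)) ∈
        Set.range hW.fromSpec := ⟨_, rfl⟩
    rwa [hW.range_fromSpec] at this
  obtain ⟨j, hj⟩ := Set.mem_iUnion.mp (hcov hxW)
  refine ⟨j, ?_⟩
  rw [range_genChart]
  exact hj

theorem topologicalKrullDim_genChart_eq (f : X ⟶ Y) {W : Y.Opens} {U : X.Opens}
    (e : U ≤ f ⁻¹ᵁ W) {R : CommRingCat.{u}} (ψ : Γ(Y, W) ⟶ R) :
    letI : Algebra Γ(Y, W) Γ(X, U) := (f.appLE W U e).hom.toAlgebra
    letI : Algebra Γ(Y, W) R := ψ.hom.toAlgebra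
    topologicalKrullDim ↑(pullback (Spec.map (f.appLE W U e)) (Spec.map ψ) : Scheme.{u}) =
      ringKrullDim (TensorProduct Γ(Y, W) Γ(X, U) R) := by
  letI : Algebra Γ(Y, W) Γ(X, U) := (f.appLE W U e).hom.toAlgebra
  letI : Algebra Γ(Y, W) R := ψ.hom.toAlgebra
  rw [← PrimeSpectrum.topologicalKrullDim_eq_ringKrullDim]
  exact IsHomeomorph.topologicalKrullDim_eq _
    (Scheme.homeoOfIso (pullbackSpecIso Γ(Y, W) Γ(X, U) R)).isHomeomorph

/-- The dimension of a scheme is the supremum of the Krull dimensions of the rings of sections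
over its affine opens. -/
theorem topologicalKrullDim_eq_iSup_affineOpens (Z : Scheme.{u}) :
    topologicalKrullDim Z = ⨆ U : Z.affineOpens, ringKrullDim Γ(Z, U.1) := by
  rw [topologicalKrullDim_eq_iSup_opens (fun U : Z.affineOpens => U.1) (fun x => by
    obtain ⟨U, hU, hxU, -⟩ := exists_isAffineOpen_mem_and_subset (x := x) (U := ⊤) trivial
    exact ⟨⟨U, hU⟩, hxU⟩)]
  congr 1
  funext U
  rw [← PrimeSpectrum.topologicalKrullDim_eq_ringKrullDim]
  exact IsHomeomorph.topologicalKrullDim_eq _ (Scheme.homeoOfIso U.2.isoSpec).isHomeomorph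

/-- The dimension of a scheme locally of finite type over a field is invariant under extension
of the base field. -/
theorem topologicalKrullDim_eq_of_isPullback_field {Y Y' T T' : Scheme.{u}} (g : Y ⟶ T)
    (g' : Y' ⟶ T') (e : Y' ⟶ Y) (h : T' ⟶ T) [IsIntegral T] [Subsingleton T] [IsIntegral T']
    [Subsingleton T'] [LocallyOfFiniteType g] (hsq : IsPullback e g' g h) :
    topologicalKrullDim Y' = topologicalKrullDim Y := by
  have hW := isAffineOpen_top T
  let ψ : Γ(T, ⊤) ⟶ Γ(T', ⊤) := h.appTop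
  have hh : h = T'.isoSpec.hom ≫ (Spec.map ψ ≫ hW.fromSpec) := by
    rw [IsAffineOpen.fromSpec_top, ← Category.assoc]
    show h = (T'.isoSpec.hom ≫ Spec.map h.appTop) ≫ T.isoSpec.inv
    rw [Scheme.isoSpec_hom_naturality, Category.assoc, Iso.hom_inv_id, Category.comp_id]
  have hsq2 : IsPullback e (g' ≫ T'.isoSpec.hom) g (Spec.map ψ ≫ hW.fromSpec) := by
    refine IsPullback.of_iso hsq (Iso.refl _) (Iso.refl _) T'.isoSpec (Iso.refl _)
      (by simp) (by simp) (by simp) ?_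
    rw [Iso.refl_hom, Category.comp_id, hh]
  have hle : ∀ U : Y.affineOpens, U.1 ≤ g ⁻¹ᵁ (⊤ : T.Opens) := fun U => le_top
  have h1 : topologicalKrullDim Y' =
      topologicalKrullDim ↑(pullback g (Spec.map ψ ≫ hW.fromSpec) : Scheme.{u}) :=
    IsHomeomorph.topologicalKrullDim_eq _ (Scheme.homeoOfIso hsq2.isoPullback).isHomeomorph
  rw [h1, topologicalKrullDim_pullback_eq_iSup g hW ψ (fun U : Y.affineOpens => U.1)
    (fun U => U.2) hle (fun x _ => by
      obtain ⟨U, hU, hxU, -⟩ := exists_isAffineOpen_mem_and_subset (x := x) (U := ⊤) trivial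
      exact Set.mem_iUnion.mpr ⟨⟨U, hU⟩, hxU⟩),
    topologicalKrullDim_eq_iSup_affineOpens Y]
  congr 1
  funext U
  rw [topologicalKrullDim_genChart_eq g (hle U) ψ]
  letI : Algebra Γ(T, ⊤) Γ(Y, U.1) := (g.appLE ⊤ U.1 (hle U)).hom.toAlgebra
  letI : Algebra Γ(T, ⊤) Γ(T', ⊤) := ψ.hom.toAlgebra
  haveI : Algebra.FiniteType Γ(T, ⊤) Γ(Y, U.1) := g.finiteType_appLE hW U.2 (hle U)
  exact ringKrullDim_tensor_of_isField Γ(T, ⊤) Γ(T', ⊤) Γ(Y, U.1)
    (isField_of_isIntegral_of_subsingleton T) (isField_of_isIntegral_of_subsingleton T')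

/-- Near the generic point of an irreducible base, the dimension of the fibres of a morphism of
finite type is constant. -/
theorem exists_open_forall_dim_fiber_eq (f : X ⟶ Y) [IrreducibleSpace ↑Y] [LocallyOfFiniteType f]
    [QuasiCompact f] :
    ∃ V : Y.Opens, genericPoint ↑Y ∈ V ∧ ∃ d : WithBot ℕ∞,
      ∀ y ∈ V, topologicalKrullDim ↑(f.fiber y) = d := by
  classical
  obtain ⟨W, hW, hηW, -⟩ := exists_isAffineOpen_mem_and_subset
    (x := genericPoint ↑Y) (U := ⊤) trivial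
  have hηr : genericPoint ↑Y ∈ Set.range hW.fromSpec := by
    rw [hW.range_fromSpec]; exact hηW
  obtain ⟨z₀, hz₀⟩ := hηr
  have hnil : z₀.asIdeal = nilradical Γ(Y, W) :=
    asIdeal_eq_nilradical_of_fromSpec_eq hW z₀ hz₀
  have hp : (nilradical Γ(Y, W)).IsPrime := hnil ▸ z₀.isPrime
  have hqc : IsCompact ((f ⁻¹ᵁ W : X.Opens) : Set X) := f.isCompact_preimage hW.isCompact
  obtain ⟨s, hsfin, hs⟩ := isCompact_iff_finite_and_eq_biUnion_affineOpens.mp hqc
  have hle : ∀ U : s, (U.1 : X.Opens) ≤ f ⁻¹ᵁ W := fun U => by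
    rw [hs]
    exact le_iSup₂ (f := fun (i : X.affineOpens) (_ : i ∈ s) => (i : X.Opens)) U.1 U.2
  have hcov : ((f ⁻¹ᵁ W : X.Opens) : Set X) ⊆ ⋃ U : s, ((U.1 : X.Opens) : Set X) := by
    intro x hx
    have hx' : x ∈ (⨆ i ∈ s, (i : X.Opens) : X.Opens) := hs ▸ hx
    simp only [TopologicalSpace.Opens.mem_iSup] at hx'
    obtain ⟨i, hi, hxi⟩ := hx'
    exact Set.mem_iUnion.mpr ⟨⟨i, hi⟩, hxi⟩
  have key := fun z => topologicalKrullDim_fiber_eq_iSup
    f hW z (fun U : s => (U.1 : X.Opens)) (fun U => U.1.2) hle hcov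
  choose a ha d hd using fun U : s => exists_forall_dim_chart_eq f hW U.1.2 (hle U) hp
  haveI : Fintype s := hsfin.fintype
  have hz₀a : ∀ U : s, a U ∉ z₀.asIdeal := fun U => hnil ▸ ha U
  refine ⟨Y.basicOpen (∏ U : s, a U), ?_, ⨆ U : s, d U, ?_⟩
  · have : z₀ ∈ hW.fromSpec ⁻¹ᵁ Y.basicOpen (∏ U : s, a U) := by
      rw [hW.fromSpec_preimage_basicOpen]
      show (∏ U : s, a U) ∉ z₀.asIdeal
      intro hmem
      obtain ⟨U, -, hU⟩ := (Ideal.IsPrime.prod_mem_iff).mp hmem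
      exact hz₀a U hU
    have h2 : hW.fromSpec z₀ ∈ Y.basicOpen (∏ U : s, a U) := this
    rwa [hz₀] at h2
  · intro y hy
    have hyW : y ∈ W := Y.basicOpen_le _ hy
    let z : Spec Γ(Y, W) := hW.primeIdealOf ⟨y, hyW⟩
    have hzy : hW.fromSpec z = y := hW.fromSpec_primeIdealOf ⟨y, hyW⟩
    have haz : (∏ U : s, a U) ∉ z.asIdeal :=
      (mem_basicOpen_iff_notMem_primeIdealOf hW _ y hyW).mp hy
    have hza : ∀ U : s, a U ∉ z.asIdeal := fun U hU =>
      haz (Ideal.IsPrime.prod_mem_iff.mpr ⟨U, Finset.mem_univ _, hU⟩)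
    rw [← hzy, key z]
    exact iSup_congr fun U => hd U z (hza U)

/-- `dim ∈ Φ` is a constructible property of algebraic schemes (EGA IV 9.2 framework). -/
theorem isCons_dim_mem (Φ : Set (WithBot ℕ∞)) :
    ConsProp.IsCons.{u} (fun Y _ _ => topologicalKrullDim ↥Y ∈ Φ) := by
  refine ⟨?_, ?_⟩
  · intro Y Y' T T' g g' e h _ _ _ _ _ _ hsq
    show topologicalKrullDim ↥Y ∈ Φ ↔ topologicalKrullDim ↥Y' ∈ Φ
    rw [topologicalKrullDim_eq_of_isPullback_field g g' e h hsq]
  · intro X S u _ _ _ _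
    obtain ⟨V, hV, d, hd⟩ := exists_open_forall_dim_fiber_eq u
    by_cases hdΦ : d ∈ Φ
    · left
      refine ⟨genericPoint ↑S, mem_interior.mpr ⟨V, ?_, V.2, hV⟩⟩
      intro s hs
      show topologicalKrullDim ↥(u.fiber s) ∈ Φ
      rw [hd s hs]
      exact hdΦ
    · right
      refine ⟨genericPoint ↑S, mem_interior.mpr ⟨V, ?_, V.2, hV⟩⟩
      intro s hs hmem
      have : topologicalKrullDim ↥(u.fiber s) ∈ Φ := hmem
      rw [hd s hs] at this
      exact hdΦ this

end Groth.Agent.Lib.Helper13.FibreDimField
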