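/-
Helper library (helper13): geometric normality of the fibres, part D: the loci of geometric
normality of the fibres of a morphism (EGA IV 9.9.4/9.9.5, 12.1.6, 12.2.4 for "geometrically
normal").
-/
import Groth.Agent.Lib.Helper13.GNormC

set_option autoImplicit false
open CategoryTheory AlgebraicGeometry Limits
universe u

namespace Groth.Agent.Lib.Helper13.GNorm

open Groth.Agent.Lib.Helper13.GkFib Groth.Agent.Lib.Helper13.SkFib
open Groth.Agent.Lib.Helper13.FibLocProp Groth.Agent.Lib.Helper13.FamProp
open Topology TopologicalSpace

variable {X Y : Scheme.{u}} (f : X ⟶ Y) [LocallyOfFinitePresentation f]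

/-- Geometric normality of the fibre of `f` at `x` (all extensions) is `EkFib 1`. -/
theorem ekFib_one_iff_gnAll (x : X) :
    EkFib 1 X Y f x ↔ GNAll (f.fiberToSpecResidueField (f x)) (f.asFiber x) := by
  let q' : (f.fiber (f x)) ⟶ Spec (CommRingCat.of ↑(Y.residueField (f x))) :=
    f.fiberToSpecResidueField (f x)
  haveI : LocallyOfFinitePresentation q' :=
    MorphismProperty.pullback_snd (P := @LocallyOfFinitePresentation) _ _ ‹_›
  exact (gnAll_iff q' (f.asFiber x)).symm

/-- Geometric normality of the fibre of `f` at `x` (finite extensions) is `EkFib 1`. -/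
theorem ekFib_one_iff_gnFin (x : X) :
    EkFib 1 X Y f x ↔ GNFin (f.fiberToSpecResidueField (f x)) (f.asFiber x) := by
  let q' : (f.fiber (f x)) ⟶ Spec (CommRingCat.of ↑(Y.residueField (f x))) :=
    f.fiberToSpecResidueField (f x)
  haveI : LocallyOfFinitePresentation q' :=
    MorphismProperty.pullback_snd (P := @LocallyOfFinitePresentation) _ _ ‹_›
  exact (gnFin_iff q' (f.asFiber x)).symm

/-- **EGA IV 9.9.4 (geometrically normal)**: the set of points at which the fibre is
geometrically normal is locally constructible. -/
theorem isLocallyConstructible_gnAll :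
    IsLocallyConstructible
      {x : X | GNAll (f.fiberToSpecResidueField (f x)) (f.asFiber x)} := by
  have h := isLocallyConstructible (isFamProp_ekFib.{u} 1) f
  have hset : {x : X | GNAll (f.fiberToSpecResidueField (f x)) (f.asFiber x)} =
      {x : X | EkFib 1 X Y f x} := by
    ext x
    exact (ekFib_one_iff_gnAll f x).symm
  rw [hset]
  exact h

/-- **EGA IV 12.1.6 (geometrically normal)**: the set of points at which `f` is flat and the
fibre is geometrically normal is open. -/
theorem isOpen_flat_and_gnFin :
    IsOpen {x : X | (f.stalkMap x).hom.Flat ∧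
      GNFin (f.fiberToSpecResidueField (f x)) (f.asFiber x)} := by
  have h := isOpen_flat_and (isFamProp_ekFib.{u} 1) f
  have hset : {x : X | (f.stalkMap x).hom.Flat ∧
      GNFin (f.fiberToSpecResidueField (f x)) (f.asFiber x)} =
      {x : X | (f.stalkMap x).hom.Flat ∧ EkFib 1 X Y f x} := by
    ext x
    exact and_congr Iff.rfl (ekFib_one_iff_gnFin f x).symm
  rw [hset]
  exact h

omit [LocallyOfFinitePresentation f] in
/-- Transport along an equality of base points. -/
theorem gnFin_congr (s : Y) (x : X) (hx : f x = s) (w : ↥(f.fiber s))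
    (hw : f.fiberι s w = x) :
    GNFin (f.fiberToSpecResidueField s) w ↔
      GNFin (f.fiberToSpecResidueField (f x)) (f.asFiber x) := by
  subst hx
  have : w = f.asFiber x := by
    apply (f.fiberι (f x)).isEmbedding.injective
    rw [hw, f.fiberι_asFiber]
  rw [this]

/-- **EGA IV 12.2.4 (geometrically normal)**: for `f` proper, flat and of finite presentation,
the set of points of the base whose fibre is geometrically normal is open. -/
theorem isOpen_setOf_forall_fibre_gnFin [IsProper f] [Flat f] :
    IsOpen {y : Y | ∀ x : ↥(f.fiber y), GNFin (f.fiberToSpecResidueField y) x} := by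
  have hopen : IsOpen {x : X | GNFin (f.fiberToSpecResidueField (f x)) (f.asFiber x)} := by
    have h := isOpen_of_flat (isFamProp_ekFib.{u} 1) f
    have hset : {x : X | GNFin (f.fiberToSpecResidueField (f x)) (f.asFiber x)} =
        {x : X | EkFib 1 X Y f x} := by
      ext x
      exact (ekFib_one_iff_gnFin f x).symm
    rw [hset]
    exact h
  have hset : {y : Y | ∀ x : ↥(f.fiber y), GNFin (f.fiberToSpecResidueField y) x} =
      (f '' {x : X | GNFin (f.fiberToSpecResidueField (f x)) (f.asFiber x)}ᶜ)ᶜ := by
    ext y
    simp only [Set.mem_setOf_eq, Set.mem_compl_iff, Set.mem_image, not_exists, not_and]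
    constructor
    · intro h x hx
      by_contra hxy
      have hxr : x ∈ Set.range (f.fiberι y) := by
        rw [Scheme.Hom.range_fiberι]
        exact hxy
      obtain ⟨z, hz⟩ := hxr
      exact hx ((gnFin_congr f y x hxy z hz).mp (h z))
    · intro h z
      have hfz : f (f.fiberι y z) = y := by
        have : f.fiberι y z ∈ f ⁻¹' {y} := by
          rw [← Scheme.Hom.range_fiberι]
          exact ⟨z, rfl⟩
        exact this
      refine (gnFin_congr f y (f.fiberι y z) hfz z rfl).mpr ?_
      by_contra hcon
      exact h (f.fiberι y z) hcon hfz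
  rw [hset, isOpen_compl_iff]
  exact f.isClosedMap _ hopen.isClosed_compl

end Groth.Agent.Lib.Helper13.GNorm
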