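import Groth.Agent.Lib.Helper13.GenFibre
import Groth.Agent.Lib.Helper48.QCSpec

/-!
# Spreading out from the generic fibre, II (helper13)

* `exists_open_disjoint_of_closed`: a closed subset missing the generic fibre misses `f⁻¹ V` for a
  neighbourhood `V` of the generic point (`f` quasi-compact).
* `exists_open_subset_image_inter`: a locally closed subset meeting the generic fibre surjects onto a
  neighbourhood of the generic point (`f` locally of finite type).
* fibrewise versions.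
-/

set_option autoImplicit false

namespace Groth.Agent.Lib.Helper13.GenFibre2

open AlgebraicGeometry CategoryTheory Limits TopologicalSpace

universe u

variable {X Y : Scheme.{u}}

/-- The reduced induced closed subscheme on a closed subset, as a closed immersion with prescribed
range. -/
theorem exists_closedImmersion_range_eq (D : Set X) (hD : IsClosed D) :
    ∃ (Z : Scheme.{u}) (i : Z ⟶ X), IsClosedImmersion i ∧ Set.range i = D := by
  let I := Scheme.IdealSheafData.vanishingIdeal (X := X) ⟨D, hD⟩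
  refine ⟨I.subscheme, I.subschemeι, inferInstance, ?_⟩
  rw [I.range_subschemeι]
  exact Scheme.IdealSheafData.coe_support_vanishingIdeal _

/-- A closed subset missing the generic fibre misses the preimage of a neighbourhood of the generic
point. -/
theorem exists_open_disjoint_of_closed (f : X ⟶ Y) [IrreducibleSpace Y] [QuasiCompact f]
    (D : Set X) (hD : IsClosed D) (h : Disjoint D (f ⁻¹' {genericPoint Y})) :
    ∃ V : Y.Opens, genericPoint Y ∈ V ∧ Disjoint D (f ⁻¹' V) := by
  obtain ⟨Z, i, hi, hiD⟩ := exists_closedImmersion_range_eq D hD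
  have hcl : genericPoint Y ∉ closure (Set.range (i ≫ f)) := by
    intro hmem
    obtain ⟨z, hz⟩ := Groth.Agent.Lib.Helper48.exists_specializes_of_mem_closure_range
      (i ≫ f) (genericPoint Y) hmem
    have h2 : genericPoint Y ⤳ (i ≫ f) z := genericPoint_specializes _
    have h3 : (i ≫ f) z = genericPoint Y := (hz.antisymm h2).eq
    have h4 : i z ∈ D := hiD ▸ ⟨z, rfl⟩
    have h5 : i z ∈ f ⁻¹' {genericPoint Y} := by
      show f (i z) = genericPoint Y
      rw [← Scheme.Hom.comp_apply]; exact h3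
    exact Set.disjoint_left.mp h h4 h5
  refine ⟨⟨(closure (Set.range (i ≫ f)))ᶜ, isClosed_closure.isOpen_compl⟩, hcl, ?_⟩
  rw [Set.disjoint_left]
  intro x hxD hxV
  rw [← hiD] at hxD
  obtain ⟨z, rfl⟩ := hxD
  apply hxV
  apply subset_closure
  exact ⟨z, by rw [Scheme.Hom.comp_apply]⟩

/-- A locally closed subset `T ∩ O` meeting the generic fibre surjects onto a neighbourhood of the
generic point. -/
theorem exists_open_subset_image_inter (f : X ⟶ Y) [IrreducibleSpace Y] [LocallyOfFiniteType f]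
    (T : Set X) (hT : IsClosed T) (O : X.Opens)
    (h : (T ∩ O ∩ f ⁻¹' {genericPoint Y}).Nonempty) :
    ∃ V : Y.Opens, genericPoint Y ∈ V ∧ (V : Set Y) ⊆ f '' (T ∩ O) := by
  obtain ⟨Z, i, hi, hiT⟩ := exists_closedImmersion_range_eq T hT
  let Oz : Z.Opens := i ⁻¹ᵁ O
  let g : (Oz : Scheme.{u}) ⟶ Y := Oz.ι ≫ i ≫ f
  have hrange : Set.range g = f '' (T ∩ O) := by
    ext y
    constructor
    · rintro ⟨z, rfl⟩
      refine ⟨i (Oz.ι z), ⟨hiT ▸ ⟨_, rfl⟩, ?_⟩, ?_⟩
      · have : Oz.ι z ∈ Oz := z.2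
        exact this
      · simp only [g, Scheme.Hom.comp_apply]
    · rintro ⟨x, ⟨hxT, hxO⟩, rfl⟩
      rw [← hiT] at hxT
      obtain ⟨z, rfl⟩ := hxT
      have hz : z ∈ Oz := hxO
      refine ⟨⟨z, hz⟩, ?_⟩
      simp only [g, Scheme.Hom.comp_apply]
      rfl
  have hη : genericPoint Y ∈ Set.range g := by
    rw [hrange]
    obtain ⟨x, hx, hfx⟩ := h
    exact ⟨x, hx, hfx⟩
  obtain ⟨V, hηV, hV⟩ := Groth.Agent.Lib.Helper13.GenFibre.exists_open_subset_range g hη
  exact ⟨V, hηV, hrange ▸ hV⟩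

/-- Fibrewise form of `exists_open_disjoint_of_closed`. -/
theorem exists_open_forall_fiber_preimage_eq_empty (f : X ⟶ Y) [IrreducibleSpace Y]
    [QuasiCompact f] (D : Set X) (hD : IsClosed D)
    (h : (f.fiberι (genericPoint Y)) ⁻¹' D = ∅) :
    ∃ V : Y.Opens, genericPoint Y ∈ V ∧ ∀ y ∈ V, (f.fiberι y) ⁻¹' D = ∅ := by
  have hdisj : Disjoint D (f ⁻¹' {genericPoint Y}) := by
    rw [Set.disjoint_left]
    intro x hxD hx
    rw [← f.range_fiberι] at hx
    obtain ⟨x', rfl⟩ := hx
    have : x' ∈ (f.fiberι (genericPoint Y)) ⁻¹' D := hxD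
    rw [h] at this
    exact this
  obtain ⟨V, hηV, hV⟩ := exists_open_disjoint_of_closed f D hD hdisj
  refine ⟨V, hηV, fun y hy => ?_⟩
  rw [Set.eq_empty_iff_forall_notMem]
  intro x hx
  refine Set.disjoint_left.mp hV hx ?_
  have h1 : f.fiberι y x ∈ Set.range (f.fiberι y) := ⟨x, rfl⟩
  rw [f.range_fiberι y] at h1
  have h2 : f (f.fiberι y x) = y := h1
  show f (f.fiberι y x) ∈ V
  rw [h2]; exact hy

/-- Fibrewise form of `exists_open_subset_image_inter`. -/
theorem exists_open_forall_fiber_exists_mem (f : X ⟶ Y) [IrreducibleSpace Y]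
    [LocallyOfFiniteType f] (T : Set X) (hT : IsClosed T) (O : X.Opens)
    (h : ∃ x : f.fiber (genericPoint Y), f.fiberι (genericPoint Y) x ∈ T ∩ O) :
    ∃ V : Y.Opens, genericPoint Y ∈ V ∧ ∀ y ∈ V, ∃ x : f.fiber y, f.fiberι y x ∈ T ∩ O := by
  obtain ⟨x₀, hx₀⟩ := h
  have hne : (T ∩ O ∩ f ⁻¹' {genericPoint Y}).Nonempty := by
    refine ⟨f.fiberι (genericPoint Y) x₀, hx₀, ?_⟩
    rw [← f.range_fiberι]
    exact ⟨x₀, rfl⟩
  obtain ⟨V, hηV, hV⟩ := exists_open_subset_image_inter f T hT O hne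
  refine ⟨V, hηV, fun y hy => ?_⟩
  obtain ⟨t, ht, hty⟩ := hV hy
  have : t ∈ f ⁻¹' {y} := hty
  rw [← f.range_fiberι y] at this
  obtain ⟨x, rfl⟩ := this
  exact ⟨x, ht⟩

/-- Near the generic point the fibres are covered by the closures of a finite closed cover of the
generic fibre. -/
theorem exists_open_forall_fiber_cover (f : X ⟶ Y) [IrreducibleSpace Y] [LocallyOfFiniteType f]
    [QuasiCompact f] {ι : Type*} [Finite ι] (C : ι → Set (f.fiber (genericPoint Y)))
    (hcov : ⋃ i, C i = Set.univ) :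
    ∃ V : Y.Opens, genericPoint Y ∈ V ∧ ∀ y ∈ V,
      ⋃ i, (f.fiberι y) ⁻¹' closure ((f.fiberι (genericPoint Y)) '' C i) = Set.univ := by
  obtain ⟨V, hηV, hV⟩ := Groth.Agent.Lib.Helper13.GenFibre.exists_preimage_subset_closure_fibre f
  refine ⟨V, hηV, fun y hy => ?_⟩
  rw [Set.eq_univ_iff_forall]
  intro x
  have hx : f.fiberι y x ∈ (f ⁻¹ᵁ V : Set ↑X) := by
    have h1 : f.fiberι y x ∈ Set.range (f.fiberι y) := ⟨x, rfl⟩
    rw [f.range_fiberι y] at h1
    have h2 : f (f.fiberι y x) = y := h1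
    show f (f.fiberι y x) ∈ V
    rw [h2]; exact hy
  have h3 := hV hx
  rw [← f.range_fiberι (genericPoint ↑Y), ← Set.image_univ, ← hcov, Set.image_iUnion,
    closure_iUnion_of_finite] at h3
  obtain ⟨i, hi⟩ := Set.mem_iUnion.mp h3
  exact Set.mem_iUnion.mpr ⟨i, hi⟩

/-- The trace on the generic fibre of the closure of the image of a closed subset of the generic
fibre is that subset. -/
theorem fiberι_preimage_closure_image (f : X ⟶ Y) (y : Y) (C : Set (f.fiber y))
    (hC : IsClosed C) : (f.fiberι y) ⁻¹' closure ((f.fiberι y) '' C) = C := by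
  rw [← (f.fiberι y).isEmbedding.isInducing.closure_eq_preimage_closure_image, hC.closure_eq]

/-- Finite intersection of open neighbourhoods. -/
theorem exists_open_forall_of_finite {ι : Type*} [Finite ι] (y₀ : Y) (p : ι → Y → Prop)
    (h : ∀ i, ∃ V : Y.Opens, y₀ ∈ V ∧ ∀ y ∈ V, p i y) :
    ∃ V : Y.Opens, y₀ ∈ V ∧ ∀ y ∈ V, ∀ i, p i y := by
  choose V hV hp using h
  refine ⟨⟨⋂ i, (V i : Set Y), isOpen_iInter_of_finite fun i => (V i).2⟩, ?_, ?_⟩
  · exact Set.mem_iInter.mpr hV
  · intro y hy i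
    exact hp i y (Set.mem_iInter.mp hy i)

end Groth.Agent.Lib.Helper13.GenFibre2
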