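import Mathlib
import Groth.Agent.Lib.Helper13.GenFibreDim
import Groth.Agent.Lib.Helper13.GenFibreCons

/-!
# Constructibility of the fibre dimension function (helper13), scheme level
-/

set_option autoImplicit false

namespace Groth.Agent.Lib.Helper13.GenFibreCons

open AlgebraicGeometry CategoryTheory Limits TopologicalSpace TensorProduct Topology
open Groth.Agent.Lib.Helper13.GenFibre Groth.Agent.Lib.Helper13.GenFibreDim
open scoped Set.Notation

universe u

/-- Level sets of a function of finitely many constructible functions with finite ranges are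
constructible. -/
theorem isConstructible_preimage_of_finite_family {T : Type*} [TopologicalSpace T] {J : Type*}
    [Finite J] {M N : Type*} (δ : J → T → M)
    (hδ : ∀ j m, IsConstructible ((δ j) ⁻¹' {m})) (hfin : ∀ j, (Set.range (δ j)).Finite)
    (φ : (J → M) → N) (n : N) :
    IsConstructible ((fun z => φ (fun j => δ j z)) ⁻¹' {n}) := by
  classical
  let V : Set (J → M) := {v | (∀ j, v j ∈ Set.range (δ j)) ∧ φ v = n}
  have hV : V.Finite := (Set.Finite.pi' hfin).subset (fun v hv => hv.1)
  have : (fun z => φ (fun j => δ j z)) ⁻¹' {n} = ⋃ v ∈ V, ⋂ j, (δ j) ⁻¹' {v j} := by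
    ext z
    simp only [Set.mem_preimage, Set.mem_singleton_iff, Set.mem_iUnion, Set.mem_iInter,
      exists_prop]
    constructor
    · intro h
      exact ⟨fun j => δ j z, ⟨fun j => ⟨z, rfl⟩, h⟩, fun j => rfl⟩
    · rintro ⟨v, ⟨-, hv⟩, hz⟩
      have : (fun j => δ j z) = v := funext hz
      rw [this]
      exact hv
  rw [this]
  exact IsConstructible.biUnion hV (fun v _ => IsConstructible.iInter (fun j => hδ j (v j)))

variable {X Y : Scheme.{u}}

/-- Over an affine open of the target, the level sets of the fibre dimension of a quasi-compact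
morphism locally of finite presentation are constructible. -/
theorem isConstructible_dim_fiber_fromSpec (f : X ⟶ Y) [LocallyOfFinitePresentation f]
    [QuasiCompact f] {W : Y.Opens} (hW : IsAffineOpen W) (n : WithBot ℕ∞) :
    IsConstructible {z : Spec Γ(Y, W) | topologicalKrullDim ↑(f.fiber (hW.fromSpec z)) = n} := by
  classical
  have hqc : IsCompact ((f ⁻¹ᵁ W : X.Opens) : Set X) := f.isCompact_preimage hW.isCompact
  obtain ⟨s, hsfin, hs⟩ := isCompact_iff_finite_and_eq_biUnion_affineOpens.mp hqc
  have hle : ∀ U : s, (U.1 : X.Opens) ≤ f ⁻¹ᵁ W := fun U => by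
    rw [hs]
    exact le_iSup₂ (f := fun (i : X.affineOpens) (_ : i ∈ s) => (i : X.Opens)) U.1 U.2
  have hcov : ((f ⁻¹ᵁ W : X.Opens) : Set X) ⊆ ⋃ U : s, ((U.1 : X.Opens) : Set X) := by
    intro x hx
    have hx' : x ∈ (⨆ i ∈ s, (i : X.Opens) : X.Opens) := hs ▸ hx
    simp only [TopologicalSpace.Opens.mem_iSup] at hx'
    obtain ⟨i, hi, hxi⟩ := hx'
    exact Set.mem_iUnion.mpr ⟨⟨i, hi⟩, hxi⟩
  have key := fun z => topologicalKrullDim_fiber_eq_iSup
    f hW z (fun U : s => (U.1 : X.Opens)) (fun U => U.1.2) hle hcov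
  haveI : Finite s := hsfin.to_subtype
  let δ : s → Spec Γ(Y, W) → WithBot ℕ∞ := fun U z =>
    topologicalKrullDim ↑(pullback (Spec.map (f.appLE W U.1 (hle U)))
      ((Spec Γ(Y, W)).fromSpecResidueField z) : Scheme.{u})
  have hδ : ∀ U : s, (∀ m, IsConstructible ((δ U) ⁻¹' {m})) ∧ (Set.range (δ U)).Finite := by
    intro U
    letI : Algebra Γ(Y, W) Γ(X, U.1) := (f.appLE W U.1 (hle U)).hom.toAlgebra
    haveI : Algebra.FinitePresentation Γ(Y, W) Γ(X, U.1) :=
      f.finitePresentation_appLE hW U.1.2 (hle U)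
    have h := constructible_dim (A := Γ(Y, W)) (B := Γ(X, U.1))
    have heq : δ U = fun p : PrimeSpectrum Γ(Y, W) =>
        ringKrullDim (p.asIdeal.ResidueField ⊗[Γ(Y, W)] Γ(X, U.1)) := by
      funext z
      exact topologicalKrullDim_chart_eq f (hle U) z
    rw [heq]
    exact h
  have := isConstructible_preimage_of_finite_family δ (fun U m => (hδ U).1 m)
    (fun U => (hδ U).2) (fun v => ⨆ U, v U) n
  have hset : {z : Spec Γ(Y, W) | topologicalKrullDim ↑(f.fiber (hW.fromSpec z)) = n} =
      (fun z => (fun v : s → WithBot ℕ∞ => ⨆ U, v U) (fun j => δ j z)) ⁻¹' {n} := by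
    ext z
    simp only [Set.mem_setOf_eq, Set.mem_preimage, Set.mem_singleton_iff]
    rw [key z]
  rw [hset]
  exact this

/-- The level sets of the fibre dimension of a quasi-compact morphism locally of finite
presentation are locally constructible. -/
theorem isLocallyConstructible_dim_fiber (f : X ⟶ Y) [LocallyOfFinitePresentation f]
    [QuasiCompact f] (n : WithBot ℕ∞) :
    IsLocallyConstructible {y : ↑Y | topologicalKrullDim ↑(f.fiber y) = n} := by
  intro y
  obtain ⟨W, hW, hyW, -⟩ := exists_isAffineOpen_mem_and_subset (x := y) (U := ⊤) trivial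
  refine ⟨W, W.2.mem_nhds hyW, W.2, ?_⟩
  have hcons := isConstructible_dim_fiber_fromSpec f hW n
  have hemb : IsOpenEmbedding (Scheme.homeoOfIso hW.isoSpec) :=
    (Scheme.homeoOfIso hW.isoSpec).isOpenEmbedding
  have := hcons.preimage_of_isOpenEmbedding hemb
  have hset : ((W : Set Y) ↓∩ {y : ↑Y | topologicalKrullDim ↑(f.fiber y) = n}) =
      (Scheme.homeoOfIso hW.isoSpec) ⁻¹'
        {z : Spec Γ(Y, W) | topologicalKrullDim ↑(f.fiber (hW.fromSpec z)) = n} := by
    ext w
    have hw : hW.fromSpec (Scheme.homeoOfIso hW.isoSpec w) = w.1 := hW.fromSpec_primeIdealOf w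
    show topologicalKrullDim ↑(f.fiber w.1) = n ↔
      topologicalKrullDim ↑(f.fiber (hW.fromSpec (Scheme.homeoOfIso hW.isoSpec w))) = n
    rw [hw]
  rw [hset]
  exact this

end Groth.Agent.Lib.Helper13.GenFibreCons
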