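import Groth.Agent.Lib.Helper13.LimStruct
import Groth.Agent.Lib.Helper13.LimSections

/-!
# Closed subschemes of a cofiltered limit which are of finite type over the base (helper13)

`X = lim X_i` (affine transition maps, quasi-compact stages) over `S`, `h : Y ⟶ X` a closed
immersion with `Y ⟶ S` locally of finite type: then `Y ⟶ X_i` is a closed immersion for some `i`.
-/

set_option autoImplicit false
universe u

open CategoryTheory Limits AlgebraicGeometry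

namespace Groth.Agent.Lib.Helper13.LimClosed

open Groth.Agent.Lib.Helper13.LimSections Groth.Agent.Lib.Helper13.LimStruct

/-- A ring map whose range contains the image of `R` and a set of `R`-algebra generators is
surjective. -/
lemma surjective_of_generators_mem_range {R A B : Type*} [CommRing R] [CommRing A] [CommRing B]
    (ρ : R →+* A) (Φ : B →+* A) (s : Set A)
    (hs : letI := ρ.toAlgebra; Algebra.adjoin R s = ⊤)
    (h1 : ∀ r, ρ r ∈ Φ.range) (h2 : ∀ y ∈ s, y ∈ Φ.range) : Function.Surjective Φ := by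
  let _ := ρ.toAlgebra
  let T : Subalgebra R A := { Φ.range.toSubsemiring with algebraMap_mem' := h1 }
  have hT : Algebra.adjoin R s ≤ T := Algebra.adjoin_le h2
  rw [hs] at hT
  intro a
  exact hT (Algebra.mem_top (x := a))

lemma appLE_congr_hom {X Y : Scheme.{u}} {f f' : X ⟶ Y} (e : f = f') (U : Y.Opens) (V : X.Opens)
    (hle : V ≤ f ⁻¹ᵁ U) : f.appLE U V hle = f'.appLE U V (e ▸ hle) := by
  subst e; rfl

lemma surjective_app_of_appLE {X Y : Scheme.{u}} (g : Y ⟶ X) (V : X.Opens) (O : Y.Opens)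
    (heq : O = g ⁻¹ᵁ V) (h : Function.Surjective (g.appLE V O heq.le).hom) :
    Function.Surjective (g.app V).hom := by
  subst heq
  rwa [Scheme.Hom.appLE_eq_app] at h

section Core

variable {I : Type u} [SmallCategory I] [IsCofiltered I] {S : Scheme.{u}} (D : I ⥤ Scheme.{u})
  (t : ∀ i, D.obj i ⟶ S) (ht : ∀ {i j : I} (a : i ⟶ j), D.map a ≫ t j = t i)
  (c : Cone D) (hc : IsLimit c) (tX : c.pt ⟶ S) (htX : ∀ i, c.π.app i ≫ t i = tX)
  {Y : Scheme.{u}} (h : Y ⟶ c.pt)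

include hc ht htX in
/-- One pair of affine opens at a time. -/
theorem exists_surjective_app_comp_π [∀ {i j : I} (a : i ⟶ j), IsAffineHom (D.map a)]
    [IsClosedImmersion h] [LocallyOfFiniteType (h ≫ tX)]
    (i₀ : I) (U : (D.obj i₀).Opens) (hU : IsAffineOpen U) (W : S.Opens) (hW : IsAffineOpen W)
    (hUW : U ≤ t i₀ ⁻¹ᵁ W) :
    ∃ (k : I) (g : k ⟶ i₀),
      Function.Surjective ((h ≫ c.π.app k).app (D.map g ⁻¹ᵁ U)).hom := by
  classical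
  have hπ : ∀ i, IsAffineHom (c.π.app i) := isAffineHom_π_app D c hc
  have hUi : IsAffineOpen (c.π.app i₀ ⁻¹ᵁ U) := hU.preimage (c.π.app i₀)
  have hO : IsAffineOpen (h ⁻¹ᵁ (c.π.app i₀ ⁻¹ᵁ U)) := hUi.preimage h
  have hOW : h ⁻¹ᵁ (c.π.app i₀ ⁻¹ᵁ U) ≤ (h ≫ tX) ⁻¹ᵁ W := by
    rw [← htX i₀]
    intro y hy
    exact hUW hy
  have hft : ((h ≫ tX).appLE W (h ⁻¹ᵁ (c.π.app i₀ ⁻¹ᵁ U)) hOW).hom.FiniteType :=
    HasRingHomProperty.appLE (P := @LocallyOfFiniteType) (h ≫ tX) inferInstance ⟨W, hW⟩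
      ⟨_, hO⟩ hOW
  obtain ⟨s, hs⟩ := hft.out
  have hsurj := h.app_surjective _ hUi
  choose x hx using hsurj
  choose k z hz using fun y : s => exists_appLE_eq D c hc i₀ U hU (x y.1)
  obtain ⟨k₀, g, b, hb⟩ := IsCofiltered.wideCospan (fun y : s => (k y).hom)
  refine ⟨k₀, g, ?_⟩
  have heq : h ⁻¹ᵁ (c.π.app i₀ ⁻¹ᵁ U) = (h ≫ c.π.app k₀) ⁻¹ᵁ (D.map g ⁻¹ᵁ U) := by
    rw [Scheme.Hom.comp_preimage, ← Scheme.Hom.comp_preimage (c.π.app k₀), c.w]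
  refine surjective_app_of_appLE (h ≫ c.π.app k₀) (D.map g ⁻¹ᵁ U) _ heq ?_
  refine surjective_of_generators_mem_range
    ((h ≫ tX).appLE W (h ⁻¹ᵁ (c.π.app i₀ ⁻¹ᵁ U)) hOW).hom _ (s : Set _) hs ?_ ?_
  · -- the image of the base ring
    intro r
    have hle : D.map g ⁻¹ᵁ U ≤ t k₀ ⁻¹ᵁ W := by
      rw [← ht g, Scheme.Hom.comp_preimage]
      exact Scheme.Hom.preimage_mono _ hUW
    refine ⟨((t k₀).appLE W (D.map g ⁻¹ᵁ U) hle).hom r, ?_⟩
    have e1 := Scheme.Hom.appLE_comp_appLE (h ≫ c.π.app k₀) (t k₀) W (D.map g ⁻¹ᵁ U)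
      (h ⁻¹ᵁ (c.π.app i₀ ⁻¹ᵁ U)) hle heq.le
    have e2 : (h ≫ c.π.app k₀) ≫ t k₀ = h ≫ tX := by rw [Category.assoc, htX]
    rw [appLE_congr_hom e2] at e1
    exact congrArg (fun φ => φ.hom r) e1
  · -- the generators
    intro y hy
    have hleV : D.map g ⁻¹ᵁ U ≤ D.map (b ⟨y, hy⟩) ⁻¹ᵁ (D.map (k ⟨y, hy⟩).hom ⁻¹ᵁ U) := by
      rw [← Scheme.Hom.comp_preimage, ← D.map_comp, hb]
    refine ⟨((D.map (b ⟨y, hy⟩)).appLE (D.map (k ⟨y, hy⟩).hom ⁻¹ᵁ U) (D.map g ⁻¹ᵁ U) hleV).hom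
      (z ⟨y, hy⟩), ?_⟩
    have e1 := Scheme.Hom.appLE_comp_appLE (h ≫ c.π.app k₀) (D.map (b ⟨y, hy⟩))
      (D.map (k ⟨y, hy⟩).hom ⁻¹ᵁ U) (D.map g ⁻¹ᵁ U) (h ⁻¹ᵁ (c.π.app i₀ ⁻¹ᵁ U)) hleV heq.le
    have e2 : (h ≫ c.π.app k₀) ≫ D.map (b ⟨y, hy⟩) = h ≫ c.π.app (k ⟨y, hy⟩).left := by
      rw [Category.assoc, c.w]
    rw [appLE_congr_hom e2] at e1
    have e3 := Scheme.Hom.appLE_comp_appLE h (c.π.app (k ⟨y, hy⟩).left)
      (D.map (k ⟨y, hy⟩).hom ⁻¹ᵁ U) (c.π.app i₀ ⁻¹ᵁ U) (h ⁻¹ᵁ (c.π.app i₀ ⁻¹ᵁ U))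
      (preimage_preimage_eq D c (k ⟨y, hy⟩) U).ge le_rfl
    have e4 := congrArg (fun φ => φ.hom (z ⟨y, hy⟩)) (e1.trans e3.symm)
    refine e4.trans ?_
    show (h.appLE _ _ le_rfl).hom (((c.π.app (k ⟨y, hy⟩).left).appLE _ _ _).hom (z ⟨y, hy⟩)) = y
    rw [← hz ⟨y, hy⟩, Scheme.Hom.appLE_eq_app]
    exact hx y

lemma surjective_app_of_comp {X X' Y : Scheme.{u}} (g : Y ⟶ X) (g' : Y ⟶ X') (m : X' ⟶ X)
    (e : g' ≫ m = g) (V : X.Opens) (V' : X'.Opens) (hV : V' = m ⁻¹ᵁ V)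
    (hs : Function.Surjective (g.app V).hom) : Function.Surjective (g'.app V').hom := by
  subst hV; subst e
  rw [Scheme.Hom.comp_app] at hs
  exact Function.Surjective.of_comp (g := (m.app V).hom) hs

include hc ht htX in
/-- **A closed subscheme of the limit, of finite type over the base, is a closed subscheme of
a stage.** -/
theorem exists_isClosedImmersion_comp_π [∀ {i j : I} (a : i ⟶ j), IsAffineHom (D.map a)]
    [∀ i, CompactSpace (D.obj i)] [IsClosedImmersion h] [LocallyOfFiniteType (h ≫ tX)] :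
    ∃ i, IsClosedImmersion (h ≫ c.π.app i) := by
  classical
  have hπ : ∀ i, IsAffineHom (c.π.app i) := isAffineHom_π_app D c hc
  obtain ⟨i₀⟩ := IsCofiltered.nonempty (C := I)
  -- affine opens of the stage `i₀` lying over affine opens of `S`
  have hex : ∀ x : D.obj i₀, ∃ (U : (D.obj i₀).Opens) (W : S.Opens), x ∈ U ∧ IsAffineOpen U ∧
      IsAffineOpen W ∧ U ≤ t i₀ ⁻¹ᵁ W := by
    intro x
    obtain ⟨_, ⟨W, hW, rfl⟩, hxW, -⟩ := S.isBasis_affineOpens.exists_subset_of_mem_open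
      (Set.mem_univ ((t i₀).base x)) isOpen_univ
    obtain ⟨_, ⟨U, hU, rfl⟩, hxU, hUW⟩ := (D.obj i₀).isBasis_affineOpens.exists_subset_of_mem_open
      (show x ∈ (t i₀ ⁻¹ᵁ W : Set (D.obj i₀)) from hxW) (t i₀ ⁻¹ᵁ W).2
    exact ⟨U, W, hxU, hU, hW, hUW⟩
  choose U W hxU hU hW hUW using hex
  obtain ⟨F, hF⟩ := CompactSpace.elim_nhds_subcover (fun x => (U x : Set (D.obj i₀)))
    (fun x => (U x).2.mem_nhds (hxU x))
  choose k g hk using fun x => exists_surjective_app_comp_π D t ht c hc tX htX h i₀ (U x) (hU x)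
    (W x) (hW x) (hUW x)
  obtain ⟨k₁, g₁, b, hb⟩ := IsCofiltered.wideCospan (fun x : F => g x.1)
  refine ⟨k₁, isClosedImmersion_of_forall_exists _ fun y => ?_⟩
  have hy : (D.map g₁).base y ∈ ⋃ x ∈ F, (U x : Set (D.obj i₀)) := by rw [hF]; trivial
  obtain ⟨x, hxF, hyx⟩ := Set.mem_iUnion₂.mp hy
  have hV : IsAffineOpen (D.map g₁ ⁻¹ᵁ U x) := (hU x).preimage (D.map g₁)
  refine ⟨D.map g₁ ⁻¹ᵁ U x, hyx, hV, (hV.preimage (c.π.app k₁)).preimage h, ?_⟩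
  refine surjective_app_of_comp (h ≫ c.π.app (k x)) (h ≫ c.π.app k₁) (D.map (b ⟨x, hxF⟩))
    (by rw [Category.assoc, c.w]) (D.map (g x) ⁻¹ᵁ U x) _ ?_ (hk x)
  rw [← Scheme.Hom.comp_preimage, ← D.map_comp, hb ⟨x, hxF⟩]

end Core

end Groth.Agent.Lib.Helper13.LimClosed
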