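import Mathlib.AlgebraicGeometry.AffineTransitionLimit
import Mathlib.AlgebraicGeometry.Morphisms.Separated
import Mathlib.AlgebraicGeometry.Morphisms.Immersion

/-!
# The system of fibre products `X_i ×_S X'_i` (helper13)

For two diagrams `D D' : I ⥤ Scheme` over a fixed base `S` (structure maps `t`, `t'`), the diagram
`prodSys D D' t t' : I ⥤ Scheme`, `i ↦ pullback (t.app i) (t'.app i)`, its cone `prodCone` over
limit cones of `D` and `D'`, and the fact that it is a limit cone.  Application: if the limit of a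
system of qcqs `S`-schemes with affine transition maps is separated over `S`, so is some stage.
-/

set_option autoImplicit false
universe u

open CategoryTheory Limits AlgebraicGeometry

namespace Groth.Agent.Lib.Helper13.LimProd

section Aux

variable {C : Type*} [Category C] {W X Y Z S T : C} (f₁ : W ⟶ S) (f₂ : X ⟶ S)
  [HasPullback f₁ f₂] (g₁ : Y ⟶ T) (g₂ : Z ⟶ T) [HasPullback g₁ g₂] (i₁ : W ⟶ Y) (i₂ : X ⟶ Z)
  (i₃ : S ⟶ T) (e₁ : f₁ ≫ i₃ = i₁ ≫ g₁) (e₂ : f₂ ≫ i₃ = i₂ ≫ g₂)

@[reassoc (attr := simp)]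
lemma map_fst' : pullback.map f₁ f₂ g₁ g₂ i₁ i₂ i₃ e₁ e₂ ≫ pullback.fst g₁ g₂ =
    pullback.fst f₁ f₂ ≫ i₁ := by
  unfold pullback.map; exact pullback.lift_fst _ _ _

@[reassoc (attr := simp)]
lemma map_snd' : pullback.map f₁ f₂ g₁ g₂ i₁ i₂ i₃ e₁ e₂ ≫ pullback.snd g₁ g₂ =
    pullback.snd f₁ f₂ ≫ i₂ := by
  unfold pullback.map; exact pullback.lift_snd _ _ _

end Aux

section General

variable {I : Type u} [SmallCategory I] {S : Scheme.{u}} (D D' : I ⥤ Scheme.{u})
  (t : ∀ i, D.obj i ⟶ S) (t' : ∀ i, D'.obj i ⟶ S)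
  (ht : ∀ {i j : I} (a : i ⟶ j), D.map a ≫ t j = t i)
  (ht' : ∀ {i j : I} (a : i ⟶ j), D'.map a ≫ t' j = t' i)

lemma tnat {D : I ⥤ Scheme.{u}} (t : D ⟶ (Functor.const I).obj S) {i j : I} (a : i ⟶ j) :
    D.map a ≫ (show D.obj j ⟶ S from t.app j) = (show D.obj i ⟶ S from t.app i) := by
  have := t.naturality a
  rw [this]; exact Category.comp_id _

/-- The system `i ↦ D.obj i ×_S D'.obj i`. -/
noncomputable def prodSys : I ⥤ Scheme.{u} where
  obj i := pullback (t i) (t' i)
  map {i j} a := pullback.map (t i) (t' i) (t j) (t' j) (D.map a) (D'.map a) (𝟙 S)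
    ((Category.comp_id _).trans (ht a).symm) ((Category.comp_id _).trans (ht' a).symm)
  map_id i := by apply pullback.hom_ext <;> simp
  map_comp a b := by apply pullback.hom_ext <;> simp

lemma prodSys_obj (i : I) : (prodSys D D' t t' ht ht').obj i = pullback (t i) (t' i) := rfl

/-- First projection of a stage of `prodSys`. -/
noncomputable def pfst (i : I) : (prodSys D D' t t' ht ht').obj i ⟶ D.obj i :=
  pullback.fst (t i) (t' i)

/-- Second projection of a stage of `prodSys`. -/
noncomputable def psnd (i : I) : (prodSys D D' t t' ht ht').obj i ⟶ D'.obj i :=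
  pullback.snd (t i) (t' i)

lemma pcondition (i : I) : pfst D D' t t' ht ht' i ≫ t i = psnd D D' t t' ht ht' i ≫ t' i :=
  pullback.condition

variable {D D' t t' ht ht'} in
lemma phom_ext {T : Scheme.{u}} {i : I} {f g : T ⟶ (prodSys D D' t t' ht ht').obj i}
    (h1 : f ≫ pfst D D' t t' ht ht' i = g ≫ pfst D D' t t' ht ht' i)
    (h2 : f ≫ psnd D D' t t' ht ht' i = g ≫ psnd D D' t t' ht ht' i) : f = g :=
  pullback.hom_ext h1 h2

/-- Morphisms into a stage of `prodSys`. -/
noncomputable def plift {T : Scheme.{u}} {i : I} (a : T ⟶ D.obj i) (b : T ⟶ D'.obj i)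
    (hab : a ≫ t i = b ≫ t' i) : T ⟶ (prodSys D D' t t' ht ht').obj i :=
  pullback.lift a b hab

@[reassoc (attr := simp)]
lemma plift_pfst {T : Scheme.{u}} {i : I} (a : T ⟶ D.obj i) (b : T ⟶ D'.obj i)
    (hab : a ≫ t i = b ≫ t' i) :
    plift D D' t t' ht ht' a b hab ≫ pfst D D' t t' ht ht' i = a :=
  pullback.lift_fst _ _ _

@[reassoc (attr := simp)]
lemma plift_psnd {T : Scheme.{u}} {i : I} (a : T ⟶ D.obj i) (b : T ⟶ D'.obj i)
    (hab : a ≫ t i = b ≫ t' i) :
    plift D D' t t' ht ht' a b hab ≫ psnd D D' t t' ht ht' i = b :=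
  pullback.lift_snd _ _ _

@[reassoc (attr := simp)]
lemma prodSys_map_pfst {i j : I} (a : i ⟶ j) :
    (prodSys D D' t t' ht ht').map a ≫ pfst D D' t t' ht ht' j =
      pfst D D' t t' ht ht' i ≫ D.map a :=
  map_fst' (t i) (t' i) (t j) (t' j) (D.map a) (D'.map a) (𝟙 S)
    ((Category.comp_id _).trans (ht a).symm) ((Category.comp_id _).trans (ht' a).symm)

@[reassoc (attr := simp)]
lemma prodSys_map_psnd {i j : I} (a : i ⟶ j) :
    (prodSys D D' t t' ht ht').map a ≫ psnd D D' t t' ht ht' j =
      psnd D D' t t' ht ht' i ≫ D'.map a :=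
  map_snd' (t i) (t' i) (t j) (t' j) (D.map a) (D'.map a) (𝟙 S)
    ((Category.comp_id _).trans (ht a).symm) ((Category.comp_id _).trans (ht' a).symm)

variable (c : Cone D) (c' : Cone D') (tc : c.pt ⟶ S) (tc' : c'.pt ⟶ S)
  (h : ∀ i, c.π.app i ≫ t i = tc) (h' : ∀ i, c'.π.app i ≫ t' i = tc')

/-- The cone over `prodSys` with point `c.pt ×_S c'.pt`. -/
noncomputable def prodCone : Cone (prodSys D D' t t' ht ht') where
  pt := pullback tc tc'
  π :=
  { app := fun i => plift D D' t t' ht ht' (pullback.fst tc tc' ≫ c.π.app i)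
      (pullback.snd tc tc' ≫ c'.π.app i)
      (by rw [Category.assoc, Category.assoc, h i, h' i, pullback.condition])
    naturality := fun i j a => by
      dsimp only [Functor.const_obj_obj, Functor.const_obj_map]
      rw [Category.id_comp]
      apply phom_ext
      · refine (plift_pfst ..).trans ?_
        refine Eq.trans ?_ (Category.assoc _ _ _).symm
        rw [prodSys_map_pfst, plift_pfst_assoc, Category.assoc, c.w]
      · refine (plift_psnd ..).trans ?_
        refine Eq.trans ?_ (Category.assoc _ _ _).symm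
        rw [prodSys_map_psnd, plift_psnd_assoc, Category.assoc, c'.w] }

lemma prodCone_pt :
    (prodCone D D' t t' ht ht' c c' tc tc' h h').pt = pullback tc tc' := rfl

@[reassoc (attr := simp)]
lemma prodCone_π_pfst (i : I) :
    (prodCone D D' t t' ht ht' c c' tc tc' h h').π.app i ≫ pfst D D' t t' ht ht' i =
      (show (prodCone D D' t t' ht ht' c c' tc tc' h h').pt ⟶ c.pt from pullback.fst tc tc') ≫
        c.π.app i :=
  plift_pfst ..

@[reassoc (attr := simp)]
lemma prodCone_π_psnd (i : I) :
    (prodCone D D' t t' ht ht' c c' tc tc' h h').π.app i ≫ psnd D D' t t' ht ht' i =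
      (show (prodCone D D' t t' ht ht' c c' tc tc' h h').pt ⟶ c'.pt from pullback.snd tc tc') ≫
        c'.π.app i :=
  plift_psnd ..

/-- First components of a cone over `prodSys`. -/
noncomputable def fstCone (s : Cone (prodSys D D' t t' ht ht')) : Cone D where
  pt := s.pt
  π :=
  { app := fun i => s.π.app i ≫ pfst D D' t t' ht ht' i
    naturality := fun i j a => by
      dsimp only [Functor.const_obj_obj, Functor.const_obj_map]
      rw [Category.id_comp, Category.assoc, ← prodSys_map_pfst, ← Category.assoc, s.w] }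

/-- Second components of a cone over `prodSys`. -/
noncomputable def sndCone (s : Cone (prodSys D D' t t' ht ht')) : Cone D' where
  pt := s.pt
  π :=
  { app := fun i => s.π.app i ≫ psnd D D' t t' ht ht' i
    naturality := fun i j a => by
      dsimp only [Functor.const_obj_obj, Functor.const_obj_map]
      rw [Category.id_comp, Category.assoc, ← prodSys_map_psnd, ← Category.assoc, s.w] }

/-- First component of the lift. -/
noncomputable def liftFst (hc : IsLimit c) (s : Cone (prodSys D D' t t' ht ht')) : s.pt ⟶ c.pt :=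
  hc.lift (fstCone D D' t t' ht ht' s)

/-- Second component of the lift. -/
noncomputable def liftSnd (hc' : IsLimit c') (s : Cone (prodSys D D' t t' ht ht')) :
    s.pt ⟶ c'.pt :=
  hc'.lift (sndCone D D' t t' ht ht' s)

@[reassoc]
lemma liftFst_π (hc : IsLimit c) (s : Cone (prodSys D D' t t' ht ht')) (i : I) :
    liftFst D D' t t' ht ht' c hc s ≫ c.π.app i = s.π.app i ≫ pfst D D' t t' ht ht' i :=
  hc.fac _ i

@[reassoc]
lemma liftSnd_π (hc' : IsLimit c') (s : Cone (prodSys D D' t t' ht ht')) (i : I) :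
    liftSnd D D' t t' ht ht' c' hc' s ≫ c'.π.app i = s.π.app i ≫ psnd D D' t t' ht ht' i :=
  hc'.fac _ i

/-- The two projections of the point of `prodCone`. -/
noncomputable def cfst : (prodCone D D' t t' ht ht' c c' tc tc' h h').pt ⟶ c.pt :=
  pullback.fst tc tc'

/-- The two projections of the point of `prodCone`. -/
noncomputable def csnd : (prodCone D D' t t' ht ht' c c' tc tc' h h').pt ⟶ c'.pt :=
  pullback.snd tc tc'

@[reassoc]
lemma prodCone_π_pfst' (i : I) :
    (prodCone D D' t t' ht ht' c c' tc tc' h h').π.app i ≫ pfst D D' t t' ht ht' i =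
      cfst D D' t t' ht ht' c c' tc tc' h h' ≫ c.π.app i :=
  plift_pfst ..

@[reassoc]
lemma prodCone_π_psnd' (i : I) :
    (prodCone D D' t t' ht ht' c c' tc tc' h h').π.app i ≫ psnd D D' t t' ht ht' i =
      csnd D D' t t' ht ht' c c' tc tc' h h' ≫ c'.π.app i :=
  plift_psnd ..

/-- The lift. -/
noncomputable def liftProd [IsCofiltered I] (hc : IsLimit c) (hc' : IsLimit c')
    (s : Cone (prodSys D D' t t' ht ht')) :
    s.pt ⟶ (prodCone D D' t t' ht ht' c c' tc tc' h h').pt :=
  pullback.lift (liftFst D D' t t' ht ht' c hc s) (liftSnd D D' t t' ht ht' c' hc' s)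
    (by
      obtain ⟨i⟩ := IsCofiltered.nonempty (C := I)
      rw [← h i, ← h' i, liftFst_π_assoc, liftSnd_π_assoc, pcondition])

@[reassoc]
lemma liftProd_cfst [IsCofiltered I] (hc : IsLimit c) (hc' : IsLimit c')
    (s : Cone (prodSys D D' t t' ht ht')) :
    liftProd D D' t t' ht ht' c c' tc tc' h h' hc hc' s ≫ cfst D D' t t' ht ht' c c' tc tc' h h' =
      liftFst D D' t t' ht ht' c hc s :=
  pullback.lift_fst _ _ _

@[reassoc]
lemma liftProd_csnd [IsCofiltered I] (hc : IsLimit c) (hc' : IsLimit c')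
    (s : Cone (prodSys D D' t t' ht ht')) :
    liftProd D D' t t' ht ht' c c' tc tc' h h' hc hc' s ≫ csnd D D' t t' ht ht' c c' tc tc' h h' =
      liftSnd D D' t t' ht ht' c' hc' s :=
  pullback.lift_snd _ _ _

/-- `prodCone` is a limit cone. -/
noncomputable def isLimitProdCone [IsCofiltered I] (hc : IsLimit c) (hc' : IsLimit c') :
    IsLimit (prodCone D D' t t' ht ht' c c' tc tc' h h') where
  lift s := liftProd D D' t t' ht ht' c c' tc tc' h h' hc hc' s
  fac s i := by
    apply phom_ext
    · rw [Category.assoc, prodCone_π_pfst', liftProd_cfst_assoc, liftFst_π]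
    · rw [Category.assoc, prodCone_π_psnd', liftProd_csnd_assoc, liftSnd_π]
  uniq s m hm := by
    refine pullback.hom_ext (f := tc) (g := tc') ?_ ?_
    · refine hc.hom_ext fun i => ?_
      refine Eq.trans ?_ (congrArg (· ≫ c.π.app i) (liftProd_cfst ..).symm)
      rw [liftFst_π, ← hm, Category.assoc, Category.assoc, prodCone_π_pfst']
      rfl
    · refine hc'.hom_ext fun i => ?_
      refine Eq.trans ?_ (congrArg (· ≫ c'.π.app i) (liftProd_csnd ..).symm)
      rw [liftSnd_π, ← hm, Category.assoc, Category.assoc, prodCone_π_psnd']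
      rfl

end General

/-- Key topological lemma: a point of `X' ×_S X'` lying over the diagonal of `X` and in the
closure of the diagonal of `X'` lies in the diagonal of `X'`, if `X' ⟶ X` is separated. -/
lemma mem_range_diagonal_of_mem_closure {X' X S : Scheme.{u}} (f : X' ⟶ X) (g : X ⟶ S)
    (u : X' ⟶ S) (hu : f ≫ g = u) [IsSeparated f]
    (x : ↑(pullback u u))
    (hx : (pullback.map u u g g f f (𝟙 S) ((Category.comp_id _).trans hu.symm)
      ((Category.comp_id _).trans hu.symm)).base x ∈ Set.range (pullback.diagonal g).base)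
    (hx' : x ∈ closure (Set.range (pullback.diagonal u).base)) :
    x ∈ Set.range (pullback.diagonal u).base := by
  subst hu
  have sq := pullback_map_diagonal_isPullback f f g
  obtain ⟨y, hy⟩ := hx
  obtain ⟨r, -, hr⟩ := Scheme.exists_preimage_of_isPullback sq y x hy
  have hρ : IsImmersion (pullback.map f f (f ≫ g) (f ≫ g) (𝟙 X') (𝟙 X') g
      (Category.id_comp _).symm (Category.id_comp _).symm) :=
    MorphismProperty.of_isPullback (P := @IsImmersion) sq inferInstance
  have hδ : pullback.diagonal f ≫ pullback.map f f (f ≫ g) (f ≫ g) (𝟙 X') (𝟙 X') g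
      (Category.id_comp _).symm (Category.id_comp _).symm = pullback.diagonal (f ≫ g) := by
    apply pullback.hom_ext
    · rw [Category.assoc, map_fst', pullback.diagonal_fst_assoc, pullback.diagonal_fst]
    · rw [Category.assoc, map_snd', pullback.diagonal_snd_assoc, pullback.diagonal_snd]
  have hcl : IsClosed (Set.range (pullback.diagonal f).base) :=
    (pullback.diagonal f).isClosedEmbedding.isClosed_range
  have hemb := hρ.isEmbedding
  have hr' : r ∈ closure (Set.range (pullback.diagonal f).base) := by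
    rw [hemb.isInducing.closure_eq_preimage_closure_image]
    show _ ∈ closure _
    rw [hr, ← Set.range_comp]
    have : (⇑(pullback.map f f (f ≫ g) (f ≫ g) (𝟙 X') (𝟙 X') g
      (Category.id_comp _).symm (Category.id_comp _).symm).base ∘ ⇑(pullback.diagonal f).base) =
        ⇑(pullback.diagonal (f ≫ g)).base := by
      rw [← hδ]; rfl
    rw [this]
    exact hx'
  rw [hcl.closure_eq] at hr'
  obtain ⟨w, rfl⟩ := hr'
  refine ⟨w, ?_⟩
  rw [← hr, ← hδ]
  rfl


section Sep

variable {I : Type u} [SmallCategory I] {S : Scheme.{u}} (D : I ⥤ Scheme.{u})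
  (t : ∀ i, D.obj i ⟶ S) (ht : ∀ {i j : I} (a : i ⟶ j), D.map a ≫ t j = t i)
  (c : Cone D) (tc : c.pt ⟶ S) (h : ∀ i, c.π.app i ≫ t i = tc)

/-- The diagonal of a stage, as a morphism to the stage of `prodSys`. -/
noncomputable def diag (i : I) : D.obj i ⟶ (prodSys D D t t ht ht).obj i :=
  pullback.diagonal (t i)

instance (i : I) : IsImmersion (diag D t ht i) :=
  inferInstanceAs (IsImmersion (pullback.diagonal (t i)))

@[reassoc (attr := simp)]
lemma diag_pfst (i : I) : diag D t ht i ≫ pfst D D t t ht ht i = 𝟙 _ := pullback.diagonal_fst _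

@[reassoc (attr := simp)]
lemma diag_psnd (i : I) : diag D t ht i ≫ psnd D D t t ht ht i = 𝟙 _ := pullback.diagonal_snd _

@[reassoc]
lemma diag_map {j i : I} (a : j ⟶ i) :
    diag D t ht j ≫ (prodSys D D t t ht ht).map a = D.map a ≫ diag D t ht i := by
  apply phom_ext
  · rw [Category.assoc, prodSys_map_pfst, diag_pfst_assoc, Category.assoc, diag_pfst,
      Category.comp_id]
  · rw [Category.assoc, prodSys_map_psnd, diag_psnd_assoc, Category.assoc, diag_psnd,
      Category.comp_id]

/-- The diagonal of the limit, as a morphism to the point of `prodCone`. -/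
noncomputable def cdiag : c.pt ⟶ (prodCone D D t t ht ht c c tc tc h h).pt :=
  pullback.diagonal tc

@[reassoc (attr := simp)]
lemma cdiag_cfst : cdiag D t ht c tc h ≫ cfst D D t t ht ht c c tc tc h h = 𝟙 _ :=
  pullback.diagonal_fst _

@[reassoc (attr := simp)]
lemma cdiag_csnd : cdiag D t ht c tc h ≫ csnd D D t t ht ht c c tc tc h h = 𝟙 _ :=
  pullback.diagonal_snd _

@[reassoc]
lemma cdiag_π (i : I) :
    cdiag D t ht c tc h ≫ (prodCone D D t t ht ht c c tc tc h h).π.app i =
      c.π.app i ≫ diag D t ht i := by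
  apply phom_ext
  · rw [Category.assoc, prodCone_π_pfst', cdiag_cfst_assoc, Category.assoc, diag_pfst,
      Category.comp_id]
  · rw [Category.assoc, prodCone_π_psnd', cdiag_csnd_assoc, Category.assoc, diag_psnd,
      Category.comp_id]

end Sep

section SepMain

open TopologicalSpace

variable {I : Type u} [SmallCategory I] {S : Scheme.{u}} (D : I ⥤ Scheme.{u})
  (t : ∀ i, D.obj i ⟶ S) (ht : ∀ {i j : I} (a : i ⟶ j), D.map a ≫ t j = t i)
  (c : Cone D) (tc : c.pt ⟶ S) (h : ∀ i, c.π.app i ≫ t i = tc)

instance prodSys_map_isAffineHom [∀ {i j : I} (a : i ⟶ j), IsAffineHom (D.map a)] {i j : I}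
    (a : i ⟶ j) : IsAffineHom ((prodSys D D t t ht ht).map a) :=
  MorphismProperty.pullbackMap (P := @IsAffineHom) inferInstance inferInstance (ht a).symm
    (ht a).symm

instance prodSys_obj_compactSpace [QuasiSeparatedSpace S] [∀ i, CompactSpace (D.obj i)] (i : I) :
    CompactSpace ((prodSys D D t t ht ht).obj i) :=
  inferInstanceAs (CompactSpace ↥(pullback (t i) (t i)))

instance prodSys_obj_quasiSeparatedSpace [∀ i, QuasiSeparatedSpace (D.obj i)] (i : I) :
    QuasiSeparatedSpace ((prodSys D D t t ht ht).obj i) :=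
  show QuasiSeparatedSpace ↥(pullback (t i) (t i)) from
    quasiSeparatedSpace_of_quasiSeparated (pullback.fst (t i) (t i))


include ht h in
/-- **Separatedness descends to a stage**: if the limit of a cofiltered system of qcqs
`S`-schemes with affine transition maps is separated over the quasi-separated scheme `S`, then so
is some stage. -/
theorem exists_isSeparated [IsCofiltered I] (hc : IsLimit c) [QuasiSeparatedSpace S]
    [∀ {i j : I} (a : i ⟶ j), IsAffineHom (D.map a)] [∀ i, CompactSpace (D.obj i)]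
    [∀ i, QuasiSeparatedSpace (D.obj i)] [IsSeparated tc] : ∃ i, IsSeparated (t i) := by
  by_contra! H
  let P := prodSys D D t t ht ht
  let cP := prodCone D D t t ht ht c c tc tc h h
  have hcP : IsLimit cP := isLimitProdCone D D t t ht ht c c tc tc h h hc hc
  let Z : ∀ i, Set (P.obj i) := fun i =>
    closure (Set.range (diag D t ht i).base) \ Set.range (diag D t ht i).base
  have hZc : ∀ i, IsClosed (Z i) := fun i => by
    have := (diag D t ht i).isLocallyClosed_range.isOpen_coborder.isClosed_compl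
    simpa [coborder, Z] using this
  have hZne : ∀ i, (Z i).Nonempty := fun i => by
    by_contra hne
    apply H i
    have hcl : IsClosed (Set.range (diag D t ht i).base) := by
      rw [← closure_subset_iff_isClosed]
      intro x hx
      by_contra hx'
      exact hne ⟨x, hx, hx'⟩
    have : IsClosedImmersion (diag D t ht i) := IsClosedImmersion.of_isPreimmersion _ hcl
    exact ⟨this⟩
  have hmaps : ∀ {j i : I} (a : j ⟶ i), Set.MapsTo (P.map a).base (Z j) (Z i) := by
    intro j i a x hx
    have hcomp : (⇑(P.map a).base ∘ ⇑(diag D t ht j).base) =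
        ⇑(diag D t ht i).base ∘ ⇑(D.map a).base := by
      have := congrArg (fun f : D.obj j ⟶ P.obj i => (⇑f.base : _ → _)) (diag_map D t ht a)
      simpa using this
    refine ⟨?_, ?_⟩
    · have h1 := image_closure_subset_closure_image (P.map a).base.hom.2
        (s := Set.range (diag D t ht j).base) (Set.mem_image_of_mem _ hx.1)
      refine closure_mono ?_ h1
      rw [← Set.range_comp]
      show Set.range (⇑(P.map a).base ∘ ⇑(diag D t ht j).base) ⊆ _
      rw [hcomp, Set.range_comp]
      exact Set.image_subset_range _ _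
    · intro hx2
      have : IsSeparated (D.map a) := inferInstance
      exact hx.2 (mem_range_diagonal_of_mem_closure (D.map a) (t i) (t j) (ht a) x hx2 hx.1)
  obtain ⟨z, hz⟩ := exists_mem_of_isClosed_of_nonempty P cP hcP Z hZc hZne
    (fun i => (hZc i).isCompact) (fun a => hmaps a)
  have hπ : ∀ (i : I) (x : c.pt), (cP.π.app i).base ((cdiag D t ht c tc h).base x) =
      (diag D t ht i).base ((c.π.app i).base x) := by
    intro i x
    have := congrArg (fun f : c.pt ⟶ P.obj i => (⇑f.base : _ → _)) (cdiag_π D t ht c tc h i)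
    exact congrFun this x
  have hzΔ : z ∉ Set.range (cdiag D t ht c tc h).base := by
    rintro ⟨x, rfl⟩
    obtain ⟨i₀⟩ := IsCofiltered.nonempty (C := I)
    exact (hz i₀).2 ⟨(c.π.app i₀).base x, (hπ i₀ x).symm⟩
  have hΔcl : IsClosed (Set.range (cdiag D t ht c tc h).base) := by
    have : IsClosedImmersion (cdiag D t ht c tc h) :=
      inferInstanceAs (IsClosedImmersion (pullback.diagonal tc))
    exact (cdiag D t ht c tc h).isClosedEmbedding.isClosed_range
  let U : cP.pt.Opens := ⟨(Set.range (cdiag D t ht c tc h).base)ᶜ, hΔcl.isOpen_compl⟩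
  obtain ⟨_, ⟨i, O, hO, rfl⟩, hzO, hOU⟩ := Opens.isBasis_iff_nbhd.mp
    (isBasis_preimage_isAffineOpen P cP hcP) (show z ∈ U from hzΔ)
  have hempty : c.π.app i ⁻¹ᵁ (diag D t ht i ⁻¹ᵁ O) ≤ c.π.app i ⁻¹ᵁ ⊥ := by
    intro x hx
    exfalso
    have hx1 : (cdiag D t ht c tc h).base x ∈ cP.π.app i ⁻¹ᵁ O := by
      show (cP.π.app i).base ((cdiag D t ht c tc h).base x) ∈ O
      rw [hπ]; exact hx
    exact hOU hx1 ⟨x, rfl⟩
  have hcomp : IsCompact ((diag D t ht i ⁻¹ᵁ O : (D.obj i).Opens) : Set (D.obj i)) := by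
    have : QuasiCompact (diag D t ht i) :=
      inferInstanceAs (QuasiCompact (pullback.diagonal (t i)))
    exact QuasiCompact.isCompact_preimage (f := diag D t ht i) _ O.2 hO.isCompact
  obtain ⟨j, a, hj⟩ := exists_map_preimage_le_map_preimage D c hc hcomp hempty
  have h1 : (cP.π.app j).base z ∈ closure (Set.range (diag D t ht j).base) := (hz j).1
  have h2 : (cP.π.app j).base z ∈ (P.map a ⁻¹ᵁ O : (P.obj j).Opens) := by
    show (P.map a).base ((cP.π.app j).base z) ∈ O
    have := congrArg (fun f : cP.pt ⟶ P.obj i => (⇑f.base : _ → _)) (cP.w a)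
    have := congrFun this z
    exact this ▸ hzO
  obtain ⟨_, hw1, ⟨w, rfl⟩⟩ := mem_closure_iff.mp h1 _ (P.map a ⁻¹ᵁ O).2 h2
  have hw2 : w ∈ D.map a ⁻¹ᵁ (diag D t ht i ⁻¹ᵁ O) := by
    show (diag D t ht i).base ((D.map a).base w) ∈ O
    have := congrArg (fun f : D.obj j ⟶ P.obj i => (⇑f.base : _ → _)) (diag_map D t ht a)
    have := congrFun this w
    exact this ▸ hw1
  exact (hj hw2).elim


/-- Structure maps of a cone composed with compatible maps to a fixed base agree. -/
lemma cone_comp_eq [IsCofiltered I] {D : I ⥤ Scheme.{u}} (t : D ⟶ (Functor.const I).obj S)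
    (c : Cone D) (i j : I) :
    c.π.app i ≫ (show D.obj i ⟶ S from t.app i) = c.π.app j ≫ (show D.obj j ⟶ S from t.app j) := by
  have key : ∀ {k l : I} (a : k ⟶ l),
      c.π.app k ≫ (show D.obj k ⟶ S from t.app k) =
        c.π.app l ≫ (show D.obj l ⟶ S from t.app l) := by
    intro k l a
    rw [← tnat t a, ← Category.assoc, c.w]
  rw [← key (IsCofiltered.minToLeft i j), ← key (IsCofiltered.minToRight i j)]

end SepMain

end Groth.Agent.Lib.Helper13.LimProd
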