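import Groth.Agent.Lib.Helper13.LimStruct
import Mathlib.AlgebraicGeometry.Morphisms.Integral

/-!
# Structure maps of a cofiltered limit: eventual finiteness (helper13)

If `X = lim X_i` (finite transition maps, `X_i` locally of finite type over the quasi-compact
base `S`, some `X_{i₁} ⟶ S` affine) is integral over `S`, then some `X_j ⟶ S` is finite.
-/

set_option autoImplicit false
universe u

open CategoryTheory Limits AlgebraicGeometry

namespace Groth.Agent.Lib.Helper13.LimStruct

section CoreFin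

variable {I : Type u} [SmallCategory I] [IsCofiltered I] {S : Scheme.{u}} (D : I ⥤ Scheme.{u})
  (t : ∀ i, D.obj i ⟶ S) (ht : ∀ {i j : I} (a : i ⟶ j), D.map a ≫ t j = t i)
  (c : Cone D) (hc : IsLimit c)

/-- "Affine preimage and finite on sections over `W`". -/
def GoodFin {X : Scheme.{u}} (g : X ⟶ S) (W : S.Opens) : Prop :=
  IsAffineOpen (g ⁻¹ᵁ W) ∧ (g.app W).hom.Finite

lemma GoodFin.precomp {X' X : Scheme.{u}} (m : X' ⟶ X) [IsFinite m] {g : X ⟶ S}
    {W : S.Opens} (hg : GoodFin g W) : GoodFin (m ≫ g) W := by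
  refine ⟨hg.1.preimage m, ?_⟩
  rw [Scheme.Hom.comp_app]
  show ((m.app (g ⁻¹ᵁ W)).hom.comp (g.app W).hom).Finite
  exact RingHom.Finite.comp (m.finite_app _ hg.1) hg.2

include hc in
/-- One affine open of the base at a time: integrality on sections descends to a stage. -/
theorem exists_goodFin [∀ {i j : I} (a : i ⟶ j), IsFinite (D.map a)]
    (i₁ : I) [IsAffineHom (t i₁)] [LocallyOfFiniteType (t i₁)]
    [IsIntegralHom (c.π.app i₁ ≫ t i₁)] (W : S.Opens) (hW : IsAffineOpen W) :
    ∃ (j : I) (a : j ⟶ i₁), GoodFin (D.map a ≫ t i₁) W := by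
  classical
  have hD : ∀ {i j : I} (a : i ⟶ j), IsAffineHom (D.map a) := fun a => inferInstance
  have hV : IsAffineOpen (t i₁ ⁻¹ᵁ W) := hW.preimage (t i₁)
  have hft : ((t i₁).app W).hom.FiniteType := by
    rw [Scheme.Hom.app_eq_appLE]
    exact HasRingHomProperty.appLE (P := @LocallyOfFiniteType) (t i₁) inferInstance ⟨W, hW⟩
      ⟨_, hV⟩ _
  obtain ⟨s, hs⟩ := hft.out
  have hint := (c.π.app i₁ ≫ t i₁).isIntegral_app W hW
  rw [Scheme.Hom.comp_app] at hint
  replace hint : (((c.π.app i₁).app (t i₁ ⁻¹ᵁ W)).hom.comp ((t i₁).app W).hom).IsIntegral := hint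
  choose p hpm hp using fun x : Γ(D.obj i₁, t i₁ ⁻¹ᵁ W) =>
    hint (((c.π.app i₁).app (t i₁ ⁻¹ᵁ W)).hom x)
  obtain ⟨j, a, ha⟩ := exists_forall_app_map_eq D c hc (ι := s) hV.isCompact
    (fun l => (p l.1).eval₂ ((t i₁).app W).hom l.1) (fun _ => 0) (fun l => by
      rw [map_zero]
      have := Polynomial.hom_eval₂ (p l.1) ((t i₁).app W).hom
        ((c.π.app i₁).app (t i₁ ⁻¹ᵁ W)).hom l.1
      exact this.trans (hp l.1))
  refine ⟨j, a, hV.preimage (D.map a), ?_⟩
  rw [Scheme.Hom.comp_app]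
  show (((D.map a).app (t i₁ ⁻¹ᵁ W)).hom.comp ((t i₁).app W).hom).Finite
  have hψ : ((D.map a).app (t i₁ ⁻¹ᵁ W)).hom.Finite := (D.map a).finite_app _ hV
  refine RingHom.IsIntegral.to_finite ?_ (RingHom.FiniteType.comp hψ.finiteType hft)
  refine isIntegral_comp_of_generators ((t i₁).app W).hom ((D.map a).app (t i₁ ⁻¹ᵁ W)).hom
    hψ.to_isIntegral (s : Set _) hs ?_
  intro x hx
  refine ⟨p x, hpm x, ?_⟩
  rw [← Polynomial.hom_eval₂]
  have := ha ⟨x, hx⟩
  rw [map_zero] at this
  exact this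

include hc ht in
/-- **Finiteness descends to a stage** (transition maps finite, stages locally of finite type
over the quasi-compact base, limit integral over the base). -/
theorem exists_isFinite [CompactSpace S]
    [∀ {i j : I} (a : i ⟶ j), IsFinite (D.map a)]
    [∀ i, LocallyOfFiniteType (t i)] (i₁ : I) [IsAffineHom (t i₁)]
    [IsIntegralHom (c.π.app i₁ ≫ t i₁)] : ∃ j, IsFinite (t j) := by
  classical
  obtain ⟨F, hF⟩ := CompactSpace.elim_nhds_subcover
    (fun x : S => ((S.affineCover.f (S.affineCover.idx x)).opensRange : Set S))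
    (fun x => (S.affineCover.f (S.affineCover.idx x)).opensRange.2.mem_nhds
      (S.affineCover.covers x))
  have hW : ∀ x : S, IsAffineOpen (S.affineCover.f (S.affineCover.idx x)).opensRange :=
    fun x => isAffineOpen_opensRange _
  choose j a hj using fun x : S => exists_goodFin D t c hc i₁ _ (hW x)
  obtain ⟨k, hk⟩ := IsCofiltered.inf_objs_exists (F.image j)
  refine ⟨k, isFinite_of_forall_exists (t k) fun y => ?_⟩
  have hy : y ∈ ⋃ x ∈ F, ((S.affineCover.f (S.affineCover.idx x)).opensRange : Set S) := by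
    rw [hF]; trivial
  obtain ⟨x, hx, hyx⟩ := Set.mem_iUnion₂.mp hy
  refine ⟨_, hyx, hW x, ?_⟩
  let b : k ⟶ j x := (hk (Finset.mem_image_of_mem j hx)).some
  have e : D.map b ≫ D.map (a x) ≫ t i₁ = t k := by rw [ht, ht]
  have := (hj x).precomp (D.map b)
  rw [e] at this
  exact this

end CoreFin

end Groth.Agent.Lib.Helper13.LimStruct
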