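import Groth.Agent.Lib.Helper13.LimStruct
import Groth.Agent.Lib.Helper13.LimDescent8
import Groth.Agent.S9200

/-!
# Structure maps of a cofiltered limit: eventual immersions (helper13)

Transition maps closed immersions, stages qcqs and locally of finite type over the
quasi-separated base `S`; if `lim X_i ⟶ S` is an immersion, so is some `X_i ⟶ S`.
-/

set_option autoImplicit false
universe u

open CategoryTheory Limits AlgebraicGeometry

namespace Groth.Agent.Lib.Helper13.LimStruct

open Groth.Agent.Lib.Helper13.LimDescent in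
set_option backward.isDefEq.respectTransparency false in
/-- **Immersions descend to a stage.** -/
theorem exists_isImmersion {I : Type u} [SmallCategory I] [IsCofiltered I] {S : Scheme.{u}}
    (D : I ⥤ Scheme.{u}) (t : ∀ i, D.obj i ⟶ S)
    (ht : ∀ {i j : I} (a : i ⟶ j), D.map a ≫ t j = t i) (c : Cone D) (hc : IsLimit c)
    (tc : c.pt ⟶ S) (h : ∀ i, c.π.app i ≫ t i = tc)
    [QuasiSeparatedSpace S] [∀ {i j : I} (a : i ⟶ j), IsClosedImmersion (D.map a)]
    [∀ i, CompactSpace (D.obj i)] [∀ i, QuasiSeparatedSpace (D.obj i)]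
    [∀ i, LocallyOfFiniteType (t i)] [IsImmersion tc] : ∃ i, IsImmersion (t i) := by
  have hDa : ∀ {i j : I} (a : i ⟶ j), IsAffineHom (D.map a) := fun a => inferInstance
  have hcpt : CompactSpace c.pt := Scheme.compactSpace_of_isLimit D c hc
  -- a quasi-compact open `U` of `S` in which the image of the limit is closed
  have hK : IsCompact (Set.range tc.base) := isCompact_range tc.continuous
  obtain ⟨U, hUc, hKU, hUU₀⟩ := exists_isCompact_opens_between (Y := S) hK tc.coborderRange
    subset_coborder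
  -- some stage maps into `U`
  obtain ⟨i₀⟩ := IsCofiltered.nonempty (C := I)
  have htop : c.π.app i₀ ⁻¹ᵁ (t i₀ ⁻¹ᵁ U) = ⊤ := by
    rw [← Scheme.Hom.comp_preimage, h i₀]
    exact top_le_iff.mp fun x _ => hKU ⟨x, rfl⟩
  obtain ⟨j, a, hj⟩ := exists_map_eq_top D c hc (t i₀ ⁻¹ᵁ U) htop
  rw [← Scheme.Hom.comp_preimage, ht a] at hj
  -- the system of stages over `j`, as schemes over `U`
  let D' : Over j ⥤ Scheme.{u} := Over.forget j ⋙ D
  let c' : Cone D' := c.whisker (Over.forget j)
  have hc' : IsLimit c' := (Functor.Initial.isLimitWhiskerEquiv (Over.forget j) c).symm hc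
  have hrange : ∀ k : Over j, Set.range (t k.left).base ⊆ Set.range U.ι.base := by
    intro k
    rw [Scheme.Opens.range_ι]
    rintro _ ⟨x, rfl⟩
    have hx : (D.map k.hom).base x ∈ t j ⁻¹ᵁ U := by rw [hj]; trivial
    have := congrArg (fun f : D.obj k.left ⟶ S => (⇑f.base : _ → _)) (ht k.hom)
    have := congrFun this x
    exact this ▸ hx
  let t' : ∀ k : Over j, D'.obj k ⟶ (U : Scheme.{u}) := fun k =>
    IsOpenImmersion.lift U.ι (t k.left) (hrange k)
  have ht'ι : ∀ k, t' k ≫ U.ι = t k.left := fun k => IsOpenImmersion.lift_fac _ _ _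
  have ht' : ∀ {k l : Over j} (b : k ⟶ l), D'.map b ≫ t' l = t' k := by
    intro k l b
    rw [← cancel_mono U.ι, Category.assoc, ht'ι, ht'ι]
    exact ht b.left
  have hD' : ∀ {k l : Over j} (b : k ⟶ l), IsClosedImmersion (D'.map b) := fun b =>
    inferInstanceAs (IsClosedImmersion (D.map b.left))
  have hD'a : ∀ (k l : Over j) (b : k ⟶ l), IsAffineHom (D'.map b) := fun _ _ b => inferInstance
  have hcs : ∀ k, CompactSpace (D'.obj k) := fun k => inferInstanceAs (CompactSpace (D.obj k.left))
  have hqs : ∀ k, QuasiSeparatedSpace (D'.obj k) := fun k =>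
    inferInstanceAs (QuasiSeparatedSpace (D.obj k.left))
  have hlft : ∀ k, LocallyOfFiniteType (t' k) := fun k => by
    have : LocallyOfFiniteType (t' k ≫ U.ι) := by rw [ht'ι]; infer_instance
    exact locallyOfFiniteType_of_comp (t' k) U.ι
  have hUc' : CompactSpace (U : Scheme.{u}) := isCompact_iff_compactSpace.mp hUc
  have hUqs : QuasiSeparatedSpace (U : Scheme.{u}) :=
    (isQuasiSeparated_iff_quasiSeparatedSpace _ U.2).mp (.of_quasiSeparatedSpace _)
  -- the limit is a closed subscheme of `U`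
  let tc' : c'.pt ⟶ (U : Scheme.{u}) := IsOpenImmersion.lift U.ι tc (by
    rw [Scheme.Opens.range_ι]; exact hKU)
  have htc'ι : tc' ≫ U.ι = tc := IsOpenImmersion.lift_fac _ _ _
  have hcone : ∀ k, c'.π.app k ≫ t' k = tc' := by
    intro k
    rw [← cancel_mono U.ι, Category.assoc, ht'ι, htc'ι]
    exact h k.left
  have hci : IsClosedImmersion tc' := by
    have e : tc' ≫ S.homOfLE hUU₀ = tc.liftCoborder := by
      rw [← cancel_mono tc.coborderRange.ι, Category.assoc, Scheme.homOfLE_ι, htc'ι,
        Scheme.Hom.liftCoborder_ι]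
    have : IsClosedImmersion (tc' ≫ S.homOfLE hUU₀) := by rw [e]; infer_instance
    exact IsClosedImmersion.of_comp tc' (S.homOfLE hUU₀)
  -- an affine stage (over `U`)
  let tU : D' ⟶ (Functor.const (Over j)).obj (U : Scheme.{u}) :=
    { app := fun k => t' k
      naturality := fun k l b => by
        dsimp only [Functor.const_obj_obj, Functor.const_obj_map]
        rw [Category.comp_id]
        exact ht' b }
  have haff : IsAffineHom (c'.π.app (Over.mk (𝟙 j)) ≫ tU.app (Over.mk (𝟙 j))) := by
    have : c'.π.app (Over.mk (𝟙 j)) ≫ tU.app (Over.mk (𝟙 j)) = tc' := hcone _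
    rw [this]; infer_instance
  obtain ⟨k₁, hk₁⟩ := Groth.Agent.S9200.result (U : Scheme.{u}) D' tU c' hc' (Over.mk (𝟙 j))
  have h1 : IsAffineHom (t' k₁) := hk₁ k₁ (𝟙 _)
  have h3 : IsClosedImmersion (c'.π.app k₁ ≫ t' k₁) := by rw [hcone k₁]; exact hci
  obtain ⟨k, hk⟩ := exists_isClosedImmersion D' t' ht' c' hc' k₁
  refine ⟨k.left, ?_⟩
  rw [← ht'ι k]
  infer_instance

end Groth.Agent.Lib.Helper13.LimStruct
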