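import Mathlib

set_option autoImplicit false
universe u
open TensorProduct CategoryTheory

namespace Groth.Agent.Lib.Helper13.OmegaAffine

open ModuleCat ChangeOfRings

section General

variable {A B : Type u} [CommRing A] [CommRing B] (μ : B →+* A)

/-- `1 ⊗ x = 0` in `A ⊗[B] I` when `x ∈ I²`, where `I = ker (B → A)`. -/
lemma one_tmul_eq_zero_of_mem_sq (x : RingHom.ker μ) (hx : (x : B) ∈ (RingHom.ker μ) ^ 2) :
    ((1 : A) ⊗ₜ[B,μ] x : (extendScalars μ).obj (ModuleCat.of B (RingHom.ker μ))) = 0 := by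
  have hx' : x ∈ ((RingHom.ker μ) • ⊤ : Submodule B (RingHom.ker μ)) := by
    have := (Ideal.toCotangent_eq_zero (RingHom.ker μ) x).mpr hx
    exact (Submodule.Quotient.mk_eq_zero _).mp this
  let m1 : Module B A := Module.compHom A μ
  refine Submodule.smul_induction_on hx' (fun r hr n _ => ?_) (fun a b ha hb => ?_)
  · have : ((1 : A) ⊗ₜ[B] (r • n) : A ⊗[B] (RingHom.ker μ)) = (r • (1 : A)) ⊗ₜ[B] n :=
      (TensorProduct.smul_tmul r (1 : A) n).symm
    have h0 : (r • (1 : A)) = 0 := by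
      change μ r * 1 = 0
      rw [mul_one]; exact hr
    exact this.trans (by rw [h0]; exact TensorProduct.zero_tmul _ _)
  · exact (TensorProduct.tmul_add _ a b).trans (by rw [ha, hb, add_zero])

variable {μ} in
/-- Every element of `A ⊗[B] M` is of the form `1 ⊗ x` when `B → A` is surjective. -/
lemma exists_one_tmul (hμ : Function.Surjective μ) (M : ModuleCat.{u} B)
    (t : (extendScalars μ).obj M) : ∃ x : M, t = (1 : A) ⊗ₜ[B,μ] x := by
  let m1 : Module B A := Module.compHom A μ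
  induction t using TensorProduct.induction_on with
  | zero => exact ⟨0, (TensorProduct.tmul_zero _ _).symm⟩
  | tmul a x =>
    obtain ⟨b, rfl⟩ := hμ a
    refine ⟨b • x, ?_⟩
    have : ((b • (1 : A)) ⊗ₜ[B] x : A ⊗[B] M) = (1 : A) ⊗ₜ[B] (b • x) :=
      TensorProduct.smul_tmul b (1 : A) x
    refine Eq.trans ?_ this
    congr 1
    change μ b = μ b * 1
    rw [mul_one]
  | add t₁ t₂ h₁ h₂ =>
    obtain ⟨x₁, rfl⟩ := h₁
    obtain ⟨x₂, rfl⟩ := h₂
    exact ⟨x₁ + x₂, (TensorProduct.tmul_add _ _ _).symm⟩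

variable {μ} in
theorem isIso_fromExtendScalars (hμ : Function.Surjective μ) (N : ModuleCat.{u} A)
    (g : ModuleCat.of B (RingHom.ker μ) ⟶ (ModuleCat.restrictScalars μ).obj N)
    (hg : Function.Surjective g)
    (hg0 : ∀ x : RingHom.ker μ, g x = 0 → (x : B) ∈ (RingHom.ker μ) ^ 2) :
    IsIso (ExtendRestrictScalarsAdj.HomEquiv.fromExtendScalars μ g) := by
  rw [ConcreteCategory.isIso_iff_bijective]
  constructor
  · rw [injective_iff_map_eq_zero]
    intro t ht
    obtain ⟨x, rfl⟩ := exists_one_tmul hμ _ t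
    apply one_tmul_eq_zero_of_mem_sq
    apply hg0
    have : (ExtendRestrictScalarsAdj.HomEquiv.fromExtendScalars μ g) ((1 : A) ⊗ₜ[B,μ] x) =
        (1 : A) • (g x : N) := rfl
    have h2 : (1 : A) • (g x : N) = 0 := this.symm.trans ht
    rwa [one_smul] at h2
  · intro n
    obtain ⟨x, hx⟩ := hg n
    refine ⟨(1 : A) ⊗ₜ[B,μ] x, ?_⟩
    have : (ExtendRestrictScalarsAdj.HomEquiv.fromExtendScalars μ g) ((1 : A) ⊗ₜ[B,μ] x) =
        (1 : A) • (g x : N) := rfl
    refine this.trans ?_
    rw [one_smul]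
    exact hx

end General

section Kaehler

variable (R A : Type u) [CommRing R] [CommRing A] [Algebra R A]

/-- The multiplication map `A ⊗[R] A → A` as a ring homomorphism. -/
noncomputable abbrev mulHom : A ⊗[R] A →+* A :=
  (Algebra.TensorProduct.lmul' R : A ⊗[R] A →ₐ[R] A).toRingHom

lemma mulHom_surjective : Function.Surjective (mulHom R A) := fun a =>
  ⟨a ⊗ₜ 1, by simp [mulHom]⟩

lemma mem_ker_mulHom_iff (x : A ⊗[R] A) :
    x ∈ RingHom.ker (mulHom R A) ↔ x ∈ KaehlerDifferential.ideal R A := Iff.rfl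

lemma sub_mem_ideal (b : A ⊗[R] A) :
    b - (mulHom R A b) ⊗ₜ[R] (1 : A) ∈ KaehlerDifferential.ideal R A := by
  rw [KaehlerDifferential.ideal, RingHom.mem_ker, map_sub]
  simp [mulHom]

/-- `x ↦ [x] : I → I/I² = Ω[A⁄R]`, as a `B`-linear map to the restriction of scalars. -/
noncomputable def kerToOmega :
    ModuleCat.of (A ⊗[R] A) (RingHom.ker (mulHom R A)) ⟶
      (ModuleCat.restrictScalars (mulHom R A)).obj (ModuleCat.of A (Ω[A⁄R])) :=
  letI : Module (A ⊗[R] A) (ModuleCat.of A (Ω[A⁄R])) :=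
    Module.compHom (ModuleCat.of A (Ω[A⁄R])) (mulHom R A)
  ModuleCat.ofHom (Y := (ModuleCat.of A (Ω[A⁄R])))
    { toFun := fun x => (KaehlerDifferential.ideal R A).toCotangent ⟨x.1, x.2⟩
      map_add' := fun x y =>
        map_add (KaehlerDifferential.ideal R A).toCotangent ⟨x.1, x.2⟩ ⟨y.1, y.2⟩
      map_smul' := fun b x => by
        have h1 : (KaehlerDifferential.ideal R A).toCotangent ⟨(b • x).1, (b • x).2⟩ =
            b • (KaehlerDifferential.ideal R A).toCotangent ⟨x.1, x.2⟩ := by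
          exact map_smul (KaehlerDifferential.ideal R A).toCotangent b ⟨x.1, x.2⟩
        refine h1.trans ?_
        have h2 := Ideal.Cotangent.smul_eq_zero_of_mem (sub_mem_ideal R A b)
          ((KaehlerDifferential.ideal R A).toCotangent ⟨x.1, x.2⟩)
        rw [sub_smul, sub_eq_zero] at h2
        refine h2.trans ?_
        change _ = (mulHom R A b : A) •
          ((KaehlerDifferential.ideal R A).toCotangent ⟨x.1, x.2⟩ : Ω[A⁄R])
        rw [← algebraMap_smul (A ⊗[R] A) (mulHom R A b : A)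
          ((KaehlerDifferential.ideal R A).toCotangent ⟨x.1, x.2⟩ : Ω[A⁄R]),
          Algebra.TensorProduct.algebraMap_apply]
        rfl }

lemma kerToOmega_apply (x : RingHom.ker (mulHom R A)) :
    (kerToOmega R A) x = (KaehlerDifferential.ideal R A).toCotangent ⟨x.1, x.2⟩ := rfl

instance : IsIso (ExtendRestrictScalarsAdj.HomEquiv.fromExtendScalars (mulHom R A)
    (kerToOmega R A)) := by
  apply isIso_fromExtendScalars (mulHom_surjective R A)
  · intro ω
    obtain ⟨x, rfl⟩ := (KaehlerDifferential.ideal R A).toCotangent_surjective ω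
    exact ⟨⟨x.1, x.2⟩, rfl⟩
  · intro x hx
    rw [kerToOmega_apply] at hx
    exact (Ideal.toCotangent_eq_zero _ _).mp hx

/-- `A ⊗[A ⊗[R] A] I ≅ Ω[A⁄R]` as `A`-modules. -/
noncomputable def extKerIso :
    (ModuleCat.extendScalars (mulHom R A)).obj
      (ModuleCat.of (A ⊗[R] A) (RingHom.ker (mulHom R A))) ≅ ModuleCat.of A (Ω[A⁄R]) :=
  asIso (ExtendRestrictScalarsAdj.HomEquiv.fromExtendScalars (mulHom R A) (kerToOmega R A))

end Kaehler

end Groth.Agent.Lib.Helper13.OmegaAffine
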