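import Groth.Prelude.Def_Omega2
import Groth.Agent.Lib.Helper1.IdealMod
import Groth.Agent.Lib.Helper45.ModulesExact
import Groth.Agent.Lib.Helper11.TildePullback
import Groth.Agent.Lib.Helper13.OmegaAlg

set_option autoImplicit false
universe u
open AlgebraicGeometry CategoryTheory Limits TopologicalSpace Opposite

namespace Groth.Agent.Lib.Helper13.OmegaAffine

section Sections

variable {X : Scheme.{u}} (I : X.IdealSheafData)

theorem idealModι_app_injective (V : X.Opens) :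
    Function.Injective ((ClSub.idealModι I).app V) :=
  haveI := Groth.Agent.Lib.Helper1.mono_idealModι I
  Groth.Agent.Lib.Helper45.app_injective_of_mono _ V

theorem mem_range_idealModι_app (V : X.affineOpens) (y : Γ(X, V.1)) :
    y ∈ Set.range ((ClSub.idealModι I).app V.1) ↔ y ∈ I.ideal V := by
  have h := Groth.Agent.Lib.Helper45.app_exact_of_shortExact _
    (Groth.Agent.Lib.Helper1.idealModComplex_shortExact I) V.1
  rw [← I.ker_subschemeι_app V, RingHom.mem_ker]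
  exact (h y).symm

end Sections

section Main

variable {A B : CommRingCat.{u}} (π : B ⟶ A) {P : Scheme.{u}} (e : P ≅ Spec B)

/-- The open `V = e.inv(⊤)` of `P` (which is `⊤`). -/
noncomputable abbrev VV : P.Opens := e.inv ''ᵁ (⊤ : (Spec B).Opens)

lemma VV_affine : IsAffineOpen (VV e) :=
  (isAffineOpen_top (Spec B)).image_of_isOpenImmersion e.inv

/-- `Γ(P, V) ≅ B`. -/
noncomputable def θ : Γ(P, VV e) ≅ B := e.inv.appIso ⊤ ≪≫ Scheme.ΓSpecIso B

variable (Δ : Spec A ⟶ P)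

/-- The ideal sheaf of `Δ` as a module, restricted to `Spec B`. -/
noncomputable abbrev GG : (Spec B).Modules := (ClSub.idealMod Δ.ker).restrict e.inv

/-- The map `Γ(G, ⊤) → B`. -/
noncomputable def toB (x : Γ(GG e Δ, ⊤)) : B :=
  (θ e).hom ((ClSub.idealModι Δ.ker).app (VV e) x)

lemma toB_add (x y : Γ(GG e Δ, ⊤)) : toB e Δ (x + y) = toB e Δ x + toB e Δ y := by
  unfold toB
  rw [← map_add (θ e).hom.hom]
  congr 1
  exact map_add ((ClSub.idealModι Δ.ker).app (VV e)).hom _ _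

lemma toB_smul (b : B) (x : Γ(GG e Δ, ⊤)) : toB e Δ (b • x) = b * toB e Δ x := by
  unfold toB
  have h1 : (b • x : Γ(GG e Δ, ⊤)) =
      (show Γ(GG e Δ, ⊤) from
        ((θ e).inv b : Γ(P, VV e)) • (show Γ(ClSub.idealMod Δ.ker, VV e) from x)) := by
    rw [Scheme.Modules.smul_Spec_def]
    have h2 : ((Spec B).presheaf.map (⊤ : (Spec B).Opens).leTop.op) ((Scheme.ΓSpecIso B).inv b) =
        (Scheme.ΓSpecIso B).inv b := by
      have : (⊤ : (Spec B).Opens).leTop.op = 𝟙 _ := rfl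
      rw [this, CategoryTheory.Functor.map_id]
      rfl
    rw [h2]
    rfl
  rw [h1]
  have h3 : (ClSub.idealModι Δ.ker).app (VV e)
      (((θ e).inv b : Γ(P, VV e)) • (show Γ(ClSub.idealMod Δ.ker, VV e) from x)) =
      ((θ e).inv b : Γ(P, VV e)) • (ClSub.idealModι Δ.ker).app (VV e) x :=
    Scheme.Modules.Hom.app_smul _ _ _
  have h4 : (((θ e).inv b : Γ(P, VV e)) • (ClSub.idealModι Δ.ker).app (VV e) x :
      Γ(Coh.structureModule P, VV e)) =
      (show Γ(Coh.structureModule P, VV e) from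
        (((θ e).inv b : Γ(P, VV e)) *
          (show Γ(P, VV e) from (ClSub.idealModι Δ.ker).app (VV e) x))) := rfl
  refine (congrArg (θ e).hom (h3.trans h4)).trans ?_
  refine (map_mul (θ e).hom.hom _ _).trans ?_
  congr 1
  exact congr($((θ e).inv_hom_id) b)

lemma toB_injective : Function.Injective (toB e Δ) := by
  have h1 : Function.Injective ((θ e).hom : Γ(P, VV e) → B) :=
    (ConcreteCategory.bijective_of_isIso (θ e).hom).1
  intro x y h
  exact idealModι_app_injective Δ.ker (VV e) (h1 h)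

lemma preimage_VV (hΔ : Δ = Spec.map π ≫ e.inv) : Δ ⁻¹ᵁ (VV e) = ⊤ := by
  subst hΔ
  rw [Scheme.Hom.comp_preimage, Scheme.Hom.preimage_image_eq]
  rfl

lemma map_homOfLE_eq_zero_iff {X : Scheme.{u}} {W : X.Opens} (hW : W = ⊤) (z : Γ(X, W)) :
    X.presheaf.map (homOfLE hW.ge).op z = 0 ↔ z = 0 := by
  subst hW
  have : X.presheaf.map (homOfLE (le_refl (⊤ : X.Opens))).op = 𝟙 _ := by
    rw [show (homOfLE (le_refl (⊤ : X.Opens))).op = 𝟙 _ from rfl,
      CategoryTheory.Functor.map_id]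
  rw [this]
  rfl

/-- Key compatibility between `Δ.appLE V ⊤`, `θ` and `π`. -/
lemma appLE_VV_comp (hΔ : Δ = Spec.map π ≫ e.inv) :
    Δ.appLE (VV e) ⊤ (preimage_VV π e Δ hΔ).ge ≫ (Scheme.ΓSpecIso A).hom = (θ e).hom ≫ π := by
  subst hΔ
  have h1 : (θ e).hom ≫ π = e.inv.appLE (VV e) ⊤ (Scheme.Hom.preimage_image_eq e.inv ⊤).ge ≫
      (Spec.map π).appLE ⊤ ⊤ le_top ≫ (Scheme.ΓSpecIso A).hom := by
    have h2 : (Spec.map π).appLE ⊤ ⊤ le_top = (Spec.map π).appTop :=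
      (Scheme.Hom.app_eq_appLE (Spec.map π)).symm
    rw [h2, Scheme.ΓSpecIso_naturality, θ, Iso.trans_hom, Scheme.Hom.appIso_hom', Category.assoc]
  rw [h1, ← Category.assoc, Scheme.Hom.appLE_comp_appLE]

lemma app_eq_zero_iff (hΔ : Δ = Spec.map π ≫ e.inv) (y : Γ(P, VV e)) :
    Δ.app (VV e) y = 0 ↔ π ((θ e).hom y) = 0 := by
  have key := appLE_VV_comp π e Δ hΔ
  have h2 : π ((θ e).hom y) =
      (Scheme.ΓSpecIso A).hom (Δ.appLE (VV e) ⊤ (preimage_VV π e Δ hΔ).ge y) :=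
    (congr($key y)).symm
  have h3 : Function.Injective (Scheme.ΓSpecIso A).hom :=
    (ConcreteCategory.bijective_of_isIso (Scheme.ΓSpecIso A).hom).1
  rw [h2, ← map_zero (Scheme.ΓSpecIso A).hom.hom]
  rw [show ((Scheme.ΓSpecIso A).hom (Δ.appLE (VV e) ⊤ (preimage_VV π e Δ hΔ).ge y) =
    (Scheme.ΓSpecIso A).hom.hom 0) ↔ (Δ.appLE (VV e) ⊤ (preimage_VV π e Δ hΔ).ge y = 0) from
    h3.eq_iff]
  -- now compare `app` and `appLE`
  have hW := preimage_VV π e Δ hΔ
  have h4 : Δ.appLE (VV e) ⊤ hW.ge y = (Spec A).presheaf.map (homOfLE hW.ge).op (Δ.app (VV e) y) :=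
    rfl
  rw [h4]
  exact (map_homOfLE_eq_zero_iff hW _).symm

variable [QuasiCompact Δ]

lemma mem_range_toB_iff (hΔ : Δ = Spec.map π ≫ e.inv) (b : B) :
    b ∈ Set.range (toB e Δ) ↔ π b = 0 := by
  constructor
  · rintro ⟨x, rfl⟩
    unfold toB
    rw [← app_eq_zero_iff π e Δ hΔ]
    have hy := (mem_range_idealModι_app Δ.ker ⟨VV e, VV_affine e⟩ _).mp ⟨x, rfl⟩
    rw [Scheme.Hom.ker_apply] at hy
    exact hy
  · intro hb
    have h1 : Δ.app (VV e) ((θ e).inv b) = 0 := by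
      rw [app_eq_zero_iff π e Δ hΔ]
      have : (θ e).hom ((θ e).inv b) = b := congr($((θ e).inv_hom_id) b)
      rw [this]; exact hb
    have h2 : ((θ e).inv b) ∈ Δ.ker.ideal ⟨VV e, VV_affine e⟩ := by
      rw [Scheme.Hom.ker_apply]; exact h1
    obtain ⟨x, hx⟩ := (mem_range_idealModι_app Δ.ker ⟨VV e, VV_affine e⟩ _).mpr h2
    refine ⟨x, ?_⟩
    unfold toB
    refine (congrArg (θ e).hom hx).trans ?_
    exact congr($((θ e).inv_hom_id) b)

/-- `toB` as a `B`-linear map. -/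
noncomputable def toBₗ : Γ(GG e Δ, ⊤) →ₗ[B] B where
  toFun := toB e Δ
  map_add' := toB_add e Δ
  map_smul' b x := toB_smul e Δ b x

/-- `Γ(Spec B, G) ≃ ker π` as `B`-modules. -/
noncomputable def equivΓ (hΔ : Δ = Spec.map π ≫ e.inv) :
    Γ(GG e Δ, ⊤) ≃ₗ[B] RingHom.ker π.hom :=
  LinearEquiv.ofBijective
    (LinearMap.codRestrict (RingHom.ker π.hom) (toBₗ e Δ)
      (fun x => (mem_range_toB_iff π e Δ hΔ _).mp ⟨x, rfl⟩))
    ⟨fun x y h => toB_injective e Δ (congrArg Subtype.val h),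
     fun b => by
      obtain ⟨x, hx⟩ := (mem_range_toB_iff π e Δ hΔ b.1).mpr b.2
      exact ⟨x, Subtype.ext hx⟩⟩

/-- `Γ(Spec B, G) ≅ ker π` in `ModuleCat B`. -/
noncomputable def isoΓ (hΔ : Δ = Spec.map π ≫ e.inv) :
    moduleSpecΓFunctor.obj (GG e Δ) ≅ ModuleCat.of B (RingHom.ker π.hom) :=
  (equivΓ π e Δ hΔ).toModuleIso

/-- The conormal sheaf of `Δ = Spec π ≫ e⁻¹ : Spec A ⟶ P ≅ Spec B` is the tilde of
`A ⊗[B] ker π`. -/
noncomputable def conormalIso (hΔ : Δ = Spec.map π ≫ e.inv) :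
    Omega.conormal Δ ≅
      tilde ((ModuleCat.extendScalars π.hom).obj (ModuleCat.of B (RingHom.ker π.hom))) :=
  haveI : (ClSub.idealMod Δ.ker).IsQuasicoherent :=
    Groth.Agent.Lib.Helper1.isQuasicoherent_idealMod Δ.ker
  haveI : (GG e Δ).IsQuasicoherent := inferInstance
  (Scheme.Modules.pullbackCongr hΔ).app (ClSub.idealMod Δ.ker) ≪≫
  ((Scheme.Modules.pullbackComp (Spec.map π) e.inv).symm.app (ClSub.idealMod Δ.ker)) ≪≫
  (Scheme.Modules.pullback (Spec.map π)).mapIso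
    ((Scheme.Modules.restrictFunctorIsoPullback e.inv).symm.app (ClSub.idealMod Δ.ker)) ≪≫
  (Scheme.Modules.pullback (Spec.map π)).mapIso (asIso (GG e Δ).fromTildeΓ).symm ≪≫
  (Groth.Agent.Lib.Helper11.tildePullbackIso π).app (moduleSpecΓFunctor.obj (GG e Δ)) ≪≫
  (tilde.functor A).mapIso ((ModuleCat.extendScalars π.hom).mapIso (isoΓ π e Δ hΔ))

end Main

end Groth.Agent.Lib.Helper13.OmegaAffine
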