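import Groth.Agent.Lib.Helper13.OmegaAffine

set_option autoImplicit false
universe u
open AlgebraicGeometry CategoryTheory Limits TopologicalSpace Opposite

namespace Groth.Agent.Lib.Helper13.OmegaChart

open Groth.Agent.Lib.Helper13.OmegaAffine

section Main

variable {A B : CommRingCat.{u}} (π : B ⟶ A) {P Z : Scheme.{u}}
  (k : Spec B ⟶ P) [IsOpenImmersion k] (u : Spec A ⟶ Z) [IsOpenImmersion u]

/-- The open `V = k(⊤)` of `P`. -/
noncomputable abbrev VV : P.Opens := k ''ᵁ (⊤ : (Spec B).Opens)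

lemma VV_affine : IsAffineOpen (VV k) :=
  (isAffineOpen_top (Spec B)).image_of_isOpenImmersion k

/-- `Γ(P, V) ≅ B`. -/
noncomputable def θ : Γ(P, VV k) ≅ B := k.appIso ⊤ ≪≫ Scheme.ΓSpecIso B

variable (Δ : Z ⟶ P)

/-- The ideal sheaf of `Δ` as a module, restricted to `Spec B`. -/
noncomputable abbrev GG : (Spec B).Modules := (ClSub.idealMod Δ.ker).restrict k

/-- The map `Γ(G, ⊤) → B`. -/
noncomputable def toB (x : Γ(GG k Δ, ⊤)) : B :=
  (θ k).hom ((ClSub.idealModι Δ.ker).app (VV k) x)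

lemma toB_add (x y : Γ(GG k Δ, ⊤)) : toB k Δ (x + y) = toB k Δ x + toB k Δ y := by
  unfold toB
  rw [← map_add (θ k).hom.hom]
  congr 1
  exact map_add ((ClSub.idealModι Δ.ker).app (VV k)).hom _ _

lemma toB_smul (b : B) (x : Γ(GG k Δ, ⊤)) : toB k Δ (b • x) = b * toB k Δ x := by
  unfold toB
  have h1 : (b • x : Γ(GG k Δ, ⊤)) =
      (show Γ(GG k Δ, ⊤) from
        ((θ k).inv b : Γ(P, VV k)) • (show Γ(ClSub.idealMod Δ.ker, VV k) from x)) := by
    rw [Scheme.Modules.smul_Spec_def]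
    have h2 : ((Spec B).presheaf.map (⊤ : (Spec B).Opens).leTop.op) ((Scheme.ΓSpecIso B).inv b) =
        (Scheme.ΓSpecIso B).inv b := by
      have : (⊤ : (Spec B).Opens).leTop.op = 𝟙 _ := rfl
      rw [this, CategoryTheory.Functor.map_id]
      rfl
    rw [h2]
    rfl
  rw [h1]
  have h3 : (ClSub.idealModι Δ.ker).app (VV k)
      (((θ k).inv b : Γ(P, VV k)) • (show Γ(ClSub.idealMod Δ.ker, VV k) from x)) =
      ((θ k).inv b : Γ(P, VV k)) • (ClSub.idealModι Δ.ker).app (VV k) x :=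
    Scheme.Modules.Hom.app_smul _ _ _
  have h4 : (((θ k).inv b : Γ(P, VV k)) • (ClSub.idealModι Δ.ker).app (VV k) x :
      Γ(Coh.structureModule P, VV k)) =
      (show Γ(Coh.structureModule P, VV k) from
        (((θ k).inv b : Γ(P, VV k)) *
          (show Γ(P, VV k) from (ClSub.idealModι Δ.ker).app (VV k) x))) := rfl
  refine (congrArg (θ k).hom (h3.trans h4)).trans ?_
  refine (map_mul (θ k).hom.hom _ _).trans ?_
  congr 1
  exact congr($((θ k).inv_hom_id) b)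

lemma toB_injective : Function.Injective (toB k Δ) := by
  have h1 : Function.Injective ((θ k).hom : Γ(P, VV k) → B) :=
    (ConcreteCategory.bijective_of_isIso (θ k).hom).1
  intro x y h
  exact idealModι_app_injective Δ.ker (VV k) (h1 h)

/-- The open `u(⊤)` of `Z`. -/
noncomputable abbrev UU : Z.Opens := u ''ᵁ (⊤ : (Spec A).Opens)

lemma appLE_congr_hom {X Y : Scheme.{u}} {f g : X ⟶ Y} (h : f = g) (U : Y.Opens) (V : X.Opens)
    (e : V ≤ f ⁻¹ᵁ U) : f.appLE U V e = g.appLE U V (h ▸ e) := by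
  subst h; rfl

/-- Key compatibility between `Δ.appLE V (u ⊤)`, `θ` and `π`. -/
lemma appLE_VV_comp (hΔ : u ≫ Δ = Spec.map π ≫ k) (hle : UU u ≤ Δ ⁻¹ᵁ VV k) :
    Δ.appLE (VV k) (UU u) hle ≫ (u.appIso ⊤).hom ≫ (Scheme.ΓSpecIso A).hom = (θ k).hom ≫ π := by
  have h1 : (θ k).hom ≫ π = k.appLE (VV k) ⊤ (Scheme.Hom.preimage_image_eq k ⊤).ge ≫
      (Spec.map π).appLE ⊤ ⊤ le_top ≫ (Scheme.ΓSpecIso A).hom := by
    have h2 : (Spec.map π).appLE ⊤ ⊤ le_top = (Spec.map π).appTop :=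
      (Scheme.Hom.app_eq_appLE (Spec.map π)).symm
    rw [h2, Scheme.ΓSpecIso_naturality, θ, Iso.trans_hom, Scheme.Hom.appIso_hom', Category.assoc]
  rw [h1, ← Category.assoc, ← Category.assoc, Scheme.Hom.appLE_comp_appLE,
    Scheme.Hom.appIso_hom', Scheme.Hom.appLE_comp_appLE]
  congr 1
  exact appLE_congr_hom hΔ _ _ _

lemma map_homOfLE_eq_zero_iff' {X : Scheme.{u}} {W W' : X.Opens} (hW : W = W') (z : Γ(X, W)) :
    X.presheaf.map (homOfLE hW.ge).op z = 0 ↔ z = 0 := by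
  subst hW
  have : X.presheaf.map (homOfLE (le_refl W)).op = 𝟙 _ := by
    rw [show (homOfLE (le_refl W)).op = 𝟙 _ from rfl, CategoryTheory.Functor.map_id]
  rw [this]
  rfl

lemma app_eq_zero_iff (hΔ : u ≫ Δ = Spec.map π ≫ k) (hW : Δ ⁻¹ᵁ VV k = UU u)
    (y : Γ(P, VV k)) : Δ.app (VV k) y = 0 ↔ π ((θ k).hom y) = 0 := by
  have key := appLE_VV_comp π k u Δ hΔ hW.ge
  have h2 : π ((θ k).hom y) = (Scheme.ΓSpecIso A).hom ((u.appIso ⊤).hom
      (Δ.appLE (VV k) (UU u) hW.ge y)) := (congr($key y)).symm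
  have h3 : Function.Injective ((u.appIso ⊤).hom ≫ (Scheme.ΓSpecIso A).hom) :=
    (ConcreteCategory.bijective_of_isIso ((u.appIso ⊤).hom ≫ (Scheme.ΓSpecIso A).hom)).1
  have h5 : π ((θ k).hom y) = 0 ↔ Δ.appLE (VV k) (UU u) hW.ge y = 0 := by
    rw [h2]
    constructor
    · intro h
      apply h3
      rw [map_zero]
      exact h
    · intro h
      rw [h, map_zero, map_zero]
  rw [h5]
  have h4 : Δ.appLE (VV k) (UU u) hW.ge y =
      Z.presheaf.map (homOfLE hW.ge).op (Δ.app (VV k) y) := rfl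
  rw [h4]
  exact (map_homOfLE_eq_zero_iff' hW _).symm

variable [QuasiCompact Δ]

lemma mem_range_toB_iff (hΔ : u ≫ Δ = Spec.map π ≫ k) (hW : Δ ⁻¹ᵁ VV k = UU u) (b : B) :
    b ∈ Set.range (toB k Δ) ↔ π b = 0 := by
  constructor
  · rintro ⟨x, rfl⟩
    unfold toB
    rw [← app_eq_zero_iff π k u Δ hΔ hW]
    have hy := (mem_range_idealModι_app Δ.ker ⟨VV k, VV_affine k⟩ _).mp ⟨x, rfl⟩
    rw [Scheme.Hom.ker_apply] at hy
    exact hy
  · intro hb
    have h1 : Δ.app (VV k) ((θ k).inv b) = 0 := by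
      rw [app_eq_zero_iff π k u Δ hΔ hW]
      have : (θ k).hom ((θ k).inv b) = b := congr($((θ k).inv_hom_id) b)
      rw [this]; exact hb
    have h2 : ((θ k).inv b) ∈ Δ.ker.ideal ⟨VV k, VV_affine k⟩ := by
      rw [Scheme.Hom.ker_apply]; exact h1
    obtain ⟨x, hx⟩ := (mem_range_idealModι_app Δ.ker ⟨VV k, VV_affine k⟩ _).mpr h2
    refine ⟨x, ?_⟩
    unfold toB
    refine (congrArg (θ k).hom hx).trans ?_
    exact congr($((θ k).inv_hom_id) b)

/-- `toB` as a `B`-linear map. -/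
noncomputable def toBₗ : Γ(GG k Δ, ⊤) →ₗ[B] B where
  toFun := toB k Δ
  map_add' := toB_add k Δ
  map_smul' b x := toB_smul k Δ b x

/-- `Γ(Spec B, G) ≃ ker π` as `B`-modules. -/
noncomputable def equivΓ (hΔ : u ≫ Δ = Spec.map π ≫ k) (hW : Δ ⁻¹ᵁ VV k = UU u) :
    Γ(GG k Δ, ⊤) ≃ₗ[B] RingHom.ker π.hom :=
  LinearEquiv.ofBijective
    (LinearMap.codRestrict (RingHom.ker π.hom) (toBₗ k Δ)
      (fun x => (mem_range_toB_iff π k u Δ hΔ hW _).mp ⟨x, rfl⟩))
    ⟨fun x y h => toB_injective k Δ (congrArg Subtype.val h),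
     fun b => by
      obtain ⟨x, hx⟩ := (mem_range_toB_iff π k u Δ hΔ hW b.1).mpr b.2
      exact ⟨x, Subtype.ext hx⟩⟩

/-- `Γ(Spec B, G) ≅ ker π` in `ModuleCat B`. -/
noncomputable def isoΓ (hΔ : u ≫ Δ = Spec.map π ≫ k) (hW : Δ ⁻¹ᵁ VV k = UU u) :
    moduleSpecΓFunctor.obj (GG k Δ) ≅ ModuleCat.of B (RingHom.ker π.hom) :=
  (equivΓ π k u Δ hΔ hW).toModuleIso

/-- Chart form: if `Δ : Z ⟶ P` is quasi-compact and `u : Spec A ⟶ Z`, `k : Spec B ⟶ P` are open
immersions with `u ≫ Δ = Spec π ≫ k` and `Δ⁻¹(k(Spec B)) = u(Spec A)`, then the restriction of the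
conormal sheaf of `Δ` to the chart `Spec A` is the tilde of `A ⊗[B] ker π`. -/
noncomputable def conormalChartIso (hΔ : u ≫ Δ = Spec.map π ≫ k) (hW : Δ ⁻¹ᵁ VV k = UU u) :
    (Scheme.Modules.pullback u).obj (Omega.conormal Δ) ≅
      tilde ((ModuleCat.extendScalars π.hom).obj (ModuleCat.of B (RingHom.ker π.hom))) :=
  haveI : (ClSub.idealMod Δ.ker).IsQuasicoherent :=
    Groth.Agent.Lib.Helper1.isQuasicoherent_idealMod Δ.ker
  haveI : (GG k Δ).IsQuasicoherent := inferInstance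
  ((Scheme.Modules.pullbackComp u Δ).app (ClSub.idealMod Δ.ker)) ≪≫
  (Scheme.Modules.pullbackCongr hΔ).app (ClSub.idealMod Δ.ker) ≪≫
  ((Scheme.Modules.pullbackComp (Spec.map π) k).symm.app (ClSub.idealMod Δ.ker)) ≪≫
  (Scheme.Modules.pullback (Spec.map π)).mapIso
    ((Scheme.Modules.restrictFunctorIsoPullback k).symm.app (ClSub.idealMod Δ.ker)) ≪≫
  (Scheme.Modules.pullback (Spec.map π)).mapIso (asIso (GG k Δ).fromTildeΓ).symm ≪≫
  (Groth.Agent.Lib.Helper11.tildePullbackIso π).app (moduleSpecΓFunctor.obj (GG k Δ)) ≪≫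
  (tilde.functor A).mapIso ((ModuleCat.extendScalars π.hom).mapIso (isoΓ π k u Δ hΔ hW))

end Main

section Chart

open TensorProduct

variable {X S : Scheme.{u}} (f : X ⟶ S) [QuasiSeparated f] {U : X.Opens} (hU : IsAffineOpen U)
  {V : S.Opens} (hV : IsAffineOpen V) (hUV : U ≤ f ⁻¹ᵁ V)

include hV in
/-- The sheaf of differentials on an affine chart: for affine opens `U ⊆ X`, `V ⊆ S` with
`f(U) ⊆ V`, the pullback of `Ω_{X/S}` to `Spec Γ(X, U)` is the tilde of `Ω[Γ(X,U)⁄Γ(S,V)]`. -/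
theorem nonempty_omega_chart_iso :
    letI := (f.appLE V U hUV).hom.toAlgebra
    Nonempty ((Scheme.Modules.pullback hU.fromSpec).obj (Omega.sheaf f) ≅
      tilde (R := Γ(X, U)) (ModuleCat.of Γ(X, U) (Ω[Γ(X, U)⁄Γ(S, V)]))) := by
  letI := (f.appLE V U hUV).hom.toAlgebra
  have e : Spec.map (CommRingCat.ofHom (algebraMap Γ(S, V) Γ(X, U))) ≫ hV.fromSpec =
      hU.fromSpec ≫ f := IsAffineOpen.SpecMap_appLE_fromSpec f hV hU hUV
  let π : CommRingCat.of (Γ(X, U) ⊗[Γ(S, V)] Γ(X, U)) ⟶ Γ(X, U) :=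
    CommRingCat.ofHom (mulHom Γ(S, V) Γ(X, U))
  let kk : Spec (CommRingCat.of (Γ(X, U) ⊗[Γ(S, V)] Γ(X, U))) ⟶ pullback f f :=
    (pullbackSpecIso Γ(S, V) Γ(X, U) Γ(X, U)).inv ≫
      pullback.map _ _ f f hU.fromSpec hU.fromSpec hV.fromSpec e e
  have hΔ : hU.fromSpec ≫ pullback.diagonal f = Spec.map π ≫ kk := by
    have h1 : Spec.map π ≫ (pullbackSpecIso Γ(S, V) Γ(X, U) Γ(X, U)).inv =
        pullback.diagonal (Spec.map (CommRingCat.ofHom (algebraMap Γ(S, V) Γ(X, U)))) :=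
      (diagonal_SpecMap Γ(S, V) Γ(X, U)).symm
    rw [← Category.assoc, h1]
    apply pullback.hom_ext
    · rw [Category.assoc, Category.assoc, pullback.diagonal_fst, pullback.lift_fst,
        pullback.diagonal_fst_assoc, Category.comp_id]
    · rw [Category.assoc, Category.assoc, pullback.diagonal_snd, pullback.lift_snd,
        pullback.diagonal_snd_assoc, Category.comp_id]
  have hr : Set.range kk =
      pullback.fst f f ⁻¹' (U : Set X) ∩ pullback.snd f f ⁻¹' (U : Set X) := by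
    have h2 : Set.range kk = Set.range (pullback.map _ _ f f hU.fromSpec hU.fromSpec
        hV.fromSpec e e) := by
      apply le_antisymm
      · rintro _ ⟨x, rfl⟩
        exact ⟨(pullbackSpecIso Γ(S, V) Γ(X, U) Γ(X, U)).inv x, rfl⟩
      · rintro _ ⟨x, rfl⟩
        refine ⟨(pullbackSpecIso Γ(S, V) Γ(X, U) Γ(X, U)).hom x, ?_⟩
        simp only [kk, Scheme.Hom.comp_apply]
        rw [← Scheme.Hom.comp_apply (pullbackSpecIso Γ(S, V) Γ(X, U) Γ(X, U)).hom,
          Iso.hom_inv_id]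
        rfl
    rw [h2, Scheme.Pullback.range_map, hU.range_fromSpec]
  have hW : pullback.diagonal f ⁻¹ᵁ VV kk = UU hU.fromSpec := by
    apply TopologicalSpace.Opens.ext
    have h3 : (VV kk : Set _) = Set.range kk := by
      simp [VV]
    have h4 : (UU hU.fromSpec : Set X) = (U : Set X) := by
      simp [UU, hU.range_fromSpec]
    rw [h4, Scheme.Hom.coe_preimage, h3, hr]
    ext x
    simp only [Set.mem_preimage, Set.mem_inter_iff, SetLike.mem_coe]
    rw [← Scheme.Hom.comp_apply, ← Scheme.Hom.comp_apply, pullback.diagonal_fst,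
      pullback.diagonal_snd]
    simp
  exact ⟨conormalChartIso π kk hU.fromSpec (pullback.diagonal f) hΔ hW ≪≫
    (tilde.functor Γ(X, U)).mapIso (extKerIso Γ(S, V) Γ(X, U))⟩

end Chart

end Groth.Agent.Lib.Helper13.OmegaChart
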