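import Groth.Agent.Lib.Helper13.OmegaStalk
import Groth.Agent.Lib.Helper49.QCohLocal
import Groth.Agent.Lib.Helper49.FiniteTypeLocal
import Groth.Agent.Lib.Helper49.FiniteTypeAffine

/-!
# `Omega.sheaf f` is quasi-coherent (f quasi-separated) and of finite type (f locally of finite type)
-/

set_option autoImplicit false
universe u
open AlgebraicGeometry CategoryTheory Limits
open Groth.Agent.Lib.Helper13.OmegaChart Groth.Agent.Lib.Helper49

namespace Groth.Agent.Lib.Helper13.OmegaQCoh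

/-- Index type of affine charts for a morphism `f : X ⟶ S`. -/
structure Chart {X S : Scheme.{u}} (f : X ⟶ S) where
  U : X.Opens
  V : S.Opens
  hU : IsAffineOpen U
  hV : IsAffineOpen V
  hUV : U ≤ f ⁻¹ᵁ V

lemma exists_chart {X S : Scheme.{u}} (f : X ⟶ S) (x : X) :
    ∃ c : Chart f, x ∈ Set.range c.hU.fromSpec := by
  obtain ⟨_, ⟨V, hV, rfl⟩, hxV, -⟩ := S.isBasis_affineOpens.exists_subset_of_mem_open
    (Set.mem_univ (f x)) isOpen_univ
  obtain ⟨_, ⟨U, hU, rfl⟩, hxU, hUV⟩ := X.isBasis_affineOpens.exists_subset_of_mem_open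
    (show x ∈ (f ⁻¹ᵁ V : Set X) from hxV) (f ⁻¹ᵁ V).2
  exact ⟨⟨U, V, hU, hV, hUV⟩, by rw [hU.range_fromSpec]; exact hxU⟩

theorem isQuasicoherent_omega {X S : Scheme.{u}} (f : X ⟶ S) [QuasiSeparated f] :
    (Omega.sheaf f).IsQuasicoherent := by
  refine isQuasicoherent_of_forall_restrict (Omega.sheaf f) (ι := Chart f)
    (fun c => Spec Γ(X, c.U)) (fun c => c.hU.fromSpec) (exists_chart f) fun c => ?_
  let := (f.appLE c.V c.U c.hUV).hom.toAlgebra
  obtain ⟨e⟩ := nonempty_omega_chart_iso f c.hU c.hV c.hUV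
  exact isQuasicoherent_of_iso
    (((Scheme.Modules.restrictFunctorIsoPullback c.hU.fromSpec).app (Omega.sheaf f)) ≪≫ e).symm
    inferInstance

theorem isFiniteType_omega {X S : Scheme.{u}} (f : X ⟶ S) [QuasiSeparated f]
    [LocallyOfFiniteType f] :
    SheafOfModules.IsFiniteType (R := X.ringCatSheaf) (Omega.sheaf f) := by
  refine isFiniteType_of_forall_restrict (Omega.sheaf f) (ι := Chart f)
    (fun c => Spec Γ(X, c.U)) (fun c => c.hU.fromSpec) (exists_chart f) fun c => ?_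
  let := (f.appLE c.V c.U c.hUV).hom.toAlgebra
  obtain ⟨e⟩ := nonempty_omega_chart_iso f c.hU c.hV c.hUV
  have hft : Algebra.FiniteType Γ(S, c.V) Γ(X, c.U) :=
    LocallyOfFiniteType.finiteType_appLE f c.hV c.hU c.hUV
  refine isFiniteType_of_iso
    (((Scheme.Modules.restrictFunctorIsoPullback c.hU.fromSpec).app (Omega.sheaf f)) ≪≫ e).symm ?_
  exact isFiniteType_tilde_of_finite _ _

end Groth.Agent.Lib.Helper13.OmegaQCoh
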