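/-
Helper library (helper13): universal-derivation (Yoneda) arguments for sheaves of differentials
in the `OmegaSh` framework: `pullSect` for the identity, change of base of derivations,
hom-extensionality out of universal receptacles, first exact sequence of differentials.
-/
import Mathlib
import Groth.Prelude.Def_Omega3

set_option autoImplicit false
universe u
open CategoryTheory CategoryTheory.Limits AlgebraicGeometry TopologicalSpace Opposite

namespace Groth.Agent.Lib.Helper13.OmegaShYoneda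
open OmegaSh

variable {X Y Z : Scheme.{u}}

theorem pullbackId_hom_pullSect (M : X.Modules) (U : X.Opens) (m : Γ(M, U)) :
    ((Scheme.Modules.pullbackId X).hom.app M).app U (pullSect (𝟙 X) M U m) = m := by
  have h := Scheme.Modules.conjugateEquiv_pullbackId_hom X
  have h2 := congrArg (fun α => (α.app M).app U) h
  simp only [conjugateEquiv_apply_app, Scheme.Modules.Hom.comp_app,
    Scheme.Modules.pushforward_map_app, Scheme.Modules.pushforwardId_inv_app_app] at h2
  have h3 := congrArg (fun k => k.hom m) h2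
  simp only [Adjunction.id_counit] at h3
  exact h3

theorem pullSect_id (M : X.Modules) (U : X.Opens) (m : Γ(M, U)) :
    pullSect (𝟙 X) M U m = ((Scheme.Modules.pullbackId X).inv.app M).app U m := by
  have h := pullbackId_hom_pullSect M U m
  have h2 := congrArg (fun k => ((Scheme.Modules.pullbackId X).inv.app M).app U k) h
  simp only at h2
  rw [← h2]
  have h3 : ((Scheme.Modules.pullbackId X).hom.app M ≫ (Scheme.Modules.pullbackId X).inv.app M) =
      𝟙 _ := (Scheme.Modules.pullbackId X).hom_inv_id_app M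
  have h4 := congrArg (fun k => (Scheme.Modules.Hom.app k U).hom (pullSect (𝟙 X) M U m)) h3
  exact h4.symm

def derOfComp (f : X ⟶ Y) (g : Y ⟶ Z) {F : X.Modules} (D : Der (f ≫ g) F)
    (h : ∀ (V : Y.Opens) (b : Γ(Y, V)), D.app (f ⁻¹ᵁ V) (f.app V b) = 0) : Der f F where
  d := D.d
  d_mul := D.d_mul
  d_map := D.d_map
  d_app {V} a := h V.unop a

def derComp (f : X ⟶ Y) (g : Y ⟶ Z) {F : X.Modules} (D : Der f F) : Der (f ≫ g) F where
  d := D.d
  d_mul := D.d_mul
  d_map := D.d_map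
  d_app {V} a := by
    have h := D.d_app (X := op (g ⁻¹ᵁ V.unop)) (g.app V.unop a)
    exact h

/-- Value of a postcomposed derivation. -/
theorem postcomp_app {f : X ⟶ Y} {M N : X.Modules} (D : Der f M) (α : M ⟶ N) (U : X.Opens)
    (s : Γ(X, U)) : Der.app (D.postcomp α.val) U s = α.app U (D.app U s) := rfl

/-- Two morphisms out of a universal derivation's receptacle agreeing on all `d s` are equal. -/
theorem hom_ext_of_isUniversal {f : X ⟶ Y} {Ω' : X.Modules} {d : Der f Ω'} (hd : IsUniversal d)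
    {F : X.Modules} (α β : Ω' ⟶ F)
    (h : ∀ (U : X.Opens) (s : Γ(X, U)), α.app U (d.app U s) = β.app U (d.app U s)) : α = β := by
  obtain ⟨γ, -, hγ⟩ := hd F (d.postcomp β.val)
  have h1 : α = γ := by
    apply hγ
    ext U s
    exact h U.unop s
  have h2 : β = γ := hγ β rfl
  rw [h1, h2]

/-- A morphism out of a pullback `f^* M` is determined by its values on pulled back sections,
when `M` receives a universal derivation and we only test on the `d s`. -/
theorem pullback_hom_ext_of_isUniversal (f : X ⟶ Y) {g : Y ⟶ Z} {ΩY : Y.Modules} {dY : Der g ΩY}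
    (hY : IsUniversal dY) {F : X.Modules} (α β : (Scheme.Modules.pullback f).obj ΩY ⟶ F)
    (h : ∀ (V : Y.Opens) (b : Γ(Y, V)),
      α.app (f ⁻¹ᵁ V) (pullSect f ΩY V (dY.app V b)) =
        β.app (f ⁻¹ᵁ V) (pullSect f ΩY V (dY.app V b))) : α = β := by
  apply ((Scheme.Modules.pullbackPushforwardAdjunction f).homEquiv ΩY F).injective
  rw [Adjunction.homEquiv_unit, Adjunction.homEquiv_unit]
  apply hom_ext_of_isUniversal hY
  intro V b
  exact h V b

theorem exact_differentials_of_comp (f : X ⟶ Y) (g : Y ⟶ Z)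
    (ΩY : Y.Modules) (dY : OmegaSh.Der g ΩY) (hY : OmegaSh.IsUniversal dY)
    (ΩX : X.Modules) (dX : OmegaSh.Der (f ≫ g) ΩX) (hX : OmegaSh.IsUniversal dX)
    (ΩXY : X.Modules) (dXY : OmegaSh.Der f ΩXY) (hXY : OmegaSh.IsUniversal dXY)
    (c₁ : (Scheme.Modules.pullback f).obj ΩY ⟶ ΩX) (hc₁ : OmegaSh.IsDiffCompat f dY dX c₁)
    (c₂ : (Scheme.Modules.pullback (𝟙 X)).obj ΩX ⟶ ΩXY) (hc₂ : OmegaSh.IsDiffCompat (𝟙 X) dX dXY c₂) :
    Epi c₂ ∧
      imageSubobject c₁ = kernelSubobject ((Scheme.Modules.pullbackId X).inv.app ΩX ≫ c₂) := by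
  set c₂' : ΩX ⟶ ΩXY := (Scheme.Modules.pullbackId X).inv.app ΩX ≫ c₂ with hc₂'
  -- (A)
  have hA : ∀ (U : X.Opens) (s : Γ(X, U)), c₂'.app U (dX.app U s) = dXY.app U s := by
    intro U s
    have h := hc₂ U s
    rw [pullSect_id] at h
    exact h
  -- (B)
  have hzero : c₁ ≫ c₂' = 0 := by
    apply pullback_hom_ext_of_isUniversal f hY
    intro V b
    rw [Scheme.Modules.Hom.comp_app]
    change c₂'.app (f ⁻¹ᵁ V) (c₁.app (f ⁻¹ᵁ V) (pullSect f ΩY V (dY.app V b))) = 0
    rw [hc₁ V b, hA]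
    exact dXY.d_app (X := op V) b
  -- (C) universal property
  have key : ∀ {F : X.Modules} (ψ : ΩX ⟶ F) (_ : c₁ ≫ ψ = 0),
      ∃ χ : ΩXY ⟶ F, c₂' ≫ χ = ψ ∧ ∀ m : ΩXY ⟶ F, c₂' ≫ m = ψ → m = χ := by
    intro F ψ hψ
    have hkill : ∀ (V : Y.Opens) (b : Γ(Y, V)),
        Der.app (dX.postcomp ψ.val) (f ⁻¹ᵁ V) (f.app V b) = 0 := by
      intro V b
      rw [postcomp_app, ← hc₁ V b]
      have h1 := congrArg (fun k => (Scheme.Modules.Hom.app k (f ⁻¹ᵁ V)).hom
        (pullSect f ΩY V (dY.app V b))) hψ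
      exact h1
    obtain ⟨χ, hχ, hχu⟩ := hXY F (derOfComp f g (dX.postcomp ψ.val) hkill)
    have hχ' : ∀ (U : X.Opens) (s : Γ(X, U)), χ.app U (dXY.app U s) = ψ.app U (dX.app U s) := by
      intro U s
      have := congrArg (fun D => Der.app D U s) hχ
      exact this
    refine ⟨χ, ?_, ?_⟩
    · apply hom_ext_of_isUniversal hX
      intro U s
      rw [Scheme.Modules.Hom.comp_app]
      change χ.app U (c₂'.app U (dX.app U s)) = _
      rw [hA, hχ']
    · intro m hm
      apply hχu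
      ext U s
      change m.app U.unop (dXY.app U.unop s) = ψ.app U.unop (dX.app U.unop s)
      rw [← hA, ← hm]
      rfl
  have hcolim : IsColimit (CokernelCofork.ofπ c₂' hzero) :=
    CokernelCofork.IsColimit.ofπ c₂' hzero
      (fun ψ hψ => (key ψ hψ).choose)
      (fun ψ hψ => (key ψ hψ).choose_spec.1)
      (fun ψ hψ m hm => (key ψ hψ).choose_spec.2 m hm)
  have hex := (ShortComplex.mk c₁ c₂' hzero).exact_of_g_is_cokernel hcolim
  have hepi : Epi c₂' := epi_of_isColimit_cofork hcolim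
  refine ⟨?_, (ShortComplex.exact_iff_image_eq_kernel _).mp hex⟩
  exact epi_of_epi ((Scheme.Modules.pullbackId X).inv.app ΩX) c₂

section DiffCompat

variable {X S X' S' : Scheme.{u}}

theorem pushforward_smul (h : X' ⟶ X) (M : X'.Modules) (V : X.Opens) (r : Γ(X, V))
    (m : Γ((Scheme.Modules.pushforward h).obj M, V)) :
    r • m = (show Γ(M, h ⁻¹ᵁ V) from (h.app V r • (show Γ(M, h ⁻¹ᵁ V) from m))) := rfl

/-- The derivation `O_X → h_* Ω'`, `s ↦ d'(h♯ s)`. -/
noncomputable def pushDer (f : X ⟶ S) (f' : X' ⟶ S') (h : X' ⟶ X) (b : S' ⟶ S)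
    (hsq : f' ≫ b = h ≫ f) {Ω' : X'.Modules} (d' : OmegaSh.Der f' Ω') :
    OmegaSh.Der f ((Scheme.Modules.pushforward h).obj Ω') where
  d {V} := (d'.d (X := op (h ⁻¹ᵁ V.unop))).comp (h.app V.unop).hom.toAddMonoidHom
  d_mul {V} a c := by
    change d'.d (X := op (h ⁻¹ᵁ V.unop)) ((h.app V.unop).hom (a * c)) = _
    rw [map_mul, d'.d_mul]
    rfl
  d_map {V W} i x := by
    change d'.d (X := op (h ⁻¹ᵁ W.unop)) ((h.app W.unop).hom (X.presheaf.map i x)) = _
    have hnat : (h.app W.unop).hom (X.presheaf.map i x) =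
        X'.presheaf.map ((Opens.map h.base).map i.unop).op ((h.app V.unop).hom x) := by
      have := congrArg (fun k => k.hom x) (h.naturality i)
      exact this
    rw [hnat, d'.d_map]
    rfl
  d_app {V} a := by
    change d'.d (X := op (h ⁻¹ᵁ (f ⁻¹ᵁ V.unop))) ((h.app (f ⁻¹ᵁ V.unop)).hom ((f.app V.unop).hom a)) = 0
    have h1 : (h.app (f ⁻¹ᵁ V.unop)).hom ((f.app V.unop).hom a) = ((h ≫ f).app V.unop).hom a := by
      rw [Scheme.Hom.comp_app]; rfl
    rw [h1]
    have key : ∀ (k : X' ⟶ S) (_ : f' ≫ b = k),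
        d'.d (X := op (k ⁻¹ᵁ V.unop)) ((k.app V.unop).hom a) = 0 := by
      rintro k rfl
      exact d'.d_app (X := op (b ⁻¹ᵁ V.unop)) ((b.app V.unop).hom a)
    exact key (h ≫ f) hsq

theorem pushDer_app (f : X ⟶ S) (f' : X' ⟶ S') (h : X' ⟶ X) (b : S' ⟶ S)
    (hsq : f' ≫ b = h ≫ f) {Ω' : X'.Modules} (d' : OmegaSh.Der f' Ω') (V : X.Opens) (s : Γ(X, V)) :
    (pushDer f f' h b hsq d').app V s = d'.app (h ⁻¹ᵁ V) (h.app V s) := rfl

/-- The adjoint of a morphism out of a pullback, on sections. -/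
theorem homEquiv_app (h : X' ⟶ X) {M : X.Modules} {N : X'.Modules}
    (c : (Scheme.Modules.pullback h).obj M ⟶ N) (V : X.Opens) (m : Γ(M, V)) :
    (((Scheme.Modules.pullbackPushforwardAdjunction h).homEquiv M N c).app V) m =
      c.app (h ⁻¹ᵁ V) (pullSect h M V m) := by
  rw [Adjunction.homEquiv_unit]
  rfl

theorem existsUnique_diffCompat (f : X ⟶ S) (f' : X' ⟶ S') (h : X' ⟶ X) (b : S' ⟶ S)
    (hsq : f' ≫ b = h ≫ f) (Ω : X.Modules) (d : OmegaSh.Der f Ω) (hd : OmegaSh.IsUniversal d)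
    (Ω' : X'.Modules) (d' : OmegaSh.Der f' Ω') :
    ∃! c : (Scheme.Modules.pullback h).obj Ω ⟶ Ω', OmegaSh.IsDiffCompat h d d' c := by
  obtain ⟨α, hα, -⟩ := hd _ (pushDer f f' h b hsq d')
  have hα' : ∀ (V : X.Opens) (s : Γ(X, V)), α.app V (d.app V s) = d'.app (h ⁻¹ᵁ V) (h.app V s) := by
    intro V s
    have := congrArg (fun D => Der.app D V s) hα
    exact this
  refine ⟨((Scheme.Modules.pullbackPushforwardAdjunction h).homEquiv Ω Ω').symm α, ?_, ?_⟩
  · intro V s
    have h1 := homEquiv_app h (((Scheme.Modules.pullbackPushforwardAdjunction h).homEquiv Ω Ω').symm α)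
      V (d.app V s)
    rw [Equiv.apply_symm_apply] at h1
    rw [← h1, hα']
  · intro c hc
    apply pullback_hom_ext_of_isUniversal h hd
    intro V s
    rw [hc V s]
    have h1 := homEquiv_app h (((Scheme.Modules.pullbackPushforwardAdjunction h).homEquiv Ω Ω').symm α)
      V (d.app V s)
    rw [Equiv.apply_symm_apply] at h1
    rw [← h1, hα']

end DiffCompat

end Groth.Agent.Lib.Helper13.OmegaShYoneda
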