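import Groth.Agent.Lib.Helper13.OmegaZero
import Mathlib.AlgebraicGeometry.Morphisms.Smooth
import Mathlib.AlgebraicGeometry.Morphisms.FormallyUnramified
import Mathlib.RingTheory.Unramified.LocalRing
import Mathlib.RingTheory.Unramified.Locus

/-!
# Stalks of `Omega.sheaf f` via affine charts, and the unramified criterion at a point
-/

set_option autoImplicit false
universe u
open AlgebraicGeometry CategoryTheory Limits

namespace Groth.Agent.Lib.Helper13.OmegaStalk


lemma subsingleton_stalk_tilde_iff {R : CommRingCat.{u}} (N : ModuleCat.{u} R) (q : PrimeSpectrum R) :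
    Subsingleton ((tilde N).presheaf.stalk q) ↔
      Subsingleton (LocalizedModule q.asIdeal.primeCompl N) := by
  have e := IsLocalizedModule.iso q.asIdeal.primeCompl (tilde.toStalk N q).hom
  exact ⟨fun h => e.toEquiv.subsingleton, fun h => e.symm.toEquiv.subsingleton⟩

lemma subsingleton_of_iso_ab {A B : Ab.{u}} (e : A ≅ B) : Subsingleton A ↔ Subsingleton B := by
  have e' := e.addCommGroupIsoToAddEquiv
  exact ⟨fun h => e'.symm.toEquiv.subsingleton, fun h => e'.toEquiv.subsingleton⟩

lemma subsingleton_stalk_iff_of_chart {X : Scheme.{u}} (M : X.Modules) {U : X.Opens}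
    (hU : IsAffineOpen U) (N : ModuleCat.{u} Γ(X, U))
    (e : (Scheme.Modules.pullback hU.fromSpec).obj M ≅ tilde N) (x : X) (hx : x ∈ U) :
    Subsingleton (M.presheaf.stalk x) ↔
      Subsingleton (LocalizedModule (hU.primeIdealOf ⟨x, hx⟩).asIdeal.primeCompl N) := by
  rw [← subsingleton_stalk_tilde_iff]
  set q := hU.primeIdealOf ⟨x, hx⟩ with hq
  have hqx : hU.fromSpec q = x := hU.fromSpec_primeIdealOf ⟨x, hx⟩
  have e1 := (Scheme.Modules.toPresheaf _ ⋙ TopCat.Presheaf.stalkFunctor Ab.{u} q).mapIso e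
  have e2 := (Scheme.Modules.toPresheaf _ ⋙ TopCat.Presheaf.stalkFunctor Ab.{u} q).mapIso
    ((Scheme.Modules.restrictFunctorIsoPullback hU.fromSpec).app M)
  have e3 := (Scheme.Modules.restrictStalkNatIso hU.fromSpec q).app M
  have e4 := e3.symm ≪≫ e2 ≪≫ e1
  have h5 : Subsingleton (M.presheaf.stalk x) ↔ Subsingleton (M.presheaf.stalk (hU.fromSpec q)) := by
    rw [hqx]
  rw [h5]
  exact subsingleton_of_iso_ab e4



lemma formallyUnramified_stalkMap_iff {X Y : Scheme.{u}} {f : X ⟶ Y} {x : X} (U : Y.Opens)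
      (hU : IsAffineOpen U) (V : X.Opens) (hV : IsAffineOpen V) (hVU : V ≤ f ⁻¹ᵁ U)
      (hx : x ∈ V) :
    letI := (f.appLE U V hVU).hom.toAlgebra
    (f.stalkMap x).hom.FormallyUnramified ↔
      Algebra.IsUnramifiedAt Γ(Y, U) (hV.primeIdealOf ⟨x, hx⟩).asIdeal := by
  let := (f.appLE U V hVU).hom.toAlgebra
  let p := (hU.primeIdealOf ⟨f x, hVU hx⟩).asIdeal
  let q := (hV.primeIdealOf ⟨x, hx⟩).asIdeal
  have : q.LiesOver p :=
    ⟨congr($(IsAffineOpen.comap_primeIdealOf_appLE U hU V hV hVU hx).1).symm⟩
  let := Localization.AtPrime.algebraOfLiesOver p q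
  trans Algebra.FormallyUnramified (Localization.AtPrime p) (Localization.AtPrime q)
  · rw [← RingHom.formallyUnramified_algebraMap]
    exact RingHom.FormallyUnramified.respectsIso.arrow_mk_iso_iff
      (IsAffineOpen.arrowStalkMapIso f U hU V hV hVU hx)
  · exact ⟨fun _ ↦ Algebra.FormallyUnramified.comp _ (Localization.AtPrime p) _,
      fun _ ↦ .of_restrictScalars Γ(Y, U) _ _⟩

lemma formallyUnramified_stalkMap_iff_residue {X S : Scheme.{u}} (f : X ⟶ S)
    [LocallyOfFiniteType f] (x : X) :
    (f.stalkMap x).hom.FormallyUnramified ↔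
      ((IsLocalRing.maximalIdeal (S.presheaf.stalk (f.base x))).map (f.stalkMap x).hom =
          IsLocalRing.maximalIdeal (X.presheaf.stalk x) ∧
        (f.residueFieldMap x).hom.Finite ∧
        @Algebra.IsSeparable (S.residueField (f.base x)) (X.residueField x) _ _
          (f.residueFieldMap x).hom.toAlgebra) := by
  algebraize [(f.stalkMap x).hom]
  have : IsLocalHom (algebraMap (S.presheaf.stalk (f x)) (X.presheaf.stalk x)) :=
    inferInstanceAs <| IsLocalHom (f.stalkMap x).hom
  have : Algebra.EssFiniteType (S.presheaf.stalk (f x)) (X.presheaf.stalk x) := by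
    rw [← RingHom.essFiniteType_algebraMap, RingHom.algebraMap_toAlgebra]
    exact LocallyOfFiniteType.stalkMap f x
  have halg : (f.residueFieldMap x).hom.toAlgebra =
      (inferInstance : Algebra (IsLocalRing.ResidueField <| S.presheaf.stalk (f x))
        (IsLocalRing.ResidueField <| X.presheaf.stalk x)) := by
    refine Algebra.algebra_ext _ _ fun x ↦ ?_
    obtain ⟨x, rfl⟩ := IsLocalRing.residue_surjective x
    rfl
  have hiff : (f.stalkMap x).hom.FormallyUnramified ↔
      Algebra.FormallyUnramified (S.presheaf.stalk (f x)) (X.presheaf.stalk x) := by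
    rw [← RingHom.formallyUnramified_algebraMap, RingHom.algebraMap_toAlgebra]
  rw [hiff, Algebra.FormallyUnramified.iff_map_maximalIdeal_eq, halg]
  constructor
  · rintro ⟨h1, h2⟩
    have hu := Algebra.FormallyUnramified.of_map_maximalIdeal h2
    refine ⟨h2, ?_, h1⟩
    have : Module.Finite (IsLocalRing.ResidueField <| S.presheaf.stalk (f x))
      (IsLocalRing.ResidueField <| X.presheaf.stalk x) := inferInstance
    show @Module.Finite (S.residueField (f x)) (X.residueField x) _ _
      (f.residueFieldMap x).hom.toAlgebra.toModule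
    rw [halg]
    exact this
  · rintro ⟨h1, -, h3⟩
    exact ⟨h3, h1⟩


lemma isUnramifiedAt_iff_subsingleton_localizedModule (R A : Type u) [CommRing R] [CommRing A]
    [Algebra R A] (q : PrimeSpectrum A) :
    Algebra.IsUnramifiedAt R q.asIdeal ↔
      Subsingleton (LocalizedModule q.asIdeal.primeCompl Ω[A⁄R]) := by
  rw [← Module.notMem_support_iff, ← Set.mem_compl_iff, ← Algebra.unramifiedLocus_eq_compl_support]
  rfl

end Groth.Agent.Lib.Helper13.OmegaStalk
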