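import Groth.Agent.Lib.Helper13.OmegaChart

set_option autoImplicit false
universe u
open AlgebraicGeometry CategoryTheory Limits TopologicalSpace Opposite

namespace Groth.Agent.Lib.Helper13.OmegaZero

open Groth.Agent.Lib.Helper13.OmegaChart Groth.Agent.Lib.Helper45

variable {X : Scheme.{u}}

/-- `tilde N` is zero iff `N` is subsingleton. -/
theorem isZero_tilde_iff {A : CommRingCat.{u}} (N : ModuleCat.{u} A) :
    IsZero (tilde N) ↔ Subsingleton N := by
  constructor
  · intro h
    apply ModuleCat.subsingleton_of_isZero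
    rw [IsZero.iff_id_eq_zero]
    apply (tilde.functor A).map_injective
    rw [CategoryTheory.Functor.map_id, CategoryTheory.Functor.map_zero]
    exact (IsZero.iff_id_eq_zero _).mp h
  · intro h
    exact (tilde.functor A).map_isZero (ModuleCat.isZero_of_subsingleton N)

/-- If the pullback of `M` along an open immersion `j` is zero then sections of `M` over opens
contained in the range of `j` vanish. -/
theorem subsingleton_sections_of_isZero_pullback {Y : Scheme.{u}} (j : Y ⟶ X) [IsOpenImmersion j]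
    (M : X.Modules) (h : IsZero ((Scheme.Modules.pullback j).obj M)) (W : X.Opens)
    (hW : W ≤ j.opensRange) : Subsingleton Γ(M, W) := by
  have h1 : IsZero (M.restrict j) :=
    h.of_iso ((Scheme.Modules.restrictFunctorIsoPullback j).app M)
  have h2 := (isZero_iff_sections_subsingleton _).mp h1 (j ⁻¹ᵁ W)
  have h3 : j ''ᵁ (j ⁻¹ᵁ W) = W := by
    rw [Scheme.Hom.image_preimage_eq_opensRange_inf]
    exact inf_eq_right.mpr hW
  have h4 : Γ(M.restrict j, j ⁻¹ᵁ W) = Γ(M, j ''ᵁ (j ⁻¹ᵁ W)) := rfl
  rw [h3] at h4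
  rw [← h4]
  exact h2

/-- A module is zero if its pullbacks to the members of a family of open immersions covering `X`
are zero. -/
theorem isZero_of_forall_exists_isZero_pullback (M : X.Modules)
    (h : ∀ x : X, ∃ (Y : Scheme.{u}) (j : Y ⟶ X) (_ : IsOpenImmersion j), x ∈ j.opensRange ∧
      IsZero ((Scheme.Modules.pullback j).obj M)) : IsZero M := by
  rw [isZero_iff_stalk_subsingleton]
  intro x
  obtain ⟨Y, j, hj, hx, hz⟩ := h x
  refine ⟨fun a b => ?_⟩
  obtain ⟨U, hU, s, rfl⟩ := TopCat.Presheaf.exists_germ_eq M.presheaf a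
  obtain ⟨V, hV, t, rfl⟩ := TopCat.Presheaf.exists_germ_eq M.presheaf b
  have hsub := subsingleton_sections_of_isZero_pullback j M hz (U ⊓ V ⊓ j.opensRange) inf_le_right
  have hxW : x ∈ U ⊓ V ⊓ j.opensRange := ⟨⟨hU, hV⟩, hx⟩
  rw [← TopCat.Presheaf.germ_res_apply M.presheaf
      (homOfLE (inf_le_left.trans inf_le_left) : U ⊓ V ⊓ j.opensRange ⟶ U) x hxW s,
    ← TopCat.Presheaf.germ_res_apply M.presheaf
      (homOfLE (inf_le_left.trans inf_le_right) : U ⊓ V ⊓ j.opensRange ⟶ V) x hxW t]
  congr 1
  exact hsub.elim _ _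

end Groth.Agent.Lib.Helper13.OmegaZero
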