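/-
Helper library (helper13): fibrewise properties over the base for proper morphisms
(EGA IV 12.2.1-style consequences), in particular `(S_k)` fibres.
-/
import Groth.Agent.Lib.Helper13.SkFibE
import Groth.Agent.Lib.Helper23.FibreFree

set_option autoImplicit false
open CategoryTheory AlgebraicGeometry Limits
universe u

namespace Groth.Agent.Lib.Helper13.SkFib

open Groth.Agent.Lib.Helper13.FibLocProp

/-- The fibrewise condition over the base, in terms of the pointwise locus. -/
theorem setOf_forall_fibre_pStalk_eq {X Y : Scheme.{u}} (f : X ⟶ Y)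
    (P : ∀ (R : Type u) [CommRing R], Prop) :
    {y : Y | ∀ z : ↥(f.fiber y), PStalk P (f.fiber y) z} = (f '' {x : X | PFib P f x}ᶜ)ᶜ := by
  ext y
  simp only [Set.mem_setOf_eq, Set.mem_compl_iff, Set.mem_image, not_exists, not_and, not_not]
  constructor
  · intro h x hx
    by_contra hxy
    obtain ⟨z, hz⟩ := Groth.Agent.Lib.Helper23.FibreFree.exists_fiberι_eq f hxy
    exact hx ((pFib_congr f y x hxy z hz).mp (h z))
  · intro h z
    have hfz : f (f.fiberι y z) = y := Groth.Agent.Lib.Helper23.FibreFree.fiberι_mem f y z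
    refine (pFib_congr f y (f.fiberι y z) hfz z rfl).mpr ?_
    by_contra hcon
    exact h (f.fiberι y z) hcon hfz

/-- **EGA IV 12.2.1 for `(S_k)`**: for `f` proper, flat and locally of finite presentation, the
set of points of the base over which all local rings of the fibre satisfy `(S_k)` is open. -/
theorem isOpen_setOf_forall_fibre_hasSk {X Y : Scheme.{u}} (f : X ⟶ Y) [IsProper f] [Flat f]
    [LocallyOfFinitePresentation f] (k : ℕ) :
    IsOpen {y : Y | ∀ x : ↥(f.fiber y),
      LocCoh.HasSk k ((f.fiber y).presheaf.stalk x) ((f.fiber y).presheaf.stalk x)} := by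
  have h := setOf_forall_fibre_pStalk_eq f (fun (R : Type u) [CommRing R] => LocCoh.HasSk k R R)
  have h' : {y : Y | ∀ x : ↥(f.fiber y),
      LocCoh.HasSk k ((f.fiber y).presheaf.stalk x) ((f.fiber y).presheaf.stalk x)} =
      (f '' {x : X | SkFib f k x}ᶜ)ᶜ := h
  rw [h', isOpen_compl_iff]
  exact f.isClosedMap _ (isOpen_skFib_of_flat f k).isClosed_compl

end Groth.Agent.Lib.Helper13.SkFib
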