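import Mathlib
import Groth.Agent.S2063
import Groth.Agent.Lib.Helper10.Fitting
import Groth.Agent.Lib.Helper13.ChevalleyRetro
import Groth.Agent.Lib.Helper55.ChevalleyBound
import Groth.Agent.Lib.Helper55.LocalDimTop
import Groth.Agent.Lib.Helper14.SmoothFibre
import Groth.Agent.S7408

set_option autoImplicit false
universe u
open CategoryTheory CategoryTheory.Limits AlgebraicGeometry TensorProduct KaehlerDifferential Topology

namespace Groth.Agent.Lib.Helper13.SmoothFibreCons

section Rank

/-- The fibre rank of the differentials is invariant under base change, for a field-valued point. -/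
theorem finrank_tensor_kaehler_eq_of_isPushout (R S A B : Type u) [CommRing R] [CommRing S]
    [CommRing A] [CommRing B] [Algebra R S] [Algebra R A] [Algebra S B] [Algebra A B] [Algebra R B]
    [IsScalarTower R S B] [IsScalarTower R A B] [Algebra.IsPushout R S A B]
    (K : Type u) [Field K] [Algebra B K] [Algebra A K] [IsScalarTower A B K] :
    Module.finrank K (K ⊗[B] Ω[B⁄S]) = Module.finrank K (K ⊗[A] Ω[A⁄R]) := by
  let e2 := KaehlerDifferential.tensorKaehlerEquiv R S A B
  let e1 := AlgebraTensorModule.cancelBaseChange A B K K Ω[A⁄R]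
  let e3 : K ⊗[B] (B ⊗[A] Ω[A⁄R]) ≃ₗ[K] K ⊗[B] Ω[B⁄S] :=
    AlgebraTensorModule.congr (LinearEquiv.refl K K) e2
  rw [← e3.finrank_eq, e1.finrank_eq]

/-- The fibre rank of a module is invariant under extension of the field. -/
theorem finrank_tensor_eq_of_field_ext (A : Type u) [CommRing A] (M : Type u) [AddCommGroup M]
    [Module A M] (k K : Type u) [Field k] [Field K] [Algebra A k] [Algebra A K] [Algebra k K]
    [IsScalarTower A k K] :
    Module.finrank K (K ⊗[A] M) = Module.finrank k (k ⊗[A] M) := by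
  let e := AlgebraTensorModule.cancelBaseChange A k K K M
  rw [← e.finrank_eq, Module.finrank_baseChange]

/-- The fibre rank of the differentials at a prime is invariant under base change. -/
theorem finrank_residueField_tensor_kaehler_of_isPushout (R S A B : Type u) [CommRing R]
    [CommRing S] [CommRing A] [CommRing B] [Algebra R S] [Algebra R A] [Algebra S B] [Algebra A B]
    [Algebra R B] [IsScalarTower R S B] [IsScalarTower R A B] [Algebra.IsPushout R S A B]
    (Q : Ideal B) [Q.IsPrime] (q : Ideal A) [q.IsPrime] (hq : q = Q.comap (algebraMap A B)) :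
    Module.finrank Q.ResidueField (Q.ResidueField ⊗[B] Ω[B⁄S]) =
      Module.finrank q.ResidueField (q.ResidueField ⊗[A] Ω[A⁄R]) := by
  letI : Algebra A Q.ResidueField :=
    ((algebraMap B Q.ResidueField).comp (algebraMap A B)).toAlgebra
  haveI : IsScalarTower A B Q.ResidueField := .of_algebraMap_eq' rfl
  letI : Algebra q.ResidueField Q.ResidueField :=
    (Ideal.ResidueField.map q Q (algebraMap A B) hq).toAlgebra
  haveI : IsScalarTower A q.ResidueField Q.ResidueField := by
    refine .of_algebraMap_eq' ?_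
    ext a
    simp only [RingHom.algebraMap_toAlgebra, RingHom.comp_apply]
    rw [Ideal.ResidueField.map_algebraMap]
  rw [finrank_tensor_kaehler_eq_of_isPushout R S A B Q.ResidueField,
    finrank_tensor_eq_of_field_ext A Ω[A⁄R] q.ResidueField Q.ResidueField]

end Rank

section Smooth

/-- Pointwise criterion for smoothness of a fibre: if `F = K ⊗_A B` with `K` a field and `B` of
finite presentation over `A`, then `F` is smooth over `K` at `Q` iff the fibre rank of `Ω_{B/A}`
at the prime `q` of `B` under `Q` is at most the local dimension of `Spec F` at `Q`. -/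
theorem isSmoothAt_iff_of_isPushout_field {A B K F : Type u} [CommRing A] [CommRing B]
    [CommRing K] [CommRing F] [Algebra A B] [Algebra A K] [Algebra B F] [Algebra K F]
    [Algebra A F] [IsScalarTower A B F] [IsScalarTower A K F] [Algebra.IsPushout A K B F]
    [Algebra.FinitePresentation A B] (hK : IsField K)
    (Q : Ideal F) [Q.IsPrime] (q : Ideal B) [q.IsPrime] (hq : q = Q.comap (algebraMap B F)) :
    Algebra.IsSmoothAt K Q ↔
      ((Module.finrank q.ResidueField (q.ResidueField ⊗[B] Ω[B⁄A]) : ℕ∞) : WithBot ℕ∞) ≤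
        FlatMor.localDim (PrimeSpectrum F) ⟨Q, inferInstance⟩ := by
  letI : Field K := hK.toField
  haveI : Algebra.FiniteType K F := by
    have e := Algebra.IsPushout.equiv A K B F
    exact Algebra.FiniteType.equiv inferInstance e
  rw [Groth.Agent.S2063.result (k := K) (S := F) Q,
    finrank_residueField_tensor_kaehler_of_isPushout A K B F Q q hq]

end Smooth

section Fitting

open Groth.Agent.Lib.Helper10.Fitting

/-- The Fitting ideals of a finitely presented module are finitely generated. -/
theorem fitt_fg {R : Type*} [CommRing R] {M : Type*} [AddCommGroup M] [Module R M]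
    [Module.FinitePresentation R M] (r : ℕ) : (Fitt.ideal R M r).FG := by
  classical
  obtain ⟨n, x, hx⟩ := Module.Finite.exists_fin (R := R) (M := M)
  rw [fitt_eq_G x hx r]
  have hsurj : Function.Surjective (Fintype.linearCombination R x) := by
    rw [← LinearMap.range_eq_top, Fintype.range_linearCombination, hx]
  obtain ⟨S, hS⟩ := Module.FinitePresentation.fg_ker (Fintype.linearCombination R x) hsurj
  have hSRel : Submodule.span R (S : Set (Fin n → R)) = Rel R x := hS
  set S' : Set (Fin n → R) :=
    (S : Set (Fin n → R)) ∪ Set.range (fun j : Fin n => (Pi.single j 1 : Fin n → R)) with hS'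
  have hS'fin : S'.Finite := S.finite_toSet.union (Set.finite_range _)
  set 𝓜 : Set (Matrix (Fin n) (Fin n) R) :=
    {a | (∀ i, a i ∈ S') ∧
      (Finset.univ.filter fun i => a i ∉ (S : Set (Fin n → R))).card ≤ r} with h𝓜
  have h𝓜fin : 𝓜.Finite := by
    refine (Set.Finite.pi (fun _ : Fin n => hS'fin)).subset (fun a ha => ?_)
    rw [Set.mem_univ_pi]
    exact ha.1
  have key : G R x r = Ideal.span (Matrix.det '' 𝓜) := by
    apply le_antisymm
    · apply G_le_of_rel_le_span x r (S : Set (Fin n → R)) hSRel.ge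
      intro a ha hcard
      refine Ideal.subset_span ⟨a, ⟨fun i => ?_, by convert hcard⟩, rfl⟩
      rcases ha i with h | ⟨j, hj⟩
      · exact Or.inl h
      · exact Or.inr ⟨j, hj.symm⟩
    · rw [Ideal.span_le]
      rintro _ ⟨a, ⟨-, ha2⟩, rfl⟩
      apply det_mem_G x r a
      refine le_trans (Finset.card_le_card ?_) ha2
      intro i hi
      rw [Finset.mem_filter] at hi ⊢
      refine ⟨hi.1, fun hiS => hi.2 ?_⟩
      rw [← hSRel]
      exact Submodule.subset_span hiS
  rw [key]
  exact Submodule.fg_span (h𝓜fin.image _)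

/-- The locus where the fibre rank of a finite module is `≤ n` is the complement of the zero locus
of the `n`-th Fitting ideal. -/
theorem setOf_finrank_le_eq (B : Type u) [CommRing B] (M : Type u) [AddCommGroup M] [Module B M]
    [Module.Finite B M] (n : ℕ) :
    {q : PrimeSpectrum B |
      Module.finrank q.asIdeal.ResidueField (q.asIdeal.ResidueField ⊗[B] M) ≤ n} =
      (PrimeSpectrum.zeroLocus (Fitt.ideal B M n : Set B))ᶜ := by
  ext q
  rw [Set.mem_setOf_eq, Set.mem_compl_iff, PrimeSpectrum.mem_zeroLocus, SetLike.coe_subset_coe,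
    not_le_prime_iff_map_residueField_eq_top, ← fitt_baseChange q.asIdeal.ResidueField n,
    fitt_eq_top_iff_finrank_le]

/-- For a finitely presented module, the locus where the fibre rank is `≤ n` is constructible. -/
theorem isConstructible_setOf_finrank_le (B : Type u) [CommRing B] (M : Type u) [AddCommGroup M]
    [Module B M] [Module.FinitePresentation B M] (n : ℕ) :
    IsConstructible {q : PrimeSpectrum B |
      Module.finrank q.asIdeal.ResidueField (q.asIdeal.ResidueField ⊗[B] M) ≤ n} := by
  rw [setOf_finrank_le_eq]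
  exact (PrimeSpectrum.isRetrocompact_zeroLocus_compl_of_fg (fitt_fg n)).isConstructible
    (PrimeSpectrum.isClosed_zeroLocus _).isOpen_compl

/-- The fibre rank of a finite module is bounded. -/
theorem exists_forall_finrank_le (B : Type u) [CommRing B] (M : Type u) [AddCommGroup M]
    [Module B M] [Module.Finite B M] :
    ∃ N : ℕ, ∀ q : PrimeSpectrum B,
      Module.finrank q.asIdeal.ResidueField (q.asIdeal.ResidueField ⊗[B] M) ≤ N := by
  obtain ⟨n, x, hx⟩ := Module.Finite.exists_fin (R := B) (M := M)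
  refine ⟨n, fun q => ?_⟩
  have h := span_bcTuple q.asIdeal.ResidueField x hx
  have := finrank_le_of_span_eq_top (R := q.asIdeal.ResidueField) h
  simpa using this

end Fitting

section LemmaB

variable (A B : Type u) [CommRing A] [CommRing B] [Algebra A B] [Algebra.FinitePresentation A B]

/-- For a finitely presented algebra `A → B`, the set of primes `q` of `B` at which the fibre rank
of `Ω_{B/A}` is at most the local fibre dimension is constructible in `Spec B`. -/
theorem isConstructible_setOf_rank_le_fibreDimAt :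
    IsConstructible {q : Spec (.of B) |
      ((Module.finrank q.asIdeal.ResidueField (q.asIdeal.ResidueField ⊗[B] Ω[B⁄A]) : ℕ∞) :
        WithBot ℕ∞) ≤
        FlatMor.fibreDimAt (Spec.map (CommRingCat.ofHom (algebraMap A B))) q} := by
  set φ := Spec.map (CommRingCat.ofHom (algebraMap A B)) with hφ
  haveI hlft : LocallyOfFiniteType φ := by
    rw [hφ, HasRingHomProperty.Spec_iff (P := @LocallyOfFiniteType)]
    exact (RingHom.finiteType_algebraMap (A := A) (B := B)).mpr inferInstance
  haveI : QuasiSeparatedSpace ↥(Spec (.of B)) :=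
    inferInstanceAs (QuasiSeparatedSpace (PrimeSpectrum B))
  obtain ⟨N, hN⟩ := exists_forall_finrank_le B Ω[B⁄A]
  have hD : ∀ m : ℕ, IsConstructible {q : Spec (.of B) | FlatMor.fibreDimAt φ q ≤ m} := fun m =>
    (Groth.Agent.Lib.Helper13.Chevalley.isCompact_fibreDimAt_le_of_affine A B m).isConstructible
      (Groth.Agent.Lib.Helper13.Chevalley.isOpen_fibreDimAt_le φ m)
  have hE : ∀ n : ℕ, IsConstructible
      {q : Spec (.of B) | (n : WithBot ℕ∞) ≤ FlatMor.fibreDimAt φ q} := by
    intro n
    cases n with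
    | zero =>
      convert IsConstructible.univ using 1
      ext q
      simp only [Set.mem_setOf_eq, Set.mem_univ, iff_true]
      exact_mod_cast Groth.Agent.Lib.Helper55.localDim_nonneg _
    | succ m =>
      have : {q : Spec (.of B) | ((m + 1 : ℕ) : WithBot ℕ∞) ≤ FlatMor.fibreDimAt φ q} =
          {q : Spec (.of B) | FlatMor.fibreDimAt φ q ≤ m}ᶜ := by
        ext q
        simp only [Set.mem_setOf_eq, Set.mem_compl_iff, not_le]
        constructor
        · intro h
          refine lt_of_lt_of_le ?_ h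
          exact_mod_cast Nat.lt_succ_self m
        · intro h
          exact Groth.Agent.Lib.Helper13.Chevalley.natCast_add_one_le_of_lt h
      rw [this]
      exact (hD m).compl
  have hR : ∀ n : ℕ, IsConstructible {q : Spec (.of B) |
      Module.finrank q.asIdeal.ResidueField (q.asIdeal.ResidueField ⊗[B] Ω[B⁄A]) ≤ n} :=
    fun n => isConstructible_setOf_finrank_le B Ω[B⁄A] n
  have hset : {q : Spec (.of B) |
      ((Module.finrank q.asIdeal.ResidueField (q.asIdeal.ResidueField ⊗[B] Ω[B⁄A]) : ℕ∞) :
        WithBot ℕ∞) ≤ FlatMor.fibreDimAt φ q} =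
      ⋃ n ∈ (Finset.range (N + 1) : Set ℕ), ({q : Spec (.of B) |
        Module.finrank q.asIdeal.ResidueField (q.asIdeal.ResidueField ⊗[B] Ω[B⁄A]) ≤ n} ∩
        {q : Spec (.of B) | (n : WithBot ℕ∞) ≤ FlatMor.fibreDimAt φ q}) := by
    ext q
    simp only [Set.mem_setOf_eq, Set.mem_iUnion, Set.mem_inter_iff, exists_prop]
    constructor
    · intro h
      refine ⟨_, ?_, le_rfl, ?_⟩
      · simp only [Finset.coe_range, Set.mem_Iio]
        exact Nat.lt_succ_of_le (hN q)
      · exact_mod_cast h
    · rintro ⟨n, -, h1, h2⟩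
      refine le_trans ?_ h2
      exact_mod_cast h1
  rw [hset]
  exact IsConstructible.biUnion (Finset.finite_toSet _) fun n _ => (hR n).inter (hE n)

end LemmaB

section LemmaA

variable {X S : Scheme.{u}} (f : X ⟶ S) [LocallyOfFinitePresentation f]

/-- Pointwise criterion for a point of a fibre to be in the smooth locus of the fibre, on affine
charts. -/
theorem mem_smoothLocus_fiber_iff (s : S) [LocallyOfFinitePresentation (f.fiberToSpecResidueField s)]
    (z : ↥(f.fiber s)) {W : S.Opens} (hW : IsAffineOpen W) {V : X.Opens} (hV : IsAffineOpen V)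
    (eV : V ≤ f ⁻¹ᵁ W) (x : X) (hzx : f.fiberι s z = x) (hxV : x ∈ V) :
    letI := (f.appLE W V eV).hom.toAlgebra
    z ∈ (f.fiberToSpecResidueField s).smoothLocus ↔
      ((Module.finrank (hV.primeIdealOf ⟨x, hxV⟩).asIdeal.ResidueField
        ((hV.primeIdealOf ⟨x, hxV⟩).asIdeal.ResidueField ⊗[Γ(X, V)]
          Ω[Γ(X, V)⁄Γ(S, W)]) : ℕ∞) : WithBot ℕ∞) ≤ FlatMor.localDim ↥(f.fiber s) z := by
  subst hzx
  have hzV := hxV
  set g' := f.fiberι s with hg'
  set f' := f.fiberToSpecResidueField s with hf'
  set g := S.fromSpecResidueField s with hg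
  have H : IsPullback g' f' f g := IsPullback.of_hasPullback f g
  have hgf : g (f' z) = f (g' z) := by
    rw [← Scheme.Hom.comp_apply, ← Scheme.Hom.comp_apply, H.w]
  have hK : IsField (S.residueField s) := Field.toIsField _
  have hsub : Subsingleton ↥(Spec (S.residueField s)) :=
    Groth.Agent.Lib.Helper14.subsingleton_primeSpectrum_of_isField hK
  let W' : (Spec (S.residueField s)).Opens := ⊤
  have hW' : IsAffineOpen W' := isAffineOpen_top (Spec (S.residueField s))
  have hxW' : f' z ∈ W' := trivial
  have eW' : W' ≤ g ⁻¹ᵁ W := fun y _ => by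
    have : y = f' z := Subsingleton.elim _ _
    rw [this]
    show g (f' z) ∈ W
    rw [hgf]; exact eV hzV
  set UY : (f.fiber s).Opens := g' ⁻¹ᵁ V ⊓ f' ⁻¹ᵁ W' with hUYdef
  have hxUY : z ∈ UY := ⟨hzV, hxW'⟩
  have e1 : UY ≤ g' ⁻¹ᵁ V := inf_le_left
  have e2 : UY ≤ f' ⁻¹ᵁ W' := inf_le_right
  have hiso := isIso_pushoutSection_of_isAffineOpen H eW' eV hUYdef hW hW' hV
  have hpush := (isIso_pushoutSection_iff H eW' eV hUYdef).mp hiso
  have hUY : IsAffineOpen UY := by
    have : IsAffine (Scheme.Opens.toScheme W) := hW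
    have : IsAffine (Scheme.Opens.toScheme W') := hW'
    have : IsAffine (Scheme.Opens.toScheme V) := hV
    exact .of_isIso (Scheme.Hom.isPullback_resLE H eW' eV hUYdef).isoPullback.hom
  have hKW' : IsField Γ(Spec (S.residueField s), W') :=
    MulEquiv.isField hK (Scheme.ΓSpecIso (S.residueField s)).commRingCatIsoToRingEquiv.toMulEquiv
  rw [Scheme.Hom.mem_smoothLocus, formallySmooth_stalkMap_iff W' hW' UY hUY e2 hxUY]
  have hfp : (f.appLE W V eV).hom.FinitePresentation := f.finitePresentation_appLE hW hV eV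
  algebraize [(f.appLE W V eV).hom, (g.appLE W W' eW').hom, (g'.appLE V UY e1).hom,
    (f'.appLE W' UY e2).hom, ((g'.appLE V UY e1).hom.comp (f.appLE W V eV).hom)]
  have : IsScalarTower Γ(S, W) Γ(X, V) Γ(f.fiber s, UY) := .of_algebraMap_eq' rfl
  have : IsScalarTower Γ(S, W) Γ(Spec (S.residueField s), W') Γ(f.fiber s, UY) :=
    .of_algebraMap_eq' congr($(hpush.w).hom)
  have hP : Algebra.IsPushout Γ(S, W) Γ(X, V) Γ(Spec (S.residueField s), W') Γ(f.fiber s, UY) :=
    CommRingCat.isPushout_iff_isPushout.mp hpush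
  have hP' : Algebra.IsPushout Γ(S, W) Γ(Spec (S.residueField s), W') Γ(X, V) Γ(f.fiber s, UY) :=
    hP.symm
  have hq2 := congr($(IsAffineOpen.comap_primeIdealOf_appLE V hV UY hUY e1 hxUY).1)
  simp only [PrimeSpectrum.comap_asIdeal] at hq2
  have main := isSmoothAt_iff_of_isPushout_field (A := Γ(S, W)) (B := Γ(X, V))
    (K := Γ(Spec (S.residueField s), W')) (F := Γ(f.fiber s, UY)) hKW'
    (hUY.primeIdealOf ⟨z, hxUY⟩).asIdeal (hV.primeIdealOf ⟨g' z, hzV⟩).asIdeal hq2.symm
  refine main.trans ?_
  have hdim : FlatMor.localDim (PrimeSpectrum Γ(f.fiber s, UY))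
      ⟨(hUY.primeIdealOf ⟨z, hxUY⟩).asIdeal, inferInstance⟩ = FlatMor.localDim ↥(f.fiber s) z := by
    have h1 := Groth.Agent.Lib.Helper55.localDim_eq_of_isOpenEmbedding
      (hUY.fromSpec : Spec Γ(f.fiber s, UY) → ↥(f.fiber s)) hUY.fromSpec.isOpenEmbedding
      (hUY.primeIdealOf ⟨z, hxUY⟩)
    rw [hUY.fromSpec_primeIdealOf ⟨z, hxUY⟩] at h1
    exact h1
  rw [hdim]

end LemmaA

section Main

variable {X S : Scheme.{u}} (f : X ⟶ S) [LocallyOfFinitePresentation f]
  [∀ s : S, LocallyOfFinitePresentation (f.fiberToSpecResidueField s)]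

/-- **EGA IV 9.9.4 (smooth case)**: the set of points of `X` at which the fibre through the point
is smooth over the residue field is locally constructible. -/
theorem isLocallyConstructible_setOf_asFiber_mem_smoothLocus :
    IsLocallyConstructible
      {x : X | f.asFiber x ∈ (f.fiberToSpecResidueField (f.base x)).smoothLocus} := by
  intro x₀
  obtain ⟨W, hW, hx₀W, -⟩ := exists_isAffineOpen_mem_and_subset (x := f x₀) (U := ⊤) trivial
  obtain ⟨V, hV, hx₀V, eV⟩ := exists_isAffineOpen_mem_and_subset (x := x₀) (U := f ⁻¹ᵁ W) hx₀W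
  refine ⟨V, V.2.mem_nhds hx₀V, V.2, ?_⟩
  set φ := f.appLE W V eV with hφ
  letI : Algebra Γ(S, W) Γ(X, V) := φ.hom.toAlgebra
  haveI : Algebra.FinitePresentation Γ(S, W) Γ(X, V) := f.finitePresentation_appLE hW hV eV
  have hcomm : Spec.map φ ≫ hW.fromSpec = hV.fromSpec ≫ f :=
    IsAffineOpen.SpecMap_appLE_fromSpec f hW hV eV
  let h : ↥V → ↥(Spec Γ(X, V)) := fun x => hV.primeIdealOf x
  have hh : IsOpenEmbedding h := (Scheme.homeoOfIso hV.isoSpec).isOpenEmbedding
  have hB := isConstructible_setOf_rank_le_fibreDimAt Γ(S, W) Γ(X, V)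
  have hset : ((Subtype.val : ↥V → X) ⁻¹'
      {x : X | f.asFiber x ∈ (f.fiberToSpecResidueField (f.base x)).smoothLocus}) =
      h ⁻¹' {q : Spec (.of Γ(X, V)) |
        ((Module.finrank q.asIdeal.ResidueField
          (q.asIdeal.ResidueField ⊗[Γ(X, V)] Ω[Γ(X, V)⁄Γ(S, W)]) : ℕ∞) : WithBot ℕ∞) ≤
        FlatMor.fibreDimAt (Spec.map (CommRingCat.ofHom (algebraMap Γ(S, W) Γ(X, V)))) q} := by
    ext ⟨x, hxV⟩
    simp only [Set.mem_preimage, Set.mem_setOf_eq]
    have hA := mem_smoothLocus_fiber_iff f (f x) (f.asFiber x) hW hV eV x (f.fiberι_asFiber x) hxV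
    refine hA.trans ?_
    have h1 := Groth.Agent.S7408.result f (Spec.map φ) hV.fromSpec hW.fromSpec hcomm
      (hV.primeIdealOf ⟨x, hxV⟩)
    rw [hV.fromSpec_primeIdealOf ⟨x, hxV⟩] at h1
    have h2 : FlatMor.localDim ↥(f.fiber (f x)) (f.asFiber x) = FlatMor.fibreDimAt f x := rfl
    rw [h2, h1]
    exact Iff.rfl
  have hfin := hB.preimage_of_isOpenEmbedding hh
  rw [← hset] at hfin
  exact hfin

end Main

end Groth.Agent.Lib.Helper13.SmoothFibreCons
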