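/-
Helper library (helper13): going-down for the support of a module which is flat over the base
(EGA IV 2.3.4 for modules), and openness of the restriction of a morphism locally of finite
presentation to the support of a finitely presented module which is flat over the base
(EGA IV 2.4.6 for modules).
-/
import Groth.Agent.Lib.Helper13.SuppFib
import Groth.Agent.Lib.Helper13.SmoothFibreCons
import Groth.Agent.Lib.Helper49.PrinPartFP
import Groth.Agent.Lib.Helper49.FinitePresentation2

set_option autoImplicit false
set_option linter.style.haveILetI false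
open CategoryTheory AlgebraicGeometry Limits
universe u

namespace Groth.Agent.Lib.Helper13.SuppOpen

open Groth.Agent.Lib.Helper13.FittSheaf Groth.Agent.Lib.Helper13.SuppFib
open Groth.Agent.Lib.Helper55 IsLocalRing TensorProduct Topology TopologicalSpace

section Algebra

variable {A B M : Type*} [CommRing A] [CommRing B] [Algebra A B] [AddCommGroup M] [Module A M]
  [Module B M] [IsScalarTower A B M]

omit [IsScalarTower A B M] in
theorem smul_mem_of_mem_map (p : Ideal A) [IsScalarTower A B M] (b : B)
    (hb : b ∈ p.map (algebraMap A B)) (m : M) : b • m ∈ (p • ⊤ : Submodule A M) := by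
  induction hb using Submodule.span_induction generalizing m with
  | mem x hx =>
    obtain ⟨a, ha, rfl⟩ := hx
    rw [algebraMap_smul]
    exact Submodule.smul_mem_smul ha Submodule.mem_top
  | zero => simp
  | add x y _ _ hx hy => rw [add_smul]; exact add_mem (hx m) (hy m)
  | smul c x _ hx =>
    rw [smul_eq_mul, mul_comm, mul_smul]
    exact hx (c • m)

/-- If `a ∉ 𝔭` multiplies a flat module `M` into `𝔭 M`, then `M = 𝔭 M`. -/
theorem smul_top_eq_top_of_forall_smul_mem [Module.Flat A M] (p : Ideal A) [p.IsPrime] (a : A)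
    (ha : a ∉ p) (h : ∀ m : M, a • m ∈ (p • ⊤ : Submodule A M)) :
    (p • ⊤ : Submodule A M) = ⊤ := by
  have hz : ∀ (r : A ⧸ p) (x : M), x ∈ (p • ⊤ : Submodule A M) → r ⊗ₜ[A] x = 0 := by
    intro r x hx
    refine Submodule.smul_induction_on hx ?_ ?_
    · intro c hc m _
      rw [← TensorProduct.smul_tmul]
      have : c • r = 0 := by
        rw [Algebra.smul_def]
        have : algebraMap A (A ⧸ p) c = 0 := Ideal.Quotient.eq_zero_iff_mem.mpr hc
        rw [this, zero_mul]
      rw [this, TensorProduct.zero_tmul]
    · intro x y hx hy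
      rw [TensorProduct.tmul_add, hx, hy, add_zero]
  have hkill : ∀ n : (A ⧸ p) ⊗[A] M, (Ideal.Quotient.mk p a) • n = 0 := by
    intro n
    induction n using TensorProduct.induction_on with
    | zero => simp
    | tmul r m =>
      rw [TensorProduct.smul_tmul', smul_eq_mul, mul_comm]
      have : r * Ideal.Quotient.mk p a = a • r := by
        rw [Algebra.smul_def, mul_comm]; rfl
      rw [this, TensorProduct.smul_tmul]
      exact hz r _ (h m)
    | add x y hx hy => rw [smul_add, hx, hy, add_zero]
  have hne : Ideal.Quotient.mk p a ≠ 0 := fun h0 => ha (Ideal.Quotient.eq_zero_iff_mem.mp h0)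
  have hreg : IsSMulRegular ((A ⧸ p) ⊗[A] M) (Ideal.Quotient.mk p a) :=
    Module.Flat.isSMulRegular_of_isRegular (isRegular_of_ne_zero hne)
  have hsub : Subsingleton ((A ⧸ p) ⊗[A] M) := by
    refine ⟨fun x y => hreg ?_⟩
    simp only [hkill]
  have hsub' : Subsingleton (M ⧸ (p • ⊤ : Submodule A M)) :=
    (TensorProduct.quotTensorEquivQuotSMul M p).symm.injective.subsingleton
  exact Submodule.Quotient.subsingleton_iff.mp hsub'

/-- **Going-down for the support of a flat module** (local form): for a local homomorphism
`A → B` of local rings and a nonzero finite `B`-module `M` which is flat over `A`, every prime of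
`A` is the contraction of a prime of the support of `M`. -/
theorem exists_mem_support_comap_eq [IsLocalRing A] [IsLocalRing B]
    [IsLocalHom (algebraMap A B)] [Module.Finite B M] [Module.Flat A M] [Nontrivial M]
    (p : PrimeSpectrum A) :
    ∃ q ∈ Module.support B M, PrimeSpectrum.comap (algebraMap A B) q = p := by
  classical
  set I := Module.annihilator B M with hI
  set ψ : A →+* B ⧸ I := (Ideal.Quotient.mk I).comp (algebraMap A B) with hψ
  have key : (p.asIdeal.map ψ).comap ψ = p.asIdeal := by
    refine le_antisymm ?_ Ideal.le_comap_map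
    intro a ha
    by_contra hap
    have ha' : Ideal.Quotient.mk I (algebraMap A B a) ∈
        (p.asIdeal.map (algebraMap A B)).map (Ideal.Quotient.mk I) := by
      rw [Ideal.map_map]
      exact ha
    rw [Ideal.mem_quotient_iff_mem_sup, Submodule.mem_sup] at ha'
    obtain ⟨b, hb, i, hi, hbi⟩ := ha'
    have h1 : ∀ m : M, a • m ∈ (p.asIdeal • ⊤ : Submodule A M) := by
      intro m
      have : a • m = b • m := by
        rw [← algebraMap_smul B a m, ← hbi, add_smul, Module.mem_annihilator.mp hi m, add_zero]
      rw [this]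
      exact smul_mem_of_mem_map p.asIdeal b hb m
    have h2 := smul_top_eq_top_of_forall_smul_mem p.asIdeal a hap h1
    have h3 : (⊤ : Submodule B M) ≤ maximalIdeal B • (⊤ : Submodule B M) := by
      intro m _
      have hm : m ∈ (p.asIdeal • ⊤ : Submodule A M) := by rw [h2]; trivial
      refine Submodule.smul_induction_on hm ?_ ?_
      · intro c hc m' _
        rw [← algebraMap_smul B c m']
        refine Submodule.smul_mem_smul ?_ Submodule.mem_top
        rw [mem_maximalIdeal, mem_nonunits_iff]
        intro hu
        have hcu : IsUnit c := IsLocalHom.map_nonunit c hu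
        exact p.2.ne_top (Ideal.eq_top_of_isUnit_mem _ hc hcu)
      · intro x y hx hy
        exact add_mem hx hy
    have h4 : (⊤ : Submodule B M) = ⊥ :=
      Submodule.eq_bot_of_le_smul_of_le_jacobson_bot (maximalIdeal B) ⊤
        Module.Finite.fg_top h3 (IsLocalRing.maximalIdeal_le_jacobson ⊥)
    exact top_ne_bot h4
  obtain ⟨Q, hQ, hQp⟩ := (Ideal.comap_map_eq_self_iff_of_isPrime p.asIdeal).mp key
  refine ⟨⟨Q.comap (Ideal.Quotient.mk I), inferInstance⟩, ?_, ?_⟩
  · rw [Module.support_eq_zeroLocus, PrimeSpectrum.mem_zeroLocus]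
    intro b hb
    change Ideal.Quotient.mk I b ∈ Q
    rw [Ideal.Quotient.eq_zero_iff_mem.mpr hb]
    exact Q.zero_mem
  · ext a
    rw [← hQp]
    rfl

end Algebra

section Geometry

variable {X Y : Scheme.{u}} (f : X ⟶ Y) (F : X.Modules) [F.IsQuasicoherent]
  (hF : SheafOfModules.IsFinitePresentation (R := X.ringCatSheaf) F)
  (hfl : FlatMod.IsFlatOver f F)

include hF hfl in
/-- **Going-down for the support of a flat module** (EGA IV 2.3.4 for modules). -/
theorem exists_generization_mem_support (x : X) (hx : Nontrivial (F.presheaf.stalk x)) (y' : Y)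
    (hy : y' ⤳ f x) :
    ∃ x' : X, x' ⤳ x ∧ Nontrivial (F.presheaf.stalk x') ∧ f x' = y' := by
  haveI : SheafOfModules.IsFiniteType (R := X.ringCatSheaf) F :=
    Groth.Agent.Lib.Helper16.GenFlat.isFiniteType_of_isFinitePresentation F hF
  letI algAR : Algebra (Y.presheaf.stalk (f x)) (X.presheaf.stalk x) :=
    (f.stalkMap x).hom.toAlgebra
  haveI hloc : IsLocalHom (algebraMap (Y.presheaf.stalk (f x)) (X.presheaf.stalk x)) :=
    inferInstanceAs (IsLocalHom (f.stalkMap x).hom)
  letI modA : Module (Y.presheaf.stalk (f x)) (F.presheaf.stalk x) :=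
    FlatMod.moduleStalkOver f F x
  haveI tow : IsScalarTower (Y.presheaf.stalk (f x)) (X.presheaf.stalk x) (F.presheaf.stalk x) :=
    IsScalarTower.of_compHom _ _ _
  haveI : Module.Finite (X.presheaf.stalk x) (F.presheaf.stalk x) :=
    Groth.Agent.Lib.Helper49.finite_stalk_of_isFiniteType F inferInstance x
  haveI : Module.Flat (Y.presheaf.stalk (f x)) (F.presheaf.stalk x) := hfl x
  obtain ⟨p, rfl⟩ := exists_stalkPoint_eq (f x) y' hy
  obtain ⟨q, hq, hqp⟩ := exists_mem_support_comap_eq (A := Y.presheaf.stalk (f x))
    (B := X.presheaf.stalk x) (M := F.presheaf.stalk x) p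
  refine ⟨stalkPoint x q, stalkPoint_specializes x q, ?_, ?_⟩
  · rw [← mem_support_sheafIdeal_zero_iff]
    exact (mem_support_stalk_iff F x q).mp hq
  · rw [← stalkPoint_comap, ← hqp]
    rfl

include hF in
theorem locallyOfFinitePresentation_subschemeι :
    LocallyOfFinitePresentation (Fitt.sheafIdeal F 0).subschemeι := by
  apply Groth.Agent.Lib.Helper49.PrinPartFP.locallyOfFinitePresentation_subschemeι
  intro U
  haveI : SheafOfModules.IsFiniteType (R := X.ringCatSheaf) F :=
    Groth.Agent.Lib.Helper16.GenFlat.isFiniteType_of_isFinitePresentation F hF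
  rw [sheafIdeal_ideal]
  haveI := Groth.Agent.Lib.Helper49.finitePresentation_sections_of_isFinitePresentation F hF U.2
  exact Groth.Agent.Lib.Helper13.SmoothFibreCons.fitt_fg 0

include hF hfl in
/-- **EGA IV 2.4.6 for modules**: the restriction of a morphism locally of finite presentation to
the support of a finitely presented module flat over the base is open. -/
theorem isOpen_image_inter_support [LocallyOfFinitePresentation f] (U : Set X) (hU : IsOpen U) :
    IsOpen (f '' (U ∩ {x : X | Nontrivial (F.presheaf.stalk x)})) := by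
  haveI : SheafOfModules.IsFiniteType (R := X.ringCatSheaf) F :=
    Groth.Agent.Lib.Helper16.GenFlat.isFiniteType_of_isFinitePresentation F hF
  set ι := (Fitt.sheafIdeal F 0).subschemeι with hι
  haveI : LocallyOfFinitePresentation ι := locallyOfFinitePresentation_subschemeι F hF
  have hrange : Set.range ι = {x : X | Nontrivial (F.presheaf.stalk x)} := by
    rw [hι, Scheme.IdealSheafData.range_subschemeι]
    ext x
    exact mem_support_sheafIdeal_zero_iff F x
  have hgen : GeneralizingMap (ι ≫ f) := by
    intro w y' hy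
    have hy' : y' ⤳ f (ι w) := hy
    have hx : Nontrivial (F.presheaf.stalk (ι w)) := by
      have : ι w ∈ Set.range ι := ⟨w, rfl⟩
      rw [hrange] at this
      exact this
    obtain ⟨x', hx'x, hx'nt, hfx'⟩ := exists_generization_mem_support f F hF hfl (ι w) hx y' hy'
    have : x' ∈ Set.range ι := by rw [hrange]; exact hx'nt
    obtain ⟨w', rfl⟩ := this
    exact ⟨w', ι.isEmbedding.isInducing.specializes_iff.mp hx'x, hfx'⟩
  have hopen : IsOpenMap (ι ≫ f) := isOpenMap_of_generalizingMap (ι ≫ f) hgen
  have himg : f '' (U ∩ {x : X | Nontrivial (F.presheaf.stalk x)}) = (ι ≫ f) '' (ι ⁻¹' U) := by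
    rw [← hrange]
    ext y
    constructor
    · rintro ⟨x, ⟨hxU, ⟨w, rfl⟩⟩, rfl⟩
      exact ⟨w, hxU, rfl⟩
    · rintro ⟨w, hw, rfl⟩
      exact ⟨ι w, ⟨hw, ⟨w, rfl⟩⟩, rfl⟩
  rw [himg]
  exact hopen _ (hU.preimage ι.continuous)

end Geometry

end Groth.Agent.Lib.Helper13.SuppOpen
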