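/-
Helper library (helper13): the irreducible components of the support of the restriction of a
finitely presented flat module to the fibres of a proper morphism: openness of the set of points
of the base over which the support of the fibre module has a component of a given dimension
(EGA IV 12.2.1 (ii), (v), 12.2.2), local constancy of the dimension of the support.
-/
import Groth.Agent.Lib.Helper13.SuppOpen
import Groth.Agent.Lib.Helper13.AssFibC
import Groth.Agent.Lib.Helper55.DimSup
import Groth.Agent.Lib.Helper55.IrredComponents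
import Groth.Agent.Lib.Helper55.DimAttained

set_option autoImplicit false
set_option linter.style.haveILetI false
open CategoryTheory AlgebraicGeometry Limits
universe u

namespace Groth.Agent.Lib.Helper13.SuppComp

open Groth.Agent.Lib.Helper13.FittSheaf Groth.Agent.Lib.Helper13.SuppFib
open Groth.Agent.Lib.Helper13.SuppOpen Groth.Agent.Lib.Helper13.AssFib
open Groth.Agent.Lib.Helper13.FibModProp Groth.Agent.Lib.Helper13.FibStalk
open Groth.Agent.Lib.Helper55 IsLocalRing Topology TopologicalSpace

section Pointwise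

variable {T : Scheme.{u}} (G : T.Modules) [G.IsQuasicoherent]
  [SheafOfModules.IsFiniteType (R := T.ringCatSheaf) G]

theorem isClosed_supp : IsClosed {z : T | Nontrivial (G.presheaf.stalk z)} := by
  have : {z : T | Nontrivial (G.presheaf.stalk z)} = ((Fitt.sheafIdeal G 0).support : Set T) := by
    ext z
    exact (mem_support_sheafIdeal_zero_iff G z).symm
  rw [this]
  exact (Fitt.sheafIdeal G 0).support.isClosed

omit [G.IsQuasicoherent] [SheafOfModules.IsFiniteType (R := T.ringCatSheaf) G] in
/-- The associated points lie in the support. -/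
theorem nontrivial_stalk_of_mem_ass (z : T) (hz : z ∈ AssSch.Ass G) :
    Nontrivial (G.presheaf.stalk z) := by
  by_contra h
  rw [not_nontrivial_iff_subsingleton] at h
  exact not_isAssociatedPrime_of_subsingleton hz

/-- The maximal points of the support are associated points. -/
theorem mem_ass_of_maximal [IsLocallyNoetherian T] (z : T)
    (hz : Nontrivial (G.presheaf.stalk z))
    (hmax : ∀ z' : T, Nontrivial (G.presheaf.stalk z') → z' ⤳ z → z ⤳ z') :
    z ∈ AssSch.Ass G := by
  haveI : Module.Finite (T.presheaf.stalk z) (G.presheaf.stalk z) :=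
    Groth.Agent.Lib.Helper49.finite_stalk_of_isFiniteType G inferInstance z
  obtain ⟨P, hP⟩ := associatedPrimes.nonempty (T.presheaf.stalk z) (G.presheaf.stalk z)
  have hP' : IsAssociatedPrime P (G.presheaf.stalk z) := hP
  haveI := hP'.isPrime
  set 𝔭 : PrimeSpectrum (T.presheaf.stalk z) := ⟨P, hP'.isPrime⟩ with h𝔭
  have hsupp : 𝔭 ∈ Module.support (T.presheaf.stalk z) (G.presheaf.stalk z) := by
    rw [Module.support_eq_zeroLocus, PrimeSpectrum.mem_zeroLocus]
    have hle := hP'.annihilator_le
    rw [Submodule.annihilator_top] at hle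
    exact (SetLike.coe_subset_coe).mpr hle
  have h1 : Nontrivial (G.presheaf.stalk (stalkPoint z 𝔭)) := by
    rw [← mem_support_sheafIdeal_zero_iff]
    exact (mem_support_stalk_iff G z 𝔭).mp hsupp
  have h2 : stalkPoint z 𝔭 ⤳ z := stalkPoint_specializes z 𝔭
  have h3 : stalkPoint z 𝔭 = z := (h2.antisymm (hmax _ h1 h2)).eq
  have h4 : stalkPoint z (closedPoint (T.presheaf.stalk z)) = z :=
    Scheme.fromSpecStalk_closedPoint
  have h5 : 𝔭 = closedPoint (T.presheaf.stalk z) := stalkPoint_injective z (h3.trans h4.symm)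
  have h6 : P = maximalIdeal (T.presheaf.stalk z) := congrArg PrimeSpectrum.asIdeal h5
  change IsAssociatedPrime (maximalIdeal (T.presheaf.stalk z)) (G.presheaf.stalk z)
  rw [← h6]
  exact hP'

/-- Every point of the support is a specialization of the generic point of an irreducible
component of the support. -/
theorem exists_component_specializes (t : T) (ht : Nontrivial (G.presheaf.stalk t)) :
    ∃ C ∈ irreducibleComponents ↥{z : T | Nontrivial (G.presheaf.stalk z)},
      ∃ q : T, Nontrivial (G.presheaf.stalk q) ∧ q ⤳ t ∧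
        (∀ z' : T, Nontrivial (G.presheaf.stalk z') → z' ⤳ q → q ⤳ z') ∧
        topologicalKrullDim ↥C = topologicalKrullDim ↥(closure ({q} : Set T)) := by
  obtain ⟨C, hC, htC⟩ := exists_mem_irreducibleComponents_subset_of_isIrreducible
    ({(⟨t, ht⟩ : ↥{z : T | Nontrivial (G.presheaf.stalk z)})} : Set _) isIrreducible_singleton
  obtain ⟨q, hqT, hCq, hgen, hdim⟩ :=
    exists_genericPoint_of_mem_irreducibleComponents _ (isClosed_supp G) C hC
  refine ⟨C, hC, q, hqT, ?_, hgen, hdim⟩
  rw [specializes_iff_mem_closure, ← hCq]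
  exact ⟨⟨t, ht⟩, htC rfl, rfl⟩

theorem dim_eq_bot_iff (T' : Type*) [TopologicalSpace T'] :
    topologicalKrullDim T' = ⊥ ↔ IsEmpty T' := by
  unfold topologicalKrullDim
  rw [Order.krullDim_eq_bot_iff]
  constructor
  · intro h
    refine ⟨fun x => h.elim ⟨closure {x}, isIrreducible_singleton.closure, isClosed_closure⟩⟩
  · intro h
    refine ⟨fun c => ?_⟩
    obtain ⟨x, -⟩ := c.isIrreducible'.nonempty
    exact h.elim x

/-- The dimension of the support is at most `n` iff all the associated cycles have dimension at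
most `n`. -/
theorem dim_supp_le_iff [IsLocallyNoetherian T]
    (hnat : ∀ z : T, ∃ m : ℕ, topologicalKrullDim ↥(closure ({z} : Set T)) = m) (n : ℕ) :
    topologicalKrullDim ↥{z : T | Nontrivial (G.presheaf.stalk z)} ≤ (n : WithBot ℕ∞) ↔
      ∀ t : T, QDim (Finset.range (n + 1)) T G t := by
  have hcl := isClosed_supp G
  constructor
  · intro hle t z hz _
    have hzS := nontrivial_stalk_of_mem_ass G z hz
    have hsub : closure ({z} : Set T) ⊆ {z : T | Nontrivial (G.presheaf.stalk z)} :=
      closure_minimal (Set.singleton_subset_iff.mpr hzS) hcl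
    obtain ⟨m, hm⟩ := hnat z
    refine ⟨m, ?_, hm⟩
    have h1 : ((m : ℕ) : WithBot ℕ∞) ≤ n := by
      rw [← hm]
      exact (topologicalKrullDim_mono_set hsub).trans hle
    have h2 : m ≤ n := by exact_mod_cast h1
    exact Finset.mem_range.mpr (Nat.lt_succ_of_le h2)
  · intro h
    haveI : QuasiSober ↥{z : T | Nontrivial (G.presheaf.stalk z)} :=
      hcl.isClosedEmbedding_subtypeVal.quasiSober
    rw [topologicalKrullDim_eq_iSup_closure]
    refine iSup_le fun w => ?_
    rw [topologicalKrullDim_closure_subtype _ hcl w]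
    obtain ⟨C, -, q, hqS, hqw, hqmax, -⟩ := exists_component_specializes G w.1 w.2
    have hqAss := mem_ass_of_maximal G q hqS hqmax
    obtain ⟨m, hm, hmdim⟩ := h q q hqAss (subset_closure rfl)
    have hsub : closure ({w.1} : Set T) ⊆ closure {q} := specializes_iff_closure_subset.mp hqw
    refine (topologicalKrullDim_mono_set hsub).trans ?_
    rw [hmdim]
    have : m ≤ n := Nat.lt_succ_iff.mp (Finset.mem_range.mp hm)
    exact_mod_cast this

/-- The dimension of the support is `n` iff it is at most `n` and some irreducible component has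
dimension `n`. -/
theorem dim_supp_eq_iff (n : ℕ) :
    topologicalKrullDim ↥{z : T | Nontrivial (G.presheaf.stalk z)} = (n : WithBot ℕ∞) ↔
      topologicalKrullDim ↥{z : T | Nontrivial (G.presheaf.stalk z)} ≤ (n : WithBot ℕ∞) ∧
      ∃ Z ∈ irreducibleComponents ↥{z : T | Nontrivial (G.presheaf.stalk z)},
        topologicalKrullDim ↥Z = (n : WithBot ℕ∞) := by
  have hcl := isClosed_supp G
  constructor
  · intro h
    refine ⟨h.le, ?_⟩
    obtain ⟨x, hxS, hxdim⟩ := exists_topologicalKrullDim_closure_eq _ hcl n h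
    obtain ⟨C, hC, q, hqS, hqx, -, hCdim⟩ := exists_component_specializes G x hxS
    refine ⟨C, hC, ?_⟩
    rw [hCdim]
    apply le_antisymm
    · rw [← h]
      exact topologicalKrullDim_mono_set
        (closure_minimal (Set.singleton_subset_iff.mpr hqS) hcl)
    · rw [← hxdim]
      exact topologicalKrullDim_mono_set (specializes_iff_closure_subset.mp hqx)
  · rintro ⟨hle, Z, -, hZ⟩
    refine le_antisymm hle ?_
    rw [← hZ]
    exact topologicalKrullDim_subspace_le _ Z

omit [G.IsQuasicoherent] [SheafOfModules.IsFiniteType (R := T.ringCatSheaf) G] in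
theorem noEmbedded_iff_forall_qNoEmb : AssSch.NoEmbedded G ↔ ∀ t : T, QNoEmb T G t := by
  constructor
  · intro h t z hz _ z' hz' hzz'
    exact (h z hz z' hz' (specializes_iff_mem_closure.mpr hzz')).symm
  · intro h x hx y hy hyx
    exact (h x x hx (subset_closure rfl) y hy (specializes_iff_mem_closure.mp hyx)).symm

/-- No embedded component and the set of dimensions of the irreducible components of the support
is exactly `Φ`. -/
theorem noEmbedded_and_dims_eq_iff [IsLocallyNoetherian T] (Φ : Finset ℕ) :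
    (AssSch.NoEmbedded G ∧
      (fun Z : Set ↥{z : T | Nontrivial (G.presheaf.stalk z)} => topologicalKrullDim ↥Z) ''
        irreducibleComponents ↥{z : T | Nontrivial (G.presheaf.stalk z)} =
        (fun n : ℕ => (n : WithBot ℕ∞)) '' (Φ : Set ℕ)) ↔
    ((∀ t : T, QNoEmb T G t) ∧
      (∀ n ∈ Φ, ∃ Z ∈ irreducibleComponents ↥{z : T | Nontrivial (G.presheaf.stalk z)},
        topologicalKrullDim ↥Z = (n : WithBot ℕ∞)) ∧
      ∀ t : T, QDim Φ T G t) := by
  have hcl := isClosed_supp G
  rw [← noEmbedded_iff_forall_qNoEmb]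
  refine and_congr_right fun hNE => ?_
  constructor
  · intro hD
    constructor
    · intro n hn
      have : ((n : ℕ) : WithBot ℕ∞) ∈ (fun n : ℕ => (n : WithBot ℕ∞)) '' (Φ : Set ℕ) :=
        ⟨n, hn, rfl⟩
      rw [← hD] at this
      obtain ⟨Z, hZ, hZn⟩ := this
      exact ⟨Z, hZ, hZn⟩
    · intro t z hz _
      have hzS := nontrivial_stalk_of_mem_ass G z hz
      obtain ⟨C, hC, q, hqS, hqz, hqmax, hCdim⟩ := exists_component_specializes G z hzS
      have hqAss := mem_ass_of_maximal G q hqS hqmax
      have hzq : z = q := hNE z hz q hqAss hqz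
      have : topologicalKrullDim ↥C ∈ (fun n : ℕ => (n : WithBot ℕ∞)) '' (Φ : Set ℕ) := by
        rw [← hD]
        exact ⟨C, hC, rfl⟩
      obtain ⟨n, hn, hnC⟩ := this
      refine ⟨n, hn, ?_⟩
      rw [hzq, ← hCdim]
      exact hnC.symm
  · rintro ⟨hT, hQ⟩
    apply Set.Subset.antisymm
    · rintro _ ⟨Z, hZ, rfl⟩
      obtain ⟨q, hqS, -, hqmax, hZdim⟩ :=
        exists_genericPoint_of_mem_irreducibleComponents _ hcl Z hZ
      have hqAss := mem_ass_of_maximal G q hqS hqmax
      obtain ⟨n, hn, hndim⟩ := hQ q q hqAss (subset_closure rfl)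
      exact ⟨n, hn, by
        show ((n : ℕ) : WithBot ℕ∞) = topologicalKrullDim ↥Z
        rw [hZdim, hndim]⟩
    · rintro _ ⟨n, hn, rfl⟩
      obtain ⟨Z, hZ, hZn⟩ := hT n hn
      exact ⟨Z, hZ, hZn⟩

end Pointwise

section Main

variable {X Y : Scheme.{u}} (f : X ⟶ Y) [LocallyOfFinitePresentation f] (F : X.Modules)
  [F.IsQuasicoherent] (hF : SheafOfModules.IsFinitePresentation (R := X.ringCatSheaf) F)
  (hfl : FlatMod.IsFlatOver f F)

omit [LocallyOfFinitePresentation f] in
theorem instances_fibre [LocallyOfFiniteType f] (y : Y) : IsLocallyNoetherian (f.fiber y) :=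
  Groth.Agent.Lib.Helper13.CMChart.isLocallyNoetherian_fiber f y

omit [LocallyOfFinitePresentation f] in
include hF in
theorem isFiniteType_fibre (y : Y) :
    SheafOfModules.IsFiniteType (R := (f.fiber y).ringCatSheaf)
      ((Scheme.Modules.pullback (f.fiberι y)).obj F) :=
  Groth.Agent.Lib.Helper16.GenFlat.isFiniteType_of_isFinitePresentation _
    (Groth.Agent.Lib.Helper49.PrinPartFP.isFinitePresentation_pullback (f.fiberι y) F hF)

include hF hfl in
/-- **EGA IV 12.2.1**: the set of points `y` such that the support of `F_y` has an irreducible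
component of dimension `n` is open (no properness needed). -/
theorem isOpen_setOf_exists_component (n : ℕ) :
    IsOpen {y : Y | ∃ Z ∈ irreducibleComponents
      ↥{z : ↥(f.fiber y) | Nontrivial (((Scheme.Modules.pullback (f.fiberι y)).obj F).presheaf.stalk z)},
      topologicalKrullDim ↥Z = (n : WithBot ℕ∞)} := by
  rw [isOpen_iff_forall_mem_open]
  rintro y₀ ⟨Z, hZ, hdim⟩
  haveI := fun y => instances_fibre f y
  haveI := fun y => Groth.Agent.Lib.Helper16.FlatPull.isQuasicoherent_pullback (f.fiberι y) F
  haveI := fun y => isFiniteType_fibre f F hF y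
  obtain ⟨z₀, hz₀S, hZz₀, hmax₀, hdim₀⟩ := exists_genericPoint_of_mem_irreducibleComponents _
    (isClosed_supp ((Scheme.Modules.pullback (f.fiberι y₀)).obj F)) Z hZ
  set x₀ := f.fiberι y₀ z₀ with hx₀
  have hfx₀ : f x₀ = y₀ := Groth.Agent.Lib.Helper97.AssFibre.apply_fiberι' f y₀ z₀
  -- the property `QDim {n}` holds at `x₀`
  have hQ : FibE (QDim {n}) X Y f F x₀ := by
    refine (fibE_congr f F y₀ x₀ hfx₀ z₀ rfl).mp ?_
    intro z hz hz₀z
    have hzS := nontrivial_stalk_of_mem_ass _ z hz
    have hzz₀ : z ⤳ z₀ := specializes_iff_mem_closure.mpr hz₀z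
    have : z = z₀ := (hzz₀.antisymm (hmax₀ z hzS hzz₀)).eq
    refine ⟨n, Finset.mem_singleton_self n, ?_⟩
    rw [this, ← hdim₀, hdim]
  have hx₀S : Nontrivial (F.presheaf.stalk x₀) :=
    ((fibre_stalk_invariants f F hF y₀ z₀).2.2).mp hz₀S
  refine ⟨f '' ({x : X | FibE (QDim {n}) X Y f F x} ∩ {x : X | Nontrivial (F.presheaf.stalk x)}),
    ?_, isOpen_image_inter_support f F hF hfl _ (isOpen_qDim_of_flat f F hF hfl {n}),
    ⟨x₀, ⟨hQ, hx₀S⟩, hfx₀⟩⟩
  rintro _ ⟨x, ⟨hxQ, hxS⟩, rfl⟩
  have hxS' : Nontrivial (((Scheme.Modules.pullback (f.fiberι (f x))).obj F).presheaf.stalk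
      (f.asFiber x)) := ((fibre_stalk_invariants_asFiber f F hF x).2.2).mpr hxS
  obtain ⟨C, hC, q, hqS, hqx, hqmax, hCdim⟩ :=
    exists_component_specializes ((Scheme.Modules.pullback (f.fiberι (f x))).obj F) _ hxS'
  have hqAss := mem_ass_of_maximal _ q hqS hqmax
  obtain ⟨m, hm, hmdim⟩ := hxQ q hqAss (specializes_iff_mem_closure.mp hqx)
  rw [Finset.mem_singleton] at hm
  refine ⟨C, hC, ?_⟩
  rw [hCdim, hmdim, hm]

include hF hfl in
/-- **EGA IV 12.2.1 (v)**: the set of points `y` such that the set of dimensions of the irreducible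
components of the support of `F_y` contains `Φ` is open. -/
theorem isOpen_setOf_forall_exists_component (Φ : Finset ℕ) :
    IsOpen {y : Y | ∀ n ∈ Φ, ∃ Z ∈ irreducibleComponents
      ↥{z : ↥(f.fiber y) | Nontrivial (((Scheme.Modules.pullback (f.fiberι y)).obj F).presheaf.stalk z)},
      topologicalKrullDim ↥Z = (n : WithBot ℕ∞)} := by
  have : {y : Y | ∀ n ∈ Φ, ∃ Z ∈ irreducibleComponents
      ↥{z : ↥(f.fiber y) | Nontrivial (((Scheme.Modules.pullback (f.fiberι y)).obj F).presheaf.stalk z)},
      topologicalKrullDim ↥Z = (n : WithBot ℕ∞)} = ⋂ n ∈ Φ, {y : Y | ∃ Z ∈ irreducibleComponents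
      ↥{z : ↥(f.fiber y) | Nontrivial (((Scheme.Modules.pullback (f.fiberι y)).obj F).presheaf.stalk z)},
      topologicalKrullDim ↥Z = (n : WithBot ℕ∞)} := by
    ext y
    simp only [Set.mem_setOf_eq, Set.mem_iInter]
  rw [this]
  exact isOpen_biInter_finset fun n _ => isOpen_setOf_exists_component f F hF hfl n

omit [LocallyOfFinitePresentation f] in
theorem exists_nat_dim_closure [LocallyOfFiniteType f] (y : Y) (z : ↥(f.fiber y)) :
    ∃ m : ℕ, topologicalKrullDim ↥(closure ({z} : Set ↥(f.fiber y))) = m := by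
  obtain ⟨m, hm, -⟩ := exists_dim_closure_fiber_eq_trdeg f y z _ rfl
  exact ⟨m, hm⟩

include hF in
omit [LocallyOfFinitePresentation f] in
theorem finite_ass_fibre [LocallyOfFiniteType f] [QuasiCompact f] (y : Y) :
    (AssSch.Ass ((Scheme.Modules.pullback (f.fiberι y)).obj F)).Finite := by
  have h := finite_relAss_fibre f F hF y
  have : AssSch.Ass ((Scheme.Modules.pullback (f.fiberι y)).obj F) =
      (f.fiberι y) ⁻¹' {x : X | x ∈ MoreMor.relAss f F ∧ f x = y} := by
    ext z
    constructor
    · intro hz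
      exact ⟨(Groth.Agent.Lib.Helper97.AssFibre.isAssPoint_fiber_iff_mem_relAss f F y z).mp hz,
        Groth.Agent.Lib.Helper97.AssFibre.apply_fiberι' f y z⟩
    · intro hz
      exact (Groth.Agent.Lib.Helper97.AssFibre.isAssPoint_fiber_iff_mem_relAss f F y z).mpr hz.1
  rw [this]
  exact h.preimage ((f.fiberι y).isEmbedding.injective.injOn)

include hF in
omit [LocallyOfFinitePresentation f] in
/-- The support of the restriction of a finitely presented module to a fibre of a quasi-compact
morphism locally of finite type is finite dimensional. -/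
theorem exists_nat_dim_supp_le [LocallyOfFiniteType f] [QuasiCompact f] (y : Y) :
    ∃ n : ℕ, topologicalKrullDim ↥{z : ↥(f.fiber y) |
      Nontrivial (((Scheme.Modules.pullback (f.fiberι y)).obj F).presheaf.stalk z)} ≤
        (n : WithBot ℕ∞) := by
  classical
  haveI := instances_fibre f y
  haveI := Groth.Agent.Lib.Helper16.FlatPull.isQuasicoherent_pullback (f.fiberι y) F
  haveI := isFiniteType_fibre f F hF y
  have hfin := finite_ass_fibre f F hF y
  choose m hm using exists_nat_dim_closure f y
  refine ⟨hfin.toFinset.sup m, ?_⟩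
  rw [dim_supp_le_iff _ (exists_nat_dim_closure f y)]
  intro t z hz _
  refine ⟨m z, ?_, hm z⟩
  rw [Finset.mem_range]
  exact Nat.lt_succ_of_le (Finset.le_sup (f := m) (hfin.mem_toFinset.mpr hz))

include hF hfl in
/-- Upper semicontinuity of the dimension of the support of the fibre modules (proper case). -/
theorem isOpen_setOf_dim_supp_le [IsProper f] (n : ℕ) :
    IsOpen {y : Y | topologicalKrullDim ↥{z : ↥(f.fiber y) |
      Nontrivial (((Scheme.Modules.pullback (f.fiberι y)).obj F).presheaf.stalk z)} ≤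
        (n : WithBot ℕ∞)} := by
  have : {y : Y | topologicalKrullDim ↥{z : ↥(f.fiber y) |
      Nontrivial (((Scheme.Modules.pullback (f.fiberι y)).obj F).presheaf.stalk z)} ≤
        (n : WithBot ℕ∞)} = {y : Y | ∀ z : ↥(f.fiber y),
      QDim (Finset.range (n + 1)) (f.fiber y) ((Scheme.Modules.pullback (f.fiberι y)).obj F) z} := by
    ext y
    haveI := instances_fibre f y
    haveI := Groth.Agent.Lib.Helper16.FlatPull.isQuasicoherent_pullback (f.fiberι y) F
    haveI := isFiniteType_fibre f F hF y
    exact dim_supp_le_iff _ (exists_nat_dim_closure f y) n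
  rw [this]
  exact isOpen_setOf_forall_fibre_qDim f F hF hfl _

include hF in
omit [LocallyOfFinitePresentation f] in
theorem isOpen_setOf_dim_supp_eq_bot [IsProper f] :
    IsOpen {y : Y | topologicalKrullDim ↥{z : ↥(f.fiber y) |
      Nontrivial (((Scheme.Modules.pullback (f.fiberι y)).obj F).presheaf.stalk z)} = ⊥} := by
  haveI : SheafOfModules.IsFiniteType (R := X.ringCatSheaf) F :=
    Groth.Agent.Lib.Helper16.GenFlat.isFiniteType_of_isFinitePresentation F hF
  have : {y : Y | topologicalKrullDim ↥{z : ↥(f.fiber y) |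
      Nontrivial (((Scheme.Modules.pullback (f.fiberι y)).obj F).presheaf.stalk z)} = ⊥} =
      (f '' {x : X | Nontrivial (F.presheaf.stalk x)})ᶜ := by
    ext y
    rw [Set.mem_setOf_eq, dim_eq_bot_iff, Set.mem_compl_iff]
    constructor
    · rintro h ⟨x, hx, rfl⟩
      exact h.elim ⟨f.asFiber x, ((fibre_stalk_invariants_asFiber f F hF x).2.2).mpr hx⟩
    · intro h
      refine ⟨fun z => h ⟨f.fiberι y z, ?_, Groth.Agent.Lib.Helper97.AssFibre.apply_fiberι' f y z.1⟩⟩
      exact ((fibre_stalk_invariants f F hF y z.1).2.2).mp z.2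
  rw [this, isOpen_compl_iff]
  exact f.isClosedMap _ (isClosed_supp F)

include hF hfl in
/-- **EGA IV 12.2.1 (ii)**: the dimension of the support of the fibre modules of a finitely
presented flat module is locally constant on the base of a proper morphism. -/
theorem isLocallyConstant_dim_supp [IsProper f] :
    IsLocallyConstant (fun y : Y => topologicalKrullDim ↥{z : ↥(f.fiber y) |
      Nontrivial (((Scheme.Modules.pullback (f.fiberι y)).obj F).presheaf.stalk z)}) := by
  rw [IsLocallyConstant.iff_exists_open]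
  intro y₀
  obtain ⟨N, hN⟩ := exists_nat_dim_supp_le f F hF y₀
  rcases eq_or_ne (topologicalKrullDim ↥{z : ↥(f.fiber y₀) |
      Nontrivial (((Scheme.Modules.pullback (f.fiberι y₀)).obj F).presheaf.stalk z)}) ⊥ with h0 | h0
  · refine ⟨_, isOpen_setOf_dim_supp_eq_bot f F hF, h0, ?_⟩
    intro y hy
    exact hy.trans h0.symm
  · obtain ⟨n, hn⟩ : ∃ n : ℕ, topologicalKrullDim ↥{z : ↥(f.fiber y₀) |
        Nontrivial (((Scheme.Modules.pullback (f.fiberι y₀)).obj F).presheaf.stalk z)} = n := by
      generalize topologicalKrullDim ↥{z : ↥(f.fiber y₀) |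
        Nontrivial (((Scheme.Modules.pullback (f.fiberι y₀)).obj F).presheaf.stalk z)} = d at hN h0
      induction d using WithBot.recBotCoe with
      | bot => exact absurd rfl h0
      | coe e =>
        have he : e ≤ (N : ℕ∞) := by exact_mod_cast hN
        obtain ⟨k, hk⟩ := ENat.ne_top_iff_exists.mp (ne_top_of_le_ne_top (ENat.coe_ne_top N) he)
        exact ⟨k, by rw [← hk]; rfl⟩
    haveI := fun y => instances_fibre f y
    haveI := fun y => Groth.Agent.Lib.Helper16.FlatPull.isQuasicoherent_pullback (f.fiberι y) F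
    haveI := fun y => isFiniteType_fibre f F hF y
    refine ⟨_, (isOpen_setOf_dim_supp_le f F hF hfl n).inter
      (isOpen_setOf_exists_component f F hF hfl n), ?_, ?_⟩
    · exact (dim_supp_eq_iff _ n).mp hn
    · intro y hy
      rw [hn]
      exact (dim_supp_eq_iff _ n).mpr hy

include hF hfl in
/-- **EGA IV 12.2.1 (iv)+(v)**: no embedded component and the set of the dimensions of the
irreducible components of the support is exactly `Φ`. -/
theorem isOpen_setOf_noEmbedded_and_dims_eq [IsProper f] (Φ : Finset ℕ) :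
    IsOpen {y : Y | AssSch.NoEmbedded ((Scheme.Modules.pullback (f.fiberι y)).obj F) ∧
      (fun Z : Set ↥{z : ↥(f.fiber y) | Nontrivial (((Scheme.Modules.pullback (f.fiberι y)).obj F).presheaf.stalk z)} => topologicalKrullDim ↥Z) '' irreducibleComponents ↥{z : ↥(f.fiber y) | Nontrivial (((Scheme.Modules.pullback (f.fiberι y)).obj F).presheaf.stalk z)} =
        (fun n : ℕ => (n : WithBot ℕ∞)) '' (Φ : Set ℕ)} := by
  have : {y : Y | AssSch.NoEmbedded ((Scheme.Modules.pullback (f.fiberι y)).obj F) ∧
      (fun Z : Set ↥{z : ↥(f.fiber y) | Nontrivial (((Scheme.Modules.pullback (f.fiberι y)).obj F).presheaf.stalk z)} => topologicalKrullDim ↥Z) '' irreducibleComponents ↥{z : ↥(f.fiber y) | Nontrivial (((Scheme.Modules.pullback (f.fiberι y)).obj F).presheaf.stalk z)} =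
        (fun n : ℕ => (n : WithBot ℕ∞)) '' (Φ : Set ℕ)} =
      {y : Y | ∀ z : ↥(f.fiber y),
        QNoEmb (f.fiber y) ((Scheme.Modules.pullback (f.fiberι y)).obj F) z} ∩
      ({y : Y | ∀ n ∈ Φ, ∃ Z ∈ irreducibleComponents
        ↥{z : ↥(f.fiber y) | Nontrivial (((Scheme.Modules.pullback (f.fiberι y)).obj F).presheaf.stalk z)},
        topologicalKrullDim ↥Z = (n : WithBot ℕ∞)} ∩
      {y : Y | ∀ z : ↥(f.fiber y),
        QDim Φ (f.fiber y) ((Scheme.Modules.pullback (f.fiberι y)).obj F) z}) := by
    ext y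
    haveI := instances_fibre f y
    haveI := Groth.Agent.Lib.Helper16.FlatPull.isQuasicoherent_pullback (f.fiberι y) F
    haveI := isFiniteType_fibre f F hF y
    exact noEmbedded_and_dims_eq_iff _ Φ
  rw [this]
  exact (isOpen_setOf_forall_fibre_qNoEmb f F hF hfl).inter
    ((isOpen_setOf_forall_exists_component f F hF hfl Φ).inter
      (isOpen_setOf_forall_fibre_qDim f F hF hfl Φ))

end Main

end Groth.Agent.Lib.Helper13.SuppComp
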