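import Groth.Agent.Lib.Helper13.OmegaStalk
import Groth.Agent.Lib.Helper45.QCohStalk

/-!
# Formally unramified stalk map <-> unramified on an open neighbourhood (f locally of finite type)
-/

set_option autoImplicit false
universe u
open AlgebraicGeometry CategoryTheory Limits
open Groth.Agent.Lib.Helper13.OmegaStalk

namespace Groth.Agent.Lib.Helper13.UnramNbhd

lemma formallyUnramified_stalkMap_of_nbhd {X S : Scheme.{u}} (f : X ⟶ S) (x : X) (U : X.Opens)
    (hx : x ∈ U) [FormallyUnramified (U.ι ≫ f)] : (f.stalkMap x).hom.FormallyUnramified := by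
  have h := FormallyUnramified.stalkMap (U.ι ≫ f) ⟨x, hx⟩
  rw [Scheme.Hom.stalkMap_comp] at h
  erw [CommRingCat.hom_comp] at h
  exact (RingHom.FormallyUnramified.respectsIso.cancel_right_isIso _
    (U.ι.stalkMap ⟨x, hx⟩)).mp h

lemma exists_nbhd_of_formallyUnramified_stalkMap {X S : Scheme.{u}} (f : X ⟶ S)
    [LocallyOfFiniteType f] (x : X) (h : (f.stalkMap x).hom.FormallyUnramified) :
    ∃ U : X.Opens, x ∈ U ∧ FormallyUnramified (U.ι ≫ f) := by
  obtain ⟨_, ⟨V, hV, rfl⟩, hxV, -⟩ := S.isBasis_affineOpens.exists_subset_of_mem_open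
    (Set.mem_univ (f x)) isOpen_univ
  obtain ⟨_, ⟨U, hU, rfl⟩, hxU, hUV⟩ := X.isBasis_affineOpens.exists_subset_of_mem_open
    (show x ∈ (f ⁻¹ᵁ V : Set X) from hxV) (f ⁻¹ᵁ V).2
  have hft := LocallyOfFiniteType.finiteType_appLE f hV hU hUV
  algebraize [(f.appLE V U hUV).hom]
  rw [formallyUnramified_stalkMap_iff V hV U hU hUV hxU] at h
  obtain ⟨g, hgq, hg⟩ := Algebra.exists_formallyUnramified_of_isUnramifiedAt (R := Γ(S, V))
    (hU.primeIdealOf ⟨x, hxU⟩).asIdeal
  have hxg : x ∈ X.basicOpen g :=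
    (Groth.Agent.Lib.Helper45.mem_basicOpen_iff_not_mem_primeIdealOf hU ⟨x, hxU⟩ g).mpr hgq
  have hle : X.basicOpen g ≤ f ⁻¹ᵁ V := (X.basicOpen_le g).trans hUV
  refine ⟨X.basicOpen g, hxg, ?_⟩
  rw [← Scheme.Hom.resLE_comp_ι f hle]
  have : FormallyUnramified (f.resLE V (X.basicOpen g) hle) := by
    have : IsAffine (V : Scheme) := hV
    have : IsAffine (X.basicOpen g : Scheme) := hU.basicOpen g
    rw [HasRingHomProperty.iff_of_isAffine (P := @FormallyUnramified)]
    refine (RingHom.FormallyUnramified.respectsIso.arrow_mk_iso_iff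
      (arrowResLEAppIso f V (X.basicOpen g) hle)).mpr ?_
    have := hU.isLocalization_basicOpen g
    rw [← RingHom.formallyUnramified_algebraMap] at hg
    convert!
      RingHom.FormallyUnramified.respectsIso.1 _
        (IsLocalization.algEquiv (.powers g) _ Γ(X, X.basicOpen g)).toRingEquiv hg
    ext
    dsimp
    simp only [IsScalarTower.algebraMap_apply Γ(S, V) Γ(X, U) (Localization _)]
    erw [AlgEquiv.commutes]
    simp only [RingHom.algebraMap_toAlgebra, ← ConcreteCategory.comp_apply,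
      ← CommRingCat.hom_comp, Scheme.Hom.appLE_map]
  exact MorphismProperty.comp_mem _ _ _ this inferInstance

end Groth.Agent.Lib.Helper13.UnramNbhd
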